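import Mathlib
import Groth.Agent.H60.GorFib
import Groth.Agent.H29.HomComp
import Groth.Agent.H63.SmoothRegular2
import Groth.Agent.S0342
import Groth.Agent.S0343

/-!
# Gorenstein rings: flat maps with Gorenstein fibres, localization, quotient by a nonzerodivisor
-/

set_option autoImplicit false
set_option linter.style.haveILetI false
set_option linter.unusedSectionVars false
universe u
open IsLocalRing

namespace Groth.Agent.H59.Goren1

open Groth.Agent.H60.GorTransfer

/-- For a flat map `A → B` of Noetherian rings and a prime `q` of `B`: `B_q` is Gorenstein iff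
`A_{q ∩ A}` and the fibre local ring `B_q / (q ∩ A) B_q` are. -/
theorem gor_loc_iff (A B : Type u) [CommRing A] [CommRing B] [Algebra A B] [IsNoetherianRing A]
    [IsNoetherianRing B] [Module.Flat A B] (q : Ideal B) [q.IsPrime] :
    LocCoh.IsGorensteinLocalRing (Localization.AtPrime q) ↔
      (LocCoh.IsGorensteinLocalRing (Localization.AtPrime (q.comap (algebraMap A B))) ∧
        LocCoh.IsGorensteinLocalRing (EGA4.FibLocRing A B q)) := by
  haveI hlo : q.LiesOver (q.comap (algebraMap A B)) := ⟨rfl⟩
  letI alg := Localization.AtPrime.algebraOfLiesOver (q.comap (algebraMap A B)) q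
  haveI : IsLocalHom (algebraMap (Localization.AtPrime (q.comap (algebraMap A B)))
      (Localization.AtPrime q)) := Localization.isLocalHom_localRingHom _ _ _ _
  haveI := Groth.Agent.H15.FlatLoc.isLocalRing_fibLocRing A B q
  have hI : (maximalIdeal (Localization.AtPrime (q.comap (algebraMap A B)))).map
      (algebraMap _ (Localization.AtPrime q)) =
      (q.comap (algebraMap A B)).map (algebraMap A (Localization.AtPrime q)) := by
    rw [← Localization.AtPrime.map_eq_maximalIdeal, Ideal.map_map,
      ← IsScalarTower.algebraMap_eq A (Localization.AtPrime (q.comap (algebraMap A B)))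
        (Localization.AtPrime q)]
  exact flat_local_iff (Localization.AtPrime (q.comap (algebraMap A B))) (Localization.AtPrime q)
    (EGA4.FibLocRing A B q) (Ideal.Quotient.mk _) Ideal.Quotient.mk_surjective
    (Ideal.mk_ker.trans hI.symm)


/-- If the fibre ring over `q ∩ A` is a Gorenstein ring then the fibre local ring at `q` is
Gorenstein. -/
theorem gor_fibLocRing_of_fiber (A B : Type u) [CommRing A] [CommRing B] [Algebra A B]
    (q : Ideal B) [q.IsPrime]
    (h : LocCoh.IsGorensteinRing ((q.comap (algebraMap A B)).Fiber B)) :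
    LocCoh.IsGorensteinLocalRing (EGA4.FibLocRing A B q) := by
  obtain ⟨Q, hQ, hQq⟩ := Groth.Agent.H15.FibreSk.exists_fiber_prime A B
    (q.comap (algebraMap A B)) q rfl
  haveI := hQ
  obtain ⟨-, ⟨e⟩⟩ := Groth.Agent.H15.FibreSk.exists_fiber_equiv A B (q.comap (algebraMap A B)) Q
  have hG : LocCoh.IsGorensteinLocalRing (Localization.AtPrime Q) :=
    h.isGorensteinLocalRing_localization Q
  have h3 := gor_of_ringEquiv e hG
  have gen : ∀ (I : Ideal B) [I.IsPrime], I = q →
      LocCoh.IsGorensteinLocalRing (EGA4.FibLocRing A B I) →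
      LocCoh.IsGorensteinLocalRing (EGA4.FibLocRing A B q) := by
    intro I _ hI hc
    subst hI
    exact hc
  exact gen _ hQq h3

/-- A flat Noetherian algebra with Gorenstein fibres over a Gorenstein ring is Gorenstein. -/
theorem gorRing_of_flat_of_fibers (A B : Type u) [CommRing A] [CommRing B] [Algebra A B]
    [LocCoh.IsGorensteinRing A] [IsNoetherianRing B] [Module.Flat A B]
    (h : ∀ (p : Ideal A) [p.IsPrime], LocCoh.IsGorensteinRing (p.Fiber B)) :
    LocCoh.IsGorensteinRing B := by
  refine ⟨fun q _ => ?_⟩
  exact (gor_loc_iff A B q).mpr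
    ⟨LocCoh.IsGorensteinRing.isGorensteinLocalRing_localization _,
      gor_fibLocRing_of_fiber A B q (h _)⟩

/-- A regular ring is Gorenstein. -/
theorem gorRing_of_isRegularRing (A : Type u) [CommRing A]
    [IsRegularRing A] : LocCoh.IsGorensteinRing A := by
  refine ⟨fun q _ => ?_⟩
  haveI : IsRegularLocalRing (Localization.AtPrime q) :=
    IsRegularRing.isRegularLocalRing_localization q
  exact Groth.Agent.S0342.result _


/-- A smooth algebra over a Gorenstein ring is Gorenstein. -/
theorem gorRing_of_smooth (A B : Type u) [CommRing A] [CommRing B] [Algebra A B]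
    [LocCoh.IsGorensteinRing A] [Algebra.Smooth A B] : LocCoh.IsGorensteinRing B := by
  haveI : IsNoetherianRing B := Algebra.FiniteType.isNoetherianRing A B
  have hreg := Groth.Agent.H63.SmoothRegular.isRegularHom_of_smooth A B
  haveI : Module.Flat A B := hreg.1
  refine gorRing_of_flat_of_fibers A B (fun p _ => ?_)
  have h : IsRegularRing (TensorProduct p.ResidueField p.ResidueField (p.Fiber B)) :=
    (hreg.2 p).2 p.ResidueField (Module.Finite.self _)
  haveI : IsRegularRing (p.Fiber B) := @IsRegularRing.of_ringEquiv _ _ _ _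
    (Algebra.TensorProduct.lid p.ResidueField (p.Fiber B)).toRingEquiv h
  exact gorRing_of_isRegularRing _

/-- A localization of a Gorenstein ring is Gorenstein. -/
theorem gorRing_of_isLocalization {C : Type u} [CommRing C] (M : Submonoid C) (C' : Type u)
    [CommRing C'] [Algebra C C'] [IsLocalization M C'] [LocCoh.IsGorensteinRing C] :
    LocCoh.IsGorensteinRing C' := by
  haveI : IsNoetherianRing C' := IsLocalization.isNoetherianRing M C' inferInstance
  refine ⟨fun P' _ => ?_⟩
  haveI : IsLocalization.AtPrime (Localization.AtPrime P') (P'.comap (algebraMap C C')) :=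
    IsLocalization.isLocalization_isLocalization_atPrime_isLocalization M
      (Localization.AtPrime P') P'
  have e : Localization.AtPrime (P'.comap (algebraMap C C')) ≃ₐ[C] Localization.AtPrime P' :=
    IsLocalization.algEquiv (P'.comap (algebraMap C C')).primeCompl _ _
  exact gor_of_ringEquiv e.toRingEquiv
    (LocCoh.IsGorensteinRing.isGorensteinLocalRing_localization _)

/-- The Gorenstein property transfers along ring isomorphisms. -/
theorem gorRing_of_ringEquiv {C C' : Type u} [CommRing C] [CommRing C'] (e : C ≃+* C')
    [LocCoh.IsGorensteinRing C] : LocCoh.IsGorensteinRing C' := by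
  letI : Algebra C C' := e.toRingHom.toAlgebra
  haveI : IsLocalization (IsUnit.submonoid C) C' :=
    IsLocalization.of_le_isUnit_of_bijective Algebra.algebraMapSubmonoid_isUnit_le_isUnit e.bijective
  exact gorRing_of_isLocalization (IsUnit.submonoid C) C'


/-- The quotient of a Gorenstein ring by a nonzerodivisor is Gorenstein. -/
theorem gorRing_quotient_of_regular {C : Type u} [CommRing C] [LocCoh.IsGorensteinRing C]
    (c : C) (hc : IsSMulRegular C c) : LocCoh.IsGorensteinRing (C ⧸ Ideal.span {c}) := by
  refine ⟨fun Pb _ => ?_⟩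
  set P : Ideal C := Pb.comap (Ideal.Quotient.mk (Ideal.span {c})) with hP
  haveI : P.IsPrime := Ideal.comap_isPrime _ _
  have hcP : c ∈ P := by
    rw [hP, Ideal.mem_comap]
    have : (Ideal.Quotient.mk (Ideal.span {c})) c = 0 :=
      Ideal.Quotient.eq_zero_iff_mem.mpr (Ideal.mem_span_singleton_self c)
    rw [this]; exact Pb.zero_mem
  -- the localization at `P`
  have hG : LocCoh.IsGorensteinLocalRing (Localization.AtPrime P) :=
    LocCoh.IsGorensteinRing.isGorensteinLocalRing_localization P
  haveI : IsNoetherianRing (Localization.AtPrime P) := hG.toIsNoetherian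
  set c' : Localization.AtPrime P := algebraMap C (Localization.AtPrime P) c with hc'
  have hc'm : c' ∈ maximalIdeal (Localization.AtPrime P) :=
    (IsLocalization.AtPrime.to_map_mem_maximal_iff (Localization.AtPrime P) P c).mpr hcP
  have hc'reg : IsSMulRegular (Localization.AtPrime P) c' := by
    have h1 : c ∈ nonZeroDivisors C := by
      rw [mem_nonZeroDivisors_iff_left]
      intro x hx
      exact (isSMulRegular_iff_right_eq_zero_of_smul.mp hc) x hx
    have h2 : c' ∈ nonZeroDivisors (Localization.AtPrime P) :=
      IsLocalization.map_nonZeroDivisors_le P.primeCompl (Localization.AtPrime P)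
        (Submonoid.mem_map_of_mem _ h1)
    rw [isSMulRegular_iff_right_eq_zero_of_smul]
    intro x hx
    exact (mem_nonZeroDivisors_iff_left.mp h2) x hx
  have hG' : LocCoh.IsGorensteinLocalRing (Localization.AtPrime P ⧸ Ideal.span {c'}) :=
    (Groth.Agent.S0343.result (Localization.AtPrime P) c' hc'm hc'reg).mp hG
  -- the quotient of the localization is the localization of the quotient
  have hle : Ideal.span {c} ≤ RingHom.ker ((Ideal.Quotient.mk (Ideal.span {c'})).comp
      (algebraMap C (Localization.AtPrime P))) := by
    rw [Ideal.span_le]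
    rintro x hx
    rw [Set.mem_singleton_iff] at hx
    subst hx
    rw [SetLike.mem_coe, RingHom.mem_ker, RingHom.comp_apply]
    exact Ideal.Quotient.eq_zero_iff_mem.mpr (Ideal.mem_span_singleton_self _)
  letI : Algebra (C ⧸ Ideal.span {c}) (Localization.AtPrime P ⧸ Ideal.span {c'}) :=
    (Ideal.Quotient.lift (Ideal.span {c}) ((Ideal.Quotient.mk (Ideal.span {c'})).comp
      (algebraMap C (Localization.AtPrime P))) (fun x hx => hle hx)).toAlgebra
  have hloc : IsLocalization (P.primeCompl.map (Ideal.Quotient.mk (Ideal.span {c})))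
      (Localization.AtPrime P ⧸ Ideal.span {c'}) := by
    refine IsLocalization.of_surjective (M := P.primeCompl) (S := Localization.AtPrime P)
      (Ideal.Quotient.mk (Ideal.span {c})) Ideal.Quotient.mk_surjective
      (Ideal.Quotient.mk (Ideal.span {c'})) Ideal.Quotient.mk_surjective ?_ ?_
    · ext x
      simp [RingHom.algebraMap_toAlgebra]
    · rw [Ideal.mk_ker, Ideal.mk_ker, Ideal.map_span, Set.image_singleton]
  have hM : P.primeCompl.map (Ideal.Quotient.mk (Ideal.span {c})) = Pb.primeCompl := by
    ext y
    constructor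
    · rintro ⟨x, hx, rfl⟩
      exact hx
    · intro hy
      obtain ⟨x, rfl⟩ := Ideal.Quotient.mk_surjective y
      exact ⟨x, hy, rfl⟩
  rw [hM] at hloc
  haveI : IsLocalization.AtPrime (Localization.AtPrime P ⧸ Ideal.span {c'}) Pb := hloc
  have e : (Localization.AtPrime P ⧸ Ideal.span {c'}) ≃ₐ[C ⧸ Ideal.span {c}]
      Localization.AtPrime Pb := IsLocalization.algEquiv Pb.primeCompl _ _
  exact gor_of_ringEquiv e.toRingEquiv hG'

end Groth.Agent.H59.Goren1
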