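import Mathlib
import Groth.Agent.H59.Goren1

/-!
# Gorenstein rings and finitely generated field extensions
-/

set_option autoImplicit false
set_option linter.style.haveILetI false
set_option linter.unusedSectionVars false
universe u
open IsLocalRing TensorProduct Polynomial

namespace Groth.Agent.H59.Goren2

open Groth.Agent.H59.Goren1

theorem gor_poly_tensor (k R : Type u) [Field k] [CommRing R] [Algebra k R]
    [LocCoh.IsGorensteinRing R] : LocCoh.IsGorensteinRing (k[X] ⊗[k] R) := by
  haveI : Algebra.Smooth R (R ⊗[k] k[X]) := ⟨inferInstance, inferInstance⟩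
  haveI : LocCoh.IsGorensteinRing (R ⊗[k] k[X]) := gorRing_of_smooth R (R ⊗[k] k[X])
  exact gorRing_of_ringEquiv (Algebra.TensorProduct.comm k R k[X]).toRingEquiv

theorem gor_quot_tensor (k R : Type u) [Field k] [CommRing R] [Algebra k R]
    [LocCoh.IsGorensteinRing R] (f : k[X]) (hf : f ≠ 0) :
    LocCoh.IsGorensteinRing ((k[X] ⧸ Ideal.span {f}) ⊗[k] R) := by
  haveI := gor_poly_tensor k R
  have hreg : IsSMulRegular (k[X] ⊗[k] R) (algebraMap k[X] (k[X] ⊗[k] R) f) := by
    have hinj : Function.Injective (LinearMap.mulLeft k f) := fun a b h => mul_left_cancel₀ hf h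
    have h2 := Module.Flat.rTensor_preserves_injective_linearMap (M := R)
      (LinearMap.mulLeft k f) hinj
    have key : ∀ z : k[X] ⊗[k] R,
        (LinearMap.mulLeft k f).rTensor R z = algebraMap k[X] (k[X] ⊗[k] R) f * z := by
      intro z
      induction z using TensorProduct.induction_on with
      | zero => simp
      | tmul p r =>
        simp [Algebra.TensorProduct.algebraMap_apply, Algebra.TensorProduct.tmul_mul_tmul]
      | add a b ha hb => rw [map_add, ha, hb, mul_add]
    intro x y hxy
    apply h2
    rw [key, key]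
    exact hxy
  have e := Algebra.TensorProduct.quotientTensorEquiv (R := k) k R k[X] (Ideal.span {f})
  have hI : (Ideal.span {f}).map (algebraMap k[X] (k[X] ⊗[k] R)) =
      Ideal.span {algebraMap k[X] (k[X] ⊗[k] R) f} := by
    rw [Ideal.map_span, Set.image_singleton]
  have hG1 : LocCoh.IsGorensteinRing
      ((k[X] ⊗[k] R) ⧸ Ideal.span {algebraMap k[X] (k[X] ⊗[k] R) f}) :=
    gorRing_quotient_of_regular _ hreg
  have hG2 : LocCoh.IsGorensteinRing
      ((k[X] ⊗[k] R) ⧸ (Ideal.span {f}).map (algebraMap k[X] (k[X] ⊗[k] R))) :=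
    @gorRing_of_ringEquiv _ _ _ _ (Ideal.quotEquivOfEq hI).symm hG1
  exact @gorRing_of_ringEquiv _ _ _ _ e.symm.toRingEquiv hG2

theorem gor_ratFunc_tensor (k R : Type u) [Field k] [CommRing R] [Algebra k R]
    [LocCoh.IsGorensteinRing R] : LocCoh.IsGorensteinRing (RatFunc k ⊗[k] R) := by
  haveI := gor_poly_tensor k R
  letI : Algebra (k[X] ⊗[k] R) (RatFunc k ⊗[k] R) :=
    (Algebra.TensorProduct.map (IsScalarTower.toAlgHom k k[X] (RatFunc k))
      (AlgHom.id k R)).toRingHom.toAlgebra
  haveI : IsScalarTower k[X] (k[X] ⊗[k] R) (RatFunc k ⊗[k] R) := by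
    refine IsScalarTower.of_algebraMap_eq (R := k[X]) (S := k[X] ⊗[k] R)
      (A := RatFunc k ⊗[k] R) (fun p => ?_)
    simp [RingHom.algebraMap_toAlgebra, Algebra.TensorProduct.algebraMap_apply]
  have h1 : IsLocalizedModule (nonZeroDivisors k[X])
      (AlgebraTensorModule.rTensor k R (Algebra.linearMap k[X] (RatFunc k))) := inferInstance
  have h2 : (IsScalarTower.toAlgHom k[X] (k[X] ⊗[k] R) (RatFunc k ⊗[k] R)).toLinearMap =
      AlgebraTensorModule.rTensor k R (Algebra.linearMap k[X] (RatFunc k)) := by
    ext r
    simp [RingHom.algebraMap_toAlgebra]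
  rw [← h2] at h1
  haveI h3 : IsLocalization (Algebra.algebraMapSubmonoid (k[X] ⊗[k] R) (nonZeroDivisors k[X]))
      (RatFunc k ⊗[k] R) :=
    (isLocalizedModule_iff_isLocalization (S := nonZeroDivisors k[X]) (A := k[X] ⊗[k] R)
      (Aₛ := RatFunc k ⊗[k] R)).mp h1
  exact gorRing_of_isLocalization
    (Algebra.algebraMapSubmonoid (k[X] ⊗[k] R) (nonZeroDivisors k[X])) (RatFunc k ⊗[k] R)


/-- The simple extension step. -/
theorem gor_simple_tensor (k K R : Type u) [Field k] [Field K] [Algebra k K] (a : K)
    [CommRing R] [Algebra k R] [LocCoh.IsGorensteinRing R] :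
    LocCoh.IsGorensteinRing ((IntermediateField.adjoin k {a} : IntermediateField k K) ⊗[k] R) := by
  by_cases hint : IsIntegral k a
  · have e := IntermediateField.adjoinRootEquivAdjoin k hint
    have hG : LocCoh.IsGorensteinRing (AdjoinRoot (minpoly k a) ⊗[k] R) :=
      gor_quot_tensor k R (minpoly k a) (minpoly.ne_zero hint)
    exact @gorRing_of_ringEquiv _ _ _ _
      (Algebra.TensorProduct.congr e (AlgEquiv.refl : R ≃ₐ[k] R)).toRingEquiv hG
  · have ht : Transcendental k a := fun h => hint h.isIntegral
    have e := RatFunc.algEquivOfTranscendental a ht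
    have hG : LocCoh.IsGorensteinRing (RatFunc k ⊗[k] R) := gor_ratFunc_tensor k R
    exact @gorRing_of_ringEquiv _ _ _ _
      (Algebra.TensorProduct.congr e (AlgEquiv.refl : R ≃ₐ[k] R)).toRingEquiv hG

/-- Base change of a Gorenstein algebra along a finitely generated field extension. -/
theorem gor_fg_tensor (K : Type u) [Field K] (s : Finset K) :
    ∀ (k : Type u) [Field k] [Algebra k K], IntermediateField.adjoin k (s : Set K) = ⊤ →
    ∀ (R : Type u) [CommRing R] [Algebra k R] [LocCoh.IsGorensteinRing R],
      LocCoh.IsGorensteinRing (K ⊗[k] R) := by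
  classical
  induction s using Finset.induction_on with
  | empty =>
    intro k _ _ h R _ _ _
    rw [Finset.coe_empty, IntermediateField.adjoin_empty] at h
    have hbij : Function.Bijective (algebraMap k K) := by
      refine ⟨(algebraMap k K).injective, fun x => ?_⟩
      have hx : x ∈ (⊥ : IntermediateField k K) := h ▸ IntermediateField.mem_top
      exact IntermediateField.mem_bot.mp hx
    let e : k ≃ₐ[k] K := AlgEquiv.ofBijective (Algebra.ofId k K) hbij
    exact @gorRing_of_ringEquiv _ _ _ _ ((Algebra.TensorProduct.lid k R).symm.toRingEquiv.trans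
      (Algebra.TensorProduct.congr e (AlgEquiv.refl : R ≃ₐ[k] R)).toRingEquiv) inferInstance
  | insert a s' ha ih =>
    intro k _ _ h R _ _ _
    have hF : IntermediateField.adjoin (IntermediateField.adjoin k {a} : IntermediateField k K)
        (s' : Set K) = ⊤ := by
      rw [← IntermediateField.restrictScalars_eq_top_iff (K := k),
        IntermediateField.adjoin_adjoin_left, ← h, Finset.coe_insert, Set.singleton_union]
    haveI : LocCoh.IsGorensteinRing
        ((IntermediateField.adjoin k {a} : IntermediateField k K) ⊗[k] R) :=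
      gor_simple_tensor k K R a
    have hG := ih (IntermediateField.adjoin k {a} : IntermediateField k K) hF
      ((IntermediateField.adjoin k {a} : IntermediateField k K) ⊗[k] R)
    exact @gorRing_of_ringEquiv _ _ _ _
      (Algebra.TensorProduct.cancelBaseChange k
        (IntermediateField.adjoin k {a} : IntermediateField k K) K K R).toRingEquiv hG

end Groth.Agent.H59.Goren2
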