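import Mathlib
import Groth.Agent.H59.Goren2

/-!
# Gorenstein local rings and base field extension
-/

set_option autoImplicit false
set_option linter.style.haveILetI false
set_option linter.unusedSectionVars false
universe u
open IsLocalRing TensorProduct Polynomial

namespace Groth.Agent.H59.Goren3

open Groth.Agent.H59.Goren1 Groth.Agent.H59.Goren2 Groth.Agent.H60.GorTransfer

/-- A field is a Gorenstein ring. -/
theorem gorRing_field (K : Type u) [Field K] : LocCoh.IsGorensteinRing K := by
  refine ⟨fun q _ => ?_⟩
  haveI : IsRegularLocalRing (Localization.AtPrime q) := inferInstance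
  exact Groth.Agent.S0342.result _

/-- The fibres of `B → B ⊗[k] k'` are base changes of residue fields. -/
theorem gor_fiber_tensor (k k' : Type u) [Field k] [Field k'] [Algebra k k'] (B : Type u)
    [CommRing B] [Algebra k B] (p : Ideal B) [p.IsPrime]
    (h : LocCoh.IsGorensteinRing (p.ResidueField ⊗[k] k')) :
    LocCoh.IsGorensteinRing (p.Fiber (B ⊗[k] k')) := by
  exact @gorRing_of_ringEquiv _ _ _ _
    (Algebra.TensorProduct.cancelBaseChange k B p.ResidueField p.ResidueField k').symm.toRingEquiv h

/-- Key equivalence: if all the residue field base changes are Gorenstein then `B_{q ∩ B}` is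
Gorenstein iff `(B ⊗ k')_q` is. -/
theorem gor_tensor_loc_iff (k k' : Type u) [Field k] [Field k'] [Algebra k k'] (B : Type u)
    [CommRing B] [Algebra k B] [IsNoetherianRing B] [IsNoetherianRing (B ⊗[k] k')]
    (q : Ideal (B ⊗[k] k')) [q.IsPrime]
    (h : LocCoh.IsGorensteinRing
      ((q.comap (algebraMap B (B ⊗[k] k'))).ResidueField ⊗[k] k')) :
    LocCoh.IsGorensteinLocalRing (Localization.AtPrime (q.comap (algebraMap B (B ⊗[k] k')))) ↔
      LocCoh.IsGorensteinLocalRing (Localization.AtPrime q) := by
  have h1 := gor_loc_iff B (B ⊗[k] k') q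
  have h2 : LocCoh.IsGorensteinLocalRing (EGA4.FibLocRing B (B ⊗[k] k') q) :=
    gor_fibLocRing_of_fiber B (B ⊗[k] k') q (gor_fiber_tensor k k' B _ h)
  rw [h1]
  exact ⟨fun h3 => ⟨h3, h2⟩, fun h3 => h3.1⟩

end Groth.Agent.H59.Goren3
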