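import Groth.Agent.H59.KoszHtpy
import Groth.Prelude.Def_ega3
import Groth.Prelude.Def_Koszul

/-!
# Bridges from the prelude Koszul complexes to `Groth.Agent.H59.Kosz.kz`
-/

universe u
open CategoryTheory

namespace Groth.Agent.H59.Kosz

lemma koszulCx_eq {A : Type u} [CommRing A] (M : ModuleCat.{u} A) (l : List A) :
    CohIII.koszulCx M l = kz (sgl M) l := by
  induction l with
  | nil => rfl
  | cons f l ih =>
    show CochainComplex.mappingCone (f • 𝟙 (CohIII.koszulCx M l)) =
      CochainComplex.mappingCone (f • 𝟙 (kz (sgl M) l))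
    rw [ih]

lemma koszul_eq {A : Type u} [CommRing A] (l : List A) :
    Koszul.koszul A l = kz (sgl (ModuleCat.of A A)) l := by
  induction l with
  | nil => rfl
  | cons f l ih =>
    show CochainComplex.mappingCone (f • 𝟙 (Koszul.koszul A l)) =
      CochainComplex.mappingCone (f • 𝟙 (kz (sgl (ModuleCat.of A A)) l))
    rw [ih]

/-- a complex whose identity is null-homotopic has zero homology -/
lemma isZero_homology_of_homotopy_id_zero {A : Type u} [CommRing A] (K : Cx A)
    (h : Homotopy (𝟙 K) 0) (n : ℤ) : Limits.IsZero (K.homology n) := by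
  rw [Limits.IsZero.iff_id_eq_zero]
  have := h.homologyMap_eq n
  rw [HomologicalComplex.homologyMap_id, HomologicalComplex.homologyMap_zero] at this
  exact this

end Groth.Agent.H59.Kosz
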