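import Groth.Agent.H15.Depth
import Mathlib

/-!
# The depth lemma (elementary form) and consequences

Built on `Groth.Agent.H15.Depth` (`HasSeq`, `HasSocle`).
-/

set_option autoImplicit false
universe u v

open scoped Pointwise
open RingTheory.Sequence Groth.Agent.H15.Depth Groth.Agent.H15.DepthOne

namespace Groth.Agent.H59.DepthL

section general
variable {R : Type u} [CommRing R]

lemma hasSeq_of_subsingleton (I : Ideal R) (M : Type v) [AddCommGroup M] [Module R M]
    [Subsingleton M] (n : ℕ) : HasSeq I M n := by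
  refine ⟨List.replicate n 0, ?_, ?_, by simp⟩
  · rw [isWeaklyRegular_iff]
    intro i h
    have : Subsingleton (M ⧸ (Ideal.ofList ((List.replicate n (0:R)).take i) • ⊤ :
        Submodule R M)) :=
      ⟨fun a b => by
        obtain ⟨a, rfl⟩ := Submodule.Quotient.mk_surjective _ a
        obtain ⟨b, rfl⟩ := Submodule.Quotient.mk_surjective _ b
        rw [Subsingleton.elim a b]⟩
    exact Function.injective_of_subsingleton _
  · intro r hr
    rw [List.eq_of_mem_replicate hr]
    exact zero_mem _

/-- If `I z ⊆ B` for a submodule (image of an injective map) `B` of `M`, `x ∈ I` is `M`-regular and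
`B/xB` has no socle, then `z ∈ B`. -/
lemma mem_range_of_socle {I : Ideal R} {Bm M : Type v} [AddCommGroup Bm] [Module R Bm]
    [AddCommGroup M] [Module R M]
    (ι : Bm →ₗ[R] M) (hι : Function.Injective ι) {x : R} (hx : x ∈ I) (hxreg : IsSMulRegular M x)
    (hns : ¬ HasSocle I (QuotSMulTop x Bm)) (z : M) (hz : ∀ a ∈ I, a • z ∈ LinearMap.range ι) :
    z ∈ LinearMap.range ι := by
  obtain ⟨w, hw⟩ := hz x hx
  by_cases h0 : (Submodule.Quotient.mk w : QuotSMulTop x Bm) = 0
  · rw [Submodule.Quotient.mk_eq_zero, mem_smul_top_iff] at h0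
    obtain ⟨w', rfl⟩ := h0
    refine ⟨w', hxreg ?_⟩
    show x • ι w' = x • z
    rw [← map_smul, hw]
  · exfalso; apply hns
    refine ⟨Submodule.Quotient.mk w, h0, fun a ha => ?_⟩
    obtain ⟨wa, hwa⟩ := hz a ha
    have : a • w = x • wa := by
      apply hι
      rw [map_smul, map_smul, hw, hwa, smul_comm]
    rw [← Submodule.Quotient.mk_smul, this, Submodule.Quotient.mk_eq_zero, mem_smul_top_iff]
    exact ⟨wa, rfl⟩

variable [IsNoetherianRing R] {I : Ideal R}

/-- **Depth lemma**: for `0 → N' → N → N'' → 0` exact, `depth N ≥ k` and `depth N' ≥ k+1` imply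
`depth N'' ≥ k`. -/
theorem depth_lemma : ∀ (k : ℕ) (N' N N'' : Type v) [AddCommGroup N'] [Module R N']
    [Module.Finite R N'] [AddCommGroup N] [Module R N] [Module.Finite R N] [AddCommGroup N'']
    [Module R N''] [Module.Finite R N'']
    (f : N' →ₗ[R] N) (g : N →ₗ[R] N''), Function.Injective f → Function.Exact f g →
    Function.Surjective g → HasSeq I N k → HasSeq I N' (k+1) → HasSeq I N'' k := by
  intro k
  induction k with
  | zero => intros; exact hasSeq_zero
  | succ k ih =>
    intro N' N N'' _ _ _ _ _ _ _ _ _ f g hf hfg hg hN hN'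
    obtain ⟨x1, hx1, hx1r, -⟩ := hasSeq_succ_iff.mp hN
    obtain ⟨x2, hx2, hx2r, -⟩ := hasSeq_succ_iff.mp hN'
    have h3 : ∃ a ∈ I, IsSMulRegular N'' a := by
      rcases exists_regular_or_hasSocle (I := I) N'' with h | ⟨n'', hn0, hnI⟩
      · exact h
      · exfalso
        obtain ⟨n, rfl⟩ := hg n''
        obtain ⟨x, hx, hxN, hxN', -⟩ := exists_common_regular (I := I) N N' N'
          ⟨x1, hx1, hx1r⟩ ⟨x2, hx2, hx2r⟩ ⟨x2, hx2, hx2r⟩
        have hq : HasSeq I (QuotSMulTop x N') (k+1) := hasSeq_quot_of_hasSeq_succ hx hxN' hN'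
        obtain ⟨y, hy, hyr, -⟩ := hasSeq_succ_iff.mp hq
        have hns : ¬ HasSocle I (QuotSMulTop x N') := fun h => h.not_regular hy hyr
        have hmem := mem_range_of_socle f hf hx hxN hns n (fun a ha =>
          (hfg (a • n)).1 (by rw [map_smul]; exact hnI a ha))
        apply hn0
        exact (hfg n).2 hmem
    obtain ⟨x, hx, hxN, hxN', hxN''⟩ := exists_common_regular (I := I) N N' N''
      ⟨x1, hx1, hx1r⟩ ⟨x2, hx2, hx2r⟩ h3
    have hN1 : HasSeq I (QuotSMulTop x N) k := hasSeq_quot_of_hasSeq_succ hx hxN hN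
    have hN'1 : HasSeq I (QuotSMulTop x N') (k+1) := hasSeq_quot_of_hasSeq_succ hx hxN' hN'
    have hinj : Function.Injective (QuotSMulTop.map x f) := by
      have h0 : Function.Exact (0 : N' →ₗ[R] N') f := by
        intro y
        constructor
        · intro hy
          refine ⟨0, ?_⟩
          have : f y = f 0 := by rw [hy, map_zero]
          simpa using (hf this).symm
        · rintro ⟨w, rfl⟩; simp
      have hE := QuotSMulTop.map_first_exact_on_four_term_exact_of_isSMulRegular_last h0 hfg hxN''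
      rw [map_zero] at hE
      rw [injective_iff_map_eq_zero]
      intro y hy
      obtain ⟨w, hw⟩ := (hE y).1 hy
      simpa using hw.symm
    have hex : Function.Exact (QuotSMulTop.map x f) (QuotSMulTop.map x g) :=
      QuotSMulTop.map_exact x hfg hg
    have hsurj := QuotSMulTop.map_surjective x hg
    have hfin := ih (QuotSMulTop x N') (QuotSMulTop x N) (QuotSMulTop x N'') _ _ hinj hex hsurj
      hN1 hN'1
    exact hasSeq_succ_iff.mpr ⟨x, hx, hxN'', hfin⟩

end general

section localring
variable {R : Type u} [CommRing R] [IsLocalRing R] [IsNoetherianRing R]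

lemma hasSeq_of_le_depth (M : Type v) [AddCommGroup M] [Module R M] [Module.Finite R M] (n : ℕ)
    (h : (n : ℕ∞) ≤ LocCoh.depth R M) : HasSeq (IsLocalRing.maximalIdeal R) M n := by
  by_cases hIM : IsLocalRing.maximalIdeal R • (⊤ : Submodule R M) = ⊤
  · have hbot : (⊤ : Submodule R M) = ⊥ :=
      Submodule.eq_bot_of_le_smul_of_le_jacobson_bot _ ⊤ Module.Finite.fg_top
        (le_of_eq hIM.symm) (IsLocalRing.maximalIdeal_le_jacobson ⊥)
    have : Subsingleton M := subsingleton_of_forall_eq 0 (fun m => by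
      have hm : m ∈ (⊤ : Submodule R M) := trivial
      rw [hbot] at hm
      exact (Submodule.mem_bot R).1 hm)
    exact hasSeq_of_subsingleton _ M n
  · exact (le_idealDepth_iff hIM n).1 h

lemma one_le_depth_of_not_hasSocle (M : Type v) [AddCommGroup M] [Module R M] [Module.Finite R M]
    (h : ¬ HasSocle (IsLocalRing.maximalIdeal R) M) : 1 ≤ LocCoh.depth R M := by
  rcases exists_regular_or_hasSocle (I := IsLocalRing.maximalIdeal R) M with ⟨a, ha, hareg⟩ | hs
  · show (1 : ℕ∞) ≤ LocCoh.idealDepth (IsLocalRing.maximalIdeal R) M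
    by_cases hIM : IsLocalRing.maximalIdeal R • (⊤ : Submodule R M) = ⊤
    · rw [idealDepth_eq_top_of_smul_top_eq_top hIM]; exact le_top
    · have := (le_idealDepth_iff hIM 1).2 (hasSeq_succ_iff.2 ⟨a, ha, hareg, hasSeq_zero⟩)
      simpa using this
  · exact absurd hs h

end localring

end Groth.Agent.H59.DepthL
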