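import Groth.Agent.H59.Kosz

/-!
# Null-homotopies of scalar multiplications on iterated cones
-/

universe u
open CategoryTheory CochainComplex HomologicalComplex Limits HomComplex

namespace Groth.Agent.H59.Kosz

variable {A : Type u} [CommRing A]

/-- `a • 𝟙 K` is null-homotopic, in terms of a degree `-1` cochain. -/
def NH (K : Cx A) (a : A) : Prop :=
  ∃ z : Cochain K K (-1), ∀ p : ℤ,
    z.v p (p-1) (by omega) ≫ K.d (p-1) p + K.d p (p+1) ≫ z.v (p+1) p (by omega) = a • 𝟙 (K.X p)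

lemma NH.homotopy {K : Cx A} {a : A} (h : NH K a) : Nonempty (Homotopy (a • 𝟙 K) 0) := by
  obtain ⟨z, hz⟩ := h
  refine ⟨(Cochain.equivHomotopy _ _).symm ⟨z, ?_⟩⟩
  ext p
  rw [Cochain.add_v, δ_v (-1) 0 (neg_add_cancel 1) z p p (add_zero p) (p-1) (p+1) rfl rfl]
  simp [hz p]

lemma NH.zero (K : Cx A) : NH K 0 := ⟨0, fun p => by simp⟩

lemma NH.add {K : Cx A} {a b : A} (ha : NH K a) (hb : NH K b) : NH K (a + b) := by
  obtain ⟨z, hz⟩ := ha
  obtain ⟨w, hw⟩ := hb
  refine ⟨z + w, fun p => ?_⟩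
  rw [Cochain.add_v, Cochain.add_v, Preadditive.add_comp, Preadditive.comp_add, add_smul,
    ← hz p, ← hw p]
  abel

lemma NH.smul {K : Cx A} {a : A} (c : A) (ha : NH K a) : NH K (c * a) := by
  obtain ⟨z, hz⟩ := ha
  refine ⟨c • z, fun p => ?_⟩
  rw [Cochain.smul_v, Cochain.smul_v, Linear.smul_comp, Linear.comp_smul, ← smul_add, hz p,
    smul_smul]

/-- The ideal of null-homotopic scalars. -/
def nhIdeal (K : Cx A) : Ideal A where
  carrier := {a | NH K a}
  add_mem' := fun ha hb => NH.add ha hb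
  zero_mem' := NH.zero K
  smul_mem' := fun c _ ha => NH.smul c ha

lemma mem_nhIdeal {K : Cx A} {a : A} : a ∈ nhIdeal K ↔ NH K a := Iff.rfl

/-- (i) `f` is null-homotopic on the cone of `f`. -/
lemma NH_cone_self (f : A) (K : Cx A) : NH (mappingCone (f • 𝟙 K)) f := by
  refine ⟨Cochain.mk (fun p q hpq => (mappingCone.snd (f • 𝟙 K)).v p p (add_zero p) ≫
    (mappingCone.inl (f • 𝟙 K)).v p q hpq), fun p => ?_⟩
  simp only [Cochain.mk_v]
  rw [mappingCone.ext_to_iff _ p (p+1) rfl]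
  constructor
  · simp [mappingCone.inl_v_d_assoc _ p (p-1) (p+1) (by omega) (by omega),
      mappingCone.d_snd_v_assoc _ p (p+1) rfl, Linear.smul_comp, Linear.comp_smul]
  · simp [mappingCone.inl_v_d_assoc _ p (p-1) (p+1) (by omega) (by omega),
      mappingCone.d_snd_v_assoc _ p (p+1) rfl, Linear.smul_comp, Linear.comp_smul]

lemma NH_flex {K : Cx A} {a : A} {z : Cochain K K (-1)}
    (hz : ∀ p : ℤ, z.v p (p-1) (by omega) ≫ K.d (p-1) p + K.d p (p+1) ≫ z.v (p+1) p (by omega) =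
      a • 𝟙 (K.X p)) (p q r : ℤ) (hq : p + (-1) = q) (hr : r + (-1) = p) :
    z.v p q hq ≫ K.d q p + K.d p r ≫ z.v r p hr = a • 𝟙 (K.X p) := by
  obtain rfl : q = p - 1 := by omega
  obtain rfl : r = p + 1 := by omega
  exact hz p

/-- (ii) null-homotopic scalars stay null-homotopic on the cone. -/
lemma NH_cone (f : A) (K : Cx A) {a : A} (ha : NH K a) : NH (mappingCone (f • 𝟙 K)) a := by
  obtain ⟨z, hz⟩ := ha
  refine ⟨Cochain.mk (fun p q hpq =>
    -((mappingCone.fst (f • 𝟙 K)).1.v p (p+1) rfl ≫ z.v (p+1) p (by omega) ≫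
        (mappingCone.inl (f • 𝟙 K)).v p q hpq) +
      (mappingCone.snd (f • 𝟙 K)).v p p (add_zero p) ≫ z.v p q hpq ≫
        (mappingCone.inr (f • 𝟙 K)).f q), fun p => ?_⟩
  simp only [Cochain.mk_v]
  have h1 := hz p
  have h2 := NH_flex hz (p+1) p (p+1+1) (by omega) (by omega)
  rw [mappingCone.ext_to_iff _ p (p+1) rfl]
  constructor
  · simp [mappingCone.d_snd_v_assoc _ p (p+1) rfl, mappingCone.d_fst_v_assoc _ p (p+1) (p+1+1) rfl rfl,
      Linear.smul_comp, Linear.comp_smul]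
    rw [← Preadditive.comp_add, h2, Linear.comp_smul, Category.comp_id]
  · simp [mappingCone.d_snd_v_assoc _ p (p+1) rfl, mappingCone.d_fst_v_assoc _ p (p+1) (p+1+1) rfl rfl,
      Linear.smul_comp, Linear.comp_smul]
    have : (mappingCone.snd (f • 𝟙 K)).v p p (add_zero p) ≫ z.v p (p-1) (by omega) ≫ K.d (p-1) p +
        (mappingCone.snd (f • 𝟙 K)).v p p (add_zero p) ≫ K.d p (p+1) ≫ z.v (p+1) p (by omega) =
        a • (mappingCone.snd (f • 𝟙 K)).v p p (add_zero p) := by
      rw [← Preadditive.comp_add, h1, Linear.comp_smul, Category.comp_id]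
    rw [← this]; abel

/-- Every element of the ideal generated by `l` acts null-homotopically on `kz K l`. -/
theorem span_le_nhIdeal (K : Cx A) (l : List A) :
    Ideal.span {x | x ∈ l} ≤ nhIdeal (kz K l) := by
  induction l with
  | nil =>
    rw [Ideal.span_le]; intro x hx; simp at hx
  | cons f l ih =>
    rw [Ideal.span_le]
    intro x hx
    simp only [List.mem_cons, Set.mem_ofPred_eq] at hx
    rcases hx with rfl | hx
    · exact NH_cone_self x (kz K l)
    · exact NH_cone f (kz K l) (ih (Ideal.subset_span hx))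

theorem nonempty_homotopy_smul_id (K : Cx A) (l : List A) (a : A)
    (ha : a ∈ Ideal.span {x | x ∈ l}) : Nonempty (Homotopy (a • 𝟙 (kz K l)) 0) :=
  (span_le_nhIdeal K l ha).homotopy

end Groth.Agent.H59.Kosz
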