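import Groth.Agent.H59.KoszH1
import Groth.Agent.H59.KoszHtpy
import Groth.Agent.H15.Depth

/-!
# Depth sensitivity of the Koszul complex (iterated cone model)
-/

universe u
open CategoryTheory CochainComplex HomologicalComplex Limits
open scoped Pointwise
open Groth.Agent.H15.Depth

namespace Groth.Agent.H59.Kosz

variable {A : Type u} [CommRing A]

/-- terms below degree `-length` vanish -/
lemma isZero_kz_neg (M : ModuleCat.{u} A) (l : List A) : ∀ j : ℤ, j < -(l.length : ℤ) →
    IsZero ((kz (sgl M) l).X j) := by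
  induction l with
  | nil =>
    intro j hj
    exact HomologicalComplex.isZero_single_obj_X (ComplexShape.up ℤ) 0 M j (by simp at hj; omega)
  | cons f l ih =>
    intro j hj
    have hj' : j < -((l.length : ℤ) + 1) := by simpa using hj
    exact (mappingCone.isZero_X_iff _ j).mpr ⟨ih (j+1) (by omega), ih j (by omega)⟩

/-- the bottom term and the kernel of the bottom differential -/
theorem exists_bottom (M : Type u) [AddCommGroup M] [Module A M] (l : List A) :
    ∀ N : ℤ, N = -(l.length : ℤ) →
    ∃ e : (kz (sgl (ModuleCat.of A M)) l).X N ≃ₗ[A] M,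
      ∀ z, (kz (sgl (ModuleCat.of A M)) l).d N (N+1) z = 0 ↔ ∀ x ∈ l, x • e z = 0 := by
  induction l with
  | nil =>
    intro N hN
    have hN0 : N = 0 := by simpa using hN
    subst hN0
    refine ⟨(HomologicalComplex.singleObjXSelf (ComplexShape.up ℤ) 0
      (ModuleCat.of A M)).toLinearEquiv, fun z => ?_⟩
    have hd : ((kz (sgl (ModuleCat.of A M)) []).d 0 (0+1)) = 0 :=
      HomologicalComplex.single_obj_d _ _ _ _ _
    constructor
    · intro _ x hx; simp at hx
    · intro _; rw [hd]; rfl
  | cons f l ih =>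
    intro N hN
    have hN' : N + 1 = -(l.length : ℤ) := by
      have : N = -((l.length : ℤ) + 1) := by simpa using hN
      omega
    obtain ⟨e, he⟩ := ih (N+1) hN'
    have hz1 : IsZero ((kz (sgl (ModuleCat.of A M)) l).X N) :=
      isZero_kz_neg (ModuleCat.of A M) l N (by omega)
    show ∃ e' : (mappingCone (f • 𝟙 (kz (sgl (ModuleCat.of A M)) l))).X N ≃ₗ[A] M,
      ∀ z, (mappingCone (f • 𝟙 (kz (sgl (ModuleCat.of A M)) l))).d N (N+1) z = 0 ↔
        ∀ x ∈ f :: l, x • e' z = 0
    revert e he hz1
    generalize kz (sgl (ModuleCat.of A M)) l = K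
    intro e he hz1
    have hsub : Subsingleton (K.X N) := ModuleCat.subsingleton_of_isZero hz1
    let ce := coneEquiv f K (N+1) N rfl
    let pr : (K.X (N+1) × K.X N) ≃ₗ[A] K.X (N+1) :=
      { toFun := fun p => p.1
        map_add' := fun _ _ => rfl
        map_smul' := fun _ _ => rfl
        invFun := fun a => (a, 0)
        left_inv := fun p => Prod.ext rfl (Subsingleton.elim _ _)
        right_inv := fun _ => rfl }
    refine ⟨ce.trans (pr.trans e), fun z => ?_⟩
    have hez : (ce.trans (pr.trans e)) z =
        e ((mappingCone.fst (f • 𝟙 K)).1.v N (N+1) rfl z) := rfl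
    have hsnd : (mappingCone.snd (f • 𝟙 K)).v N N (add_zero N) z = 0 := Subsingleton.elim _ _
    have h1 := d_fst_apply f K N (N+1) (N+1+1) rfl rfl z
    have h2 := d_snd_apply f K N (N+1) rfl z
    rw [hsnd, map_zero, add_zero] at h2
    constructor
    · intro hz x hx
      rw [hez]
      rw [hz, map_zero] at h1 h2
      rcases List.mem_cons.1 hx with rfl | hx'
      · rw [← map_smul, ← h2, map_zero]
      · have : (K.d (N+1) (N+1+1)) ((mappingCone.fst (f • 𝟙 K)).1.v N (N+1) rfl z) = 0 := by
          have := h1.symm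
          rwa [neg_eq_zero] at this
        exact (he _).1 this x hx'
    · intro hz
      rw [hez] at hz
      have hd0 : (K.d (N+1) (N+1+1)) ((mappingCone.fst (f • 𝟙 K)).1.v N (N+1) rfl z) = 0 :=
        (he _).2 (fun x hx => hz x (List.mem_cons_of_mem _ hx))
      have hf0 : f • (mappingCone.fst (f • 𝟙 K)).1.v N (N+1) rfl z = 0 := by
        apply e.injective
        rw [map_smul, map_zero]
        exact hz f (List.mem_cons_self)
      apply ext_elt f (K := K) (n := N+1)
      · rw [h1, hd0, neg_zero, map_zero]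
      · rw [h2, hf0, map_zero]

lemma not_isZero_of_ker (K : Cx A) (N : ℤ) (h0 : IsZero (K.X (N-1))) (z : K.X N)
    (hz : K.d N (N+1) z = 0) (hne : z ≠ 0) : ¬ IsZero (K.homology N) := by
  intro hZ
  have hex := (K.exactAt_iff' (N-1) N (N+1) (by simp) (by simp)).1
    ((K.exactAt_iff_isZero_homology N).2 hZ)
  rw [ShortComplex.moduleCat_exact_iff] at hex
  obtain ⟨w, hw⟩ := hex z hz
  change K.X (N-1) at w
  change (K.d (N-1) N) w = z at hw
  have : Subsingleton (K.X (N-1)) := ModuleCat.subsingleton_of_isZero h0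
  have hw' : w = 0 := Subsingleton.elim _ _
  apply hne
  rw [← hw, hw', map_zero]

/-- a nonzero socle element gives nonzero bottom cohomology -/
theorem not_isZero_bottom (M : Type u) [AddCommGroup M] [Module A M] (l : List A)
    (m : M) (hm : m ≠ 0) (hkill : ∀ x ∈ l, x • m = 0) :
    ¬ IsZero ((kz (sgl (ModuleCat.of A M)) l).homology (-(l.length : ℤ))) := by
  obtain ⟨e, he⟩ := exists_bottom M l (-(l.length : ℤ)) rfl
  refine not_isZero_of_ker _ _ (isZero_kz_neg (ModuleCat.of A M) l _ (by omega)) (e.symm m) ?_ ?_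
  · rw [he]
    intro x hx
    rw [LinearEquiv.apply_symm_apply]
    exact hkill x hx
  · intro h0
    apply hm
    have := congrArg e h0
    rwa [LinearEquiv.apply_symm_apply, map_zero] at this

section LES
variable (M : Type u) [AddCommGroup M] [Module A M]

/-- vanishing of Koszul cohomology below the depth -/
theorem isZero_homology_of_hasSeq (l : List A) :
    ∀ (k : ℕ) (M : Type u) [AddCommGroup M] [Module A M],
      HasSeq (Ideal.span {x | x ∈ l}) M k →
      ∀ j : ℤ, j < (k : ℤ) - l.length → IsZero ((kz (sgl (ModuleCat.of A M)) l).homology j) := by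
  intro k
  induction k with
  | zero =>
    intro M _ _ _ j hj
    have hz : IsZero ((kz (sgl (ModuleCat.of A M)) l).X j) :=
      isZero_kz_neg (ModuleCat.of A M) l j (by simpa using hj)
    exact ShortComplex.isZero_homology_of_isZero_X₂ _ hz
  | succ k ih =>
    intro M _ _ h j hj
    obtain ⟨y, hy, hreg, h'⟩ := hasSeq_succ_iff.mp h
    have hS := regSC_shortExact M y hreg l
    have hex := hS.homology_exact₁ (j-1) j (by simp)
    have h3 : IsZero ((regSC M y l).X₃.homology (j-1)) :=
      ih (QuotSMulTop y M) h' (j-1) (by push_cast at hj ⊢; omega)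
    have hmono : Mono (HomologicalComplex.homologyMap (regSC M y l).f j) :=
      hex.mono_g (h3.eq_of_src _ _)
    obtain ⟨hom⟩ := nonempty_homotopy_smul_id (sgl (ModuleCat.of A M)) l y hy
    have hzero : HomologicalComplex.homologyMap (regSC M y l).f j = 0 := by
      have := hom.homologyMap_eq j
      rw [HomologicalComplex.homologyMap_zero] at this
      exact this
    exact @IsZero.of_mono_eq_zero _ _ _ _ _ _ hmono hzero

/-- non-vanishing of Koszul cohomology at the depth -/
theorem not_isZero_homology_of_hasSeq [IsNoetherianRing A] (l : List A) :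
    ∀ (k : ℕ) (M : Type u) [AddCommGroup M] [Module A M] [Module.Finite A M],
      HasSeq (Ideal.span {x | x ∈ l}) M k → ¬ HasSeq (Ideal.span {x | x ∈ l}) M (k+1) →
      ¬ IsZero ((kz (sgl (ModuleCat.of A M)) l).homology ((k : ℤ) - l.length)) := by
  intro k
  induction k with
  | zero =>
    intro M _ _ _ _ hno
    have hsoc : HasSocle (Ideal.span {x | x ∈ l}) M := by
      rcases exists_regular_or_hasSocle (I := Ideal.span {x | x ∈ l}) M with ⟨a, ha, hreg⟩ | hs
      · exact absurd (hasSeq_succ_iff.mpr ⟨a, ha, hreg, hasSeq_zero⟩) hno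
      · exact hs
    obtain ⟨m, hm, hkill⟩ := hsoc
    have := not_isZero_bottom M l m hm (fun x hx => hkill x (Ideal.subset_span hx))
    simpa using this
  | succ k ih =>
    intro M _ _ _ h hno
    obtain ⟨y, hy, hreg, h'⟩ := hasSeq_succ_iff.mp h
    have hno' : ¬ HasSeq (Ideal.span {x | x ∈ l}) (QuotSMulTop y M) (k+1) := fun hh =>
      hno (hasSeq_succ_iff.mpr ⟨y, hy, hreg, hh⟩)
    have hnz := ih (QuotSMulTop y M) h' hno'
    have hS := regSC_shortExact M y hreg l
    set j : ℤ := (k : ℤ) - l.length with hj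
    have hex := hS.homology_exact₃ j (j+1) (by simp)
    have h2 : IsZero ((regSC M y l).X₂.homology j) :=
      isZero_homology_of_hasSeq l (k+1) M h j (by push_cast; omega)
    have hmono : Mono (hS.δ j (j+1) (by simp)) := hex.mono_g (h2.eq_of_src _ _)
    intro hZ
    apply hnz
    have hZ' : IsZero ((regSC M y l).X₁.homology (j+1)) := by
      have : ((k+1 : ℕ) : ℤ) - l.length = j + 1 := by push_cast; omega
      rw [this] at hZ
      exact hZ
    exact @IsZero.of_mono _ _ _ _ _ (hS.δ j (j+1) (by simp)) hmono hZ'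

end LES

end Groth.Agent.H59.Kosz
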