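import Groth.Agent.H59.KoszTop

/-!
# Degree `-1` of iterated cones (Koszul complexes): vanishing of `H^{-1}` means every relation is trivial
-/

universe u
open CategoryTheory CochainComplex HomologicalComplex Limits

namespace Groth.Agent.H59.Kosz

variable {A : Type u} [CommRing A]

section cone
variable (f : A) (K : Cx A)

lemma d_fst_apply (i j k : ℤ) (hij : i + 1 = j) (hjk : j + 1 = k) (z : (mappingCone (f • 𝟙 K)).X i) :
    (mappingCone.fst (f • 𝟙 K)).1.v j k hjk ((mappingCone (f • 𝟙 K)).d i j z) =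
      - K.d j k ((mappingCone.fst (f • 𝟙 K)).1.v i j hij z) := by
  have := congrArg (fun g => (ConcreteCategory.hom g) z)
    (mappingCone.d_fst_v (f • 𝟙 K) i j k hij hjk)
  simpa using this

/-- the terms of the cone as a product -/
noncomputable def coneEquiv (m n : ℤ) (h : n + 1 = m) :
    (mappingCone (f • 𝟙 K)).X n ≃ₗ[A] (K.X m × K.X n) where
  toFun z := ((mappingCone.fst (f • 𝟙 K)).1.v n m h z,
    (mappingCone.snd (f • 𝟙 K)).v n n (add_zero n) z)
  map_add' x y := by simp
  map_smul' c x := by simp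
  invFun p := (mappingCone.inl (f • 𝟙 K)).v m n (by omega) p.1 +
    (mappingCone.inr (f • 𝟙 K)).f n p.2
  left_inv z := decomp' f K m n h z
  right_inv p := by
    refine Prod.ext ?_ ?_
    · simp only [map_add]
      rw [fst_inl' f K m n h, fst_inr' f K m n h, add_zero]
    · simp only [map_add]
      rw [snd_inl' f K m n h, snd_inr, zero_add]

lemma coneEquiv_apply (m n : ℤ) (h : n + 1 = m) (z : (mappingCone (f • 𝟙 K)).X n) :
    coneEquiv f K m n h z = ((mappingCone.fst (f • 𝟙 K)).1.v n m h z,
      (mappingCone.snd (f • 𝟙 K)).v n n (add_zero n) z) := rfl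

end cone

section triv
variable (M : Type u) [AddCommGroup M] [Module A M]

/-- the span of the trivial (Koszul) relations -/
def TrivM {k : ℕ} (g : Fin k → A) : Submodule A (Fin k → M) :=
  Submodule.span A {v : Fin k → M | ∃ (i j : Fin k) (x : M),
    v = g j • (Pi.single i x : Fin k → M) - g i • (Pi.single j x : Fin k → M)}

/-- `u ↦ (-Σ g_{i+1} u_i, g_0 u)` -/
def alphaMap {k : ℕ} (g : Fin (k+1) → A) : (Fin k → M) →ₗ[A] (Fin (k+1) → M) where
  toFun u := Fin.cons (- ∑ i, g (Fin.succ i) • u i) (g 0 • u)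
  map_add' u v := by
    refine funext (Fin.cases ?_ ?_)
    · simp [smul_add, Finset.sum_add_distrib]; abel
    · intro i; simp
  map_smul' c u := by
    refine funext (Fin.cases ?_ ?_)
    · simp only [Pi.smul_apply, Fin.cons_zero, RingHom.id_apply, smul_neg, Finset.smul_sum]
      congr 1
      exact Finset.sum_congr rfl (fun i _ => smul_comm _ _ _)
    · intro i
      simp only [Pi.smul_apply, Fin.cons_succ, RingHom.id_apply]
      exact smul_comm _ _ _

/-- `t ↦ (0, t)` -/
def betaMap (A : Type u) [CommRing A] (M : Type u) [AddCommGroup M] [Module A M] (k : ℕ) :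
    (Fin k → M) →ₗ[A] (Fin (k+1) → M) where
  toFun t := Fin.cons 0 t
  map_add' u v := by
    refine funext (Fin.cases ?_ ?_)
    · simp
    · intro i; simp
  map_smul' c u := by
    refine funext (Fin.cases ?_ ?_)
    · simp
    · intro i; simp

lemma alphaMap_zero {k : ℕ} (g : Fin (k+1) → A) (u : Fin k → M) :
    alphaMap M g u 0 = - ∑ i, g (Fin.succ i) • u i := rfl
lemma alphaMap_succ {k : ℕ} (g : Fin (k+1) → A) (u : Fin k → M) (i : Fin k) :
    alphaMap M g u (Fin.succ i) = g 0 • u i := rfl
lemma betaMap_zero {k : ℕ} (t : Fin k → M) : betaMap A M k t 0 = 0 := rfl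
lemma betaMap_succ {k : ℕ} (t : Fin k → M) (i : Fin k) : betaMap A M k t (Fin.succ i) = t i := rfl

lemma single_succ_succ {k : ℕ} (i l : Fin k) (x : M) :
    (Pi.single (Fin.succ i) x : Fin (k+1) → M) (Fin.succ l) = (Pi.single i x : Fin k → M) l := by
  by_cases h : l = i
  · subst h; simp
  · rw [Pi.single_eq_of_ne h, Pi.single_eq_of_ne]
    intro h'; exact h (Fin.succ_injective _ h')

lemma single_succ_zero {k : ℕ} (i : Fin k) (x : M) :
    (Pi.single (Fin.succ i) x : Fin (k+1) → M) 0 = 0 := by
  rw [Pi.single_eq_of_ne]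
  exact (Fin.succ_ne_zero i).symm

lemma single_zero_succ {k : ℕ} (l : Fin k) (x : M) :
    (Pi.single (0 : Fin (k+1)) x : Fin (k+1) → M) (Fin.succ l) = 0 := by
  rw [Pi.single_eq_of_ne]
  exact Fin.succ_ne_zero l

lemma sum_smul_single {k : ℕ} (g : Fin k → A) (i : Fin k) (x : M) :
    ∑ l, g l • (Pi.single i x : Fin k → M) l = g i • x := by
  rw [Finset.sum_eq_single i]
  · simp
  · intro b _ hb; rw [Pi.single_eq_of_ne hb, smul_zero]
  · intro h; exact absurd (Finset.mem_univ i) h

lemma alphaMap_single {k : ℕ} (g : Fin (k+1) → A) (i : Fin k) (x : M) :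
    alphaMap M g (Pi.single i x) =
      g 0 • (Pi.single (Fin.succ i) x : Fin (k+1) → M) -
        g (Fin.succ i) • (Pi.single (0 : Fin (k+1)) x : Fin (k+1) → M) := by
  refine funext (Fin.cases ?_ ?_)
  · rw [alphaMap_zero, sum_smul_single M (fun l => g (Fin.succ l)) i x]
    simp [single_succ_zero]
  · intro l
    rw [alphaMap_succ]
    simp [single_succ_succ, single_zero_succ]

lemma betaMap_gen {k : ℕ} (g : Fin (k+1) → A) (i j : Fin k) (x : M) :
    betaMap A M k (g (Fin.succ j) • (Pi.single i x : Fin k → M) -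
        g (Fin.succ i) • (Pi.single j x : Fin k → M)) =
      g (Fin.succ j) • (Pi.single (Fin.succ i) x : Fin (k+1) → M) -
        g (Fin.succ i) • (Pi.single (Fin.succ j) x : Fin (k+1) → M) := by
  refine funext (Fin.cases ?_ ?_)
  · rw [betaMap_zero]; simp [single_succ_zero]
  · intro l
    rw [betaMap_succ]; simp [single_succ_succ]

theorem trivM_succ {k : ℕ} (g : Fin (k+1) → A) :
    TrivM M g = LinearMap.range (alphaMap M g) ⊔
      (TrivM M (fun i => g (Fin.succ i))).map (betaMap A M k) := by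
  apply le_antisymm
  · rw [TrivM, Submodule.span_le]
    rintro _ ⟨i, j, x, rfl⟩
    induction i using Fin.cases with
    | zero =>
      induction j using Fin.cases with
      | zero => rw [sub_self]; exact zero_mem _
      | succ j =>
        refine Submodule.mem_sup_left ⟨-(Pi.single j x), ?_⟩
        rw [map_neg, alphaMap_single, neg_sub]
    | succ i =>
      induction j using Fin.cases with
      | zero =>
        refine Submodule.mem_sup_left ⟨Pi.single i x, ?_⟩
        rw [alphaMap_single]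
      | succ j =>
        refine Submodule.mem_sup_right ⟨_, Submodule.subset_span ⟨i, j, x, rfl⟩, ?_⟩
        exact betaMap_gen M g i j x
  · apply sup_le
    · rintro _ ⟨u, rfl⟩
      rw [← Finset.univ_sum_single u, map_sum]
      refine Submodule.sum_mem _ (fun i _ => ?_)
      rw [alphaMap_single]
      exact Submodule.subset_span ⟨Fin.succ i, 0, u i, rfl⟩
    · rw [TrivM, Submodule.map_span, Submodule.span_le]
      rintro _ ⟨_, ⟨i, j, x, rfl⟩, rfl⟩
      rw [betaMap_gen M g i j x]
      exact Submodule.subset_span ⟨Fin.succ i, Fin.succ j, x, rfl⟩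

end triv

section main
variable (M : Type u) [AddCommGroup M] [Module A M]

theorem exists_deg1 (l : List A) :
    ∃ (e0 : (kz (sgl (ModuleCat.of A M)) l).X 0 ≃ₗ[A] M)
      (e1 : (kz (sgl (ModuleCat.of A M)) l).X (-1) ≃ₗ[A] (Fin l.length → M)),
      (∀ z, e0 ((kz (sgl (ModuleCat.of A M)) l).d (-1) 0 z) = ∑ i, l.get i • e1 z i) ∧
      Submodule.map e1.toLinearMap
        (LinearMap.range ((kz (sgl (ModuleCat.of A M)) l).d (-2) (-1)).hom) = TrivM M l.get := by
  induction l with
  | nil =>
    have h1 : IsZero ((kz (sgl (ModuleCat.of A M)) []).X (-1)) :=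
      HomologicalComplex.isZero_single_obj_X (ComplexShape.up ℤ) 0 (ModuleCat.of A M) (-1)
        (by norm_num)
    haveI : Subsingleton ((kz (sgl (ModuleCat.of A M)) []).X (-1)) :=
      ModuleCat.subsingleton_of_isZero h1
    haveI : Subsingleton (Fin ([] : List A).length → M) := by
      show Subsingleton (Fin 0 → M)
      infer_instance
    refine ⟨(HomologicalComplex.singleObjXSelf (ComplexShape.up ℤ) 0
      (ModuleCat.of A M)).toLinearEquiv, LinearEquiv.ofSubsingleton _ _, ?_, ?_⟩
    · intro z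
      have hz : z = 0 := Subsingleton.elim _ _
      subst hz
      rw [map_zero, map_zero]
      symm
      apply Finset.sum_eq_zero
      intro i _
      exact i.elim0
    · exact Subsingleton.elim _ _
  | cons f l ih =>
    have hK1 := isZero_kz_pos (ModuleCat.of A M) l 1 one_pos
    have hg0 : (f :: l).get (0 : Fin (l.length + 1)) = f := rfl
    have hgs : (fun i : Fin l.length => (f :: l).get (Fin.succ i)) = l.get := by
      funext i; rfl
    show ∃ (e0' : (mappingCone (f • 𝟙 (kz (sgl (ModuleCat.of A M)) l))).X 0 ≃ₗ[A] M)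
      (e1' : (mappingCone (f • 𝟙 (kz (sgl (ModuleCat.of A M)) l))).X (-1) ≃ₗ[A]
        (Fin (l.length + 1) → M)),
      (∀ z, e0' ((mappingCone (f • 𝟙 (kz (sgl (ModuleCat.of A M)) l))).d (-1) 0 z) =
        ∑ i, (f :: l).get i • e1' z i) ∧
      Submodule.map e1'.toLinearMap
        (LinearMap.range ((mappingCone (f • 𝟙 (kz (sgl (ModuleCat.of A M)) l))).d (-2) (-1)).hom)
        = TrivM M (f :: l).get
    rw [trivM_succ M (f :: l).get, hgs]
    revert ih hK1
    generalize kz (sgl (ModuleCat.of A M)) l = K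
    rintro ⟨e0, e1, ha, hb⟩ hK1
    have hsub : Subsingleton (K.X 1) := ModuleCat.subsingleton_of_isZero hK1
    let s : (mappingCone (f • 𝟙 K)).X 0 →ₗ[A] K.X 0 :=
      ((mappingCone.snd (f • 𝟙 K)).v 0 0 (add_zero 0)).hom
    let j : K.X 0 →ₗ[A] (mappingCone (f • 𝟙 K)).X 0 := ((mappingCone.inr (f • 𝟙 K)).f 0).hom
    have hsj : ∀ y, s (j y) = y := fun y => snd_inr f K 0 y
    have hjs : ∀ z, j (s z) = z := fun z => by
      have := decomp' f K 1 0 (by norm_num) z
      have h0 : (mappingCone.fst (f • 𝟙 K)).1.v 0 1 (by norm_num) z = 0 := Subsingleton.elim _ _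
      rw [h0, map_zero, zero_add] at this
      exact this
    let es : (mappingCone (f • 𝟙 K)).X 0 ≃ₗ[A] K.X 0 :=
      LinearEquiv.ofLinearMap s j (LinearMap.ext hsj) (LinearMap.ext hjs)
    let e1' : (mappingCone (f • 𝟙 K)).X (-1) ≃ₗ[A] (Fin (l.length + 1) → M) :=
      (coneEquiv f K 0 (-1) (by norm_num)).trans
        ((e0.prodCongr e1).trans (Fin.consLinearEquiv A (fun _ : Fin (l.length + 1) => M)))
    have he1' : ∀ z, e1' z = Fin.cons (e0 ((mappingCone.fst (f • 𝟙 K)).1.v (-1) 0 (by norm_num) z))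
        (e1 ((mappingCone.snd (f • 𝟙 K)).v (-1) (-1) (add_zero _) z)) := fun z => rfl
    refine ⟨es.trans e0, e1', ?_, ?_⟩
    · intro z
      have h1 := d_snd_apply f K (-1) 0 (by norm_num) z
      show e0 (s (((mappingCone (f • 𝟙 K)).d (-1) 0) z)) = _
      rw [show s (((mappingCone (f • 𝟙 K)).d (-1) 0) z) = _ from h1, map_add, map_smul, ha]
      refine Eq.trans ?_
        (Fin.sum_univ_succ (fun i : Fin (l.length + 1) => (f :: l).get i • e1' z i)).symm
      rw [he1']
      simp only [Fin.cons_zero, Fin.cons_succ]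
      rfl
    · -- boundaries
      have key : ∀ w : (mappingCone (f • 𝟙 K)).X (-2),
          e1' ((mappingCone (f • 𝟙 K)).d (-2) (-1) w) =
            alphaMap M (f :: l).get (e1 ((mappingCone.fst (f • 𝟙 K)).1.v (-2) (-1) (by norm_num) w)) +
            betaMap A M l.length
              (e1 (K.d (-2) (-1) ((mappingCone.snd (f • 𝟙 K)).v (-2) (-2) (add_zero _) w))) := by
        intro w
        rw [he1', d_fst_apply f K (-2) (-1) 0 (by norm_num) (by norm_num) w,
          d_snd_apply f K (-2) (-1) (by norm_num) w]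
        refine funext (Fin.cases ?_ ?_)
        · rw [Fin.cons_zero, Pi.add_apply, alphaMap_zero, betaMap_zero, add_zero, map_neg, ha]
          rfl
        · intro i
          rw [Fin.cons_succ, Pi.add_apply, alphaMap_succ, betaMap_succ, map_add, map_smul]
          rfl
      apply le_antisymm
      · rintro _ ⟨_, ⟨w, rfl⟩, rfl⟩
        show e1' ((mappingCone (f • 𝟙 K)).d (-2) (-1) w) ∈ _
        rw [key]
        refine Submodule.add_mem_sup ⟨_, rfl⟩ ⟨_, ?_, rfl⟩
        rw [← hb]
        exact ⟨_, ⟨_, rfl⟩, rfl⟩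
      · apply sup_le
        · rintro _ ⟨u, rfl⟩
          refine ⟨_, ⟨(mappingCone.inl (f • 𝟙 K)).v (-1) (-2) (by norm_num) (e1.symm u), rfl⟩, ?_⟩
          show e1' ((mappingCone (f • 𝟙 K)).d (-2) (-1) _) = _
          rw [key, fst_inl' f K (-1) (-2) (by norm_num), snd_inl' f K (-1) (-2) (by norm_num),
            map_zero, map_zero, map_zero, add_zero, LinearEquiv.apply_symm_apply]
        · rw [← hb]
          rintro _ ⟨_, ⟨_, ⟨y, rfl⟩, rfl⟩, rfl⟩
          refine ⟨_, ⟨(mappingCone.inr (f • 𝟙 K)).f (-2) y, rfl⟩, ?_⟩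
          show e1' ((mappingCone (f • 𝟙 K)).d (-2) (-1) _) = _
          rw [key, fst_inr' f K (-1) (-2) (by norm_num), snd_inr, map_zero, map_zero, zero_add]
          rfl

/-- if `H^{-1}` of the Koszul complex on `M` vanishes, every relation is a combination of trivial ones -/
theorem mem_trivM_of_isZero_homology (l : List A)
    (h : IsZero ((kz (sgl (ModuleCat.of A M)) l).homology (-1)))
    (m : Fin l.length → M) (hm : ∑ i, l.get i • m i = 0) : m ∈ TrivM M l.get := by
  obtain ⟨e0, e1, ha, hb⟩ := exists_deg1 M l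
  have hex := ((kz (sgl (ModuleCat.of A M)) l).exactAt_iff' (-2) (-1) 0 (by simp) (by simp)).1
    (((kz (sgl (ModuleCat.of A M)) l).exactAt_iff_isZero_homology (-1)).2 h)
  rw [ShortComplex.moduleCat_exact_iff] at hex
  have hz : (kz (sgl (ModuleCat.of A M)) l).d (-1) 0 (e1.symm m) = 0 := by
    apply e0.injective
    rw [ha, map_zero]
    simpa using hm
  obtain ⟨w, hw⟩ := hex (e1.symm m) hz
  rw [← hb]
  refine ⟨_, ⟨w, rfl⟩, ?_⟩
  show e1 ((kz (sgl (ModuleCat.of A M)) l).d (-2) (-1) w) = m
  rw [show (kz (sgl (ModuleCat.of A M)) l).d (-2) (-1) w = e1.symm m from hw,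
    LinearEquiv.apply_symm_apply]

end main

end Groth.Agent.H59.Kosz
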