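import Groth.Agent.H59.KoszH1
import Groth.Agent.H59.KoszBridge
import Groth.Prelude.Def_LCI2
import Groth.Prelude.Def_CAlgX

/-!
# Koszul-regular sequences are `H_1`-regular
-/

universe u
open CategoryTheory

namespace Groth.Agent.H59.Kosz

lemma trivM_self_le {A : Type u} [CommRing A] {k : ℕ} (g : Fin k → A) :
    TrivM A g ≤ Submodule.span A {v : Fin k → A | ∃ i j : Fin k,
      v = Pi.single i (g j) - Pi.single j (g i)} := by
  rw [TrivM, Submodule.span_le]
  rintro _ ⟨i, j, x, rfl⟩
  have : g j • (Pi.single i x : Fin k → A) - g i • (Pi.single j x : Fin k → A) =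
      x • (Pi.single i (g j) - Pi.single j (g i) : Fin k → A) := by
    funext l
    simp only [Pi.sub_apply, Pi.smul_apply, smul_eq_mul, Pi.single_apply]
    split_ifs <;> ring
  rw [this]
  exact Submodule.smul_mem _ _ (Submodule.subset_span ⟨i, j, rfl⟩)

/-- A Koszul-regular sequence is `H_1`-regular. -/
theorem isH1Regular_of_isKoszulRegularSeq {A : Type u} [CommRing A] (l : List A)
    (h : LCI.IsKoszulRegularSeq A l) : CAlgX.IsH1Regular l.get := by
  intro a ha
  have h0 := h (-1) (by norm_num)
  have h1 : Limits.IsZero ((kz (sgl (ModuleCat.of A A)) l).homology (-1)) :=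
    Limits.IsZero.of_iso h0 ((HomologicalComplex.homologyFunctor (ModuleCat.{u} A)
      (ComplexShape.up ℤ) (-1)).mapIso (eqToIso (koszul_eq l).symm))
  apply trivM_self_le
  apply mem_trivM_of_isZero_homology A l h1
  rw [← ha]
  exact Finset.sum_congr rfl (fun i _ => by rw [smul_eq_mul, mul_comm])

end Groth.Agent.H59.Kosz
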