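import Mathlib

/-!
# Iterated mapping cones of scalar multiplications (Koszul complexes, mapping-cone model)
-/

universe u
open CategoryTheory CochainComplex HomologicalComplex Limits

namespace Groth.Agent.H59.Kosz

variable {A : Type u} [CommRing A]

/-- cochain complexes of `A`-modules -/
abbrev Cx (A : Type u) [CommRing A] := CochainComplex (ModuleCat.{u} A) ℤ

section cone
variable (f : A)

/-- functoriality of the cone of `f • 𝟙`. -/
noncomputable def coneMap {K L : Cx A} (φ : K ⟶ L) :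
    mappingCone (f • 𝟙 K) ⟶ mappingCone (f • 𝟙 L) :=
  mappingCone.map (f • 𝟙 K) (f • 𝟙 L) φ φ (by simp [Linear.smul_comp, Linear.comp_smul])

@[reassoc]
lemma inr_coneMap {K L : Cx A} (φ : K ⟶ L) (n : ℤ) :
    (mappingCone.inr (f • 𝟙 K)).f n ≫ (coneMap f φ).f n =
      φ.f n ≫ (mappingCone.inr (f • 𝟙 L)).f n := by
  simp [coneMap, mappingCone.map]

@[reassoc]
lemma inl_coneMap {K L : Cx A} (φ : K ⟶ L) (m n : ℤ) (h : m + (-1) = n) :
    (mappingCone.inl (f • 𝟙 K)).v m n h ≫ (coneMap f φ).f n =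
      φ.f m ≫ (mappingCone.inl (f • 𝟙 L)).v m n h := by
  simp [coneMap, mappingCone.map]

@[reassoc]
lemma coneMap_fst {K L : Cx A} (φ : K ⟶ L) (n m : ℤ) (h : n + 1 = m) :
    (coneMap f φ).f n ≫ (mappingCone.fst (f • 𝟙 L)).1.v n m h =
      (mappingCone.fst (f • 𝟙 K)).1.v n m h ≫ φ.f m := by
  rw [mappingCone.ext_from_iff _ m n h]
  constructor
  · rw [inl_coneMap_assoc]; simp
  · rw [inr_coneMap_assoc]; simp

@[reassoc]
lemma coneMap_snd {K L : Cx A} (φ : K ⟶ L) (n : ℤ) :
    (coneMap f φ).f n ≫ (mappingCone.snd (f • 𝟙 L)).v n n (add_zero n) =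
      (mappingCone.snd (f • 𝟙 K)).v n n (add_zero n) ≫ φ.f n := by
  rw [mappingCone.ext_from_iff _ (n+1) n rfl]
  constructor
  · rw [inl_coneMap_assoc]; simp
  · rw [inr_coneMap_assoc]; simp

lemma coneMap_comp {K L M : Cx A} (φ : K ⟶ L) (ψ : L ⟶ M) :
    coneMap f (φ ≫ ψ) = coneMap f φ ≫ coneMap f ψ := by
  refine HomologicalComplex.hom_ext _ _ (fun n => ?_)
  rw [mappingCone.ext_from_iff _ (n+1) n rfl]
  constructor
  · simp [inl_coneMap, inl_coneMap_assoc]
  · simp [inr_coneMap, inr_coneMap_assoc]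

lemma coneMap_zero {K L : Cx A} : coneMap f (0 : K ⟶ L) = 0 := by
  refine HomologicalComplex.hom_ext _ _ (fun n => ?_)
  rw [mappingCone.ext_from_iff _ (n+1) n rfl]
  constructor
  · rw [inl_coneMap]; simp
  · rw [inr_coneMap]; simp

lemma coneMap_smul_id (g : A) (K : Cx A) :
    coneMap f (g • 𝟙 K) = g • 𝟙 (mappingCone (f • 𝟙 K)) := by
  refine HomologicalComplex.hom_ext _ _ (fun n => ?_)
  rw [mappingCone.ext_from_iff _ (n+1) n rfl]
  constructor
  · rw [inl_coneMap]; simp [Linear.smul_comp, Linear.comp_smul]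
  · rw [inr_coneMap]; simp [Linear.smul_comp, Linear.comp_smul]

end cone

section elements
variable (f : A) (K : Cx A) (n : ℤ)

lemma decomp (z : (mappingCone (f • 𝟙 K)).X n) :
    (mappingCone.inl (f • 𝟙 K)).v (n+1) n (by omega)
        ((mappingCone.fst (f • 𝟙 K)).1.v n (n+1) rfl z)
      + (mappingCone.inr (f • 𝟙 K)).f n ((mappingCone.snd (f • 𝟙 K)).v n n (add_zero n) z) = z := by
  have := congrArg (fun g => (ConcreteCategory.hom g) z) (mappingCone.id_X (f • 𝟙 K) n (n+1) rfl)
  simpa using this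

lemma fst_inl (x : K.X (n+1)) :
    (mappingCone.fst (f • 𝟙 K)).1.v n (n+1) rfl
      ((mappingCone.inl (f • 𝟙 K)).v (n+1) n (by omega) x) = x := by
  rw [← ConcreteCategory.comp_apply, mappingCone.inl_v_fst_v]; rfl

lemma snd_inl (x : K.X (n+1)) :
    (mappingCone.snd (f • 𝟙 K)).v n n (add_zero n)
      ((mappingCone.inl (f • 𝟙 K)).v (n+1) n (by omega) x) = 0 := by
  rw [← ConcreteCategory.comp_apply, mappingCone.inl_v_snd_v]; rfl

lemma fst_inr (y : K.X n) :
    (mappingCone.fst (f • 𝟙 K)).1.v n (n+1) rfl ((mappingCone.inr (f • 𝟙 K)).f n y) = 0 := by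
  rw [← ConcreteCategory.comp_apply, mappingCone.inr_f_fst_v]; rfl

lemma snd_inr (y : K.X n) :
    (mappingCone.snd (f • 𝟙 K)).v n n (add_zero n) ((mappingCone.inr (f • 𝟙 K)).f n y) = y := by
  rw [← ConcreteCategory.comp_apply, mappingCone.inr_f_snd_v]; rfl

variable {K n} in
lemma ext_elt {z w : (mappingCone (f • 𝟙 K)).X n}
    (h1 : (mappingCone.fst (f • 𝟙 K)).1.v n (n+1) rfl z =
      (mappingCone.fst (f • 𝟙 K)).1.v n (n+1) rfl w)
    (h2 : (mappingCone.snd (f • 𝟙 K)).v n n (add_zero n) z =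
      (mappingCone.snd (f • 𝟙 K)).v n n (add_zero n) w) :
    z = w := by
  rw [← decomp f K n z, ← decomp f K n w, h1, h2]

lemma coneMap_fst_apply {K L : Cx A} (φ : K ⟶ L) (n : ℤ) (z : (mappingCone (f • 𝟙 K)).X n) :
    (mappingCone.fst (f • 𝟙 L)).1.v n (n+1) rfl ((coneMap f φ).f n z) =
      φ.f (n+1) ((mappingCone.fst (f • 𝟙 K)).1.v n (n+1) rfl z) := by
  rw [← ConcreteCategory.comp_apply, coneMap_fst]; rfl

lemma coneMap_snd_apply {K L : Cx A} (φ : K ⟶ L) (n : ℤ) (z : (mappingCone (f • 𝟙 K)).X n) :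
    (mappingCone.snd (f • 𝟙 L)).v n n (add_zero n) ((coneMap f φ).f n z) =
      φ.f n ((mappingCone.snd (f • 𝟙 K)).v n n (add_zero n) z) := by
  rw [← ConcreteCategory.comp_apply, coneMap_snd]; rfl

end elements

section SES
variable (f : A)

/-- The short complex of cones. -/
noncomputable def coneSC (T : ShortComplex (Cx A)) : ShortComplex (Cx A) :=
  ShortComplex.mk (coneMap f T.f) (coneMap f T.g) (by rw [← coneMap_comp, T.zero, coneMap_zero])

lemma coneSC_shortExact (T : ShortComplex (Cx A)) (hT : T.ShortExact) :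
    (coneSC f T).ShortExact := by
  rw [HomologicalComplex.shortExact_iff_degreewise_shortExact] at hT ⊢
  intro n
  have inj : ∀ m, Function.Injective (T.f.f m) := fun m => (hT m).moduleCat_injective_f
  have surj : ∀ m, Function.Surjective (T.g.f m) := fun m => (hT m).moduleCat_surjective_g
  have exa : ∀ m (x : T.X₂.X m), T.g.f m x = 0 → ∃ y, T.f.f m y = x := fun m x hx =>
    (ShortComplex.moduleCat_exact_iff _).mp (hT m).exact x hx
  have zer : ∀ m (y : T.X₁.X m), T.g.f m (T.f.f m y) = 0 := fun m y => by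
    rw [← ConcreteCategory.comp_apply, ← HomologicalComplex.comp_f, T.zero]; rfl
  apply ModuleCat.shortComplex_shortExact
  · intro (z : (mappingCone (f • 𝟙 T.X₂)).X n)
    constructor
    · intro hz
      change (coneMap f T.g).f n z = 0 at hz
      have h1 : T.g.f (n+1) ((mappingCone.fst (f • 𝟙 T.X₂)).1.v n (n+1) rfl z) = 0 := by
        rw [← coneMap_fst_apply, hz, map_zero]
      have h2 : T.g.f n ((mappingCone.snd (f • 𝟙 T.X₂)).v n n (add_zero n) z) = 0 := by
        rw [← coneMap_snd_apply, hz, map_zero]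
      obtain ⟨x, hx⟩ := exa _ _ h1
      obtain ⟨y, hy⟩ := exa _ _ h2
      refine ⟨(mappingCone.inl (f • 𝟙 T.X₁)).v (n+1) n (by omega) x +
        (mappingCone.inr (f • 𝟙 T.X₁)).f n y, ?_⟩
      change (coneMap f T.f).f n _ = z
      apply ext_elt
      · rw [coneMap_fst_apply, map_add, fst_inl, fst_inr, add_zero, hx]
      · rw [coneMap_snd_apply, map_add, snd_inl, snd_inr, zero_add, hy]
    · rintro ⟨(w : (mappingCone (f • 𝟙 T.X₁)).X n), rfl⟩
      change (coneMap f T.g).f n ((coneMap f T.f).f n w) = 0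
      apply ext_elt
      · rw [coneMap_fst_apply, coneMap_fst_apply, zer, map_zero]
      · rw [coneMap_snd_apply, coneMap_snd_apply, zer, map_zero]
  · intro (z : (mappingCone (f • 𝟙 T.X₁)).X n) (w : (mappingCone (f • 𝟙 T.X₁)).X n) h
    change (coneMap f T.f).f n z = (coneMap f T.f).f n w at h
    apply ext_elt
    · apply inj (n+1); rw [← coneMap_fst_apply, ← coneMap_fst_apply, h]
    · apply inj n; rw [← coneMap_snd_apply, ← coneMap_snd_apply, h]
  · intro (w : (mappingCone (f • 𝟙 T.X₃)).X n)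
    obtain ⟨x, hx⟩ := surj (n+1) ((mappingCone.fst (f • 𝟙 T.X₃)).1.v n (n+1) rfl w)
    obtain ⟨y, hy⟩ := surj n ((mappingCone.snd (f • 𝟙 T.X₃)).v n n (add_zero n) w)
    refine ⟨(mappingCone.inl (f • 𝟙 T.X₂)).v (n+1) n (by omega) x +
        (mappingCone.inr (f • 𝟙 T.X₂)).f n y, ?_⟩
    change (coneMap f T.g).f n _ = w
    apply ext_elt
    · rw [coneMap_fst_apply, map_add, fst_inl, fst_inr, add_zero, hx]
    · rw [coneMap_snd_apply, map_add, snd_inl, snd_inr, zero_add, hy]

end SES

section iterate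

/-- iterated cones of scalar multiplications on a complex `K` -/
noncomputable def kz (K : Cx A) : List A → Cx A
  | [] => K
  | f :: l => mappingCone (f • 𝟙 (kz K l))

/-- functoriality of `kz` -/
noncomputable def kzMap {K L : Cx A} (φ : K ⟶ L) : ∀ l : List A, kz K l ⟶ kz L l
  | [] => φ
  | f :: l => coneMap f (kzMap φ l)

lemma kzMap_comp {K L M : Cx A} (φ : K ⟶ L) (ψ : L ⟶ M) (l : List A) :
    kzMap (φ ≫ ψ) l = kzMap φ l ≫ kzMap ψ l := by
  induction l with
  | nil => rfl
  | cons f l ih =>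
    show coneMap f (kzMap (φ ≫ ψ) l) = coneMap f (kzMap φ l) ≫ coneMap f (kzMap ψ l)
    rw [ih, coneMap_comp]

lemma kzMap_zero {K L : Cx A} (l : List A) : kzMap (0 : K ⟶ L) l = 0 := by
  induction l with
  | nil => rfl
  | cons f l ih =>
    show coneMap f (kzMap (0 : K ⟶ L) l) = 0
    rw [ih, coneMap_zero]

lemma kzMap_smul_id (g : A) (K : Cx A) (l : List A) :
    kzMap (g • 𝟙 K) l = g • 𝟙 (kz K l) := by
  induction l with
  | nil => rfl
  | cons f l ih =>
    show coneMap f (kzMap (g • 𝟙 K) l) = g • 𝟙 (mappingCone (f • 𝟙 (kz K l)))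
    rw [ih, coneMap_smul_id]

/-- The short complex of iterated cones. -/
noncomputable def kzSC (T : ShortComplex (Cx A)) (l : List A) : ShortComplex (Cx A) :=
  ShortComplex.mk (kzMap T.f l) (kzMap T.g l) (by rw [← kzMap_comp, T.zero, kzMap_zero])

lemma kzSC_shortExact (T : ShortComplex (Cx A)) (hT : T.ShortExact) (l : List A) :
    (kzSC T l).ShortExact := by
  induction l with
  | nil => exact hT
  | cons f l ih => exact coneSC_shortExact f (kzSC T l) ih

end iterate

section regular

open RingTheory.Sequence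
open scoped Pointwise

variable (M : Type u) [AddCommGroup M] [Module A M]

/-- the quotient map `M → M/fM` -/
noncomputable def qmap (f : A) : ModuleCat.of A M ⟶ ModuleCat.of A (QuotSMulTop f M) :=
  ModuleCat.ofHom (Submodule.mkQ (f • (⊤ : Submodule A M)))

/-- `0 → M → M → M/fM → 0`. -/
noncomputable def baseSC (f : A) : ShortComplex (ModuleCat.{u} A) :=
  ShortComplex.mk (f • 𝟙 (ModuleCat.of A M)) (qmap M f) (by
      ext x
      show Submodule.mkQ (f • (⊤ : Submodule A M)) (f • x) = 0
      rw [Submodule.mkQ_apply, Submodule.Quotient.mk_eq_zero]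
      exact Submodule.smul_mem_pointwise_smul x f ⊤ Submodule.mem_top)

lemma baseSC_shortExact (f : A) (hf : IsSMulRegular M f) : (baseSC M f).ShortExact := by
  apply ModuleCat.shortComplex_shortExact
  · intro (x : M)
    show Submodule.mkQ (f • (⊤ : Submodule A M)) x = 0 ↔ _
    rw [Submodule.mkQ_apply, Submodule.Quotient.mk_eq_zero,
      Submodule.mem_smul_pointwise_iff_exists]
    constructor
    · rintro ⟨y, -, rfl⟩; exact ⟨y, rfl⟩
    · rintro ⟨y, rfl⟩; exact ⟨y, Submodule.mem_top, rfl⟩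
  · intro (x : M) (y : M) h
    exact hf h
  · exact Submodule.mkQ_surjective _

/-- the single complex in degree 0 -/
noncomputable abbrev sgl (N : ModuleCat.{u} A) : Cx A :=
  (HomologicalComplex.single (ModuleCat.{u} A) (ComplexShape.up ℤ) 0).obj N

/-- The short exact sequence of Koszul complexes attached to a regular element. -/
noncomputable def regSC (f : A) (l : List A) : ShortComplex (Cx A) :=
  ShortComplex.mk (f • 𝟙 (kz (sgl (ModuleCat.of A M)) l))
    (kzMap ((HomologicalComplex.single (ModuleCat.{u} A) (ComplexShape.up ℤ) 0).map (qmap M f)) l)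
    (by
      rw [← kzMap_smul_id, ← kzMap_comp]
      have : f • 𝟙 (sgl (ModuleCat.of A M)) =
          (HomologicalComplex.single (ModuleCat.{u} A) (ComplexShape.up ℤ) 0).map
            (f • 𝟙 (ModuleCat.of A M)) := by
        refine HomologicalComplex.hom_ext _ _ (fun i => ?_)
        by_cases hi : i = 0
        · subst hi
          rw [HomologicalComplex.single_map_f_self]
          simp [Linear.smul_comp, Linear.comp_smul]
        · exact (HomologicalComplex.isZero_single_obj_X (ComplexShape.up ℤ) 0 _ i hi).eq_of_src _ _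
      rw [this, ← Functor.map_comp]
      have h0 : (f • 𝟙 (ModuleCat.of A M)) ≫ qmap M f = 0 := (baseSC M f).zero
      rw [h0, Functor.map_zero, kzMap_zero])

end regular

section main

open RingTheory.Sequence
open scoped Pointwise

lemma shortExact_of_eq {C : Type*} [Category C] [HasZeroMorphisms C] {X Y Z : C} {a a' : X ⟶ Y}
    {b : Y ⟶ Z} (h : a = a') (z : a ≫ b = 0) (z' : a' ≫ b = 0)
    (H : (ShortComplex.mk a b z).ShortExact) : (ShortComplex.mk a' b z').ShortExact := by
  subst h; exact H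

lemma single_map_smul_id (f : A) (N : ModuleCat.{u} A) :
    (HomologicalComplex.single (ModuleCat.{u} A) (ComplexShape.up ℤ) 0).map (f • 𝟙 N) =
      f • 𝟙 (sgl N) := by
  refine HomologicalComplex.hom_ext _ _ (fun i => ?_)
  by_cases hi : i = 0
  · subst hi
    rw [HomologicalComplex.single_map_f_self]
    simp [Linear.smul_comp, Linear.comp_smul]
  · exact (HomologicalComplex.isZero_single_obj_X (ComplexShape.up ℤ) 0 _ i hi).eq_of_src _ _

variable (M : Type u) [AddCommGroup M] [Module A M]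

lemma regSC_shortExact (f : A) (hf : IsSMulRegular M f) (l : List A) :
    (regSC M f l).ShortExact := by
  have hT : ((baseSC M f).map
      (HomologicalComplex.single (ModuleCat.{u} A) (ComplexShape.up ℤ) 0)).ShortExact :=
    (baseSC_shortExact M f hf).map_of_exact _
  have h1 := kzSC_shortExact _ hT l
  have e : kzMap ((HomologicalComplex.single (ModuleCat.{u} A) (ComplexShape.up ℤ) 0).map
      (f • 𝟙 (ModuleCat.of A M))) l = f • 𝟙 (kz (sgl (ModuleCat.of A M)) l) := by
    rw [single_map_smul_id, kzMap_smul_id]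
  exact shortExact_of_eq e _ _ h1

theorem kz_regular (l : List A) : ∀ (M : Type u) [AddCommGroup M] [Module A M],
    IsWeaklyRegular M l →
    (∀ n : ℤ, n ≠ 0 → IsZero ((kz (sgl (ModuleCat.of A M)) l).homology n)) ∧
    Nonempty ((kz (sgl (ModuleCat.of A M)) l).homology 0 ≅
      ModuleCat.of A (M ⧸ (Ideal.ofList l • (⊤ : Submodule A M)))) := by
  induction l with
  | nil =>
    intro M _ _ _
    constructor
    · intro n hn
      exact (HomologicalComplex.exactAt_single_obj (ComplexShape.up ℤ) 0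
        (ModuleCat.of A M) n hn).isZero_homology
    · have h0 : (Ideal.ofList ([] : List A) • (⊤ : Submodule A M)) = ⊥ := by simp
      exact ⟨(HomologicalComplex.singleObjHomologySelfIso (ComplexShape.up ℤ) 0
        (ModuleCat.of A M)) ≪≫ (Submodule.quotEquivOfEqBot _ h0).symm.toModuleIso⟩
  | cons f l ih =>
    intro M _ _ h
    obtain ⟨hf, hl⟩ := (isWeaklyRegular_cons_iff M f l).mp h
    obtain ⟨ih1, ⟨ih2⟩⟩ := ih (QuotSMulTop f M) hl
    have hS := regSC_shortExact M f hf l
    have hq := mappingCone.quasiIso_descShortComplex hS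
    let d : kz (sgl (ModuleCat.of A M)) (f :: l) ⟶ kz (sgl (ModuleCat.of A (QuotSMulTop f M))) l :=
      mappingCone.descShortComplex (regSC M f l)
    have hd : QuasiIso d := hq
    have iso : ∀ n, (kz (sgl (ModuleCat.of A M)) (f :: l)).homology n ≅
        (kz (sgl (ModuleCat.of A (QuotSMulTop f M))) l).homology n :=
      fun n => _root_.isoOfQuasiIsoAt d n
    constructor
    · intro n hn; exact IsZero.of_iso (ih1 n hn) (iso n)
    · exact ⟨iso 0 ≪≫ ih2 ≪≫
        (Submodule.quotOfListConsSMulTopEquivQuotSMulTopInner M f l).symm.toModuleIso⟩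

end main

end Groth.Agent.H59.Kosz
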