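import Mathlib
import Groth.Agent.H59.Goren1

/-!
# Gorenstein rings: quotients by regular sequences, locally
-/

set_option autoImplicit false
set_option linter.style.haveILetI false
set_option linter.unusedSectionVars false
universe u
open IsLocalRing
open scoped Pointwise

namespace Groth.Agent.H59.Goren4

open Groth.Agent.H59.Goren1 Groth.Agent.H60.GorTransfer

/-- The quotient of a Gorenstein local ring by a weakly regular sequence in the maximal ideal is
Gorenstein. -/
theorem gor_quot_of_weaklyRegular : ∀ (n : ℕ) (R : Type u) [CommRing R] [IsLocalRing R]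
    (_ : LocCoh.IsGorensteinLocalRing R) (rs : List R), rs.length = n →
    (∀ r ∈ rs, r ∈ maximalIdeal R) → RingTheory.Sequence.IsWeaklyRegular R rs →
    LocCoh.IsGorensteinLocalRing (R ⧸ Ideal.ofList rs) := by
  intro n
  induction n with
  | zero =>
    intro R _ _ hG rs hlen _ _
    have hrs : rs = [] := List.length_eq_zero_iff.mp hlen
    subst hrs
    have e : R ≃+* R ⧸ Ideal.ofList ([] : List R) :=
      (RingEquiv.quotientBot R).symm.trans (Ideal.quotEquivOfEq Ideal.ofList_nil.symm)
    exact gor_of_ringEquiv e hG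
  | succ n ih =>
    intro R _ _ hG rs hlen hmem hreg
    haveI : IsNoetherianRing R := hG.toIsNoetherian
    obtain ⟨x, xs, rfl⟩ : ∃ x xs, rs = x :: xs := by
      cases rs with
      | nil => simp at hlen
      | cons x xs => exact ⟨x, xs, rfl⟩
    have hlen' : xs.length = n := by simpa using hlen
    obtain ⟨hx, hxs⟩ := (RingTheory.Sequence.isWeaklyRegular_cons_iff' R x xs).mp hreg
    have hxm : x ∈ maximalIdeal R := hmem x (List.mem_cons_self)
    have hG' : LocCoh.IsGorensteinLocalRing (R ⧸ Ideal.span {x}) :=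
      (Groth.Agent.S0343.result R x hxm hx).mp hG
    haveI : IsLocalRing (R ⧸ Ideal.span {x}) := hG'.toIsLocalRing
    haveI : IsLocalHom (Ideal.Quotient.mk (Ideal.span {x})) :=
      IsLocalHom.of_surjective _ Ideal.Quotient.mk_surjective
    have hmem' : ∀ r ∈ xs.map (Ideal.Quotient.mk (Ideal.span {x})),
        r ∈ maximalIdeal (R ⧸ Ideal.span {x}) := by
      intro r hr
      obtain ⟨r0, hr0, rfl⟩ := List.mem_map.mp hr
      have h0 : r0 ∈ maximalIdeal R := hmem r0 (List.mem_cons_of_mem _ hr0)
      rw [mem_maximalIdeal, mem_nonunits_iff] at h0 ⊢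
      intro hu
      exact h0 (isUnit_of_map_unit (Ideal.Quotient.mk (Ideal.span {x})) r0 hu)
    have heq : (x • (⊤ : Submodule R R)) = (Ideal.span {x} : Ideal R) := by
      rw [← Submodule.ideal_span_singleton_smul, smul_eq_mul, Ideal.mul_top]
    let e : QuotSMulTop x R ≃ₗ[R] R ⧸ Ideal.span {x} := Submodule.quotEquivOfEq _ _ heq
    have hxs' : RingTheory.Sequence.IsWeaklyRegular (R ⧸ Ideal.span {x})
        (xs.map (Ideal.Quotient.mk (Ideal.span {x}))) := by
      refine (AddEquiv.isWeaklyRegular_congr (e := e.toAddEquiv) ?_).mp hxs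
      refine List.forall₂_same.mpr fun r' _ m => ?_
      obtain ⟨r, rfl⟩ := Ideal.Quotient.mk_surjective r'
      obtain ⟨m, rfl⟩ := Submodule.Quotient.mk_surjective _ m
      rfl
    have hG'' := ih (R ⧸ Ideal.span {x}) hG' (xs.map (Ideal.Quotient.mk (Ideal.span {x})))
      (by simpa using hlen') hmem' hxs'
    have hI : (Ideal.ofList xs).map (Ideal.Quotient.mk (Ideal.span {x})) =
        Ideal.ofList (xs.map (Ideal.Quotient.mk (Ideal.span {x}))) := Ideal.map_ofList _ _
    have e2 : ((R ⧸ Ideal.span {x}) ⧸ Ideal.ofList (xs.map (Ideal.Quotient.mk (Ideal.span {x}))))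
        ≃+* R ⧸ Ideal.ofList (x :: xs) :=
      (Ideal.quotEquivOfEq hI.symm).trans
        ((DoubleQuot.quotQuotEquivQuotSup (Ideal.span {x}) (Ideal.ofList xs)).trans
          (Ideal.quotEquivOfEq (Ideal.ofList_cons x xs).symm))
    exact gor_of_ringEquiv e2 hG''


/-- Localization commutes with quotients: `(C/I)_{P/I} ≅ C_P / I C_P`. -/
theorem exists_quot_loc_equiv {C : Type u} [CommRing C] (I : Ideal C) (Pb : Ideal (C ⧸ I))
    [Pb.IsPrime] :
    Nonempty ((Localization.AtPrime (Pb.comap (Ideal.Quotient.mk I)) ⧸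
      I.map (algebraMap C (Localization.AtPrime (Pb.comap (Ideal.Quotient.mk I))))) ≃+*
        Localization.AtPrime Pb) := by
  set P : Ideal C := Pb.comap (Ideal.Quotient.mk I) with hP
  set J := I.map (algebraMap C (Localization.AtPrime P)) with hJ
  have hle : I ≤ RingHom.ker ((Ideal.Quotient.mk J).comp
      (algebraMap C (Localization.AtPrime P))) := by
    intro x hx
    rw [RingHom.mem_ker, RingHom.comp_apply]
    exact Ideal.Quotient.eq_zero_iff_mem.mpr (Ideal.mem_map_of_mem _ hx)
  letI : Algebra (C ⧸ I) (Localization.AtPrime P ⧸ J) :=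
    (Ideal.Quotient.lift I ((Ideal.Quotient.mk J).comp
      (algebraMap C (Localization.AtPrime P))) (fun x hx => hle hx)).toAlgebra
  have hloc : IsLocalization (P.primeCompl.map (Ideal.Quotient.mk I))
      (Localization.AtPrime P ⧸ J) := by
    refine IsLocalization.of_surjective (M := P.primeCompl) (S := Localization.AtPrime P)
      (Ideal.Quotient.mk I) Ideal.Quotient.mk_surjective
      (Ideal.Quotient.mk J) Ideal.Quotient.mk_surjective ?_ ?_
    · ext x
      simp [RingHom.algebraMap_toAlgebra]
    · rw [Ideal.mk_ker, Ideal.mk_ker]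
  have hM : P.primeCompl.map (Ideal.Quotient.mk I) = Pb.primeCompl := by
    ext y
    constructor
    · rintro ⟨x, hx, rfl⟩
      exact hx
    · intro hy
      obtain ⟨x, rfl⟩ := Ideal.Quotient.mk_surjective y
      exact ⟨x, hy, rfl⟩
  rw [hM] at hloc
  haveI : IsLocalization.AtPrime (Localization.AtPrime P ⧸ J) Pb := hloc
  have e : (Localization.AtPrime P ⧸ J) ≃ₐ[C ⧸ I] Localization.AtPrime Pb :=
    IsLocalization.algEquiv Pb.primeCompl _ _
  exact ⟨e.toRingEquiv⟩

/-- If an ideal `I` of a Gorenstein ring `C` is, at each prime `Q ⊇ I`, generated in `C_Q` by a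
weakly regular sequence, then `C/I` is Gorenstein. -/
theorem gorRing_quotient_of_locally_regular {C : Type u} [CommRing C]
    [LocCoh.IsGorensteinRing C] (I : Ideal C)
    (h : ∀ (Q : Ideal C) [Q.IsPrime], I ≤ Q → ∃ rs : List (Localization.AtPrime Q),
      RingTheory.Sequence.IsWeaklyRegular (Localization.AtPrime Q) rs ∧
        I.map (algebraMap C (Localization.AtPrime Q)) = Ideal.ofList rs) :
    LocCoh.IsGorensteinRing (C ⧸ I) := by
  refine ⟨fun Pb _ => ?_⟩
  obtain ⟨e⟩ := exists_quot_loc_equiv I Pb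
  haveI : (Pb.comap (Ideal.Quotient.mk I)).IsPrime := Ideal.comap_isPrime _ _
  have hIP : I ≤ Pb.comap (Ideal.Quotient.mk I) := by
    intro x hx
    rw [Ideal.mem_comap, Ideal.Quotient.eq_zero_iff_mem.mpr hx]
    exact Pb.zero_mem
  obtain ⟨rs, hrs, hI⟩ := h (Pb.comap (Ideal.Quotient.mk I)) hIP
  have hG : LocCoh.IsGorensteinLocalRing (Localization.AtPrime (Pb.comap (Ideal.Quotient.mk I))) :=
    LocCoh.IsGorensteinRing.isGorensteinLocalRing_localization _
  have hmem : ∀ r ∈ rs, r ∈ maximalIdeal (Localization.AtPrime (Pb.comap (Ideal.Quotient.mk I))) := by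
    intro r hr
    have h1 : r ∈ Ideal.ofList rs := Ideal.subset_span hr
    rw [← hI] at h1
    have h2 : I.map (algebraMap C (Localization.AtPrime (Pb.comap (Ideal.Quotient.mk I)))) ≤
        maximalIdeal (Localization.AtPrime (Pb.comap (Ideal.Quotient.mk I))) := by
      rw [← Localization.AtPrime.map_eq_maximalIdeal]
      exact Ideal.map_mono hIP
    exact h2 h1
  have hG' := gor_quot_of_weaklyRegular rs.length _ hG rs rfl hmem hrs
  exact gor_of_ringEquiv ((Ideal.quotEquivOfEq hI.symm).trans e) hG'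

end Groth.Agent.H59.Goren4
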