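import Mathlib
import Groth.Agent.H68.StalkLimDefs

/-!
# helper59 (squad piece (A) for helper68): `Spec 𝒪_{S,a}` is the limit of the affine open
neighbourhoods of `a`
-/

set_option autoImplicit false
universe u
open CategoryTheory CategoryTheory.Limits AlgebraicGeometry Opposite TopologicalSpace

namespace Groth.Agent.H68.StalkLim

variable (S : Scheme.{u}) (a : S)

instance nonempty_nbhd : Nonempty (Nbhd S a) := by
  obtain ⟨W, -⟩ := exists_le S a ⊤ trivial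
  exact ⟨W⟩

instance isDirected_nbhd : IsDirected (Nbhd S a) (· ≥ ·) where
  directed W₁ W₂ := by
    obtain ⟨W, hW⟩ := exists_le S a (W₁.1 ⊓ W₂.1) ⟨W₁.2.2, W₂.2.2⟩
    exact ⟨W, (show W.1 ≤ W₁.1 from le_trans hW inf_le_left),
      (show W.1 ≤ W₂.1 from le_trans hW inf_le_right)⟩

instance isCofiltered_nbhd : IsCofiltered (Nbhd S a) :=
  isCofiltered_of_directed_ge_nonempty _

section aux

/-- morphisms to an affine scheme `Spec R` are determined by the ring map on global sections -/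
theorem toSpecΓ_SpecMap_injective {T : Scheme.{u}} {R : CommRingCat.{u}} (α β : R ⟶ Γ(T, ⊤))
    (h : T.toSpecΓ ≫ Spec.map α = T.toSpecΓ ≫ Spec.map β) : α = β := by
  have h1 := congrArg Scheme.Hom.appTop h
  simp only [Scheme.Hom.comp_appTop, Scheme.toSpecΓ_appTop, Scheme.ΓSpecIso_naturality] at h1
  exact (cancel_epi _).1 h1

theorem eq_toSpecΓ_SpecMap {T : Scheme.{u}} {R : CommRingCat.{u}} (m : T ⟶ Spec R) :
    m = T.toSpecΓ ≫ Spec.map ((Scheme.ΓSpecIso R).inv ≫ m.appTop) := by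
  have h := Scheme.toSpecΓ_naturality m
  rw [← SpecMap_ΓSpecIso_hom] at h
  rw [Spec.map_comp, ← reassoc_of% h, ← Spec.map_comp, Iso.inv_hom_id, Spec.map_id,
    Category.comp_id]

end aux

variable {S a}

/-- the legs of a cone, with the expected type. -/
noncomputable def leg (c : Cone (diag S a)) (W : Nbhd S a) : c.pt ⟶ (W.1 : Scheme.{u}) :=
  c.π.app W

theorem leg_homOfLE (c : Cone (diag S a)) (W₁ W₂ : Nbhd S a) (h : W₁ ≤ W₂) :
    leg c W₁ ≫ S.homOfLE h = leg c W₂ :=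
  c.w (homOfLE h)

theorem leg_ι (c : Cone (diag S a)) (W₁ W₂ : Nbhd S a) (h : W₁ ≤ W₂) :
    leg c W₂ ≫ W₂.1.ι = leg c W₁ ≫ W₁.1.ι := by
  rw [← leg_homOfLE c W₁ W₂ h, Category.assoc, Scheme.homOfLE_ι]

/-- the common morphism `T ⟶ S` of a cone. -/
noncomputable def coneHom (c : Cone (diag S a)) : c.pt ⟶ S :=
  leg c (Classical.arbitrary (Nbhd S a)) ≫ (Classical.arbitrary (Nbhd S a)).1.ι

theorem coneHom_eq (c : Cone (diag S a)) (W : Nbhd S a) :
    coneHom c = leg c W ≫ W.1.ι := by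
  obtain ⟨W', h1, h2⟩ := directed_of (· ≥ ·) (Classical.arbitrary (Nbhd S a)) W
  unfold coneHom
  rw [leg_ι c W' _ h1, leg_ι c W' _ h2]

theorem coneHom_le (c : Cone (diag S a)) (V : S.Opens) (ha : a ∈ V) :
    (⊤ : c.pt.Opens) ≤ coneHom c ⁻¹ᵁ V := by
  obtain ⟨W, hW⟩ := exists_le S a V ha
  intro t _
  rw [coneHom_eq c W]
  exact hW ((leg c W) t).2

/-- the ring map `𝒪_{S,a} ⟶ Γ(T, ⊤)` induced by a cone. -/
noncomputable def coneRing (c : Cone (diag S a)) : S.presheaf.stalk a ⟶ Γ(c.pt, ⊤) :=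
  colimit.desc ((OpenNhds.inclusion a).op ⋙ S.presheaf)
    { pt := Γ(c.pt, ⊤)
      ι :=
        { app := fun V => (coneHom c).appLE V.unop.1 ⊤ (coneHom_le c V.unop.1 V.unop.2)
          naturality := fun V V' f => by
            dsimp
            rw [Category.comp_id]
            exact Scheme.Hom.map_appLE _ _ _ } }

theorem germ_coneRing (c : Cone (diag S a)) (V : S.Opens) (ha : a ∈ V) :
    S.presheaf.germ V a ha ≫ coneRing c = (coneHom c).appLE V ⊤ (coneHom_le c V ha) := by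
  unfold coneRing
  exact colimit.ι_desc (F := (OpenNhds.inclusion a).op ⋙ S.presheaf) _
    (op (⟨V, ha⟩ : OpenNhds a))

theorem ι_appLE_top (W : S.Opens) (e : (⊤ : W.toScheme.Opens) ≤ W.ι ⁻¹ᵁ W) :
    W.ι.appLE W ⊤ e = W.topIso.inv := by
  rw [Scheme.Opens.ι_appLE, Scheme.Opens.topIso_inv]
  rfl

theorem appLE_top_top {T T' : Scheme.{u}} (f : T ⟶ T') (e : (⊤ : T.Opens) ≤ f ⁻¹ᵁ ⊤) :
    f.appLE ⊤ ⊤ e = f.appTop :=
  Scheme.Hom.appLE_eq_app (f := f) (U := ⊤)

theorem appLE_eq (c : Cone (diag S a)) (W : Nbhd S a) :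
    (coneHom c).appLE W.1 ⊤ (coneHom_le c W.1 W.2.2) = W.1.topIso.inv ≫ (leg c W).appTop := by
  have h2 : ∀ (g : c.pt ⟶ S) (hg : g = leg c W ≫ W.1.ι) (e : (⊤ : c.pt.Opens) ≤ g ⁻¹ᵁ W.1),
      g.appLE W.1 ⊤ e = W.1.topIso.inv ≫ (leg c W).appTop := by
    intro g hg e
    subst hg
    rw [← Scheme.Hom.appLE_comp_appLE (leg c W) W.1.ι W.1 ⊤ ⊤ (by simp) (fun _ _ => trivial),
      ι_appLE_top, appLE_top_top]
  exact h2 _ (coneHom_eq c W) _

/-- the leg of a cone in terms of ring maps. -/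
theorem leg_toSpecΓ (c : Cone (diag S a)) (W : Nbhd S a) :
    leg c W ≫ W.1.toSpecΓ =
      c.pt.toSpecΓ ≫ Spec.map ((coneHom c).appLE W.1 ⊤ (coneHom_le c W.1 W.2.2)) := by
  rw [appLE_eq, Scheme.Opens.toSpecΓ, ← Category.assoc, Scheme.toSpecΓ_naturality, Category.assoc,
    ← Spec.map_comp]

instance (W : Nbhd S a) : IsIso W.1.toSpecΓ := by
  rw [← W.2.1.isoSpec_hom]; infer_instance

theorem uniq_aux (c : Cone (diag S a)) (m : c.pt ⟶ Spec (S.presheaf.stalk a))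
    (hm : ∀ W : Nbhd S a, m ≫ W.1.fromSpecStalkOfMem a W.2.2 = leg c W) :
    m = c.pt.toSpecΓ ≫ Spec.map (coneRing c) := by
  rw [eq_toSpecΓ_SpecMap m]
  congr 2
  refine TopCat.Presheaf.stalk_hom_ext _ fun V ha => ?_
  rw [germ_coneRing]
  obtain ⟨W, hWV⟩ := exists_le S a V ha
  have key : S.presheaf.germ W.1 a W.2.2 ≫ (Scheme.ΓSpecIso _).inv ≫ m.appTop =
      (coneHom c).appLE W.1 ⊤ (coneHom_le c W.1 W.2.2) := by
    apply toSpecΓ_SpecMap_injective
    rw [← leg_toSpecΓ, ← hm W, Spec.map_comp, ← Category.assoc, ← eq_toSpecΓ_SpecMap m,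
      Category.assoc, Scheme.Opens.fromSpecStalkOfMem_toSpecΓ]
  rw [← TopCat.Presheaf.germ_res _ (homOfLE hWV) a W.2.2, Category.assoc, key,
    Scheme.Hom.map_appLE]

variable (S a)

/-- `Spec 𝒪_{S,a}` is the limit of the affine open neighbourhoods of `a`. -/
noncomputable def isLimit : IsLimit (cone S a) where
  lift c := c.pt.toSpecΓ ≫ Spec.map (coneRing c)
  fac c W := by
    show (c.pt.toSpecΓ ≫ Spec.map (coneRing c)) ≫ W.1.fromSpecStalkOfMem a W.2.2 = leg c W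
    rw [← cancel_mono W.1.toSpecΓ, Category.assoc, Category.assoc,
      Scheme.Opens.fromSpecStalkOfMem_toSpecΓ, ← Spec.map_comp, germ_coneRing, leg_toSpecΓ]
  uniq c m hm := uniq_aux c m hm

end Groth.Agent.H68.StalkLim
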