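import Mathlib
import Groth.Prelude.Def_EGA4b

/-!
# Fibre local rings under base change: the comparison map is flat (helper59)

`R → P`, `R → R'`, `P' = R' ⊗_R P` (abstract pushout), `q'` a prime of `P'` over `q ⊂ P`.
Then the canonical map `FibLocRing R P q → FibLocRing R' P' q'` is a flat local homomorphism.
-/

set_option autoImplicit false
set_option linter.unusedVariables false
set_option linter.style.haveILetI false
set_option linter.unusedSectionVars false

universe u

open TensorProduct

namespace Groth.Agent.H59.FibFlat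

/-- If `F` is an algebra over the residue field `κ(p)`, then `F ⊗[R] M` is `F`-flat for every
`R`-module `M`. -/
theorem flat_tensor_of_residueField {R F : Type u} [CommRing R] [CommRing F] [Algebra R F]
    (p : Ideal R) [p.IsPrime] [Algebra p.ResidueField F] [IsScalarTower R p.ResidueField F]
    (M : Type u) [AddCommGroup M] [Module R M] : Module.Flat F (F ⊗[R] M) := by
  haveI : Module.Flat F (F ⊗[p.ResidueField] (p.ResidueField ⊗[R] M)) := inferInstance
  exact Module.Flat.of_linearEquiv
    (TensorProduct.AlgebraTensorModule.cancelBaseChange R p.ResidueField F F M).symm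

section Abstract

/-- abstract localisation criterion for flatness -/
theorem flat_of_isLocalization_data {F F' T : Type u} [CommRing F] [CommRing F'] [CommRing T]
    [Algebra F T] [Module.Flat F T] (φ : F →+* F') (θ : T →+* F')
    (hθφ : ∀ a : F, θ (algebraMap F T a) = φ a)
    (hsurj : ∀ y : F', ∃ t w : T, IsUnit (θ w) ∧ y * θ w = θ t)
    (hker : ∀ t : T, θ t = 0 → ∃ w : T, IsUnit (θ w) ∧ w * t = 0) : φ.Flat := by
  letI algFF' : Algebra F F' := φ.toAlgebra
  letI algTF' : Algebra T F' := θ.toAlgebra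
  haveI tow : IsScalarTower F T F' := IsScalarTower.of_algebraMap_eq (fun a => (hθφ a).symm)
  let W : Submonoid T := (IsUnit.submonoid F').comap θ
  haveI hloc : IsLocalization W F' := by
    rw [isLocalization_iff]
    refine ⟨fun y => y.2, ?_, ?_⟩
    · intro z
      obtain ⟨t, w, hw, hzw⟩ := hsurj z
      exact ⟨⟨t, ⟨w, hw⟩⟩, hzw⟩
    · intro t₁ t₂ h12
      have h0 : θ (t₁ - t₂) = 0 := by
        rw [map_sub]; exact sub_eq_zero.mpr h12
      obtain ⟨w, hw, hwt⟩ := hker _ h0
      refine ⟨⟨w, hw⟩, ?_⟩
      show w * t₁ = w * t₂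
      rw [← sub_eq_zero, ← mul_sub, hwt]
  haveI : Module.Flat T F' := IsLocalization.flat F' W
  exact Module.Flat.trans F T F'

/-- from the presentation `ψ : P' → T` to the localisation data -/
theorem loc_data_of_psi {F' T P' : Type u} [CommRing F'] [CommRing T] [CommRing P']
    (θ : T →+* F') (ψ : P' →+* T) (π' : P' →+* F') (hθψ : ∀ x, θ (ψ x) = π' x)
    (h1 : ∀ y : F', ∃ x s : P', IsUnit (π' s) ∧ y * π' s = π' x)
    (h2 : ∀ x : P', π' x = 0 → ∃ s : P', IsUnit (π' s) ∧ ψ (s * x) = 0)
    (h3 : ∀ t : T, ∃ d x : P', IsUnit (ψ d) ∧ ψ d * t = ψ x) :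
    (∀ y : F', ∃ t w : T, IsUnit (θ w) ∧ y * θ w = θ t) ∧
    (∀ t : T, θ t = 0 → ∃ w : T, IsUnit (θ w) ∧ w * t = 0) := by
  constructor
  · intro y
    obtain ⟨x, s, hs, hy⟩ := h1 y
    exact ⟨ψ x, ψ s, by rw [hθψ]; exact hs, by rw [hθψ, hθψ]; exact hy⟩
  · intro t ht
    obtain ⟨d, x, hd, hdx⟩ := h3 t
    have hx0 : π' x = 0 := by rw [← hθψ, ← hdx, map_mul, ht, mul_zero]
    obtain ⟨s, hs, hsx⟩ := h2 x hx0
    refine ⟨ψ s * ψ d, ?_, ?_⟩
    · rw [map_mul, hθψ]
      exact hs.mul (hd.map θ)
    · rw [mul_assoc, hdx, ← map_mul, hsx]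

/-- clearing denominators in a ring generated by products -/
theorem exists_mul_eq_of_gen {F K T P₀ R' P' : Type u} [CommRing F] [CommRing K] [CommRing T]
    [CommRing P₀] [CommRing R'] [CommRing P']
    (ιF : F →+* T) (ικ : K →+* T) (ψ : P' →+* T) (π : P₀ →+* F) (j : P₀ →+* P') (ρ : R' →+* P')
    (ρκ : R' →+* K) (hψj : ∀ a, ψ (j a) = ιF (π a)) (hψρ : ∀ r, ψ (ρ r) = ικ (ρκ r))
    (hgen : ∀ (C : T → Prop), C 0 → (∀ a k, C (ιF a * ικ k)) → (∀ x y, C x → C y → C (x + y)) →
      ∀ t, C t)
    (hF : ∀ a : F, ∃ a₀ s : P₀, IsUnit (π s) ∧ π s * a = π a₀)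
    (hK : ∀ k : K, ∃ r₀ u : R', IsUnit (ρκ u) ∧ ρκ u * k = ρκ r₀) :
    ∀ t : T, ∃ d x : P', IsUnit (ψ d) ∧ ψ d * t = ψ x := by
  apply hgen
  · exact ⟨1, 0, by rw [map_one]; exact isUnit_one, by rw [map_zero, mul_zero]⟩
  · intro a k
    obtain ⟨a₀, s, hs, hsa⟩ := hF a
    obtain ⟨r₀, u, hu, huk⟩ := hK k
    refine ⟨j s * ρ u, j a₀ * ρ r₀, ?_, ?_⟩
    · rw [map_mul, hψj, hψρ]
      exact (hs.map ιF).mul (hu.map ικ)
    · rw [map_mul, map_mul, hψj, hψρ, hψj, hψρ, ← hsa, ← huk, map_mul, map_mul]
      ring
  · rintro x y ⟨d₁, x₁, hu₁, he₁⟩ ⟨d₂, x₂, hu₂, he₂⟩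
    refine ⟨d₁ * d₂, d₂ * x₁ + d₁ * x₂, by rw [map_mul]; exact hu₁.mul hu₂, ?_⟩
    rw [map_mul, map_add, map_mul, map_mul, ← he₁, ← he₂]
    ring

theorem map_eq_zero_of_mem_map {R' P' T : Type u} [CommRing R'] [CommRing P'] [CommRing T]
    (ρ : R' →+* P') (ψ : P' →+* T) (J : Ideal R') (h : ∀ r ∈ J, ψ (ρ r) = 0) (x : P')
    (hx : x ∈ J.map ρ) : ψ x = 0 := by
  have hle : J.map ρ ≤ RingHom.ker ψ := Ideal.map_le_iff_le_comap.mpr (fun r hr => h r hr)
  exact hle hx

end Abstract

section Main

variable {R R' P P' : Type u} [CommRing R] [CommRing R'] [CommRing P] [CommRing P']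
  [Algebra R R'] [Algebra R P] [Algebra R' P'] [Algebra P P'] [Algebra R P']
  [IsScalarTower R R' P'] [IsScalarTower R P P']
  (q : Ideal P) [q.IsPrime] (q' : Ideal P') [q'.IsPrime]
  (hq : q = q'.comap (algebraMap P P'))

include hq in
lemma comap_comap_eq :
    q.comap (algebraMap R P) = (q'.comap (algebraMap R' P')).comap (algebraMap R R') := by
  ext r
  simp only [Ideal.mem_comap, hq]
  rw [← IsScalarTower.algebraMap_apply R P P', ← IsScalarTower.algebraMap_apply R R' P']

include hq in
lemma map_le_comap :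
    (q.comap (algebraMap R P)).map (algebraMap R (Localization.AtPrime q)) ≤
      ((q'.comap (algebraMap R' P')).map (algebraMap R' (Localization.AtPrime q'))).comap
        (Localization.localRingHom q q' (algebraMap P P') hq) := by
  rw [Ideal.map_le_iff_le_comap]
  intro r hr
  rw [Ideal.mem_comap, Ideal.mem_comap, IsScalarTower.algebraMap_apply R P (Localization.AtPrime q),
    Localization.localRingHom_to_map, ← IsScalarTower.algebraMap_apply R P P',
    IsScalarTower.algebraMap_apply R R' P',
    ← IsScalarTower.algebraMap_apply R' P' (Localization.AtPrime q')]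
  apply Ideal.mem_map_of_mem
  rw [comap_comap_eq (R := R) (R' := R') q q' hq] at hr
  exact hr

/-- the comparison map of fibre local rings -/
noncomputable def fibMap : EGA4.FibLocRing R P q →+* EGA4.FibLocRing R' P' q' :=
  Ideal.quotientMap _ (Localization.localRingHom q q' (algebraMap P P') hq) (map_le_comap q q' hq)

lemma fibMap_algebraMap (x : P) :
    fibMap q q' hq (algebraMap P (EGA4.FibLocRing R P q) x) =
      algebraMap P' (EGA4.FibLocRing R' P' q') (algebraMap P P' x) := by
  show fibMap q q' hq (Ideal.Quotient.mk _ (algebraMap P (Localization.AtPrime q) x)) = _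
  unfold fibMap
  rw [Ideal.quotientMap_mk, Localization.localRingHom_to_map]
  rfl

include hq in
/-- the comparison map is a local homomorphism -/
theorem isLocalHom_fibMap : IsLocalHom (fibMap (R := R) (R' := R') q q' hq) := by
  haveI : Nontrivial (EGA4.FibLocRing R' P' q') := by
    refine Ideal.Quotient.nontrivial_iff.mpr (ne_top_of_le_ne_top
      (IsLocalRing.maximalIdeal.isMaximal _).ne_top ?_)
    rw [Ideal.map_le_iff_le_comap]
    intro x hx
    rw [Ideal.mem_comap, IsScalarTower.algebraMap_apply R' P' (Localization.AtPrime q')]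
    exact (IsLocalization.AtPrime.to_map_mem_maximal_iff (Localization.AtPrime q') q' _).mpr hx
  haveI h1 : IsLocalHom (Ideal.Quotient.mk ((q'.comap (algebraMap R' P')).map
      (algebraMap R' (Localization.AtPrime q')))) :=
    IsLocalHom.of_surjective _ Ideal.Quotient.mk_surjective
  haveI h2 : IsLocalHom (Localization.localRingHom q q' (algebraMap P P') hq) :=
    Localization.isLocalHom_localRingHom _ _ _ hq
  refine ⟨fun a ha => ?_⟩
  obtain ⟨x, rfl⟩ := Ideal.Quotient.mk_surjective a
  have h3 : IsUnit (Ideal.Quotient.mk ((q'.comap (algebraMap R' P')).map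
      (algebraMap R' (Localization.AtPrime q')))
      (Localization.localRingHom q q' (algebraMap P P') hq x)) := by
    have : fibMap (R := R) (R' := R') q q' hq (Ideal.Quotient.mk _ x) =
        Ideal.Quotient.mk _ (Localization.localRingHom q q' (algebraMap P P') hq x) := by
      unfold fibMap
      rw [Ideal.quotientMap_mk]
    rw [← this]; exact ha
  have h4 := (isUnit_map_iff _ _).mp h3
  have h5 := (isUnit_map_iff _ _).mp h4
  exact h5.map _

end Main

section Loc

variable (A B : Type u) [CommRing A] [CommRing B] [Algebra A B]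

theorem map_le_maximalIdeal (q : Ideal B) [q.IsPrime] :
    (q.comap (algebraMap A B)).map (algebraMap A (Localization.AtPrime q)) ≤
      IsLocalRing.maximalIdeal (Localization.AtPrime q) := by
  rw [Ideal.map_le_iff_le_comap]
  intro x hx
  rw [Ideal.mem_comap, IsScalarTower.algebraMap_apply A B (Localization.AtPrime q)]
  exact (IsLocalization.AtPrime.to_map_mem_maximal_iff (Localization.AtPrime q) q _).mpr hx

theorem isLocalRing_fibLocRing (q : Ideal B) [q.IsPrime] :
    IsLocalRing (EGA4.FibLocRing A B q) := by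
  haveI : Nontrivial (EGA4.FibLocRing A B q) :=
    Ideal.Quotient.nontrivial_iff.mpr
      (ne_top_of_le_ne_top (IsLocalRing.maximalIdeal.isMaximal _).ne_top (map_le_maximalIdeal A B q))
  exact IsLocalRing.of_surjective' (Ideal.Quotient.mk _) Ideal.Quotient.mk_surjective

/-- units of the fibre local ring -/
theorem isUnit_algebraMap_fibLoc (q : Ideal B) [q.IsPrime] (s : B) (hs : s ∉ q) :
    IsUnit (algebraMap B (EGA4.FibLocRing A B q) s) := by
  have h1 : IsUnit (algebraMap B (Localization.AtPrime q) s) :=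
    IsLocalization.map_units (Localization.AtPrime q) (⟨s, hs⟩ : q.primeCompl)
  exact h1.map (Ideal.Quotient.mk _)

/-- `p` dies in the fibre local ring -/
theorem algebraMap_fibLoc_eq_zero (q : Ideal B) [q.IsPrime] (r : A)
    (hr : r ∈ q.comap (algebraMap A B)) : algebraMap A (EGA4.FibLocRing A B q) r = 0 := by
  show Ideal.Quotient.mk _ (algebraMap A (Localization.AtPrime q) r) = 0
  rw [Ideal.Quotient.eq_zero_iff_mem]
  exact Ideal.mem_map_of_mem _ hr

/-- the residue field algebra structure of the fibre local ring -/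
noncomputable def residueAlg (q : Ideal B) [q.IsPrime] :
    (q.comap (algebraMap A B)).ResidueField →+* EGA4.FibLocRing A B q :=
  Ideal.ResidueField.lift (q.comap (algebraMap A B)) (algebraMap A (EGA4.FibLocRing A B q))
    (fun r hr => algebraMap_fibLoc_eq_zero A B q r hr)
    (fun r hr => by
      show IsUnit (algebraMap A (EGA4.FibLocRing A B q) r)
      rw [IsScalarTower.algebraMap_apply A B (EGA4.FibLocRing A B q)]
      exact isUnit_algebraMap_fibLoc A B q _ hr)

theorem residueAlg_algebraMap (q : Ideal B) [q.IsPrime] (r : A) :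
    residueAlg A B q (algebraMap A _ r) = algebraMap A (EGA4.FibLocRing A B q) r :=
  Ideal.ResidueField.lift_algebraMap _ _ _ _ r

end Loc

section Flat

set_option synthInstance.maxHeartbeats 4000000

variable {R R' P P' : Type u} [CommRing R] [CommRing R'] [CommRing P] [CommRing P']
  [Algebra R R'] [Algebra R P] [Algebra R' P'] [Algebra P P'] [Algebra R P']
  [IsScalarTower R R' P'] [IsScalarTower R P P'] [Algebra.IsPushout R P R' P']
  (q : Ideal P) [q.IsPrime] (q' : Ideal P') [q'.IsPrime]
  (hq : q = q'.comap (algebraMap P P'))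

/-- membership in `p' P'_{q'}` -/
lemma exists_mul_mem_of_algebraMap_eq_zero (x : P')
    (hx : algebraMap P' (EGA4.FibLocRing R' P' q') x = 0) :
    ∃ s : P', s ∉ q' ∧ s * x ∈ (q'.comap (algebraMap R' P')).map (algebraMap R' P') := by
  have h1 : algebraMap P' (Localization.AtPrime q') x ∈
      (q'.comap (algebraMap R' P')).map (algebraMap R' (Localization.AtPrime q')) :=
    Ideal.Quotient.eq_zero_iff_mem.mp hx
  rw [IsScalarTower.algebraMap_eq R' P' (Localization.AtPrime q'), ← Ideal.map_map] at h1
  obtain ⟨t, ht, htx⟩ := (IsLocalization.algebraMap_mem_map_algebraMap_iff q'.primeCompl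
    (Localization.AtPrime q') _ x).mp h1
  exact ⟨t, ht, htx⟩

/-- the comparison map as an `R`-algebra map -/
noncomputable def fibMapₐ : EGA4.FibLocRing R P q →ₐ[R] EGA4.FibLocRing R' P' q' :=
  { fibMap (R := R) (R' := R') q q' hq with
    commutes' := fun r => by
      show fibMap q q' hq (algebraMap R (EGA4.FibLocRing R P q) r) = _
      rw [IsScalarTower.algebraMap_apply R P (EGA4.FibLocRing R P q), fibMap_algebraMap,
        ← IsScalarTower.algebraMap_apply R P P',
        ← IsScalarTower.algebraMap_apply R P' (EGA4.FibLocRing R' P' q')] }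

/-- the residue field of `p'` maps to the fibre local ring, as an `R`-algebra map -/
noncomputable def resAlgₐ :
    (Ideal.comap (algebraMap R' P') q').ResidueField →ₐ[R] EGA4.FibLocRing R' P' q' :=
  { residueAlg R' P' q' with
    commutes' := fun r => by
      show residueAlg R' P' q' (algebraMap R (Ideal.comap (algebraMap R' P') q').ResidueField r) =
        algebraMap R (EGA4.FibLocRing R' P' q') r
      rw [IsScalarTower.algebraMap_apply R R' (Ideal.comap (algebraMap R' P') q').ResidueField,
        residueAlg_algebraMap, ← IsScalarTower.algebraMap_apply R R' (EGA4.FibLocRing R' P' q')] }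

lemma resAlgₐ_algebraMap (r' : R') :
    resAlgₐ (R := R) q' (algebraMap R' (Ideal.comap (algebraMap R' P') q').ResidueField r') =
      algebraMap R' (EGA4.FibLocRing R' P' q') r' :=
  residueAlg_algebraMap R' P' q' r'

/-- `θ : F ⊗ κ' → F'` -/
noncomputable def theta : EGA4.FibLocRing R P q ⊗[R]
    (Ideal.comap (algebraMap R' P') q').ResidueField →ₐ[R] EGA4.FibLocRing R' P' q' :=
  Algebra.TensorProduct.lift (fibMapₐ (R := R) (R' := R') q q' hq) (resAlgₐ (R := R) q')
    (fun _ _ => Commute.all _ _)

lemma theta_tmul (a : EGA4.FibLocRing R P q)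
    (k : (Ideal.comap (algebraMap R' P') q').ResidueField) :
    theta (R := R) (R' := R') q q' hq (a ⊗ₜ k) = fibMap q q' hq a * resAlgₐ (R := R) q' k := by
  unfold theta
  rw [Algebra.TensorProduct.lift_tmul]
  rfl

/-- `ψ : P' → F ⊗ κ'` -/
noncomputable def psiₐ : P' →ₐ[R] EGA4.FibLocRing R P q ⊗[R]
    (Ideal.comap (algebraMap R' P') q').ResidueField :=
  Algebra.pushoutDesc P'
    ((Algebra.TensorProduct.includeLeft : EGA4.FibLocRing R P q →ₐ[R] EGA4.FibLocRing R P q ⊗[R]
      (Ideal.comap (algebraMap R' P') q').ResidueField).comp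
        (IsScalarTower.toAlgHom R P (EGA4.FibLocRing R P q)))
    ((Algebra.TensorProduct.includeRight : (Ideal.comap (algebraMap R' P') q').ResidueField →ₐ[R]
      EGA4.FibLocRing R P q ⊗[R] (Ideal.comap (algebraMap R' P') q').ResidueField).comp
        (IsScalarTower.toAlgHom R R' (Ideal.comap (algebraMap R' P') q').ResidueField))
    (fun x y => mul_comm (G := EGA4.FibLocRing R P q ⊗[R]
      (Ideal.comap (algebraMap R' P') q').ResidueField) _ _)

/-- `ψ` as a ring hom -/
noncomputable def psi : P' →+* EGA4.FibLocRing R P q ⊗[R]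
    (Ideal.comap (algebraMap R' P') q').ResidueField :=
  (psiₐ (R := R) (R' := R') q q').toRingHom

lemma psi_left (x : P) :
    psi (R := R) (R' := R') q q' (algebraMap P P' x) =
      (algebraMap P (EGA4.FibLocRing R P q) x) ⊗ₜ[R] 1 :=
  by unfold psi psiₐ; exact Algebra.pushoutDesc_left P' _ _ _ x

lemma psi_right (r' : R') :
    psi (R := R) (R' := R') q q' (algebraMap R' P' r') =
      (1 : EGA4.FibLocRing R P q) ⊗ₜ[R]
        (algebraMap R' (Ideal.comap (algebraMap R' P') q').ResidueField r') :=
  by unfold psi psiₐ; exact Algebra.pushoutDesc_right P' _ _ _ r'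

lemma theta_psi (x : P') :
    theta (R := R) (R' := R') q q' hq (psi (R := R) (R' := R') q q' x) =
      algebraMap P' (EGA4.FibLocRing R' P' q') x := by
  have : (theta (R := R) (R' := R') q q' hq).comp (psiₐ (R := R) (R' := R') q q') =
      IsScalarTower.toAlgHom R P' (EGA4.FibLocRing R' P' q') := by
    apply Algebra.IsPushout.algHom_ext (R := R) (S := P) (R' := R') (S' := P')
    · ext r'
      show theta q q' hq (psi q q' (algebraMap R' P' r')) =
        algebraMap P' (EGA4.FibLocRing R' P' q') (algebraMap R' P' r')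
      rw [psi_right, theta_tmul, map_one, one_mul, resAlgₐ_algebraMap,
        ← IsScalarTower.algebraMap_apply R' P' (EGA4.FibLocRing R' P' q')]
    · ext x
      show theta q q' hq (psi q q' (algebraMap P P' x)) =
        algebraMap P' (EGA4.FibLocRing R' P' q') (algebraMap P P' x)
      rw [psi_left, theta_tmul, map_one, mul_one, fibMap_algebraMap]
  exact AlgHom.congr_fun this x

lemma psi_eq_zero (x : P')
    (hx : x ∈ (q'.comap (algebraMap R' P')).map (algebraMap R' P')) :
    psi (R := R) (R' := R') q q' x = 0 := by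
  refine map_eq_zero_of_mem_map (T := EGA4.FibLocRing R P q ⊗[R]
    (Ideal.comap (algebraMap R' P') q').ResidueField) (algebraMap R' P')
    (psi (R := R) (R' := R') q q') _ ?_ x hx
  intro r' hr'
  rw [psi_right]
  have h0 : algebraMap R' (Ideal.comap (algebraMap R' P') q').ResidueField r' = 0 :=
    Ideal.algebraMap_residueField_eq_zero.mpr hr'
  rw [h0, TensorProduct.tmul_zero]

/-- fractions in the fibre local ring -/
lemma exists_frac_fibLoc (A B : Type u) [CommRing A] [CommRing B] [Algebra A B] (𝔮 : Ideal B)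
    [𝔮.IsPrime] (a : EGA4.FibLocRing A B 𝔮) :
    ∃ a₀ s : B, IsUnit (algebraMap B (EGA4.FibLocRing A B 𝔮) s) ∧
      algebraMap B (EGA4.FibLocRing A B 𝔮) s * a = algebraMap B (EGA4.FibLocRing A B 𝔮) a₀ := by
  obtain ⟨a', rfl⟩ := Ideal.Quotient.mk_surjective a
  obtain ⟨a₀, s, rfl⟩ := IsLocalization.exists_mk'_eq 𝔮.primeCompl a'
  refine ⟨a₀, s, isUnit_algebraMap_fibLoc A B 𝔮 s s.2, ?_⟩
  show Ideal.Quotient.mk _ (algebraMap B (Localization.AtPrime 𝔮) s) *
    Ideal.Quotient.mk _ (IsLocalization.mk' (Localization.AtPrime 𝔮) a₀ s) =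
    Ideal.Quotient.mk _ (algebraMap B (Localization.AtPrime 𝔮) a₀)
  rw [← map_mul, IsLocalization.mk'_spec']

/-- fractions in the residue field -/
lemma exists_frac_residueField (A : Type u) [CommRing A] (𝔭 : Ideal A) [𝔭.IsPrime]
    (k : 𝔭.ResidueField) :
    ∃ r₀ u : A, IsUnit (algebraMap A 𝔭.ResidueField u) ∧
      algebraMap A 𝔭.ResidueField u * k = algebraMap A 𝔭.ResidueField r₀ := by
  obtain ⟨k', rfl⟩ := IsLocalRing.residue_surjective k
  obtain ⟨r₀, u, rfl⟩ := IsLocalization.exists_mk'_eq 𝔭.primeCompl k'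
  refine ⟨r₀, u, ?_, ?_⟩
  · rw [isUnit_iff_ne_zero]
    intro h0
    exact u.2 (Ideal.algebraMap_residueField_eq_zero.mp h0)
  · show IsLocalRing.residue _ (algebraMap A (Localization.AtPrime 𝔭) u) *
      IsLocalRing.residue _ (IsLocalization.mk' (Localization.AtPrime 𝔭) r₀ u) =
      IsLocalRing.residue _ (algebraMap A (Localization.AtPrime 𝔭) r₀)
    rw [← map_mul, IsLocalization.mk'_spec']

set_option maxHeartbeats 1600000 in
/-- **The comparison map of fibre local rings under base change is flat.** -/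
theorem flat_fibMap : (fibMap (R := R) (R' := R') q q' hq).Flat := by
  classical
  letI algκF : Algebra (q.comap (algebraMap R P)).ResidueField (EGA4.FibLocRing R P q) :=
    (residueAlg R P q).toAlgebra
  haveI towκ : IsScalarTower R (q.comap (algebraMap R P)).ResidueField (EGA4.FibLocRing R P q) :=
    IsScalarTower.of_algebraMap_eq (fun r => (residueAlg_algebraMap R P q r).symm)
  haveI hTflat : Module.Flat (EGA4.FibLocRing R P q) (EGA4.FibLocRing R P q ⊗[R]
      (Ideal.comap (algebraMap R' P') q').ResidueField) :=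
    flat_tensor_of_residueField (q.comap (algebraMap R P)) _
  have h3 := exists_mul_eq_of_gen
    (T := EGA4.FibLocRing R P q ⊗[R] (Ideal.comap (algebraMap R' P') q').ResidueField)
    (Algebra.TensorProduct.includeLeft : EGA4.FibLocRing R P q →ₐ[R] EGA4.FibLocRing R P q ⊗[R]
      (Ideal.comap (algebraMap R' P') q').ResidueField).toRingHom
    (Algebra.TensorProduct.includeRight : (Ideal.comap (algebraMap R' P') q').ResidueField →ₐ[R]
      EGA4.FibLocRing R P q ⊗[R] (Ideal.comap (algebraMap R' P') q').ResidueField).toRingHom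
    (psi (R := R) (R' := R') q q') (algebraMap P (EGA4.FibLocRing R P q)) (algebraMap P P')
    (algebraMap R' P') (algebraMap R' (Ideal.comap (algebraMap R' P') q').ResidueField)
    (fun a => psi_left q q' a) (fun r => psi_right q q' r)
    (by
      intro C h0 hmul hadd t
      induction t using TensorProduct.induction_on with
      | zero => exact h0
      | tmul a k =>
        have h := hmul a k
        have e : (a ⊗ₜ[R] (1 : (Ideal.comap (algebraMap R' P') q').ResidueField)) *
            ((1 : EGA4.FibLocRing R P q) ⊗ₜ[R] k) = a ⊗ₜ[R] k := by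
          rw [Algebra.TensorProduct.tmul_mul_tmul, mul_one, one_mul]
        rw [← e]
        exact h
      | add x y hx hy => exact hadd x y hx hy)
    (exists_frac_fibLoc R P q) (exists_frac_residueField R' _)
  obtain ⟨hsurj, hker⟩ := loc_data_of_psi
    (T := EGA4.FibLocRing R P q ⊗[R] (Ideal.comap (algebraMap R' P') q').ResidueField)
    (theta (R := R) (R' := R') q q' hq).toRingHom (psi (R := R) (R' := R') q q')
    (algebraMap P' (EGA4.FibLocRing R' P' q')) (fun x => theta_psi q q' hq x)
    (by
      intro y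
      obtain ⟨x, s, hs, hsy⟩ := exists_frac_fibLoc R' P' q' y
      exact ⟨x, s, hs, by rw [mul_comm]; exact hsy⟩)
    (by
      intro x hx0
      obtain ⟨s, hs, hsx⟩ := exists_mul_mem_of_algebraMap_eq_zero q' x hx0
      exact ⟨s, isUnit_algebraMap_fibLoc R' P' q' s hs, psi_eq_zero q q' _ hsx⟩)
    h3
  refine flat_of_isLocalization_data
    (T := EGA4.FibLocRing R P q ⊗[R] (Ideal.comap (algebraMap R' P') q').ResidueField)
    (fibMap (R := R) (R' := R') q q' hq) (theta (R := R) (R' := R') q q' hq).toRingHom ?_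
    hsurj hker
  intro a
  show theta q q' hq (algebraMap (EGA4.FibLocRing R P q) _ a) = _
  rw [Algebra.TensorProduct.algebraMap_apply, theta_tmul, map_one, mul_one]
  rfl

end Flat

end Groth.Agent.H59.FibFlat
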