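import Groth.Agent.H59.Kosz

/-!
# Top cohomology of iterated cones (Koszul complexes)
-/

universe u
open CategoryTheory CochainComplex HomologicalComplex Limits
open scoped Pointwise

namespace Groth.Agent.H59.Kosz

variable {A : Type u} [CommRing A]

section flex
variable (f : A) (K : Cx A)

lemma fst_inl' (m n : ℤ) (h : n + 1 = m) (x : K.X m) :
    (mappingCone.fst (f • 𝟙 K)).1.v n m h
      ((mappingCone.inl (f • 𝟙 K)).v m n (by omega) x) = x := by
  rw [← ConcreteCategory.comp_apply, mappingCone.inl_v_fst_v]; rfl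

lemma snd_inl' (m n : ℤ) (h : n + 1 = m) (x : K.X m) :
    (mappingCone.snd (f • 𝟙 K)).v n n (add_zero n)
      ((mappingCone.inl (f • 𝟙 K)).v m n (by omega) x) = 0 := by
  rw [← ConcreteCategory.comp_apply, mappingCone.inl_v_snd_v]; rfl

lemma fst_inr' (m n : ℤ) (h : n + 1 = m) (y : K.X n) :
    (mappingCone.fst (f • 𝟙 K)).1.v n m h ((mappingCone.inr (f • 𝟙 K)).f n y) = 0 := by
  rw [← ConcreteCategory.comp_apply, mappingCone.inr_f_fst_v]; rfl

lemma decomp' (m n : ℤ) (h : n + 1 = m) (z : (mappingCone (f • 𝟙 K)).X n) :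
    (mappingCone.inl (f • 𝟙 K)).v m n (by omega)
        ((mappingCone.fst (f • 𝟙 K)).1.v n m h z)
      + (mappingCone.inr (f • 𝟙 K)).f n ((mappingCone.snd (f • 𝟙 K)).v n n (add_zero n) z) = z := by
  have := congrArg (fun g => (ConcreteCategory.hom g) z) (mappingCone.id_X (f • 𝟙 K) n m h)
  simpa using this

lemma d_snd_apply (i j : ℤ) (hij : i + 1 = j) (z : (mappingCone (f • 𝟙 K)).X i) :
    (mappingCone.snd (f • 𝟙 K)).v j j (add_zero j) ((mappingCone (f • 𝟙 K)).d i j z) =
      f • (mappingCone.fst (f • 𝟙 K)).1.v i j hij z +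
        K.d i j ((mappingCone.snd (f • 𝟙 K)).v i i (add_zero i) z) := by
  have := congrArg (fun g => (ConcreteCategory.hom g) z) (mappingCone.d_snd_v (f • 𝟙 K) i j hij)
  simpa using this

end flex

lemma isZero_kz_pos (M : ModuleCat.{u} A) (l : List A) : ∀ n : ℤ, 0 < n →
    IsZero ((kz (sgl M) l).X n) := by
  induction l with
  | nil =>
    intro n hn
    exact HomologicalComplex.isZero_single_obj_X (ComplexShape.up ℤ) 0 M n hn.ne'
  | cons f l ih =>
    intro n hn
    exact (mappingCone.isZero_X_iff _ n).mpr ⟨ih (n+1) (by omega), ih n hn⟩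

theorem exists_top (M : Type u) [AddCommGroup M] [Module A M] (l : List A) :
    ∃ e : (kz (sgl (ModuleCat.of A M)) l).X 0 ≃ₗ[A] M,
      Submodule.map e.toLinearMap
        (LinearMap.range ((kz (sgl (ModuleCat.of A M)) l).d (-1) 0).hom)
        = Ideal.ofList l • (⊤ : Submodule A M) := by
  induction l with
  | nil =>
    refine ⟨(HomologicalComplex.singleObjXSelf (ComplexShape.up ℤ) 0
      (ModuleCat.of A M)).toLinearEquiv, ?_⟩
    have hd : ((kz (sgl (ModuleCat.of A M)) []).d (-1) 0) = 0 :=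
      HomologicalComplex.single_obj_d _ _ _ _ _
    rw [hd]
    simp only [ModuleCat.hom_zero, LinearMap.range_zero, Submodule.map_bot, Ideal.ofList_nil,
      Submodule.bot_smul]
  | cons f l ih =>
    have hK1 := isZero_kz_pos (ModuleCat.of A M) l 1 one_pos
    show ∃ e' : (mappingCone (f • 𝟙 (kz (sgl (ModuleCat.of A M)) l))).X 0 ≃ₗ[A] M,
      Submodule.map e'.toLinearMap
        (LinearMap.range ((mappingCone (f • 𝟙 (kz (sgl (ModuleCat.of A M)) l))).d (-1) 0).hom)
        = Ideal.ofList (f :: l) • (⊤ : Submodule A M)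
    revert ih hK1
    generalize kz (sgl (ModuleCat.of A M)) l = K
    rintro ⟨e, he⟩ hK1
    have hsub : Subsingleton (K.X 1) := ModuleCat.subsingleton_of_isZero hK1
    let s : (mappingCone (f • 𝟙 K)).X 0 →ₗ[A] K.X 0 :=
      ((mappingCone.snd (f • 𝟙 K)).v 0 0 (add_zero 0)).hom
    let j : K.X 0 →ₗ[A] (mappingCone (f • 𝟙 K)).X 0 := ((mappingCone.inr (f • 𝟙 K)).f 0).hom
    have hsj : ∀ y, s (j y) = y := fun y => snd_inr f K 0 y
    have hjs : ∀ z, j (s z) = z := fun z => by
      have := decomp' f K 1 0 (by norm_num) z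
      have h0 : (mappingCone.fst (f • 𝟙 K)).1.v 0 1 (by norm_num) z = 0 := Subsingleton.elim _ _
      rw [h0, map_zero, zero_add] at this
      exact this
    let es : (mappingCone (f • 𝟙 K)).X 0 ≃ₗ[A] K.X 0 :=
      LinearEquiv.ofLinearMap s j (LinearMap.ext hsj) (LinearMap.ext hjs)
    refine ⟨es.trans e, ?_⟩
    have hmap : Submodule.map s (LinearMap.range ((mappingCone (f • 𝟙 K)).d (-1) 0).hom)
        = f • (⊤ : Submodule A (K.X 0)) ⊔ LinearMap.range (K.d (-1) 0).hom := by
      apply le_antisymm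
      · rintro _ ⟨_, ⟨z, rfl⟩, rfl⟩
        have h1 := d_snd_apply f K (-1) 0 (by norm_num) z
        show s (((mappingCone (f • 𝟙 K)).d (-1) 0) z) ∈ _
        rw [show s (((mappingCone (f • 𝟙 K)).d (-1) 0) z) = _ from h1]
        exact Submodule.add_mem_sup
          (Submodule.smul_mem_pointwise_smul _ _ _ Submodule.mem_top) ⟨_, rfl⟩
      · apply sup_le
        · rintro _ hx
          obtain ⟨x, -, rfl⟩ := (Submodule.mem_smul_pointwise_iff_exists _ _ _).mp hx
          refine ⟨_, ⟨(mappingCone.inl (f • 𝟙 K)).v 0 (-1) (by norm_num) x, rfl⟩, ?_⟩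
          have h1 := d_snd_apply f K (-1) 0 (by norm_num)
            ((mappingCone.inl (f • 𝟙 K)).v 0 (-1) (by norm_num) x)
          rw [fst_inl' f K 0 (-1) (by norm_num), snd_inl' f K 0 (-1) (by norm_num), map_zero,
            add_zero] at h1
          exact h1
        · rintro _ ⟨y, rfl⟩
          refine ⟨_, ⟨(mappingCone.inr (f • 𝟙 K)).f (-1) y, rfl⟩, ?_⟩
          have h1 := d_snd_apply f K (-1) 0 (by norm_num) ((mappingCone.inr (f • 𝟙 K)).f (-1) y)
          rw [fst_inr' f K 0 (-1) (by norm_num), snd_inr, smul_zero, zero_add] at h1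
          exact h1
    have hcomp : (es.trans e).toLinearMap = e.toLinearMap ∘ₗ s := rfl
    rw [hcomp, Submodule.map_comp, hmap, Submodule.map_sup, he, Ideal.ofList_cons_smul]
    congr 1
    rw [← Submodule.ideal_span_singleton_smul, Submodule.map_smul'', Submodule.map_top,
      LinearEquiv.range, Submodule.ideal_span_singleton_smul]

/-- degree `0` homology of a complex with `K.X 1 = 0` -/
noncomputable def homologyZeroIso (K : Cx A) (h1 : IsZero (K.X 1)) :
    K.homology 0 ≅ ModuleCat.of A (K.X 0 ⧸ LinearMap.range (K.d (-1) 0).hom) :=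
  K.homologyIsoSc' (-1) 0 1 (by simp) (by simp) ≪≫
    (K.sc' (-1) 0 1).asIsoHomologyι (h1.eq_of_tgt _ _) ≪≫
    (K.sc' (-1) 0 1).moduleCatOpcyclesIso

theorem nonempty_top_iso (M : Type u) [AddCommGroup M] [Module A M] (l : List A) :
    Nonempty ((kz (sgl (ModuleCat.of A M)) l).homology 0 ≅
      ModuleCat.of A (M ⧸ (Ideal.ofList l • (⊤ : Submodule A M)))) := by
  obtain ⟨e, he⟩ := exists_top M l
  exact ⟨homologyZeroIso _ (isZero_kz_pos _ l 1 one_pos) ≪≫
    (Submodule.Quotient.equiv _ _ e he).toModuleIso⟩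

end Groth.Agent.H59.Kosz
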