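import Groth.Agent.H59.LCIDesc3
import Groth.Agent.H56.RegImmComp
import Groth.Agent.H9.RegImmStalk

/-!
# fpqc descent of Koszul-regular immersions
-/

set_option autoImplicit false
set_option linter.style.haveILetI false
universe u
open CategoryTheory AlgebraicGeometry

namespace Groth.Agent.H59.RegImmDesc

open Groth.Agent.H59.Kosz Groth.Agent.H56.RegImmComp

/-- kernel of the base change of a surjective ring map (categorical pushout form) -/
theorem ker_of_isPushout {A B A' B' : CommRingCat.{u}} (φ : A ⟶ B) (γ : A ⟶ A') (γ' : B ⟶ B')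
    (φ' : A' ⟶ B') (h : IsPushout φ γ γ' φ') (hφ : Function.Surjective φ.hom) :
    RingHom.ker φ'.hom = (RingHom.ker φ.hom).map γ.hom := by
  apply le_antisymm
  · set K : Ideal A' := (RingHom.ker φ.hom).map γ.hom with hK
    let q : A' →+* A' ⧸ K := Ideal.Quotient.mk K
    have hle : RingHom.ker φ.hom ≤ RingHom.ker (q.comp γ.hom) := by
      intro a ha
      rw [RingHom.mem_ker, RingHom.comp_apply, Ideal.Quotient.eq_zero_iff_mem]
      exact Ideal.mem_map_of_mem _ ha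
    let β : B →+* A' ⧸ K := RingHom.liftOfSurjective φ.hom hφ ⟨q.comp γ.hom, hle⟩
    have hβ : β.comp φ.hom = q.comp γ.hom :=
      RingHom.liftOfRightInverse_comp _ _ _ _
    have w : φ ≫ CommRingCat.ofHom β = γ ≫ CommRingCat.ofHom q := by
      ext x
      exact RingHom.congr_fun hβ x
    let δ := h.desc (CommRingCat.ofHom β) (CommRingCat.ofHom q) w
    have hδ : φ' ≫ δ = CommRingCat.ofHom q := h.inr_desc _ _ _
    intro a' ha'
    have h1 : q a' = δ.hom (φ'.hom a') := by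
      have := congrArg (fun ψ => ψ.hom a') hδ
      simpa using this.symm
    rw [RingHom.mem_ker] at ha'
    rw [ha', map_zero] at h1
    exact Ideal.Quotient.eq_zero_iff_mem.mp h1
  · rw [Ideal.map_le_iff_le_comap]
    intro a ha
    rw [Ideal.mem_comap, RingHom.mem_ker]
    have := congrArg (fun ψ => ψ.hom a) h.w
    simp only [CommRingCat.hom_comp, RingHom.comp_apply] at this
    rw [← this, RingHom.mem_ker.mp ha, map_zero]


variable {X Z : Scheme.{u}}

lemma closedImm_basicOpen (i : Z ⟶ X) {U : X.Opens} (hcl : IsClosedImmersion (i ∣_ U))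
    (b : Γ(X, U)) : IsClosedImmersion (i ∣_ X.basicOpen b) := by
  have h1 := IsZariskiLocalAtTarget.restrict (P := @IsClosedImmersion) hcl
    (U.toScheme.basicOpen (X.presheaf.map (eqToHom U.isOpenEmbedding_obj_top).op b))
  exact (MorphismProperty.arrow_mk_iso_iff @IsClosedImmersion
    (morphismRestrictRestrictBasicOpen i U b)).1 h1

lemma ker_basicOpen (i : Z ⟶ X) {U : X.Opens} (hU : IsAffineOpen U)
    (hcl : IsClosedImmersion (i ∣_ U)) (b : Γ(X, U)) :
    RingHom.ker (i.app (X.basicOpen b)).hom =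
      (RingHom.ker (i.app U).hom).map (algebraMap Γ(X, U) Γ(X, X.basicOpen b)) := by
  have hU' : IsAffineOpen (i ⁻¹ᵁ U) := isAffineOpen_preimage i hU hcl
  haveI : IsLocalization.Away b Γ(X, X.basicOpen b) := hU.isLocalization_basicOpen b
  have hle : i ⁻¹ᵁ X.basicOpen b ≤ i ⁻¹ᵁ U := by
    intro x hx
    exact X.basicOpen_le b hx
  letI : Algebra Γ(Z, i ⁻¹ᵁ U) Γ(Z, i ⁻¹ᵁ X.basicOpen b) :=
    (Z.presheaf.map (homOfLE hle).op).hom.toAlgebra
  haveI : IsLocalization.Away ((i.app U).hom b) Γ(Z, i ⁻¹ᵁ X.basicOpen b) :=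
    hU'.isLocalization_of_eq_basicOpen ((i.app U).hom b) (homOfLE hle)
      (Scheme.preimage_basicOpen i b)
  have hcomm : (i.app (X.basicOpen b)).hom.comp (algebraMap Γ(X, U) Γ(X, X.basicOpen b)) =
      (algebraMap Γ(Z, i ⁻¹ᵁ U) Γ(Z, i ⁻¹ᵁ X.basicOpen b)).comp (i.app U).hom := by
    have := i.naturality (homOfLE (X.basicOpen_le b)).op
    exact congrArg CommRingCat.Hom.hom this
  exact ker_loc (i.app U).hom (i.app (X.basicOpen b)).hom b hcomm

/-- points of the zero locus of the kernel lie in the image of a closed immersion -/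
lemma exists_preimage_of_ker_le (i : Z ⟶ X) {V : X.Opens} (hV : IsAffineOpen V)
    (hcl : IsClosedImmersion (i ∣_ V)) (𝔮 : PrimeSpectrum Γ(X, V))
    (h𝔮 : RingHom.ker (i.app V).hom ≤ 𝔮.asIdeal) : ∃ z : Z, i z = hV.fromSpec 𝔮 := by
  have hV' : IsAffineOpen (i ⁻¹ᵁ V) := isAffineOpen_preimage i hV hcl
  have hsurj : Function.Surjective (i.app V).hom := app_surjective i hV hcl
  haveI h𝔮' : (𝔮.asIdeal.map (i.app V).hom).IsPrime :=
    Ideal.map_isPrime_of_surjective hsurj h𝔮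
  let 𝔮' : PrimeSpectrum Γ(Z, i ⁻¹ᵁ V) := ⟨𝔮.asIdeal.map (i.app V).hom, h𝔮'⟩
  refine ⟨hV'.fromSpec 𝔮', ?_⟩
  have h1 := IsAffineOpen.SpecMap_appLE_fromSpec i hV hV' le_rfl
  have h2 := congrArg (fun φ => φ.base 𝔮') h1
  simp only [Scheme.Hom.comp_base, TopCat.comp_app] at h2
  rw [← h2]
  congr 1
  rw [Scheme.Hom.appLE_eq_app]
  apply PrimeSpectrum.ext
  show (𝔮.asIdeal.map (i.app V).hom).comap (i.app V).hom = 𝔮.asIdeal
  rw [Ideal.comap_map_of_surjective _ hsurj, sup_eq_left]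
  exact h𝔮


/-- for a Koszul-regular immersion, the kernel on any affine open over which it is a closed
immersion is a Koszul-regular ideal -/
theorem kregIdeal_ker_of_regImm (i : Z ⟶ X) (hi : RegImm.IsRegularImmersion .koszul i)
    {V : X.Opens} (hV : IsAffineOpen V) (hcl : IsClosedImmersion (i ∣_ V)) :
    LCI.IsKoszulRegularIdeal (RingHom.ker (i.app V).hom) := by
  apply kregIdeal_intro
  intro 𝔮 h𝔮
  obtain ⟨z, hz⟩ := exists_preimage_of_ker_le i hV hcl 𝔮 h𝔮
  have hxV : hV.fromSpec 𝔮 ∈ V := by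
    have : hV.fromSpec 𝔮 ∈ Set.range hV.fromSpec := ⟨𝔮, rfl⟩
    rw [hV.range_fromSpec] at this
    exact this
  obtain ⟨U', hzU', hclU', rs, hrs, hker⟩ := hi.2 z
  rw [hz] at hzU'
  obtain ⟨b', c, hbc, hxb⟩ := exists_basicOpen_le_affine_inter U'.2 hV (hV.fromSpec 𝔮)
    ⟨hzU', hxV⟩
  have hPK : PK i (X.basicOpen b') rs.length :=
    PK.basicOpen U'.2 ⟨hclU', rs, rfl, hrs, hker⟩ b'
  have key : ∃ rs' : List Γ(X, X.basicOpen c), LCI.IsKoszulRegularSeq Γ(X, X.basicOpen c) rs' ∧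
      RingHom.ker (i.app (X.basicOpen c)).hom = Ideal.ofList rs' := by
    rw [← hbc]
    obtain ⟨-, rs', -, hrs', hker'⟩ := hPK
    exact ⟨rs', hrs', hker'⟩
  obtain ⟨rs', hrs', hker'⟩ := key
  have hc : c ∉ 𝔮.asIdeal := by
    rw [hbc] at hxb
    have : 𝔮 ∈ (hV.fromSpec ⁻¹ᵁ X.basicOpen c : (Spec Γ(X, V)).Opens) := hxb
    rw [hV.fromSpec_preimage_basicOpen] at this
    exact this
  refine ⟨c, hc, Γ(X, X.basicOpen c), inferInstance, inferInstance,
    hV.isLocalization_basicOpen c, rs', hrs', ?_⟩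
  rw [← ker_basicOpen i hV hcl c, hker']


/-- base change of a closed immersion over affine opens: closedness and the kernel -/
theorem closedImm_and_ker_of_isPullback {X Y X' Y' : Scheme.{u}} (i : Y ⟶ X) (g : X' ⟶ X)
    (i' : Y' ⟶ X') (g' : Y' ⟶ Y) (hsq : IsPullback g' i' i g) {U : X.Opens}
    (hU : IsAffineOpen U) (hcl : IsClosedImmersion (i ∣_ U)) {V : X'.Opens}
    (hV : IsAffineOpen V) (hVU : V ≤ g ⁻¹ᵁ U) :
    IsClosedImmersion (i' ∣_ V) ∧
      RingHom.ker (i'.app V).hom = (RingHom.ker (i.app U).hom).map (g.appLE U V hVU).hom := by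
  have hUY : i' ⁻¹ᵁ V = g' ⁻¹ᵁ (i ⁻¹ᵁ U) ⊓ i' ⁻¹ᵁ V := by
    apply le_antisymm
    · apply le_inf _ le_rfl
      intro y hy
      show i (g' y) ∈ U
      have h1 : g (i' y) ∈ U := hVU hy
      have hw : i (g' y) = g (i' y) := by
        have := congrArg (fun φ => φ.base y) hsq.w
        simpa using this
      rw [hw]; exact h1
    · exact inf_le_right
  have hUaff : IsAffineOpen (i ⁻¹ᵁ U) := isAffineOpen_preimage i hU hcl
  have hpb := Scheme.Hom.isPullback_resLE hsq hVU (le_refl (i ⁻¹ᵁ U)) hUY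
  constructor
  · have h1 : IsClosedImmersion (i.resLE U (i ⁻¹ᵁ U) le_rfl) := by
      rw [Scheme.Hom.resLE_eq_morphismRestrict]; exact hcl
    have h2 := MorphismProperty.of_isPullback (P := @IsClosedImmersion) hpb h1
    rwa [Scheme.Hom.resLE_eq_morphismRestrict] at h2
  · have hpo := (isIso_pushoutSection_iff hsq hVU le_rfl hUY).mp
      (isIso_pushoutSection_of_isAffineOpen hsq hVU le_rfl hUY hU hV hUaff)
    have hs : Function.Surjective (i.appLE U (i ⁻¹ᵁ U) le_rfl).hom := by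
      rw [Scheme.Hom.appLE_eq_app]; exact app_surjective i hU hcl
    have := ker_of_isPushout _ _ _ _ hpo hs
    rwa [Scheme.Hom.appLE_eq_app, Scheme.Hom.appLE_eq_app] at this


/-- descent of Koszul-regular ideals along a finite jointly surjective flat family -/
theorem kregIdeal_of_flat_family {P : Type u} [CommRing P] (I : Ideal P) (m : ℕ)
    (Q : Fin m → Type u) [∀ j, CommRing (Q j)] [∀ j, Algebra P (Q j)]
    [∀ j, Module.Flat P (Q j)]
    (hsurj : ∀ p : PrimeSpectrum P, ∃ j,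
      p ∈ Set.range (PrimeSpectrum.comap (algebraMap P (Q j))))
    (h : ∀ j, LCI.IsKoszulRegularIdeal (I.map (algebraMap P (Q j)))) :
    LCI.IsKoszulRegularIdeal I := by
  haveI := faithfullyFlat_pi Q hsurj
  exact kregIdeal_of_faithfullyFlat (B := ∀ j, Q j) I (kregIdeal_map_pi Q I h)

/-- finite affine cover of the preimage of an affine open under a surjective quasi-compact
morphism, jointly surjective on spectra -/
theorem exists_finite_affine_cover_preimage {X X' : Scheme.{u}} (g : X' ⟶ X) [Surjective g]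
    [QuasiCompact g] {U : X.Opens} (hU : IsAffineOpen U) :
    ∃ (m : ℕ) (e : Fin m → X'.affineOpens) (hle : ∀ j, (e j).1 ≤ g ⁻¹ᵁ U),
      ∀ p : PrimeSpectrum Γ(X, U), ∃ j,
        p ∈ Set.range (PrimeSpectrum.comap (g.appLE U (e j).1 (hle j)).hom) := by
  have hcpt : IsCompact ((g ⁻¹ᵁ U : X'.Opens) : Set X') := g.isCompact_preimage hU.isCompact
  obtain ⟨s, hsfin, hs⟩ := (isCompact_and_isOpen_iff_finite_and_eq_biUnion_affineOpens).mp
    ⟨hcpt, (g ⁻¹ᵁ U).isOpen⟩
  obtain ⟨m, e, he⟩ := hsfin.fin_embedding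
  have hle : ∀ j, (e j).1 ≤ g ⁻¹ᵁ U := by
    intro j x hx
    have : x ∈ ((g ⁻¹ᵁ U : X'.Opens) : Set X') := by
      rw [hs]
      exact Set.mem_biUnion (he ▸ Set.mem_range_self j) hx
    exact this
  refine ⟨m, e, hle, ?_⟩
  intro p
  obtain ⟨s', hs'⟩ := g.surjective (hU.fromSpec p)
  have hs'V : s' ∈ ((g ⁻¹ᵁ U : X'.Opens) : Set X') := by
    show g s' ∈ U
    rw [hs']
    have : hU.fromSpec p ∈ Set.range hU.fromSpec := ⟨p, rfl⟩
    rw [hU.range_fromSpec] at this
    exact this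
  rw [hs] at hs'V
  obtain ⟨i, his, hi⟩ := Set.mem_iUnion₂.mp hs'V
  obtain ⟨j, rfl⟩ : ∃ j, e j = i := by rw [← he] at his; exact his
  refine ⟨j, (e j).2.primeIdealOf ⟨s', hi⟩, ?_⟩
  apply hU.fromSpec.isOpenEmbedding.injective
  have h1 := IsAffineOpen.SpecMap_appLE_fromSpec g hU (e j).2 (hle j)
  have h2 := congrArg (fun φ => φ.base ((e j).2.primeIdealOf ⟨s', hi⟩)) h1
  simp only [Scheme.Hom.comp_base, TopCat.comp_app] at h2
  rw [(e j).2.fromSpec_primeIdealOf ⟨s', hi⟩] at h2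
  exact h2.trans hs'

/-- **fpqc descent of Koszul-regular immersions.** -/
theorem regImm_descent {X Y X' Y' : Scheme.{u}} (i : Y ⟶ X) [IsImmersion i]
    (g : X' ⟶ X) [Flat g] [Surjective g] [QuasiCompact g]
    (i' : Y' ⟶ X') (g' : Y' ⟶ Y) (hsq : IsPullback g' i' i g)
    (hi' : RegImm.IsRegularImmersion .koszul i') : RegImm.IsRegularImmersion .koszul i := by
  refine ⟨inferInstance, fun z => ?_⟩
  obtain ⟨U₀, hU₀, hzU₀, hcl⟩ :=
    Groth.Agent.H9.exists_affine_isClosedImmersion_restrict i z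
  -- the kernel is a Koszul-regular ideal
  have hK : LCI.IsKoszulRegularIdeal (RingHom.ker (i.app U₀).hom) := by
    obtain ⟨m, e, hle, hsurj⟩ := exists_finite_affine_cover_preimage g hU₀
    letI : ∀ j, Algebra Γ(X, U₀) Γ(X', (e j).1) :=
      fun j => (g.appLE U₀ (e j).1 (hle j)).hom.toAlgebra
    haveI : ∀ j, Module.Flat Γ(X, U₀) Γ(X', (e j).1) := fun j => g.flat_appLE hU₀ (e j).2 _
    apply kregIdeal_of_flat_family _ m (fun j => Γ(X', (e j).1)) hsurj
    intro j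
    obtain ⟨hcl', hker'⟩ :=
      closedImm_and_ker_of_isPullback i g i' g' hsq hU₀ hcl (e j).2 (hle j)
    show LCI.IsKoszulRegularIdeal
      ((RingHom.ker (i.app U₀).hom).map (g.appLE U₀ (e j).1 (hle j)).hom)
    rw [← hker']
    exact kregIdeal_ker_of_regImm i' hi' (e j).2 hcl'
  -- the prime of the point
  set 𝔭 := hU₀.primeIdealOf ⟨i z, hzU₀⟩ with h𝔭
  have hfs : hU₀.fromSpec 𝔭 = i z := hU₀.fromSpec_primeIdealOf ⟨i z, hzU₀⟩
  have hmem : ∀ a : Γ(X, U₀), a ∉ 𝔭.asIdeal ↔ i z ∈ X.basicOpen a := by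
    intro a
    rw [← hfs]
    have : (hU₀.fromSpec ⁻¹ᵁ X.basicOpen a : (Spec Γ(X, U₀)).Opens) =
        PrimeSpectrum.basicOpen a := hU₀.fromSpec_preimage_basicOpen a
    constructor
    · intro ha
      show 𝔭 ∈ (hU₀.fromSpec ⁻¹ᵁ X.basicOpen a : (Spec Γ(X, U₀)).Opens)
      rw [this]; exact ha
    · intro ha
      have h2 : 𝔭 ∈ (hU₀.fromSpec ⁻¹ᵁ X.basicOpen a : (Spec Γ(X, U₀)).Opens) := ha
      rw [this] at h2; exact h2
  have h𝔭le : RingHom.ker (i.app U₀).hom ≤ 𝔭.asIdeal := by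
    intro a ha
    by_contra hna
    have h1 : i z ∈ X.basicOpen a := (hmem a).mp hna
    have h2 : z ∈ i ⁻¹ᵁ X.basicOpen a := h1
    rw [Scheme.preimage_basicOpen, RingHom.mem_ker.mp ha, Scheme.basicOpen_zero] at h2
    exact h2
  obtain ⟨b, hb, l, hl, hspan⟩ := hK 𝔭 h𝔭le
  refine ⟨⟨X.basicOpen b, hU₀.basicOpen b⟩, (hmem b).mp hb, closedImm_basicOpen i hcl b, ?_⟩
  haveI : IsLocalization.Away b Γ(X, X.basicOpen b) := hU₀.isLocalization_basicOpen b
  let ε : Localization.Away b ≃ₐ[Γ(X, U₀)] Γ(X, X.basicOpen b) :=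
    IsLocalization.algEquiv (Submonoid.powers b) _ _
  refine ⟨l.map ε.toRingEquiv, kreg_ringEquiv ε.toRingEquiv l hl, ?_⟩
  show RingHom.ker (i.app (X.basicOpen b)).hom = _
  rw [ker_basicOpen i hU₀ hcl b]
  have h3 : algebraMap Γ(X, U₀) Γ(X, X.basicOpen b) =
      (ε.toRingEquiv : _ →+* _).comp (algebraMap Γ(X, U₀) (Localization.Away b)) := by
    ext a
    exact (ε.commutes a).symm
  rw [h3, ← Ideal.map_map, hspan, span_list_map]
  rfl

end Groth.Agent.H59.RegImmDesc
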