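import Groth.Agent.H59.KoszSame

/-!
# Flat base change for Koszul complexes (elementwise)
-/

universe u
open CategoryTheory CochainComplex HomologicalComplex Limits TensorProduct

namespace Groth.Agent.H59.Kosz

variable {A B : Type u} [CommRing A] [CommRing B] [Algebra A B]

/-- `L` is degreewise the base change of `K`, compatibly with the differentials -/
structure BC (K : Cx A) (L : Cx B) where
  e : ∀ n, B ⊗[A] K.X n ≃ₗ[B] L.X n
  comm : ∀ i j (b : B) (x : K.X i), e j (b ⊗ₜ[A] K.d i j x) = L.d i j (e i (b ⊗ₜ[A] x))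

namespace BC

variable {K : Cx A} {L : Cx B}

lemma comm' (s : BC K L) (i j : ℤ) (t : B ⊗[A] K.X i) :
    s.e j ((K.d i j).hom.lTensor B t) = L.d i j (s.e i t) := by
  induction t with
  | zero => simp
  | tmul b x => rw [LinearMap.lTensor_tmul]; exact s.comm i j b x
  | add t₁ t₂ h₁ h₂ => rw [map_add, map_add, h₁, h₂, map_add, map_add]

lemma exact_of_ex {n : ℤ} (h : Ex K n) (i k : ℤ) (hi : i + 1 = n) (hk : n + 1 = k) :
    Function.Exact (K.d i n).hom (K.d n k).hom := by
  intro x
  constructor
  · intro hx
    obtain ⟨w, hw⟩ := h i k hi hk x hx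
    exact ⟨w, hw⟩
  · rintro ⟨w, rfl⟩
    have h0 : K.d i n ≫ K.d n k = 0 := K.d_comp_d i n k
    have h2 : (ConcreteCategory.hom (K.d i n ≫ K.d n k)) w = 0 := by rw [h0]; rfl
    exact h2

lemma ex_of_exact {n : ℤ}
    (h : ∀ (i k : ℤ), i + 1 = n → n + 1 = k → Function.Exact (K.d i n).hom (K.d n k).hom) :
    Ex K n := by
  intro i k hi hk x hx
  obtain ⟨w, hw⟩ := (h i k hi hk x).mp hx
  exact ⟨w, hw⟩

/-- flat base change preserves exactness -/
lemma ex [Module.Flat A B] (s : BC K L) {n : ℤ} (h : Ex K n) : Ex L n := by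
  intro i k hi hk x hx
  have hex := Module.Flat.lTensor_exact B (exact_of_ex h i k hi hk)
  have h1 : (K.d n k).hom.lTensor B ((s.e n).symm x) = 0 := by
    apply (s.e k).injective
    rw [s.comm', LinearEquiv.apply_symm_apply, hx, map_zero]
  obtain ⟨t, ht⟩ := (hex _).mp h1
  refine ⟨s.e i t, ?_⟩
  rw [← s.comm', ht, LinearEquiv.apply_symm_apply]

/-- faithfully flat base change reflects exactness -/
lemma ex_symm [Module.FaithfullyFlat A B] (s : BC K L) {n : ℤ} (h : Ex L n) : Ex K n := by
  apply ex_of_exact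
  intro i k hi hk
  rw [← Module.FaithfullyFlat.lTensor_exact_iff_exact A B]
  intro t
  constructor
  · intro ht
    have h1 : L.d n k (s.e n t) = 0 := by rw [← s.comm', ht, map_zero]
    obtain ⟨w, hw⟩ := h i k hi hk _ h1
    refine ⟨(s.e i).symm w, ?_⟩
    apply (s.e n).injective
    rw [s.comm', LinearEquiv.apply_symm_apply, hw]
  · rintro ⟨w, rfl⟩
    apply (s.e k).injective
    rw [s.comm', s.comm', map_zero]
    have h0 : L.d i n ≫ L.d n k = 0 := L.d_comp_d i n k
    have h2 : (ConcreteCategory.hom (L.d i n ≫ L.d n k)) (s.e i w) = 0 := by rw [h0]; rfl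
    exact h2

end BC

section cone

variable {K : Cx A} {L : Cx B}

/-- the base change equivalence on cones -/
noncomputable def coneBCe (s : BC K L) (a : A) (n : ℤ) :
    B ⊗[A] (mappingCone (a • 𝟙 K)).X n ≃ₗ[B] (mappingCone (algebraMap A B a • 𝟙 L)).X n :=
  (TensorProduct.AlgebraTensorModule.congr (LinearEquiv.refl B B)
      (coneEquiv a K (n+1) n rfl)).trans
    ((TensorProduct.prodRight A B B (K.X (n+1)) (K.X n)).trans
      ((LinearEquiv.prodCongr (s.e (n+1)) (s.e n)).trans
        (coneEquiv (algebraMap A B a) L (n+1) n rfl).symm))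

lemma coneBCe_tmul (s : BC K L) (a : A) (n : ℤ) (b : B) (z : (mappingCone (a • 𝟙 K)).X n) :
    coneBCe s a n (b ⊗ₜ[A] z) =
      mkC (algebraMap A B a) L (n+1) n rfl
        (s.e (n+1) (b ⊗ₜ[A] (mappingCone.fst (a • 𝟙 K)).1.v n (n+1) rfl z))
        (s.e n (b ⊗ₜ[A] (mappingCone.snd (a • 𝟙 K)).v n n (add_zero n) z)) := by
  simp [coneBCe, mkC, coneEquiv_apply]

/-- cone of a base change -/
noncomputable def BC.cone (s : BC K L) (a : A) :
    BC (mappingCone (a • 𝟙 K)) (mappingCone (algebraMap A B a • 𝟙 L)) where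
  e n := coneBCe s a n
  comm i j b z := by
    by_cases hij : i + 1 = j
    · subst hij
      rw [coneBCe_tmul, coneBCe_tmul, d_mkC (algebraMap A B a) L (i+1) i (i+1+1) rfl rfl]
      rw [d_fst_apply a K i (i+1) (i+1+1) rfl rfl, d_snd_apply a K i (i+1) rfl]
      congr 1
      · rw [tmul_neg, map_neg, s.comm]
      · rw [tmul_add, map_add, s.comm, tmul_smul, ← algebraMap_smul B a, map_smul]
    · rw [HomologicalComplex.shape _ i j hij, HomologicalComplex.shape _ i j hij]
      simp

/-- iterated cones of a base change -/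
noncomputable def BC.kz (s : BC K L) : ∀ l : List A, BC (kz K l) (Kosz.kz L (l.map (algebraMap A B)))
  | [] => s
  | a :: l => (BC.kz s l).cone a

end cone

section base

variable (A B)

/-- the base change datum for the rings themselves, in degree `n` -/
noncomputable def sglBCe (n : ℤ) :
    B ⊗[A] (sgl (ModuleCat.of A A)).X n ≃ₗ[B] (sgl (ModuleCat.of B B)).X n :=
  if h : n = 0 then by
    subst h
    exact (TensorProduct.AlgebraTensorModule.congr (LinearEquiv.refl B B)
      (HomologicalComplex.singleObjXSelf (ComplexShape.up ℤ) 0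
        (ModuleCat.of A A)).toLinearEquiv).trans
      ((TensorProduct.AlgebraTensorModule.rid A B B).trans
        (HomologicalComplex.singleObjXSelf (ComplexShape.up ℤ) 0
          (ModuleCat.of B B)).toLinearEquiv.symm)
  else by
    haveI : Subsingleton ((sgl (ModuleCat.of A A)).X n) := ModuleCat.subsingleton_of_isZero
      (HomologicalComplex.isZero_single_obj_X (ComplexShape.up ℤ) 0 _ n h)
    haveI : Subsingleton ((sgl (ModuleCat.of B B)).X n) := ModuleCat.subsingleton_of_isZero
      (HomologicalComplex.isZero_single_obj_X (ComplexShape.up ℤ) 0 _ n h)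
    haveI : Subsingleton (B ⊗[A] (sgl (ModuleCat.of A A)).X n) := by
      refine ⟨fun x y => ?_⟩
      have h0 : ∀ t : B ⊗[A] (sgl (ModuleCat.of A A)).X n, t = 0 := by
        intro t
        induction t with
        | zero => rfl
        | tmul b x => rw [Subsingleton.elim x 0, tmul_zero]
        | add t₁ t₂ h₁ h₂ => rw [h₁, h₂, add_zero]
      rw [h0 x, h0 y]
    exact
      { toFun := fun _ => 0
        invFun := fun _ => 0
        map_add' := fun _ _ => by simp
        map_smul' := fun _ _ => by simp
        left_inv := fun _ => Subsingleton.elim _ _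
        right_inv := fun _ => Subsingleton.elim _ _ }

/-- the base change datum for the rings themselves -/
noncomputable def sglBC : BC (sgl (ModuleCat.of A A)) (sgl (ModuleCat.of B B)) where
  e n := sglBCe A B n
  comm i j b x := by
    rw [HomologicalComplex.single_obj_d, HomologicalComplex.single_obj_d]
    simp

end base

/-- Koszul-regular sequences are preserved by flat base change. -/
theorem isKoszulRegularSeq_of_flat [Module.Flat A B] (l : List A)
    (hl : LCI.IsKoszulRegularSeq A l) :
    LCI.IsKoszulRegularSeq B (l.map (algebraMap A B)) := by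
  rw [kreg_iff] at hl ⊢
  intro n hn
  exact ((sglBC A B).kz l).ex (hl n hn)

/-- Koszul-regular sequences descend along faithfully flat maps. -/
theorem isKoszulRegularSeq_of_faithfullyFlat [Module.FaithfullyFlat A B] (l : List A)
    (hl : LCI.IsKoszulRegularSeq B (l.map (algebraMap A B))) :
    LCI.IsKoszulRegularSeq A l := by
  rw [kreg_iff] at hl ⊢
  intro n hn
  exact ((sglBC A B).kz l).ex_symm (hl n hn)

end Groth.Agent.H59.Kosz
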