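import Groth.Agent.H59.KRegLoc

/-!
# Local complete intersection algebras: locality on the target
-/

universe u

namespace Groth.Agent.H59.Kosz

open MvPolynomial in
/-- from an LCI algebra structure to `KR` of any finite presentation -/
theorem KR_of_isLCI {A B : Type u} [CommRing A] [CommRing B] [Algebra A B] (h : LCI.IsLCI A B)
    {τ : Type} [Finite τ] (b : τ → B) (hb : Function.Surjective (aeval (R := A) b)) :
    KR (A := A) b := by
  obtain ⟨-, n', f', hf', hK'⟩ := h
  have ef : f' = aeval (fun i => f' (X i)) := aeval_unique f'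
  have hf'' : Function.Surjective (aeval (R := A) (fun i => f' (X i))) := by rw [← ef]; exact hf'
  have h1 : KR (A := A) (fun i => f' (X i)) := by unfold KR; rw [← ef]; exact hK'
  have h2 := KR_sum_of_left τ (Fin n') _ b hf'' h1
  exact KR_right_of_sum (Fin n') τ _ b hb h2

set_option maxHeartbeats 1600000 in
/-- **LCI is local on the target.** -/
theorem isLCI_of_localization_span (R S : Type u) [CommRing R] [CommRing S] [Algebra R S]
    (m : ℕ) (g : Fin m → S) (hg : Ideal.span (Set.range g) = ⊤)
    (h : ∀ j, LCI.IsLCI R (Localization.Away (g j))) : LCI.IsLCI R S := by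
  have hft : Algebra.FiniteType R S := by
    rw [← RingHom.finiteType_algebraMap]
    apply RingHom.finiteType_ofLocalizationSpanTarget (algebraMap R S) (Set.range g) hg
    rintro ⟨_, j, rfl⟩
    have := (h j).1
    rw [← RingHom.finiteType_algebraMap] at this
    rwa [IsScalarTower.algebraMap_eq R S (Localization.Away (g j))] at this
  obtain ⟨n, α, hα⟩ := Algebra.FiniteType.iff_quotient_mvPolynomial''.mp hft
  refine ⟨hft, n, α, hα, ?_⟩
  apply kregIdeal_intro
  intro 𝔭 h𝔭
  haveI h𝔭' : (𝔭.asIdeal.map α.toRingHom).IsPrime :=
    Ideal.map_isPrime_of_surjective (f := α.toRingHom) hα h𝔭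
  have hex : ∃ j, g j ∉ 𝔭.asIdeal.map α.toRingHom := by
    by_contra hcon
    push Not at hcon
    have : Ideal.span (Set.range g) ≤ 𝔭.asIdeal.map α.toRingHom := by
      rw [Ideal.span_le]
      rintro _ ⟨j, rfl⟩
      exact hcon j
    rw [hg] at this
    exact (Ideal.IsPrime.ne_top h𝔭') (top_le_iff.mp this)
  obtain ⟨j, hj⟩ := hex
  obtain ⟨G, hGj⟩ := hα (g j)
  have hG : G ∉ 𝔭.asIdeal := by
    intro hmem
    apply hj
    rw [← hGj]
    exact Ideal.mem_map_of_mem _ hmem
  -- the localization
  let Q := Localization.Away (g j)
  haveI hQ : IsLocalization.Away (α.toRingHom G) Q := by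
    have : α.toRingHom G = g j := hGj
    rw [this]; infer_instance
  haveI : IsLocalization (Submonoid.map α.toRingHom (Submonoid.powers G)) Q := by
    rw [Submonoid.map_powers]; exact hQ
  let ᾱ : Localization.Away G →+* Q := IsLocalization.map Q α.toRingHom
    ((Submonoid.map_powers α.toRingHom G).symm ▸ (Submonoid.powers G).le_comap_map)
  have hᾱs : Function.Surjective ᾱ :=
    IsLocalization.map_surjective_of_surjective (Submonoid.powers G) (Localization.Away G) Q hα
  -- the presentation of Q with one more variable
  let δ : Polynomial (MvPolynomial (Fin n) R) →+* Q := ᾱ.comp (piG G)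
  have hδs : Function.Surjective δ := hᾱs.comp (piG_surjective G)
  let b : Option (Fin n) → Q := fun o =>
    Option.elim o (δ Polynomial.X) (fun i => δ (Polynomial.C (MvPolynomial.X i)))
  have hb : (MvPolynomial.aeval (R := R) b).toRingHom =
      δ.comp ((MvPolynomial.optionEquivLeft R (Fin n)).toRingEquiv : _ →+* _) := by
    apply MvPolynomial.ringHom_ext
    · intro r
      have e1 : (MvPolynomial.optionEquivLeft R (Fin n)) (MvPolynomial.C r) =
          Polynomial.C (MvPolynomial.C r) := MvPolynomial.optionEquivLeft_C R (Fin n) r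
      have e2 : δ (Polynomial.C (MvPolynomial.C r)) = algebraMap R Q r := by
        show ᾱ (piG G (Polynomial.C (MvPolynomial.C r))) = _
        rw [piG_C, IsLocalization.map_eq]
        have : α.toRingHom (MvPolynomial.C r) = algebraMap R S r := α.commutes r
        rw [this, ← IsScalarTower.algebraMap_apply]
      simp only [AlgHom.toRingHom_eq_coe, RingHom.coe_coe, MvPolynomial.aeval_C,
        RingHom.comp_apply]
      erw [e1, e2]
    · intro i
      cases i with
      | none =>
        have e1 : (MvPolynomial.optionEquivLeft R (Fin n)) (MvPolynomial.X none) =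
          Polynomial.X := MvPolynomial.optionEquivLeft_X_none R (Fin n)
        simp only [AlgHom.toRingHom_eq_coe, RingHom.coe_coe, MvPolynomial.aeval_X,
          RingHom.comp_apply]
        erw [e1]
        rfl
      | some i =>
        have e1 : (MvPolynomial.optionEquivLeft R (Fin n)) (MvPolynomial.X (some i)) =
          Polynomial.C (MvPolynomial.X i) := MvPolynomial.optionEquivLeft_X_some R (Fin n) i
        simp only [AlgHom.toRingHom_eq_coe, RingHom.coe_coe, MvPolynomial.aeval_X,
          RingHom.comp_apply]
        erw [e1]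
        rfl
  have hbs : Function.Surjective (MvPolynomial.aeval (R := R) b) := by
    have : Function.Surjective (MvPolynomial.aeval (R := R) b).toRingHom := by
      rw [hb]
      exact hδs.comp (MvPolynomial.optionEquivLeft R (Fin n)).surjective
    exact this
  have hKR : KR (A := R) b := KR_of_isLCI (h j) b hbs
  have hK : LCI.IsKoszulRegularIdeal (RingHom.ker δ) := by
    unfold KR at hKR
    rw [hb, ← RingHom.comap_ker, kregIdeal_comap_ringEquiv_iff] at hKR
    exact hKR
  have key := kregIdeal_map_away α.toRingHom hα G Q ᾱ rfl hK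
  exact kregIdeal_at_of_away _ G key 𝔭 h𝔭 hG

end Groth.Agent.H59.Kosz
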