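import Groth.Agent.H59.KoszSL
import Groth.Agent.H59.KoszBridge
import Groth.Prelude.Def_LCI2

/-!
# Koszul-regular sequences: independence of the generators of the same length
-/

universe u
open CategoryTheory CochainComplex HomologicalComplex Limits
open scoped Pointwise

namespace Groth.Agent.H59.Kosz

variable {A : Type u} [CommRing A]

/-- exactness in all degrees below `N` -/
def ExBelow (K : Cx A) (N : ℤ) : Prop := ∀ n : ℤ, n < N → Ex K n

lemma exBelow_cone {K : Cx A} {N : ℤ} (h : ExBelow K N) (f : A) :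
    ExBelow (mappingCone (f • 𝟙 K)) (N - 1) := fun n hn =>
  ex_cone f K (h n (by omega)) (h (n+1) (by omega))

lemma exBelow_kz {K : Cx A} {N : ℤ} (h : ExBelow K N) (l : List A) :
    ExBelow (kz K l) (N - l.length) := by
  induction l with
  | nil =>
    simp only [List.length_nil, Nat.cast_zero, sub_zero]; exact h
  | cons f l ih =>
    have := exBelow_cone ih f
    intro n hn
    apply this
    simp only [List.length_cons, Nat.cast_add, Nat.cast_one] at hn
    omega

lemma exBelow_of_cone {K : Cx A} {N : ℤ} {f : A} (hf : NH K f)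
    (h : ExBelow (mappingCone (f • 𝟙 K)) N) : ExBelow K (N + 1) := by
  intro n hn
  have := ex_of_cone_right f K (n := n - 1) (by
    have := hf.kills n
    rwa [show n - 1 + 1 = n by ring]) (h (n-1) (by omega))
  rwa [show n - 1 + 1 = n by ring] at this

lemma NH_kz {K : Cx A} {a : A} (ha : NH K a) (l : List A) : NH (kz K l) a := by
  induction l with
  | nil => exact ha
  | cons f l ih => exact NH_cone f _ ih

lemma exBelow_of_kz {K : Cx A} {N : ℤ} (l : List A) (hl : ∀ x ∈ l, NH K x)
    (h : ExBelow (kz K l) N) : ExBelow K (N + l.length) := by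
  induction l generalizing N with
  | nil =>
    simp only [List.length_nil, Nat.cast_zero, add_zero]; exact h
  | cons f l ih =>
    have h1 : ExBelow (kz K l) (N + 1) :=
      exBelow_of_cone (NH_kz (hl f (List.mem_cons_self)) l) h
    have h2 := ih (fun x hx => hl x (List.mem_cons_of_mem _ hx)) h1
    intro n hn
    apply h2
    simp only [List.length_cons, Nat.cast_add, Nat.cast_one] at hn
    omega

lemma SLE.exBelow {B : Type u} [CommRing B] {ρ : A →+* B} {K : Cx A} {L : Cx B}
    (s : SLE ρ K L) {N : ℤ} (h : ExBelow K N) : ExBelow L N := fun n hn => s.ex (h n hn)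

lemma SLE.exBelow_symm {B : Type u} [CommRing B] {ρ : A →+* B} {K : Cx A} {L : Cx B}
    (s : SLE ρ K L) {N : ℤ} (h : ExBelow L N) : ExBelow K N := fun n hn => s.ex_symm (h n hn)

/-- **Same length theorem**, general base complex: if `kz K₀ l` is exact below `N` and the list
`l'` has the same length as `l` and generates an ideal containing `l`, then `kz K₀ l'` is exact
below `N`. -/
theorem exBelow_of_same_length (K₀ : Cx A) (l l' : List A) (hlen : l.length = l'.length)
    (hsub : ∀ x ∈ l, x ∈ Ideal.span {y | y ∈ l'}) {N : ℤ} (h : ExBelow (kz K₀ l) N) :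
    ExBelow (kz K₀ l') N := by
  have h1 : ExBelow (kz (kz K₀ l) l') (N - l'.length) := exBelow_kz h l'
  rw [← kz_append] at h1
  obtain ⟨s⟩ := kz_perm K₀ (List.perm_append_comm (l₁ := l') (l₂ := l))
  have h2 : ExBelow (kz K₀ (l ++ l')) (N - l'.length) := s.exBelow h1
  rw [kz_append] at h2
  have h3 := exBelow_of_kz l (fun x hx => span_le_nhIdeal K₀ l' (hsub x hx)) h2
  intro n hn
  apply h3
  omega

/-- Koszul-regularity in terms of elementwise exactness in negative degrees -/
lemma kreg_iff (l : List A) :
    LCI.IsKoszulRegularSeq A l ↔ ExBelow (kz (sgl (ModuleCat.of A A)) l) 0 := by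
  unfold LCI.IsKoszulRegularSeq
  have key : ∀ n : ℤ, IsZero ((Koszul.koszul A l).homology n) ↔
      IsZero ((kz (sgl (ModuleCat.of A A)) l).homology n) := fun n =>
    Iso.isZero_iff ((HomologicalComplex.homologyFunctor (ModuleCat.{u} A)
      (ComplexShape.up ℤ) n).mapIso (eqToIso (koszul_eq l)))
  constructor
  · intro h n hn
    exact (ex_iff _ n).mpr ((key n).mp (h n (by omega)))
  · intro h n hn
    rw [key]
    rcases lt_or_gt_of_ne hn with h1 | h1
    · exact (ex_iff _ n).mp (h n h1)
    · rw [← HomologicalComplex.exactAt_iff_isZero_homology]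
      exact HomologicalComplex.ExactAt.of_isZero
        (isZero_kz_pos (ModuleCat.of A A) l n h1)

/-- **Same length theorem** for Koszul-regular sequences. -/
theorem isKoszulRegularSeq_of_same_length (l l' : List A) (hl : LCI.IsKoszulRegularSeq A l)
    (hlen : l.length = l'.length) (hsub : ∀ x ∈ l, x ∈ Ideal.span {y | y ∈ l'}) :
    LCI.IsKoszulRegularSeq A l' :=
  (kreg_iff l').mpr (exBelow_of_same_length _ l l' hlen hsub ((kreg_iff l).mp hl))

/-- Koszul-regularity is invariant under permutations. -/
theorem isKoszulRegularSeq_perm {l l' : List A} (h : l.Perm l') (hl : LCI.IsKoszulRegularSeq A l) :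
    LCI.IsKoszulRegularSeq A l' := by
  obtain ⟨s⟩ := kz_perm (sgl (ModuleCat.of A A)) h
  exact (kreg_iff l').mpr (s.exBelow ((kreg_iff l).mp hl))

/-- Adding an element which is regular modulo a Koszul-regular sequence. -/
theorem isKoszulRegularSeq_cons (u : A) (l : List A) (hl : LCI.IsKoszulRegularSeq A l)
    (hu : ∀ x : A, u * x ∈ Ideal.ofList l → x ∈ Ideal.ofList l) :
    LCI.IsKoszulRegularSeq A (u :: l) := by
  rw [kreg_iff] at hl ⊢
  intro n hn
  show Ex (mappingCone (u • 𝟙 (kz (sgl (ModuleCat.of A A)) l))) n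
  by_cases hn1 : n < -1
  · exact ex_cone u _ (hl n (by omega)) (hl (n+1) (by omega))
  · obtain rfl : n = -1 := by omega
    apply ex_cone_of_inj u _ (hl (-1) (by omega))
    intro x _ ⟨w, hw⟩
    obtain ⟨e, he⟩ := exists_top A l
    have h1 : e (u • x) ∈ Ideal.ofList l • (⊤ : Submodule A A) := by
      rw [← he]
      exact ⟨_, ⟨w, rfl⟩, by rw [← hw]; rfl⟩
    rw [map_smul, Ideal.smul_eq_mul, Ideal.mul_top, smul_eq_mul] at h1
    have h2 : e x ∈ Ideal.ofList l • (⊤ : Submodule A A) := by
      rw [Ideal.smul_eq_mul, Ideal.mul_top]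
      exact hu _ h1
    rw [← he] at h2
    obtain ⟨y, ⟨v, rfl⟩, hy⟩ := h2
    exact ⟨v, e.injective hy⟩

end Groth.Agent.H59.Kosz
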