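import Groth.Agent.H59.KRegExch

/-!
# Faithfully flat descent of Koszul-regular ideals
-/

universe u
open CategoryTheory CochainComplex HomologicalComplex Limits TensorProduct

namespace Groth.Agent.H59.Kosz

/-- passing from a basic open neighbourhood to the local ring -/
theorem kreg_atPrime_of_away {B : Type u} [CommRing B] (J : Ideal B) (q : Ideal B) [q.IsPrime]
    (h : B) (hq : h ∉ q) (l : List (Localization.Away h))
    (hl : LCI.IsKoszulRegularSeq (Localization.Away h) l)
    (hspan : J.map (algebraMap B (Localization.Away h)) = Ideal.span {x | x ∈ l}) :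
    ∃ l' : List (Localization.AtPrime q), l'.length = l.length ∧
      LCI.IsKoszulRegularSeq (Localization.AtPrime q) l' ∧
      J.map (algebraMap B (Localization.AtPrime q)) = Ideal.span {x | x ∈ l'} := by
  have hle : Submonoid.powers h ≤ q.primeCompl := Submonoid.powers_le.mpr hq
  letI : Algebra (Localization.Away h) (Localization.AtPrime q) :=
    IsLocalization.localizationAlgebraOfSubmonoidLe (Localization.Away h)
      (Localization.AtPrime q) (Submonoid.powers h) q.primeCompl hle
  haveI : IsScalarTower B (Localization.Away h) (Localization.AtPrime q) :=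
    IsLocalization.localization_isScalarTower_of_submonoid_le (Localization.Away h)
      (Localization.AtPrime q) (Submonoid.powers h) q.primeCompl hle
  haveI : IsLocalization (q.primeCompl.map (algebraMap B (Localization.Away h)))
      (Localization.AtPrime q) :=
    IsLocalization.isLocalization_of_submonoid_le (Localization.Away h)
      (Localization.AtPrime q) (Submonoid.powers h) q.primeCompl hle
  haveI : Module.Flat (Localization.Away h) (Localization.AtPrime q) :=
    IsLocalization.flat _ (q.primeCompl.map (algebraMap B (Localization.Away h)))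
  refine ⟨l.map (algebraMap _ _), by simp, isKoszulRegularSeq_of_flat l hl, ?_⟩
  rw [IsScalarTower.algebraMap_eq B (Localization.Away h) (Localization.AtPrime q),
    ← Ideal.map_map, hspan, span_list_map]

/-- clearing denominators for a finitely generated ideal -/
lemma exists_mul_mem_of_map_le {P : Type u} [CommRing P] (p : Ideal P) [p.IsPrime]
    (I K : Ideal P) (hI : I.FG)
    (hIK : I.map (algebraMap P (Localization.AtPrime p)) ≤
      K.map (algebraMap P (Localization.AtPrime p))) :
    ∃ g : P, g ∉ p ∧ ∀ b ∈ I, g * b ∈ K := by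
  classical
  obtain ⟨F, hF⟩ := hI
  have hb : ∀ b ∈ F, ∃ s : P, s ∉ p ∧ s * b ∈ K := by
    intro b hbF
    have hbI : b ∈ I := hF ▸ Ideal.subset_span hbF
    have h1 := hIK (Ideal.mem_map_of_mem _ hbI)
    obtain ⟨⟨⟨c, hc⟩, ⟨s, hs⟩⟩, hx⟩ :=
      (IsLocalization.mem_map_algebraMap_iff p.primeCompl (Localization.AtPrime p)).mp h1
    simp only at hx
    rw [← map_mul] at hx
    obtain ⟨⟨t, ht⟩, ht'⟩ := (IsLocalization.eq_iff_exists p.primeCompl
      (Localization.AtPrime p)).mp hx
    simp only at ht'
    refine ⟨t * s, fun hm => (Ideal.IsPrime.mem_or_mem inferInstance hm).elim ht hs, ?_⟩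
    have : t * s * b = t * c := by rw [← ht']; ring
    rw [this]
    exact Ideal.mul_mem_left _ _ hc
  choose! ss hss hssb using hb
  refine ⟨∏ b ∈ F, ss b, ?_, ?_⟩
  · intro hmem
    obtain ⟨b, hbF, hb⟩ := (Ideal.IsPrime.prod_mem_iff).mp hmem
    exact hss b hbF hb
  · intro b hbI
    rw [← hF] at hbI
    refine Submodule.span_induction (p := fun b _ => (∏ b ∈ F, ss b) * b ∈ K)
      ?_ ?_ ?_ ?_ hbI
    · intro b hbF
      obtain ⟨c, hc⟩ := Finset.dvd_prod_of_mem ss hbF
      rw [hc, mul_comm (ss b) c, mul_assoc]
      exact Ideal.mul_mem_left _ _ (hssb b hbF)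
    · rw [mul_zero]; exact Ideal.zero_mem _
    · intro x y _ _ hx hy
      rw [mul_add]; exact Ideal.add_mem _ hx hy
    · intro c x _ hx
      rw [smul_eq_mul, mul_left_comm]; exact Ideal.mul_mem_left _ _ hx

lemma exists_list_preimage {A B' : Type u} [CommRing A] [CommRing B'] (φ : A →+* B') (I : Ideal A)
    (a' : List B') (h : ∀ x ∈ a', x ∈ φ '' (I : Set A)) :
    ∃ a : List A, (∀ y ∈ a, y ∈ I) ∧ a.map φ = a' := by
  induction a' with
  | nil => exact ⟨[], by simp, rfl⟩
  | cons x a' ih =>
    obtain ⟨a, ha, hmap⟩ := ih (fun y hy => h y (List.mem_cons_of_mem _ hy))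
    obtain ⟨y, hy, rfl⟩ := h x List.mem_cons_self
    refine ⟨y :: a, ?_, by simp [hmap]⟩
    intro z hz
    rcases List.mem_cons.mp hz with rfl | hz
    · exact hy
    · exact ha z hz

section descent

variable {A B : Type u} [CommRing A] [CommRing B] [Algebra A B] [Module.Flat A B]

/-- the local homomorphism `A_p → B_q` for `p = q ∩ A` is faithfully flat -/
lemma faithfullyFlat_localRingHom (q : Ideal B) [q.IsPrime] :
    letI : Algebra (Localization.AtPrime (q.comap (algebraMap A B))) (Localization.AtPrime q) :=
      (Localization.localRingHom (q.comap (algebraMap A B)) q (algebraMap A B) rfl).toAlgebra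
    Module.FaithfullyFlat (Localization.AtPrime (q.comap (algebraMap A B)))
      (Localization.AtPrime q) := by
  letI : Algebra (Localization.AtPrime (q.comap (algebraMap A B))) (Localization.AtPrime q) :=
    (Localization.localRingHom (q.comap (algebraMap A B)) q (algebraMap A B) rfl).toAlgebra
  haveI : Module.Flat (Localization.AtPrime (q.comap (algebraMap A B))) (Localization.AtPrime q) :=
    RingHom.Flat.localRingHom (f := algebraMap A B) (RingHom.flat_algebraMap_iff.mpr inferInstance)
      q (q.comap (algebraMap A B)) rfl
  haveI : IsLocalHom (algebraMap (Localization.AtPrime (q.comap (algebraMap A B)))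
      (Localization.AtPrime q)) :=
    Localization.isLocalHom_localRingHom (q.comap (algebraMap A B)) q (algebraMap A B) rfl
  exact Module.FaithfullyFlat.of_flat_of_isLocalHom

/-- **Generators descend**: if `IB_q` is generated by `n` elements, then `I` is generated near
`p = q ∩ A` by `n` elements of `I`. -/
theorem exists_generators_of_atPrime (I : Ideal A) (hI : I.FG) (q : Ideal B) [q.IsPrime]
    (l' : List (Localization.AtPrime q))
    (hspan : (I.map (algebraMap A B)).map (algebraMap B (Localization.AtPrime q)) =
      Ideal.span {x | x ∈ l'}) :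
    ∃ a : List A, a.length = l'.length ∧ (∀ x ∈ a, x ∈ I) ∧
      ∃ g : A, g ∉ q.comap (algebraMap A B) ∧ ∀ x ∈ I, g * x ∈ Ideal.span {y | y ∈ a} := by
  set p := q.comap (algebraMap A B) with hp
  let φ : A →+* Localization.AtPrime q :=
    (algebraMap B (Localization.AtPrime q)).comp (algebraMap A B)
  have hJ' : I.map φ = Ideal.span {x | x ∈ l'} := by rw [← hspan, Ideal.map_map]
  have hfg : (I.map φ).FG := hI.map φ
  obtain ⟨a', ha'len, ha'S, ha'span⟩ := exchange (I.map φ) hfg (φ '' (I : Set A))
    ⟨0, I.zero_mem, map_zero φ⟩ rfl l' [] (by simp) (by simpa using hJ'.symm)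
  obtain ⟨a, haI, hmap⟩ := exists_list_preimage φ I a' ha'S
  refine ⟨a, by rw [← List.length_map (f := φ), hmap, ha'len]; simp, haI, ?_⟩
  letI : Algebra (Localization.AtPrime p) (Localization.AtPrime q) :=
    (Localization.localRingHom p q (algebraMap A B) rfl).toAlgebra
  haveI : Module.FaithfullyFlat (Localization.AtPrime p) (Localization.AtPrime q) :=
    faithfullyFlat_localRingHom q
  have hcomp : (algebraMap (Localization.AtPrime p) (Localization.AtPrime q)).comp
      (algebraMap A (Localization.AtPrime p)) = φ := by
    ext x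
    exact Localization.localRingHom_to_map p q (algebraMap A B) rfl x
  apply exists_mul_mem_of_map_le p I _ hI
  have h1 : (I.map (algebraMap A (Localization.AtPrime p))).map
      (algebraMap (Localization.AtPrime p) (Localization.AtPrime q)) = I.map φ := by
    rw [Ideal.map_map, hcomp]
  have h2 : ((Ideal.span {y | y ∈ a}).map (algebraMap A (Localization.AtPrime p))).map
      (algebraMap (Localization.AtPrime p) (Localization.AtPrime q)) = I.map φ := by
    rw [Ideal.map_map, hcomp, span_list_map, hmap, ha'span]
  rw [← Ideal.comap_map_eq_self_of_faithfullyFlat (B := Localization.AtPrime q)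
    (I.map (algebraMap A (Localization.AtPrime p))),
    ← Ideal.comap_map_eq_self_of_faithfullyFlat (B := Localization.AtPrime q)
    ((Ideal.span {y | y ∈ a}).map (algebraMap A (Localization.AtPrime p))), h1, h2]

end descent

end Groth.Agent.H59.Kosz
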