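import Groth.Agent.H59.KRegDesc

/-!
# Faithfully flat descent of Koszul-regular ideals: main theorem
-/

universe u
open CategoryTheory CochainComplex HomologicalComplex Limits TensorProduct

namespace Groth.Agent.H59.Kosz

/-- a Koszul-regular ideal is finitely generated -/
theorem fg_of_kregIdeal {B : Type u} [CommRing B] {J : Ideal B}
    (h : LCI.IsKoszulRegularIdeal J) : J.FG := by
  classical
  set t : Set B := {g | (J.map (algebraMap B (Localization.Away g))).FG} with ht
  apply Ideal.fg_of_localizationSpan t ?_ (fun g => g.2)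
  by_contra hne
  obtain ⟨m, hm, hle⟩ := Ideal.exists_le_maximal _ hne
  haveI := hm.isPrime
  by_cases hJm : J ≤ m
  · obtain ⟨g, hg, l, -, hspan⟩ := h ⟨m, hm.isPrime⟩ hJm
    apply hg
    apply hle
    apply Ideal.subset_span
    show (J.map (algebraMap B (Localization.Away g))).FG
    rw [hspan]
    exact ⟨l.toFinset, by congr 1; ext x; simp⟩
  · obtain ⟨x, hxJ, hxm⟩ := SetLike.not_le_iff_exists.mp hJm
    apply hxm
    apply hle
    apply Ideal.subset_span
    show (J.map (algebraMap B (Localization.Away x))).FG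
    have : J.map (algebraMap B (Localization.Away x)) = ⊤ :=
      Ideal.eq_top_of_isUnit_mem _ (Ideal.mem_map_of_mem _ hxJ)
        (IsLocalization.Away.algebraMap_isUnit x)
    rw [this]
    exact ⟨{1}, by simp⟩

/-- `CC J q n`: near `q`, `J` is generated by a Koszul-regular sequence of length `n` -/
def CC {B : Type u} [CommRing B] (J : Ideal B) (q : Ideal B) (n : ℕ) : Prop :=
  ∃ h : B, h ∉ q ∧ ∃ l : List (Localization.Away h), l.length = n ∧
    LCI.IsKoszulRegularSeq (Localization.Away h) l ∧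
    J.map (algebraMap B (Localization.Away h)) = Ideal.span {x | x ∈ l}

lemma CC.atPrime {B : Type u} [CommRing B] {J : Ideal B} {q : Ideal B} [q.IsPrime] {n : ℕ}
    (h : CC J q n) : ∃ l' : List (Localization.AtPrime q), l'.length = n ∧
      LCI.IsKoszulRegularSeq (Localization.AtPrime q) l' ∧
      J.map (algebraMap B (Localization.AtPrime q)) = Ideal.span {x | x ∈ l'} := by
  obtain ⟨h₁, hh₁, l, hlen, hl, hspan⟩ := h
  obtain ⟨l', hl'len, hl', hl'span⟩ := kreg_atPrime_of_away J q h₁ hh₁ l hl hspan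
  exact ⟨l', hl'len.trans hlen, hl', hl'span⟩

lemma map_eq_span_of_mul_mem {A T : Type u} [CommRing A] [CommRing T] (I : Ideal A) (a : List A)
    (haI : ∀ x ∈ a, x ∈ I) (g : A) (hg : ∀ x ∈ I, g * x ∈ Ideal.span {y | y ∈ a})
    (ψ : A →+* T) (hu : IsUnit (ψ g)) : I.map ψ = Ideal.span {y | y ∈ a.map ψ} := by
  apply le_antisymm
  · rw [Ideal.map_le_iff_le_comap]
    intro x hx
    rw [Ideal.mem_comap, ← Ideal.unit_mul_mem_iff_mem _ hu, ← map_mul, ← span_list_map]
    exact Ideal.mem_map_of_mem _ (hg x hx)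
  · rw [Ideal.span_le]
    intro y hy
    obtain ⟨x, hx, rfl⟩ := List.mem_map.mp hy
    exact Ideal.mem_map_of_mem _ (haI x hx)

section main

variable {A B : Type u} [CommRing A] [CommRing B] [Algebra A B]

/-- Koszul-regularity of the chosen generators at `p = q ∩ A` -/
lemma kreg_atPrime_comap_of_CC [Module.Flat A B] (I : Ideal A) (a : List A)
    (haI : ∀ x ∈ a, x ∈ I)
    (g : A) (hgI : ∀ x ∈ I, g * x ∈ Ideal.span {y | y ∈ a}) (q : Ideal B) [q.IsPrime]
    (hg : g ∉ q.comap (algebraMap A B)) (hCC : CC (I.map (algebraMap A B)) q a.length) :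
    LCI.IsKoszulRegularSeq (Localization.AtPrime (q.comap (algebraMap A B)))
      (a.map (algebraMap A (Localization.AtPrime (q.comap (algebraMap A B))))) := by
  obtain ⟨l, hllen, hl, hlspan⟩ := hCC.atPrime
  let ψ : A →+* Localization.AtPrime q :=
    (algebraMap B (Localization.AtPrime q)).comp (algebraMap A B)
  have hu : IsUnit (ψ g) :=
    IsLocalization.map_units (Localization.AtPrime q) (⟨algebraMap A B g, hg⟩ : q.primeCompl)
  have h1 : I.map ψ = Ideal.span {y | y ∈ a.map ψ} := map_eq_span_of_mul_mem I a haI g hgI ψ hu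
  have h2 : LCI.IsKoszulRegularSeq (Localization.AtPrime q) (a.map ψ) := by
    refine isKoszulRegularSeq_of_same_length l _ hl (by simp [hllen]) ?_
    intro x hx
    rw [← h1, ← Ideal.map_map, hlspan]
    exact Ideal.subset_span hx
  letI : Algebra (Localization.AtPrime (q.comap (algebraMap A B))) (Localization.AtPrime q) :=
    (Localization.localRingHom (q.comap (algebraMap A B)) q (algebraMap A B) rfl).toAlgebra
  haveI : Module.FaithfullyFlat (Localization.AtPrime (q.comap (algebraMap A B)))
      (Localization.AtPrime q) := faithfullyFlat_localRingHom q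
  apply isKoszulRegularSeq_of_faithfullyFlat (B := Localization.AtPrime q)
  rw [List.map_map]
  have hcomp : (algebraMap (Localization.AtPrime (q.comap (algebraMap A B)))
      (Localization.AtPrime q)) ∘ (algebraMap A (Localization.AtPrime (q.comap (algebraMap A B))))
      = ψ := by
    funext x
    exact Localization.localRingHom_to_map (q.comap (algebraMap A B)) q (algebraMap A B) rfl x
  rw [hcomp]
  exact h2

/-- comparison of lengths at two primes over the same prime of `A` -/
lemma len_le [Module.Flat A B] (I : Ideal A) (hI : I.FG) (q q' : Ideal B) [q.IsPrime] [q'.IsPrime]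
    (hqq' : q.comap (algebraMap A B) = q'.comap (algebraMap A B))
    (hJq' : I.map (algebraMap A B) ≤ q') {r n' : ℕ} (hr : CC (I.map (algebraMap A B)) q r)
    (hn' : CC (I.map (algebraMap A B)) q' n') : n' ≤ r := by
  obtain ⟨l, hllen, -, hlspan⟩ := hr.atPrime
  obtain ⟨a, halen, haI, g, hg, hgI⟩ := exists_generators_of_atPrime I hI q l hlspan
  obtain ⟨l'', hl''len, hl'', hl''span⟩ := hn'.atPrime
  let ψ : A →+* Localization.AtPrime q' :=
    (algebraMap B (Localization.AtPrime q')).comp (algebraMap A B)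
  have hg' : algebraMap A B g ∉ q' := by
    intro hm
    apply hg
    rw [hqq']
    exact hm
  have hu : IsUnit (ψ g) :=
    IsLocalization.map_units (Localization.AtPrime q') (⟨algebraMap A B g, hg'⟩ : q'.primeCompl)
  have h1 : I.map ψ = Ideal.span {y | y ∈ a.map ψ} := map_eq_span_of_mul_mem I a haI g hgI ψ hu
  by_contra hlt
  push Not at hlt
  have htop : Ideal.span {y | y ∈ a.map ψ} = ⊤ := by
    refine span_eq_top_of_kreg_of_length_lt l'' (a.map ψ) hl'' (by simp [halen, hllen, hl''len, hlt]) ?_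
    intro x hx
    rw [← h1, ← Ideal.map_map, hl''span]
    exact Ideal.subset_span hx
  have hle : I.map ψ ≤ IsLocalRing.maximalIdeal (Localization.AtPrime q') := by
    rw [← Ideal.map_map, ← Localization.AtPrime.map_eq_maximalIdeal]
    exact Ideal.map_mono hJq'
  rw [h1, htop] at hle
  exact (IsLocalRing.maximalIdeal.isMaximal _).ne_top (top_le_iff.mp hle)

/-- **Faithfully flat descent of Koszul-regular ideals.** -/
theorem kregIdeal_of_faithfullyFlat [Module.FaithfullyFlat A B] (I : Ideal A)
    (h : LCI.IsKoszulRegularIdeal (I.map (algebraMap A B))) : LCI.IsKoszulRegularIdeal I := by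
  classical
  set J := I.map (algebraMap A B) with hJdef
  have hIfg : I.FG := Ideal.FG.of_FG_map_of_faithfullyFlat (S := B) (fg_of_kregIdeal h)
  have hCC : ∀ q : PrimeSpectrum B, J ≤ q.asIdeal → ∃ n, CC J q.asIdeal n := by
    intro q hq
    obtain ⟨g, hg, l, hl, hspan⟩ := h q hq
    exact ⟨l.length, g, hg, l, rfl, hl, hspan⟩
  have hJle : ∀ q : PrimeSpectrum B, J ≤ q.asIdeal ↔
      I ≤ (PrimeSpectrum.comap (algebraMap A B) q).asIdeal := by
    intro q; exact Ideal.map_le_iff_le_comap
  apply kregIdeal_intro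
  intro 𝔭 h𝔭
  obtain ⟨𝔮₀, rfl⟩ := PrimeSpectrum.comap_surjective_of_faithfullyFlat (A := A) (B := B) 𝔭
  obtain ⟨r, hr⟩ := hCC 𝔮₀ ((hJle 𝔮₀).mpr h𝔭)
  -- the saturated open set
  set N : Set (PrimeSpectrum B) := {q | ¬ J ≤ q.asIdeal} ∪ {q | CC J q.asIdeal r} with hN
  have hNopen : IsOpen N := by
    apply IsOpen.union
    · have : {q : PrimeSpectrum B | ¬ J ≤ q.asIdeal} = (PrimeSpectrum.zeroLocus (J : Set B))ᶜ := by
        ext q; simp [PrimeSpectrum.mem_zeroLocus]
      rw [this]; exact (PrimeSpectrum.isClosed_zeroLocus _).isOpen_compl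
    · rw [isOpen_iff_forall_mem_open]
      rintro q ⟨h₁, hh₁, l, hlen, hl, hspan⟩
      refine ⟨PrimeSpectrum.basicOpen h₁, ?_, (PrimeSpectrum.basicOpen h₁).isOpen, hh₁⟩
      intro q' hq'
      exact ⟨h₁, hq', l, hlen, hl, hspan⟩
  have hNsat : ∀ q q' : PrimeSpectrum B, PrimeSpectrum.comap (algebraMap A B) q =
      PrimeSpectrum.comap (algebraMap A B) q' → q ∈ N → q' ∈ N := by
    intro q q' hqq' hqN
    by_cases hJq' : J ≤ q'.asIdeal
    · right
      have hJq : J ≤ q.asIdeal := by rw [hJle, hqq', ← hJle]; exact hJq'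
      rcases hqN with hqN | hqN
      · exact absurd hJq hqN
      · obtain ⟨n', hn'⟩ := hCC q' hJq'
        have hids : q.asIdeal.comap (algebraMap A B) = q'.asIdeal.comap (algebraMap A B) :=
          congrArg PrimeSpectrum.asIdeal hqq'
        have h1 : n' ≤ r := len_le I hIfg q.asIdeal q'.asIdeal hids hJq' hqN hn'
        have h2 : r ≤ n' := len_le I hIfg q'.asIdeal q.asIdeal hids.symm hJq hn' hqN
        have : n' = r := le_antisymm h1 h2
        show CC J q'.asIdeal r
        rw [← this]; exact hn'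
    · left; exact hJq'
  have hquot : Topology.IsQuotientMap (PrimeSpectrum.comap (algebraMap A B)) :=
    PrimeSpectrum.isQuotientMap_of_generalizingMap
      PrimeSpectrum.comap_surjective_of_faithfullyFlat
      (RingHom.Flat.generalizingMap_comap (RingHom.flat_algebraMap_iff.mpr inferInstance))
  set T : Set (PrimeSpectrum A) := PrimeSpectrum.comap (algebraMap A B) '' N with hT
  have hpre : PrimeSpectrum.comap (algebraMap A B) ⁻¹' T = N := by
    ext q; constructor
    · rintro ⟨q₁, hq₁, heq⟩; exact hNsat q₁ q heq hq₁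
    · intro hq; exact ⟨q, hq, rfl⟩
  have hTopen : IsOpen T := by rw [← hquot.isOpen_preimage, hpre]; exact hNopen
  have h𝔭T : PrimeSpectrum.comap (algebraMap A B) 𝔮₀ ∈ T := ⟨𝔮₀, Or.inr hr, rfl⟩
  obtain ⟨_, ⟨g₁, rfl⟩, hg₁mem, hg₁T⟩ :=
    PrimeSpectrum.isTopologicalBasis_basic_opens.exists_subset_of_mem_open h𝔭T hTopen
  -- generators
  obtain ⟨l₀, hl₀len, hl₀, hl₀span⟩ := hr.atPrime
  obtain ⟨a, halen, haI, g₀, hg₀, hg₀I⟩ :=
    exists_generators_of_atPrime I hIfg 𝔮₀.asIdeal l₀ hl₀span
  have hgI : ∀ x ∈ I, g₀ * g₁ * x ∈ Ideal.span {y | y ∈ a} := by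
    intro x hx
    rw [mul_comm g₀ g₁, mul_assoc]
    exact Ideal.mul_mem_left _ _ (hg₀I x hx)
  refine ⟨g₀ * g₁, ?_, Localization.Away (g₀ * g₁), inferInstance, inferInstance, inferInstance,
    a.map (algebraMap A _), ?_, ?_⟩
  · intro hm
    rcases Ideal.IsPrime.mem_or_mem (PrimeSpectrum.comap (algebraMap A B) 𝔮₀).isPrime hm with hm | hm
    · exact hg₀ hm
    · exact hg₁mem hm
  · rw [kreg_iff]
    intro n hn
    refine ex_of_phi (Submonoid.powers (g₀ * g₁))
      ((sglBC A (Localization.Away (g₀ * g₁))).kz a) ?_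
    apply phi_powers_of_forall_prime
    intro p₂ hp₂ hgp₂
    haveI := hp₂
    refine phi_of_ex p₂.primeCompl ((sglBC A (Localization.AtPrime p₂)).kz a) ?_
    have hk : LCI.IsKoszulRegularSeq (Localization.AtPrime p₂)
        (a.map (algebraMap A (Localization.AtPrime p₂))) := by
      by_cases hIp : I ≤ p₂
      · have hg₁p : g₁ ∉ p₂ := fun hm => hgp₂ (Ideal.mul_mem_left _ _ hm)
        obtain ⟨q, hqN, hqp⟩ := hg₁T (show (⟨p₂, hp₂⟩ : PrimeSpectrum A) ∈
          (PrimeSpectrum.basicOpen g₁ : Set (PrimeSpectrum A)) from hg₁p)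
        have hJq : J ≤ q.asIdeal := by rw [hJle, hqp]; exact hIp
        have hqCC : CC J q.asIdeal r := hqN.resolve_left (not_not.mpr hJq)
        have hp₂eq : p₂ = q.asIdeal.comap (algebraMap A B) :=
          (congrArg PrimeSpectrum.asIdeal hqp).symm
        subst hp₂eq
        have hra : r = a.length := by rw [halen, hl₀len]
        rw [hra] at hqCC
        exact kreg_atPrime_comap_of_CC I a haI (g₀ * g₁) hgI q.asIdeal hgp₂ hqCC
      · obtain ⟨x, hxa, hxp⟩ : ∃ x ∈ a, x ∉ p₂ := by
          by_contra hcon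
          push Not at hcon
          apply hIp
          intro y hy
          have h1 : g₀ * g₁ * y ∈ p₂ := by
            have : Ideal.span {y | y ∈ a} ≤ p₂ := by
              rw [Ideal.span_le]; exact hcon
            exact this (hgI y hy)
          exact (Ideal.IsPrime.mem_or_mem hp₂ h1).resolve_left hgp₂
        exact kreg_of_isUnit_mem _ (algebraMap A _ x)
          (IsLocalization.map_units _ (⟨x, hxp⟩ : p₂.primeCompl)) (List.mem_map_of_mem hxa)
    exact (kreg_iff _).mp hk n hn
  · exact map_eq_span_of_mul_mem I a haI (g₀ * g₁) hgI _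
      (IsLocalization.Away.algebraMap_isUnit (g₀ * g₁))

end main

end Groth.Agent.H59.Kosz
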