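import Groth.Agent.H59.KRegKey
import Groth.Agent.H59.KRegDesc
import Groth.Agent.H59.KRegFF
import Groth.Agent.H56.KzQuot

/-!
# Dividing a Koszul-regular ideal by a Koszul-regular sequence (multi-element key lemma)

`kregIdeal_map_of_quot_list`: `T` a ring, `I₀` an ideal, `E` a Koszul-regular sequence of `T` whose
image in `T/I₀` is Koszul-regular, and `I₀ + (E)` a Koszul-regular ideal. Then the image of `I₀`
in `T/(E)` is a Koszul-regular ideal.
-/

universe u
open CategoryTheory CochainComplex HomologicalComplex Limits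

namespace Groth.Agent.H59.Kosz

/-- a Koszul-regular sequence generating a proper ideal has no repeated entries -/
lemma nodup_of_kreg {R : Type u} [CommRing R] (a : List R) (ha : LCI.IsKoszulRegularSeq R a)
    (hne : Ideal.span {y | y ∈ a} ≠ ⊤) : a.Nodup := by
  classical
  by_contra hnd
  have hsub : a.dedup.Sublist a := List.dedup_sublist a
  have hlt : a.dedup.length < a.length := by
    rcases Nat.lt_or_ge a.dedup.length a.length with h | h
    · exact h
    · exact absurd (List.dedup_eq_self.mp (hsub.eq_of_length_le h)) hnd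
  apply hne
  have h1 := span_eq_top_of_kreg_of_length_lt a a.dedup ha hlt
    (fun x hx => Ideal.subset_span (List.mem_dedup.mpr hx))
  rw [← h1]
  congr 1
  ext y
  simp [List.mem_dedup]

lemma exists_list_preimage_set {A B' : Type u} (φ : A → B') (S : Set A)
    (a' : List B') (h : ∀ x ∈ a', x ∈ φ '' S) :
    ∃ a : List A, (∀ y ∈ a, y ∈ S) ∧ a.map φ = a' := by
  induction a' with
  | nil => exact ⟨[], by simp, rfl⟩
  | cons x a' ih =>
    obtain ⟨a, ha, hmap⟩ := ih (fun y hy => h y (List.mem_cons_of_mem _ hy))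
    obtain ⟨y, hy, rfl⟩ := h x List.mem_cons_self
    refine ⟨y :: a, ?_, by simp [hmap]⟩
    intro z hz
    rcases List.mem_cons.mp hz with rfl | hz
    · exact hy
    · exact ha z hz

/-- **Local exchange with counting.** -/
theorem exists_list_append_of_atPrime {T : Type u} [CommRing T] (𝔮 : Ideal T) [𝔮.IsPrime]
    (I₀ : Ideal T) (E : List T) (hI𝔮 : I₀ ⊔ Ideal.span {y | y ∈ E} ≤ 𝔮)
    (l' : List (Localization.AtPrime 𝔮)) (hl' : LCI.IsKoszulRegularSeq (Localization.AtPrime 𝔮) l')
    (hspan : (I₀ ⊔ Ideal.span {y | y ∈ E}).map (algebraMap T (Localization.AtPrime 𝔮)) =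
      Ideal.span {x | x ∈ l'})
    {Lb : Type u} [CommRing Lb] (ρ : Localization.AtPrime 𝔮 →+* Lb) (hρ : Function.Surjective ρ)
    (hker : RingHom.ker ρ = I₀.map (algebraMap T (Localization.AtPrime 𝔮)))
    (hEb : LCI.IsKoszulRegularSeq Lb (E.map (ρ.comp (algebraMap T (Localization.AtPrime 𝔮))))) :
    ∃ b : List T, (∀ x ∈ b, x ∈ I₀) ∧ b.length + E.length = l'.length ∧
      Ideal.span {y | y ∈ (b ++ E).map (algebraMap T (Localization.AtPrime 𝔮))} =
        (I₀ ⊔ Ideal.span {y | y ∈ E}).map (algebraMap T (Localization.AtPrime 𝔮)) := by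
  classical
  set φ : T →+* Localization.AtPrime 𝔮 := algebraMap T (Localization.AtPrime 𝔮) with hφ
  set J : Ideal (Localization.AtPrime 𝔮) := (I₀ ⊔ Ideal.span {y | y ∈ E}).map φ with hJ
  have hJmax : J ≤ IsLocalRing.maximalIdeal (Localization.AtPrime 𝔮) := by
    rw [← Localization.AtPrime.map_eq_maximalIdeal]
    exact Ideal.map_mono hI𝔮
  have hJne : J ≠ ⊤ := fun h =>
    (IsLocalRing.maximalIdeal.isMaximal _).ne_top (top_le_iff.mp (h ▸ hJmax))
  have hJfg : J.FG := by
    rw [hspan]
    exact Submodule.fg_span (List.finite_toSet l')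
  have hSJ : Ideal.span (φ '' ((I₀ : Set T) ∪ {y | y ∈ E})) = J := by
    rw [hJ, ← Ideal.map_span, Ideal.span_union, Ideal.span_eq]
  obtain ⟨a', ha'len, ha'S, ha'span⟩ := exchange J hJfg (φ '' ((I₀ : Set T) ∪ {y | y ∈ E}))
    ⟨0, Or.inl I₀.zero_mem, map_zero φ⟩ hSJ l' [] (by simp) (by simpa using hspan.symm)
  obtain ⟨a, haS, hmap⟩ := exists_list_preimage_set φ _ a' ha'S
  have ha'reg : LCI.IsKoszulRegularSeq (Localization.AtPrime 𝔮) a' :=
    isKoszulRegularSeq_of_same_length l' a' hl' (by simpa using ha'len.symm)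
      (fun x hx => by rw [ha'span, hspan]; exact Ideal.subset_span hx)
  have ha'nd : a'.Nodup := nodup_of_kreg a' ha'reg (by rw [ha'span]; exact hJne)
  have hand : a.Nodup := List.Nodup.of_map φ (by rw [hmap]; exact ha'nd)
  -- partition
  set b : List T := a.filter (fun x => decide (x ∈ I₀)) with hb
  set aE : List T := a.filter (fun x => !decide (x ∈ I₀)) with haE
  have hperm : (b ++ aE).Perm a := List.filter_append_perm _ a
  have hbI : ∀ x ∈ b, x ∈ I₀ := by
    intro x hx
    have := (List.mem_filter.mp hx).2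
    simpa using this
  have haEE : aE ⊆ E := by
    intro x hx
    obtain ⟨hxa, hxI⟩ := List.mem_filter.mp hx
    have hxI' : x ∉ I₀ := by simpa using hxI
    rcases haS x hxa with h | h
    · exact absurd h hxI'
    · exact h
  have haEnd : aE.Nodup := hand.filter _
  have hsubperm : aE.Subperm E := List.subperm_of_subset haEnd haEE
  -- counting
  set ψ : T →+* Lb := ρ.comp φ with hψ
  have hzero : ∀ x ∈ I₀, ψ x = 0 := by
    intro x hx
    show ρ (φ x) = 0
    rw [← RingHom.mem_ker, hker]
    exact Ideal.mem_map_of_mem _ hx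
  have hspan_a : Ideal.span {y | y ∈ a.map φ} = J := by rw [hmap]; exact ha'span
  have hle1 : Ideal.span {y | y ∈ a.map ψ} ≤ Ideal.span {y | y ∈ aE.map ψ} := by
    rw [Ideal.span_le]
    intro y hy
    obtain ⟨x, hxa, rfl⟩ := List.mem_map.mp hy
    by_cases hxI : x ∈ I₀
    · rw [hzero x hxI]; exact Ideal.zero_mem _
    · exact Ideal.subset_span (List.mem_map_of_mem
        (List.mem_filter.mpr ⟨hxa, by simpa using hxI⟩))
  have hEJ : ∀ e ∈ E, φ e ∈ J := fun e he =>
    Ideal.mem_map_of_mem _ (Ideal.mem_sup_right (Ideal.subset_span he))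
  have hlen_ge : E.length ≤ aE.length := by
    by_contra hlt
    push Not at hlt
    have hsub : ∀ x ∈ E.map ψ, x ∈ Ideal.span {y | y ∈ aE.map ψ} := by
      intro x hx
      obtain ⟨e, he, rfl⟩ := List.mem_map.mp hx
      apply hle1
      have h1 : φ e ∈ Ideal.span {y | y ∈ a.map φ} := by rw [hspan_a]; exact hEJ e he
      have h2 : ρ (φ e) ∈ (Ideal.span {y | y ∈ a.map φ}).map ρ := Ideal.mem_map_of_mem _ h1
      rw [span_list_map, List.map_map] at h2
      exact h2
    have htop := span_eq_top_of_kreg_of_length_lt (E.map ψ) (aE.map ψ) hEb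
      (by simpa using hlt) hsub
    have hle2 : Ideal.span {y | y ∈ aE.map ψ} ≤ J.map ρ := by
      rw [Ideal.span_le]
      intro y hy
      obtain ⟨x, hx, rfl⟩ := List.mem_map.mp hy
      exact Ideal.mem_map_of_mem ρ (hEJ x (haEE hx))
    rw [htop] at hle2
    have h1 : (1 : Lb) ∈ J.map ρ := hle2 Submodule.mem_top
    obtain ⟨j, hj, hj1⟩ := (Ideal.mem_map_iff_of_surjective ρ hρ).mp h1
    have h2 : 1 - j ∈ RingHom.ker ρ := by
      rw [RingHom.mem_ker, map_sub, map_one, hj1, sub_self]
    rw [hker] at h2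
    have h3 : 1 - j ∈ J := Ideal.map_mono le_sup_left h2
    apply hJne
    rw [Ideal.eq_top_iff_one]
    have : (1 : Localization.AtPrime 𝔮) = (1 - j) + j := by ring
    rw [this]
    exact Ideal.add_mem _ h3 hj
  have hpermE : aE.Perm E := hsubperm.perm_of_length_le hlen_ge
  have hperm2 : (b ++ E).Perm a := (List.Perm.append_left b hpermE.symm).trans hperm
  refine ⟨b, hbI, ?_, ?_⟩
  · have h1 : (b ++ E).length = a.length := hperm2.length_eq
    have h2 : a.length = a'.length := by rw [← hmap, List.length_map]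
    rw [List.length_append] at h1
    rw [h1, h2, ha'len]
    simp
  · rw [← hspan_a]
    exact span_perm (hperm2.map φ)

/-- **Key lemma, multi-element form.** -/
theorem kregIdeal_map_of_quot_list {T R Tb : Type u} [CommRing T] [CommRing R] [CommRing Tb]
    (I₀ : Ideal T) (E : List T) (hE : LCI.IsKoszulRegularSeq T E)
    (hI' : LCI.IsKoszulRegularIdeal (I₀ ⊔ Ideal.span {y | y ∈ E}))
    (π₀ : T →+* Tb) (hπ₀ : Function.Surjective π₀) (hker₀ : RingHom.ker π₀ = I₀)
    (hEb : LCI.IsKoszulRegularSeq Tb (E.map π₀))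
    (π : T →+* R) (hπ : Function.Surjective π)
    (hker : RingHom.ker π = Ideal.span {y | y ∈ E}) :
    LCI.IsKoszulRegularIdeal (I₀.map π) := by
  classical
  set I' : Ideal T := I₀ ⊔ Ideal.span {y | y ∈ E} with hI'def
  have hI'fg : I'.FG := fg_of_kregIdeal hI'
  apply kregIdeal_intro
  intro 𝔭 h𝔭
  let 𝔮 : Ideal T := 𝔭.asIdeal.comap π
  haveI h𝔮 : 𝔮.IsPrime := Ideal.comap_isPrime π 𝔭.asIdeal
  have hI𝔮 : I' ≤ 𝔮 := by
    refine sup_le (Ideal.map_le_iff_le_comap.mp h𝔭) ?_
    rw [← hker]
    intro x hx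
    show π x ∈ 𝔭.asIdeal
    rw [RingHom.mem_ker.mp hx]
    exact zero_mem _
  obtain ⟨g', hg', l', hl', hspan⟩ := hI' ⟨𝔮, h𝔮⟩ hI𝔮
  obtain ⟨l'', hlen'', hl'', hspan''⟩ := kreg_atPrime_of_away I' 𝔮 g' hg' l' hl' hspan
  -- the localization of `Tb`
  let Mb : Submonoid Tb := Submonoid.map π₀ 𝔮.primeCompl
  let ρ : Localization.AtPrime 𝔮 →+* Localization Mb :=
    IsLocalization.map (Localization Mb) π₀ (Submonoid.le_comap_map 𝔮.primeCompl)
  have hρs : Function.Surjective ρ :=
    IsLocalization.map_surjective_of_surjective 𝔮.primeCompl (Localization.AtPrime 𝔮)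
      (Localization Mb) hπ₀
  have hρk : RingHom.ker ρ = I₀.map (algebraMap T (Localization.AtPrime 𝔮)) := by
    have := IsLocalization.ker_map (S := Localization.AtPrime 𝔮) (Localization Mb) π₀
      (M := 𝔮.primeCompl) (T := Mb) rfl
    rw [← hker₀]
    exact this
  have hρc : ρ.comp (algebraMap T (Localization.AtPrime 𝔮)) =
      (algebraMap Tb (Localization Mb)).comp π₀ := IsLocalization.map_comp _
  haveI : Module.Flat Tb (Localization Mb) := IsLocalization.flat (Localization Mb) Mb
  have hEb' : LCI.IsKoszulRegularSeq (Localization Mb)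
      (E.map (ρ.comp (algebraMap T (Localization.AtPrime 𝔮)))) := by
    rw [hρc]
    have hmm : E.map (⇑((algebraMap Tb (Localization Mb)).comp π₀)) =
        (E.map π₀).map (algebraMap Tb (Localization Mb)) := by
      rw [List.map_map]; rfl
    rw [hmm]
    exact isKoszulRegularSeq_of_flat (A := Tb) (B := Localization Mb) _ hEb
  obtain ⟨b, hbI, hblen, hbspan⟩ :=
    exists_list_append_of_atPrime 𝔮 I₀ E hI𝔮 l'' hl'' hspan'' ρ hρs hρk hEb'
  have hbE_I' : ∀ x ∈ b ++ E, x ∈ I' := by
    intro x hx
    rcases List.mem_append.mp hx with hx | hx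
    · exact Ideal.mem_sup_left (hbI x hx)
    · exact Ideal.mem_sup_right (Ideal.subset_span hx)
  obtain ⟨G, hG, hGI⟩ := exists_mul_mem_of_map_le 𝔮 I' (Ideal.span {y | y ∈ b ++ E}) hI'fg
    (by rw [span_list_map, hbspan])
  -- the further localization
  let c₀ : Localization.Away g' := algebraMap T (Localization.Away g') G
  let T'' := Localization.Away c₀
  haveI : IsLocalization.Away (g' * G) T'' :=
    IsLocalization.Away.mul' (Localization.Away g') T'' g' G
  have hgG : g' * G ∉ 𝔮 := fun h => (Ideal.IsPrime.mem_or_mem h𝔮 h).elim hg' hG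
  let al : Localization.Away g' →+* T'' := algebraMap (Localization.Away g') T''
  haveI : Module.Flat (Localization.Away g') T'' :=
    IsLocalization.flat T'' (Submonoid.powers c₀)
  haveI : Module.Flat T T'' := IsLocalization.flat T'' (Submonoid.powers (g' * G))
  let β : T →+* T'' := algebraMap T T''
  have hβ : β = al.comp (algebraMap T (Localization.Away g')) :=
    IsScalarTower.algebraMap_eq T (Localization.Away g') T''
  have hk1 : LCI.IsKoszulRegularSeq T'' (l'.map al) := isKoszulRegularSeq_of_flat _ hl'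
  have h0 : I'.map β = Ideal.span {y | y ∈ l'.map al} := by
    rw [hβ, ← Ideal.map_map, hspan, span_list_map]
  have hgI : ∀ x ∈ I', g' * G * x ∈ Ideal.span {y | y ∈ b ++ E} := fun x hx => by
    rw [mul_assoc]; exact Ideal.mul_mem_left _ _ (hGI x hx)
  have e1 : I'.map β = Ideal.span {y | y ∈ (b ++ E).map β} :=
    map_eq_span_of_mul_mem I' (b ++ E) hbE_I' (g' * G) hgI β
      (IsLocalization.Away.algebraMap_isUnit (g' * G))
  have hk2 : LCI.IsKoszulRegularSeq T'' ((b ++ E).map β) := by
    refine isKoszulRegularSeq_of_same_length (l'.map al) _ hk1 ?_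
      (fun x hx => by rw [← e1, h0]; exact Ideal.subset_span hx)
    rw [List.length_map, List.length_map, List.length_append, hblen, hlen'']
  have hE'' : LCI.IsKoszulRegularSeq T'' (E.map β) :=
    isKoszulRegularSeq_of_flat (A := T) (B := T'') E hE
  -- the target localization
  have hpow : Submonoid.map π (Submonoid.powers (g' * G)) = Submonoid.powers (π (g' * G)) :=
    Submonoid.map_powers π (g' * G)
  haveI : IsLocalization (Submonoid.map π (Submonoid.powers (g' * G)))
      (Localization.Away (π (g' * G))) := by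
    rw [hpow]; infer_instance
  let φ : T'' →+* Localization.Away (π (g' * G)) :=
    IsLocalization.map (Localization.Away (π (g' * G))) π
      (hpow.symm ▸ (Submonoid.powers (g' * G)).le_comap_map)
  have hφs : Function.Surjective φ :=
    IsLocalization.map_surjective_of_surjective (Submonoid.powers (g' * G)) T''
      (Localization.Away (π (g' * G))) hπ
  have hφk : RingHom.ker φ = Ideal.ofList (E.map β) := by
    have := IsLocalization.ker_map (S := T'') (Localization.Away (π (g' * G))) π hpow
    rw [this, hker, span_list_map]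
  have hφc : φ.comp β = (algebraMap R (Localization.Away (π (g' * G)))).comp π :=
    IsLocalization.map_comp _
  have hk3 : LCI.IsKoszulRegularSeq (Localization.Away (π (g' * G))) ((b.map β).map φ) :=
    (Groth.Agent.H56.KzSwap.isKoszulRegularSeq_append_iff φ hφs (E.map β) hE'' hφk (b.map β)).mp
      (by rw [← List.map_append]; exact hk2)
  refine ⟨π (g' * G), hgG, Localization.Away (π (g' * G)), inferInstance, inferInstance,
    inferInstance, (b.map β).map φ, hk3, ?_⟩
  rw [Ideal.map_map, ← hφc, ← Ideal.map_map]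
  have hφE : ∀ e ∈ E, φ (β e) = 0 := by
    intro e he
    rw [← RingHom.mem_ker, hφk]
    exact Ideal.subset_span (List.mem_map_of_mem he)
  apply le_antisymm
  · have h1 : (I₀.map β).map φ ≤ (I'.map β).map φ :=
      Ideal.map_mono (Ideal.map_mono le_sup_left)
    refine h1.trans ?_
    rw [e1, span_list_map, Ideal.span_le]
    intro y hy
    obtain ⟨z, hz, rfl⟩ := List.mem_map.mp hy
    obtain ⟨x, hx, rfl⟩ := List.mem_map.mp hz
    rcases List.mem_append.mp hx with hx | hx
    · exact Ideal.subset_span (List.mem_map_of_mem (List.mem_map_of_mem hx))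
    · rw [hφE x hx]; exact Ideal.zero_mem _
  · rw [Ideal.span_le]
    intro y hy
    obtain ⟨z, hz, rfl⟩ := List.mem_map.mp hy
    obtain ⟨x, hx, rfl⟩ := List.mem_map.mp hz
    exact Ideal.mem_map_of_mem _ (Ideal.mem_map_of_mem _ (hbI x hx))

end Groth.Agent.H59.Kosz
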