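import Groth.Agent.H59.KRegStalk
import Groth.Agent.H59.Goren4
import Groth.Agent.H23.RegularSeq

/-!
# A finite type algebra between regular rings is a local complete intersection
-/

universe u
open CategoryTheory

namespace Groth.Agent.H59.Kosz

/-- a weakly regular sequence is Koszul-regular -/
theorem kreg_of_isWeaklyRegular {R : Type u} [CommRing R] (l : List R)
    (h : RingTheory.Sequence.IsWeaklyRegular R l) : LCI.IsKoszulRegularSeq R l :=
  (kreg_iff l).mpr (fun n hn => (ex_iff _ n).mpr ((kz_regular l R h).1 n (by omega)))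

/-- in a regular local ring, an ideal with regular local quotient is generated by a
Koszul-regular sequence -/
theorem exists_kreg_of_regular_quotient (R : Type u) [CommRing R] [IsRegularLocalRing R]
    (J : Ideal R) [IsRegularLocalRing (R ⧸ J)] :
    ∃ l : List R, LCI.IsKoszulRegularSeq R l ∧ J = Ideal.span {x | x ∈ l} := by
  obtain ⟨c, k, x, y, hdim, hmax, hJ, -⟩ :=
    Groth.Agent.H23.exists_generators_of_regular_quotient R J
  have hreg := Groth.Agent.H23.isRegular_generators R (c + k) hdim.symm (Fin.append x y)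
    (by rw [Groth.Agent.H23.range_append, hmax])
  have hw : RingTheory.Sequence.IsWeaklyRegular R (List.ofFn x) := by
    have := hreg.toIsWeaklyRegular
    rw [List.ofFn_fin_append] at this
    exact ((RingTheory.Sequence.isWeaklyRegular_append_iff R _ _).mp this).1
  refine ⟨List.ofFn x, kreg_of_isWeaklyRegular _ hw, ?_⟩
  rw [hJ]
  congr 1
  ext z
  simp [List.mem_ofFn]

/-- **Finite type algebras between regular rings are local complete intersections.** -/
theorem isLCI_of_regular (A B : Type u) [CommRing A] [CommRing B] [Algebra A B]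
    [IsRegularRing A] [IsRegularRing B] [hft : Algebra.FiniteType A B] : LCI.IsLCI A B := by
  obtain ⟨n, α, hα⟩ := Algebra.FiniteType.iff_quotient_mvPolynomial''.mp hft
  refine ⟨hft, n, α, hα, ?_⟩
  set I := RingHom.ker α.toRingHom with hI
  haveI : IsRegularRing (MvPolynomial (Fin n) A ⧸ I) :=
    IsRegularRing.of_ringEquiv (RingHom.quotientKerEquivOfSurjective hα).symm
  apply kregIdeal_of_stalks
  intro 𝔮 h𝔮 hI𝔮
  obtain ⟨Pb, hPb, rfl⟩ : ∃ Pb : Ideal (MvPolynomial (Fin n) A ⧸ I), Pb.IsPrime ∧
      𝔮 = Pb.comap (Ideal.Quotient.mk I) := by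
    refine ⟨𝔮.map (Ideal.Quotient.mk I), ?_, ?_⟩
    · exact Ideal.map_isPrime_of_surjective Ideal.Quotient.mk_surjective
        (by rw [Ideal.mk_ker]; exact hI𝔮)
    · rw [Ideal.comap_map_of_surjective _ Ideal.Quotient.mk_surjective, ← RingHom.ker_eq_comap_bot,
        Ideal.mk_ker]
      exact (sup_eq_left.mpr hI𝔮).symm
  obtain ⟨e⟩ := Groth.Agent.H59.Goren4.exists_quot_loc_equiv I Pb
  haveI : IsRegularLocalRing (Localization.AtPrime Pb) := inferInstance
  haveI : IsRegularLocalRing (Localization.AtPrime (Pb.comap (Ideal.Quotient.mk I)) ⧸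
      I.map (algebraMap (MvPolynomial (Fin n) A)
        (Localization.AtPrime (Pb.comap (Ideal.Quotient.mk I))))) :=
    IsRegularLocalRing.of_ringEquiv (R := Localization.AtPrime Pb) e.symm
  obtain ⟨l, hl, hspan⟩ := exists_kreg_of_regular_quotient
    (Localization.AtPrime (Pb.comap (Ideal.Quotient.mk I)))
    (I.map (algebraMap (MvPolynomial (Fin n) A)
      (Localization.AtPrime (Pb.comap (Ideal.Quotient.mk I)))))
  exact ⟨l, hl, hspan⟩

end Groth.Agent.H59.Kosz
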