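import Mathlib
import Groth.Prelude.Def_Flat
import Groth.Agent.H9.FibDimTop
import Groth.Agent.S9175
import Groth.Agent.S14385

/-!
# (LNNS) scheme form of local Noether normalization (helper59, squad piece for helper48, S0442)
-/

set_option autoImplicit false
universe u
open AlgebraicGeometry CategoryTheory Limits

namespace Groth.Agent.H59.LSF_LNNS

open Groth.Agent.H9.FibDim

/-- (LNNS), with (SM) as an explicit hypothesis. -/
theorem exists_local_quasiFinite_of_SM
    (hSM : ∀ (R : Type u) [CommRing R] (n : ℕ), SmoothOfRelativeDimension n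
      (Spec.map (CommRingCat.ofHom (algebraMap R (MvPolynomial (Fin n) R)))))
    {X S : Scheme.{u}} (f : X ⟶ S) [LocallyOfFiniteType f] (x : X) (n : ℕ)
    (hn : FlatMor.fibreDimAt f x = n) :
    ∃ (W Y₀ : Scheme.{u}) (j : W ⟶ X) (π₀ : W ⟶ Y₀) (h₀ : Y₀ ⟶ S) (w : W), IsOpenImmersion j ∧
      j w = x ∧ π₀ ≫ h₀ = j ≫ f ∧ SmoothOfRelativeDimension n h₀ ∧ LocallyOfFiniteType π₀ ∧
      LocallyQuasiFinite π₀ := by
  obtain ⟨V, hV, hxV, -⟩ :=
    exists_isAffineOpen_mem_and_subset (X := S) (x := f.base x) (U := ⊤) trivial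
  obtain ⟨U, hU, hxU, e⟩ :=
    exists_isAffineOpen_mem_and_subset (X := X) (x := x) (U := f ⁻¹ᵁ V) hxV
  letI : Algebra Γ(S, V) Γ(X, U) := (f.appLE V U e).hom.toAlgebra
  haveI : Algebra.FiniteType Γ(S, V) Γ(X, U) := f.finiteType_appLE hV hU e
  have hx' : x ∈ Set.range hU.fromSpec.base := by
    rw [hU.range_fromSpec]; exact hxU
  obtain ⟨q, rfl⟩ := hx'
  have htfd : tfd (PrimeSpectrum.comap (algebraMap Γ(S, V) Γ(X, U))) q = n := by
    rw [← hn]
    exact (fibreDimAt_fromSpec f hU hV e q).symm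
  haveI hqp : q.asIdeal.IsPrime := q.isPrime
  set p : Ideal Γ(S, V) := q.asIdeal.under Γ(S, V) with hp
  haveI : p.IsPrime := Ideal.IsPrime.under _ _
  haveI : q.asIdeal.LiesOver p := ⟨rfl⟩
  obtain ⟨Q, hQ⟩ := exists_fiber_prime p q.asIdeal
  have hdim : FlatMor.localDim (PrimeSpectrum (p.Fiber Γ(X, U))) Q = (n : WithBot ℕ∞) := by
    rw [localDim_fiber_eq_tfd p q rfl Q hQ]
    exact htfd
  obtain ⟨g, hgq, φ, hφft, hφqf⟩ :=
    Groth.Agent.S9175.result Γ(S, V) Γ(X, U) p q.asIdeal Q hQ n hdim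
  -- the point of `Spec B_g`
  have hqmem : q ∈ Set.range (PrimeSpectrum.comap (algebraMap Γ(X, U) (Localization.Away g))) := by
    rw [PrimeSpectrum.localization_away_comap_range (Localization.Away g) g]
    exact hgq
  obtain ⟨w, hw⟩ := hqmem
  refine ⟨Spec (CommRingCat.of (Localization.Away g)),
    Spec (CommRingCat.of (MvPolynomial (Fin n) Γ(S, V))),
    Spec.map (CommRingCat.ofHom (algebraMap Γ(X, U) (Localization.Away g))) ≫ hU.fromSpec,
    Spec.map (CommRingCat.ofHom φ.toRingHom),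
    Spec.map (CommRingCat.ofHom (algebraMap Γ(S, V) (MvPolynomial (Fin n) Γ(S, V)))) ≫ hV.fromSpec,
    w, ?_, ?_, ?_, ?_, ?_, ?_⟩
  · infer_instance
  · show hU.fromSpec.base ((Spec.map (CommRingCat.ofHom (algebraMap Γ(X, U)
      (Localization.Away g)))).base w) = hU.fromSpec.base q
    congr 1
  · rw [Category.assoc, ← IsAffineOpen.SpecMap_appLE_fromSpec f hV hU e, ← Category.assoc,
      ← Category.assoc, ← Spec.map_comp, ← Spec.map_comp]
    congr 2
    ext a
    show φ (algebraMap _ _ a) = algebraMap Γ(X, U) (Localization.Away g) ((f.appLE V U e).hom a)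
    rw [φ.commutes]
    rfl
  · haveI := hSM Γ(S, V) n
    have : SmoothOfRelativeDimension (n + 0)
        (Spec.map (CommRingCat.ofHom (algebraMap Γ(S, V) (MvPolynomial (Fin n) Γ(S, V)))) ≫
          hV.fromSpec) := inferInstance
    simpa using this
  · rw [HasRingHomProperty.Spec_iff (P := @LocallyOfFiniteType)]
    exact hφft
  · rw [HasRingHomProperty.Spec_iff (P := @LocallyQuasiFinite)]
    exact hφqf

/-- (SM) affine space is smooth of relative dimension `n`. -/
theorem smoothOfRelativeDimension_SpecMap_mvPolynomial (R : Type u) [CommRing R] (n : ℕ) :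
    SmoothOfRelativeDimension n
      (Spec.map (CommRingCat.ofHom (algebraMap R (MvPolynomial (Fin n) R)))) := by
  rw [HasRingHomProperty.Spec_iff (P := @SmoothOfRelativeDimension n)]
  apply RingHom.locally_of RingHom.isStandardSmoothOfRelativeDimension_respectsIso
  show RingHom.IsStandardSmoothOfRelativeDimension n (algebraMap R (MvPolynomial (Fin n) R))
  rw [RingHom.isStandardSmoothOfRelativeDimension_algebraMap]
  exact Groth.Agent.S14385.mvPoly_isStandardSmooth R n

/-- (LNNS) -/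
theorem exists_local_quasiFinite {X S : Scheme.{u}} (f : X ⟶ S) [LocallyOfFiniteType f] (x : X)
    (n : ℕ) (hn : FlatMor.fibreDimAt f x = n) :
    ∃ (W Y₀ : Scheme.{u}) (j : W ⟶ X) (π₀ : W ⟶ Y₀) (h₀ : Y₀ ⟶ S) (w : W), IsOpenImmersion j ∧
      j w = x ∧ π₀ ≫ h₀ = j ≫ f ∧ SmoothOfRelativeDimension n h₀ ∧ LocallyOfFiniteType π₀ ∧
      LocallyQuasiFinite π₀ :=
  exists_local_quasiFinite_of_SM smoothOfRelativeDimension_SpecMap_mvPolynomial f x n hn

end Groth.Agent.H59.LSF_LNNS
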