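import Groth.Agent.H59.KRegFF
import Groth.Agent.H56.LciComp

/-!
# Descent of local complete intersection algebras along a finite jointly surjective flat family
-/

universe u
open TensorProduct

namespace Groth.Agent.H59.Kosz

section pi

variable {P : Type u} [CommRing P] {m : ℕ} (Q : Fin m → Type u) [∀ j, CommRing (Q j)]

/-- the `j`-th factor of a finite product is the localization at the `j`-th idempotent -/
lemma isLocalization_away_single (j : Fin m) :
    letI : Algebra (∀ j, Q j) (Q j) := (Pi.evalRingHom Q j).toAlgebra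
    IsLocalization.Away (Pi.single j (1 : Q j) : ∀ j, Q j) (Q j) := by
  classical
  letI : Algebra (∀ j, Q j) (Q j) := (Pi.evalRingHom Q j).toAlgebra
  apply IsLocalization.away_of_isIdempotentElem_of_mul
  · show (Pi.single j (1 : Q j) : ∀ j, Q j) * Pi.single j 1 = Pi.single j 1
    funext k
    by_cases hk : k = j
    · subst hk; simp
    · simp [Pi.single_eq_of_ne hk]
  · intro x y
    show x j = y j ↔ _
    constructor
    · intro h
      funext k
      by_cases hk : k = j
      · subst hk; simp [h]
      · simp [Pi.single_eq_of_ne hk]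
    · intro h
      have := congrFun h j
      simpa using this
  · intro x
    exact ⟨Function.update 0 j x, by
      show (Function.update (0 : ∀ j, Q j) j x) j = x
      simp⟩

variable [∀ j, Algebra P (Q j)]

/-- a finite product of flat algebras, jointly surjective on spectra, is faithfully flat -/
theorem faithfullyFlat_pi [∀ j, Module.Flat P (Q j)]
    (hsurj : ∀ p : PrimeSpectrum P, ∃ j,
      p ∈ Set.range (PrimeSpectrum.comap (algebraMap P (Q j)))) :
    Module.FaithfullyFlat P (∀ j, Q j) := by
  classical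
  haveI : Module.Flat P (∀ j, Q j) :=
    Module.Flat.of_linearEquiv (DirectSum.linearEquivFunOnFintype P (Fin m) Q).symm
  apply Module.FaithfullyFlat.of_comap_surjective
  intro p
  obtain ⟨j, q, rfl⟩ := hsurj p
  refine ⟨PrimeSpectrum.comap (Pi.evalRingHom Q j) q, ?_⟩
  rw [← PrimeSpectrum.comap_comp_apply]
  rfl

/-- Koszul-regularity of an extended ideal in a finite product, factor by factor -/
theorem kregIdeal_map_pi (I : Ideal P)
    (h : ∀ j, LCI.IsKoszulRegularIdeal (I.map (algebraMap P (Q j)))) :
    LCI.IsKoszulRegularIdeal (I.map (algebraMap P (∀ j, Q j))) := by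
  classical
  apply kregIdeal_intro
  intro 𝔮 h𝔮
  obtain ⟨j, hj⟩ : ∃ j, (Pi.single j (1 : Q j) : ∀ j, Q j) ∉ 𝔮.asIdeal := by
    by_contra hcon
    push Not at hcon
    have h1 : (∑ j, (Pi.single j (1 : Q j) : ∀ j, Q j)) ∈ 𝔮.asIdeal :=
      Ideal.sum_mem _ (fun j _ => hcon j)
    rw [Finset.univ_sum_single] at h1
    exact 𝔮.isPrime.ne_top ((Ideal.eq_top_iff_one _).mpr h1)
  refine kregIdeal_at_of_away _ (Pi.single j (1 : Q j)) ?_ 𝔮 h𝔮 hj
  letI : Algebra (∀ j, Q j) (Q j) := (Pi.evalRingHom Q j).toAlgebra
  haveI : IsLocalization.Away (Pi.single j (1 : Q j) : ∀ j, Q j) (Q j) :=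
    isLocalization_away_single Q j
  let ε : Q j ≃ₐ[∀ j, Q j] Localization.Away (Pi.single j (1 : Q j) : ∀ j, Q j) :=
    IsLocalization.algEquiv (Submonoid.powers (Pi.single j (1 : Q j) : ∀ j, Q j)) _ _
  have := kregIdeal_ringEquiv ε.toRingEquiv _ (h j)
  convert this using 1
  rw [Ideal.map_map, Ideal.map_map]
  congr 1
  ext x
  show _ = ε (algebraMap P (Q j) x)
  have : algebraMap P (Q j) x = algebraMap (∀ j, Q j) (Q j) (algebraMap P (∀ j, Q j) x) := rfl
  rw [this, ε.commutes]
  rfl

end pi

section tensor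

open MvPolynomial

variable (A A' B : Type u) [CommRing A] [CommRing A'] [CommRing B] [Algebra A A'] [Algebra A B]

/-- the kernel of a base-changed presentation is Koszul-regular if the base change is LCI -/
theorem kregIdeal_map_includeRight_of_isLCI (n : ℕ) (α : MvPolynomial (Fin n) A →ₐ[A] B)
    (hα : Function.Surjective α) (h : LCI.IsLCI A' (A' ⊗[A] B)) :
    LCI.IsKoszulRegularIdeal ((RingHom.ker α.toRingHom).map
      (Algebra.TensorProduct.includeRight :
        MvPolynomial (Fin n) A →ₐ[A] A' ⊗[A] MvPolynomial (Fin n) A).toRingHom) := by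
  let fT : A' ⊗[A] MvPolynomial (Fin n) A →ₐ[A'] A' ⊗[A] B :=
    Algebra.TensorProduct.map (AlgHom.id A' A') α
  have hfT : Function.Surjective fT := Algebra.FiniteType.baseChangeAux_surj A' hα
  have hk : RingHom.ker fT.toRingHom = (RingHom.ker α.toRingHom).map
      (Algebra.TensorProduct.includeRight :
        MvPolynomial (Fin n) A →ₐ[A] A' ⊗[A] MvPolynomial (Fin n) A).toRingHom :=
    Algebra.TensorProduct.lTensor_ker (A := A') α hα
  rw [← hk]
  let b : Fin n → A' ⊗[A] B := fun i => 1 ⊗ₜ α (X i)
  let e : A' ⊗[A] MvPolynomial (Fin n) A ≃ₐ[A'] MvPolynomial (Fin n) A' :=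
    MvPolynomial.algebraTensorAlgEquiv A A'
  have hcomp : fT.comp e.symm.toAlgHom = aeval (R := A') b := by
    apply MvPolynomial.algHom_ext
    intro i
    simp [fT, e, b]
  have hsurj : Function.Surjective (aeval (R := A') b) := by
    rw [← hcomp]
    exact hfT.comp e.symm.surjective
  have hKR := KR_of_isLCI h b hsurj
  unfold KR at hKR
  have hker : RingHom.ker fT.toRingHom =
      (RingHom.ker (aeval (R := A') b).toRingHom).comap (e.toRingEquiv : _ →+* _) := by
    rw [← hcomp]
    ext x
    simp only [RingHom.mem_ker, Ideal.mem_comap]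
    show fT x = 0 ↔ fT (e.symm (e x)) = 0
    rw [e.symm_apply_apply]
  rw [hker]
  exact kregIdeal_comap_ringEquiv _ _ hKR

end tensor

end Groth.Agent.H59.Kosz
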