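import Groth.Agent.H59.LCIDesc2

/-!
# Descent of LCI algebras: categorical pushout form
-/

universe u
open TensorProduct CategoryTheory AlgebraicGeometry

namespace Groth.Agent.H59.Kosz

/-- **Descent of LCI algebras** along a finite family of flat ring maps, jointly surjective on
spectra, with the base changes given as categorical pushouts. -/
theorem isLCI_of_flat_family_pushout (A B : Type u) [CommRing A] [CommRing B] [Algebra A B]
    [Algebra.FiniteType A B] (m : ℕ) (A' B' : Fin m → Type u) [∀ j, CommRing (A' j)]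
    [∀ j, CommRing (B' j)] (φ : ∀ j, A →+* A' j) (hφ : ∀ j, (φ j).Flat)
    (ψ : ∀ j, A' j →+* B' j) (χ : ∀ j, B →+* B' j)
    (hpo : ∀ j, IsPushout (CommRingCat.ofHom (algebraMap A B)) (CommRingCat.ofHom (φ j))
      (CommRingCat.ofHom (χ j)) (CommRingCat.ofHom (ψ j)))
    (hsurj : ∀ p : PrimeSpectrum A, ∃ j, p ∈ Set.range (PrimeSpectrum.comap (φ j)))
    (h : ∀ j, letI := (ψ j).toAlgebra; LCI.IsLCI (A' j) (B' j)) : LCI.IsLCI A B := by
  letI : ∀ j, Algebra A (A' j) := fun j => (φ j).toAlgebra
  letI : ∀ j, Algebra (A' j) (B' j) := fun j => (ψ j).toAlgebra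
  letI : ∀ j, Algebra B (B' j) := fun j => (χ j).toAlgebra
  letI : ∀ j, Algebra A (B' j) := fun j => ((ψ j).comp (φ j)).toAlgebra
  haveI : ∀ j, IsScalarTower A (A' j) (B' j) := fun j => .of_algebraMap_eq' rfl
  haveI : ∀ j, IsScalarTower A B (B' j) := fun j => .of_algebraMap_eq' (by
    have := (hpo j).w
    have h2 := congrArg CommRingCat.Hom.hom this
    simp only [CommRingCat.hom_comp, CommRingCat.hom_ofHom] at h2
    exact h2.symm)
  haveI : ∀ j, Module.Flat A (A' j) := hφ
  haveI : ∀ j, Algebra.IsPushout A (A' j) B (B' j) := fun j =>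
    CommRingCat.isPushout_iff_isPushout.mp (hpo j).flip
  apply isLCI_of_flat_family A B m A' hsurj
  intro j
  exact Groth.Agent.H56.LciComp.isLCI_of_algEquiv _ _ _
    (Algebra.IsPushout.equiv A (A' j) B (B' j)).symm (h j)

end Groth.Agent.H59.Kosz
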