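import Groth.Agent.S2103

/-!
# Quasi-regular sequences: appending an `H_1`-regular sequence modulo the ideal
-/

universe u
open MvPolynomial

namespace Groth.Agent.H59.QReg

section split
variable {n m : ℕ}

/-- the `X`-part of a multi-index -/
noncomputable def alphaOf (d : Fin (n+m) →₀ ℕ) : Fin n →₀ ℕ :=
  Finsupp.equivFunOnFinite.symm (fun i => d (Fin.castAdd m i))

/-- the `Y`-part of a multi-index -/
noncomputable def betaOf (d : Fin (n+m) →₀ ℕ) : Fin m →₀ ℕ :=
  Finsupp.equivFunOnFinite.symm (fun j => d (Fin.natAdd n j))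

@[simp] lemma alphaOf_apply (d : Fin (n+m) →₀ ℕ) (i : Fin n) :
    alphaOf d i = d (Fin.castAdd m i) := rfl

@[simp] lemma betaOf_apply (d : Fin (n+m) →₀ ℕ) (j : Fin m) :
    betaOf d j = d (Fin.natAdd n j) := rfl

lemma split_inj {d d' : Fin (n+m) →₀ ℕ} (h1 : alphaOf d = alphaOf d') (h2 : betaOf d = betaOf d') :
    d = d' := by
  ext k
  induction k using Fin.addCases with
  | left i => simpa using DFunLike.congr_fun h1 i
  | right j => simpa using DFunLike.congr_fun h2 j

lemma degree_split (d : Fin (n+m) →₀ ℕ) :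
    d.degree = (alphaOf d).degree + (betaOf d).degree := by
  rw [Finsupp.degree_eq_sum, Finsupp.degree_eq_sum, Finsupp.degree_eq_sum, Fin.sum_univ_add]
  rfl

lemma prod_split {A : Type u} [CommRing A] (f : Fin n → A) (g : Fin m → A) (d : Fin (n+m) →₀ ℕ) :
    ∏ k, (Fin.append f g k) ^ d k = (∏ i, f i ^ alphaOf d i) * (∏ j, g j ^ betaOf d j) := by
  rw [Fin.prod_univ_add]
  simp [Fin.append_left, Fin.append_right]

end split

section mem
variable {A : Type u} [CommRing A] {n : ℕ}

lemma prod_pow_mem (f : Fin n → A) (α : Fin n →₀ ℕ) :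
    ∏ i, f i ^ α i ∈ (Ideal.span (Set.range f)) ^ α.degree := by
  rw [Finsupp.degree_eq_sum, ← Finset.prod_pow_eq_pow_sum]
  apply Ideal.prod_mem_prod
  intro i _
  exact Ideal.pow_mem_pow (Ideal.subset_span (Set.mem_range_self i)) _

lemma eval_monomial' (f : Fin n → A) (α : Fin n →₀ ℕ) (c : A) :
    eval f (monomial α c) = c * ∏ i, f i ^ α i := by
  rw [eval_monomial, Finsupp.prod_fintype]
  intro i; simp

end mem

section H1
variable {A : Type u} [CommRing A] {n m : ℕ} (f : Fin n → A) (g : Fin m → A)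

/-- trivial relations among `g` over `A` -/
def TrivG : Submodule A (Fin m → A) :=
  Submodule.span A {v | ∃ i j : Fin m, v = Pi.single i (g j) - Pi.single j (g i)}

lemma trivG_rel (t : Fin m → A) (ht : t ∈ TrivG g) : ∑ j, t j * g j = 0 := by
  classical
  induction ht using Submodule.span_induction with
  | mem v hv =>
    obtain ⟨i, j, rfl⟩ := hv
    simp only [Pi.sub_apply, sub_mul, Finset.sum_sub_distrib]
    rw [Finset.sum_eq_single i, Finset.sum_eq_single j]
    · simp [mul_comm]
    · intro b _ hb; rw [Pi.single_eq_of_ne hb, zero_mul]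
    · intro hh; exact absurd (Finset.mem_univ _) hh
    · intro b _ hb; rw [Pi.single_eq_of_ne hb, zero_mul]
    · intro hh; exact absurd (Finset.mem_univ _) hh
  | zero => simp
  | add v w _ _ ihv ihw => simp [add_mul, Finset.sum_add_distrib, ihv, ihw]
  | smul c v _ ihv =>
    simp only [Pi.smul_apply, smul_eq_mul, mul_assoc]
    rw [← Finset.mul_sum, ihv, mul_zero]

/-- relations modulo `L` are trivial modulo `L` -/
def H1mod (L : Ideal A) : Prop :=
  ∀ b : Fin m → A, ∑ j, b j * g j ∈ L → ∃ t ∈ TrivG g, ∀ j, b j - t j ∈ L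

lemma h1mod_of_isH1Regular (L : Ideal A)
    (hg : CAlgX.IsH1Regular (fun j => Ideal.Quotient.mk L (g j))) : H1mod g L := by
  classical
  intro b hb
  have hrel : ∑ j, (Ideal.Quotient.mk L (b j)) * (Ideal.Quotient.mk L (g j)) = 0 := by
    rw [← Ideal.Quotient.eq_zero_iff_mem, map_sum] at hb
    simpa [map_mul] using hb
  have hmem := hg (fun j => Ideal.Quotient.mk L (b j)) hrel
  have hlift : ∀ v ∈ Submodule.span (A ⧸ L) {v : Fin m → A ⧸ L | ∃ i j : Fin m,
      v = Pi.single i (Ideal.Quotient.mk L (g j)) - Pi.single j (Ideal.Quotient.mk L (g i))},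
      ∃ t ∈ TrivG g, ∀ j, Ideal.Quotient.mk L (t j) = v j := by
    intro v hv
    induction hv using Submodule.span_induction with
    | mem v hv =>
      obtain ⟨i, j, rfl⟩ := hv
      refine ⟨_, Submodule.subset_span ⟨i, j, rfl⟩, fun l => ?_⟩
      simp only [Pi.sub_apply, map_sub]
      congr 1
      · exact Pi.apply_single (fun _ => Ideal.Quotient.mk L) (fun _ => map_zero _) i (g j) l
      · exact Pi.apply_single (fun _ => Ideal.Quotient.mk L) (fun _ => map_zero _) j (g i) l
    | zero => exact ⟨0, zero_mem _, fun j => by simp⟩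
    | add v w _ _ ihv ihw =>
      obtain ⟨t1, ht1, e1⟩ := ihv
      obtain ⟨t2, ht2, e2⟩ := ihw
      exact ⟨t1 + t2, add_mem ht1 ht2, fun j => by simp [e1, e2]⟩
    | smul c v _ ihv =>
      obtain ⟨t1, ht1, e1⟩ := ihv
      obtain ⟨c0, rfl⟩ := Ideal.Quotient.mk_surjective c
      exact ⟨c0 • t1, Submodule.smul_mem _ _ ht1, fun j => by simp [e1]⟩
  obtain ⟨t, ht, et⟩ := hlift _ hmem
  refine ⟨t, ht, fun j => ?_⟩
  rw [← Ideal.Quotient.eq_zero_iff_mem, map_sub, et j, sub_self]

lemma isH1Regular_of_h1mod (L : Ideal A) (h : H1mod g L) :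
    CAlgX.IsH1Regular (fun j => Ideal.Quotient.mk L (g j)) := by
  classical
  intro bbar hb
  have hsurj : ∀ j, ∃ a : A, Ideal.Quotient.mk L a = bbar j :=
    fun j => Ideal.Quotient.mk_surjective (bbar j)
  choose b hbb using hsurj
  have hrel : ∑ j, b j * g j ∈ L := by
    rw [← Ideal.Quotient.eq_zero_iff_mem, map_sum, ← hb]
    exact Finset.sum_congr rfl (fun j _ => by rw [map_mul, hbb])
  obtain ⟨t, ht, et⟩ := h b hrel
  have hb' : bbar = fun j => Ideal.Quotient.mk L (t j) := by
    funext j
    rw [← hbb j]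
    exact (Ideal.Quotient.eq.2 (et j))
  rw [hb']
  clear hb' et hrel hbb hb
  induction ht using Submodule.span_induction with
  | mem v hv =>
    obtain ⟨i, j, rfl⟩ := hv
    refine Submodule.subset_span ⟨i, j, ?_⟩
    funext l
    simp only [Pi.sub_apply, map_sub]
    congr 1
    · exact Pi.apply_single (fun _ => Ideal.Quotient.mk L) (fun _ => map_zero _) i (g j) l
    · exact Pi.apply_single (fun _ => Ideal.Quotient.mk L) (fun _ => map_zero _) j (g i) l
  | zero =>
    have : (fun j => Ideal.Quotient.mk L ((0 : Fin m → A) j)) = 0 := by funext j; simp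
    rw [this]; exact zero_mem _
  | add v w _ _ ihv ihw =>
    have : (fun j => Ideal.Quotient.mk L ((v + w) j)) =
        (fun j => Ideal.Quotient.mk L (v j)) + (fun j => Ideal.Quotient.mk L (w j)) := by
      funext j; simp
    rw [this]; exact add_mem ihv ihw
  | smul c v _ ihv =>
    have : (fun j => Ideal.Quotient.mk L ((c • v) j)) =
        (Ideal.Quotient.mk L c) • (fun j => Ideal.Quotient.mk L (v j)) := by
      funext j; simp
    rw [this]; exact Submodule.smul_mem _ _ ihv

theorem h1mod_pow (hf : CAlgX.IsQuasiRegular f) (h1 : H1mod g (Ideal.span (Set.range f))) :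
    ∀ d, H1mod g ((Ideal.span (Set.range f)) ^ d) := by
  classical
  intro d
  induction d with
  | zero =>
    intro b _
    exact ⟨0, zero_mem _, fun j => by simp⟩
  | succ d ih =>
    intro b hb
    set I := Ideal.span (Set.range f) with hI
    obtain ⟨t0, ht0, e0⟩ := ih b (Ideal.pow_le_pow_right (Nat.le_succ d) hb)
    have hU : ∀ j, ∃ U : MvPolynomial (Fin n) A, U.IsHomogeneous d ∧ eval f U = b j - t0 j :=
      fun j => (Ideal.mem_span_pow_iff_exists_isHomogeneous f _).1 (e0 j)
    choose U hUh hUe using hU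
    set W : MvPolynomial (Fin n) A := ∑ j, C (g j) * U j with hW
    have hWh : W.IsHomogeneous d := IsHomogeneous.sum _ _ _ (fun j _ => (hUh j).C_mul (g j))
    have hWe : eval f W ∈ I ^ (d + 1) := by
      have : eval f W = ∑ j, b j * g j := by
        rw [hW, map_sum]
        have h0 := trivG_rel g t0 ht0
        have : ∑ j, b j * g j = ∑ j, (b j - t0 j) * g j := by
          simp only [sub_mul, Finset.sum_sub_distrib, h0, sub_zero]
        rw [this]
        refine Finset.sum_congr rfl (fun j _ => ?_)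
        rw [map_mul, eval_C, hUe, mul_comm]
      rw [this]; exact hb
    have hcoef := hf d W hWh hWe
    have hα : ∀ α : Fin n →₀ ℕ, ∃ t ∈ TrivG g, ∀ j, coeff α (U j) - t j ∈ I := by
      intro α
      apply h1
      have := hcoef α
      rw [hW, coeff_sum] at this
      convert this using 1
      refine Finset.sum_congr rfl (fun j _ => ?_)
      rw [coeff_C_mul, mul_comm]
    choose t ht et using hα
    set s : Finset (Fin n →₀ ℕ) := Finset.univ.biUnion (fun j => (U j).support) with hs
    refine ⟨t0 + ∑ α ∈ s, (∏ i, f i ^ α i) • t α, add_mem ht0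
      (Submodule.sum_mem _ (fun α _ => Submodule.smul_mem _ _ (ht α))), fun j => ?_⟩
    have hbj : b j - t0 j = ∑ α ∈ s, coeff α (U j) * ∏ i, f i ^ α i := by
      rw [← hUe j, eval_eq']
      apply Finset.sum_subset
      · intro α hα
        rw [hs, Finset.mem_biUnion]
        exact ⟨j, Finset.mem_univ _, hα⟩
      · intro α _ hα
        rw [notMem_support_iff.1 hα, zero_mul]
    have : b j - (t0 + ∑ α ∈ s, (∏ i, f i ^ α i) • t α) j =
        ∑ α ∈ s, (coeff α (U j) - t α j) * ∏ i, f i ^ α i := by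
      simp only [Pi.add_apply, Finset.sum_apply, Pi.smul_apply, smul_eq_mul, sub_mul,
        Finset.sum_sub_distrib, ← hbj]
      have : ∑ α ∈ s, (∏ i, f i ^ α i) * t α j = ∑ α ∈ s, t α j * ∏ i, f i ^ α i :=
        Finset.sum_congr rfl (fun α _ => mul_comm _ _)
      rw [this]; ring
    rw [this]
    refine Ideal.sum_mem _ (fun α hα => ?_)
    rw [hs, Finset.mem_biUnion] at hα
    obtain ⟨j', -, hj'⟩ := hα
    have hdeg : α.degree = d := by
      have := hUh j' (mem_support_iff.1 hj')
      rwa [Finsupp.degree_eq_weight_one] 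
    rw [pow_succ']
    refine Ideal.mul_mem_mul (et α j) ?_
    rw [← hdeg]
    exact prod_pow_mem f α

end H1

section main
variable {A : Type u} [CommRing A] {n m : ℕ} (f : Fin n → A) (g : Fin m → A)

lemma sup_pow_succ_le (I J : Ideal A) (a b : ℕ) :
    (I ⊔ J) ^ (a + b + 1) ≤ I ^ (a + 1) ⊔ J ^ (b + 1) := by
  rw [← Ideal.add_eq_sup, ← Ideal.add_eq_sup, add_pow, Ideal.sum_eq_sup]
  apply Finset.sup_le
  intro i hi
  by_cases hn : a + 1 ≤ i
  · exact (Ideal.mul_le_left.trans (Ideal.mul_le_left.trans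
      ((Ideal.pow_le_pow_right hn).trans le_sup_left)))
  · refine (Ideal.mul_le_left.trans (Ideal.mul_le_right.trans
      ((Ideal.pow_le_pow_right ?_).trans le_sup_right)))
    have := Finset.mem_range.1 hi
    omega

/-- elements of `I^p * K` are values of degree `p` forms with coefficients in `K` -/
lemma exists_poly_of_mem_mul (K : Ideal A) (p : ℕ) (y : A)
    (hy : y ∈ (Ideal.span (Set.range f)) ^ p * K) :
    ∃ U : MvPolynomial (Fin n) A, U.IsHomogeneous p ∧ (∀ α, coeff α U ∈ K) ∧ eval f U = y := by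
  rw [← smul_eq_mul] at hy
  refine Submodule.smul_induction_on hy ?_ ?_
  · intro r hr k hk
    obtain ⟨U0, hU0, rfl⟩ := (Ideal.mem_span_pow_iff_exists_isHomogeneous f _).1 hr
    refine ⟨C k * U0, hU0.C_mul k, fun α => ?_, ?_⟩
    · rw [coeff_C_mul]; exact Ideal.mul_mem_right _ _ hk
    · rw [map_mul, eval_C, smul_eq_mul, mul_comm]
  · rintro x y ⟨U1, h1, c1, rfl⟩ ⟨U2, h2, c2, rfl⟩
    exact ⟨U1 + U2, h1.add h2, fun α => by rw [coeff_add]; exact Ideal.add_mem _ (c1 α) (c2 α),
      map_add _ _ _⟩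

theorem quasiRegular_append (hf : CAlgX.IsQuasiRegular f)
    (hg : CAlgX.IsH1Regular (fun j => Ideal.Quotient.mk (Ideal.span (Set.range f)) (g j))) :
    CAlgX.IsQuasiRegular (Fin.append f g) := by
  classical
  intro N P hP hmem d0
  set I := Ideal.span (Set.range f) with hI
  set K := Ideal.span (Set.range g) with hK
  set h := Fin.append f g with hh
  have hJ : Ideal.span (Set.range h) = I ⊔ K := by
    rw [hh, hI, hK, ← Ideal.span_union]
    congr 1
    ext x
    constructor
    · rintro ⟨k, rfl⟩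
      induction k using Fin.addCases with
      | left i => left; exact ⟨i, (Fin.append_left f g i).symm⟩
      | right j => right; exact ⟨j, (Fin.append_right f g j).symm⟩
    · rintro (⟨i, rfl⟩ | ⟨j, rfl⟩)
      · exact ⟨Fin.castAdd m i, Fin.append_left f g i⟩
      · exact ⟨Fin.natAdd n j, Fin.append_right f g j⟩
  rw [hJ] at hmem ⊢
  by_cases hd0 : coeff d0 P = 0
  · rw [hd0]; exact zero_mem _
  have hdegP : ∀ d, coeff d P ≠ 0 → d.degree = N := by
    intro d hd
    have := hP hd
    rwa [Finsupp.degree_eq_weight_one]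
  have hdeg0 : d0.degree = N := hdegP d0 hd0
  set p := (alphaOf d0).degree with hp
  set e := (betaOf d0).degree with he
  have hpe : p + e = N := by rw [← hdeg0, degree_split]
  set a : (Fin (n+m) →₀ ℕ) → A := fun d => coeff d P with ha
  set fa : (Fin (n+m) →₀ ℕ) → A := fun d => ∏ i, f i ^ alphaOf d i with hfa
  set gb : (Fin (n+m) →₀ ℕ) → A := fun d => ∏ j, g j ^ betaOf d j with hgb
  have hfa_mem : ∀ d, fa d ∈ I ^ (alphaOf d).degree := fun d => prod_pow_mem f (alphaOf d)
  have hgb_mem : ∀ d, gb d ∈ K ^ (betaOf d).degree := fun d => prod_pow_mem g (betaOf d)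
  set T : Finset (Fin (n+m) →₀ ℕ) := P.support.filter (fun d => (alphaOf d).degree = p) with hT
  have hTp : ∀ d ∈ T, (alphaOf d).degree = p := fun d hd => (Finset.mem_filter.1 hd).2
  have hTe : ∀ d ∈ T, (betaOf d).degree = e := by
    intro d hd
    have h1 := hdegP d (mem_support_iff.1 (Finset.mem_filter.1 hd).1)
    rw [degree_split, hTp d hd] at h1
    omega
  -- Step (i)
  have step1 : ∑ d ∈ T, a d * (fa d * gb d) ∈ I ^ (p + 1) ⊔ K ^ (e + 1) := by
    have hall : eval h P = ∑ d ∈ P.support, a d * (fa d * gb d) := by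
      rw [eval_eq']
      exact Finset.sum_congr rfl (fun d _ => by rw [prod_split])
    rw [← Finset.sum_filter_add_sum_filter_not P.support
      (fun d => (alphaOf d).degree = p)] at hall
    have hrest : ∑ d ∈ P.support.filter (fun d => ¬ (alphaOf d).degree = p),
        a d * (fa d * gb d) ∈ I ^ (p + 1) ⊔ K ^ (e + 1) := by
      refine Ideal.sum_mem _ (fun d hd => ?_)
      rw [Finset.mem_filter] at hd
      have hdN : (alphaOf d).degree + (betaOf d).degree = N := by
        rw [← degree_split]; exact hdegP d (mem_support_iff.1 hd.1)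
      rcases lt_or_gt_of_ne hd.2 with hlt | hgt
      · apply Ideal.mem_sup_right
        apply Ideal.mul_mem_left
        apply Ideal.mul_mem_left
        exact Ideal.pow_le_pow_right (by omega) (hgb_mem d)
      · apply Ideal.mem_sup_left
        apply Ideal.mul_mem_left
        apply Ideal.mul_mem_right
        exact Ideal.pow_le_pow_right (by omega) (hfa_mem d)
    have hPmem : eval h P ∈ I ^ (p + 1) ⊔ K ^ (e + 1) := by
      apply sup_pow_succ_le I K p e
      rw [hpe]; exact hmem
    have : ∑ d ∈ T, a d * (fa d * gb d) = eval h P -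
        ∑ d ∈ P.support.filter (fun d => ¬ (alphaOf d).degree = p), a d * (fa d * gb d) := by
      rw [hall]; ring
    rw [this]
    exact Ideal.sub_mem _ hPmem hrest
  -- Step (ii)
  set L := I ^ (p + 1) with hL
  set gB : Fin m → A ⧸ L := fun j => Ideal.Quotient.mk L (g j) with hgB
  have hbase : H1mod g I := h1mod_of_isH1Regular g I hg
  have hpow := h1mod_pow f g hf hbase
  have hQRB : CAlgX.IsQuasiRegular gB :=
    Groth.Agent.S2103.result gB (isH1Regular_of_h1mod g L (hpow (p + 1)))
  set Q : MvPolynomial (Fin m) (A ⧸ L) :=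
    ∑ d ∈ T, monomial (betaOf d) (Ideal.Quotient.mk L (a d * fa d)) with hQ
  have hQh : Q.IsHomogeneous e :=
    IsHomogeneous.sum _ _ _ (fun d hd => isHomogeneous_monomial _ (hTe d hd))
  have hspanB : Ideal.span (Set.range gB) = K.map (Ideal.Quotient.mk L) := by
    rw [hK, Ideal.map_span, hgB, ← Set.range_comp]
    rfl
  have hQe : eval gB Q ∈ Ideal.span (Set.range gB) ^ (e + 1) := by
    have h1 : eval gB Q = Ideal.Quotient.mk L (∑ d ∈ T, a d * (fa d * gb d)) := by
      rw [hQ, map_sum, map_sum]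
      refine Finset.sum_congr rfl (fun d _ => ?_)
      rw [eval_monomial']
      have : ∏ j, gB j ^ betaOf d j = Ideal.Quotient.mk L (gb d) := by
        simp only [hgb, hgB, map_prod, map_pow]
      rw [this, ← map_mul, mul_assoc]
    rw [h1, hspanB, ← Ideal.map_pow]
    obtain ⟨x1, hx1, x2, hx2, hx⟩ := Submodule.mem_sup.1 step1
    rw [← hx, map_add, Ideal.Quotient.eq_zero_iff_mem.2 hx1, zero_add]
    exact Ideal.mem_map_of_mem _ hx2
  have hcoefQ := hQRB e Q hQh hQe (betaOf d0)
  set T' : Finset (Fin (n+m) →₀ ℕ) := T.filter (fun d => betaOf d = betaOf d0) with hT'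
  set c : A := ∑ d ∈ T', a d * fa d with hc
  have hcoefQ' : coeff (betaOf d0) Q = Ideal.Quotient.mk L c := by
    rw [hQ, coeff_sum]
    simp only [coeff_monomial]
    rw [← Finset.sum_filter, hc, map_sum]
  rw [hcoefQ', hspanB] at hcoefQ
  obtain ⟨k, hkK, hkc⟩ := (Ideal.mem_map_iff_of_surjective _ Ideal.Quotient.mk_surjective).1 hcoefQ
  have hck : c - k ∈ L := by
    rw [← Ideal.Quotient.eq_zero_iff_mem, map_sub, hkc, sub_self]
  -- Step (iii)
  have hcI : c ∈ I ^ p := by
    refine Ideal.sum_mem _ (fun d hd => ?_)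
    apply Ideal.mul_mem_left
    have := hfa_mem d
    rwa [hTp d (Finset.mem_filter.1 hd).1] at this
  have hkI : k ∈ I ^ p := by
    have : k = c - (c - k) := by ring
    rw [this]
    exact Ideal.sub_mem _ hcI (Ideal.pow_le_pow_right (Nat.le_succ p) hck)
  have hkIK : k ∈ I ^ p * K := by
    obtain ⟨b, hb⟩ := Ideal.mem_span_range_iff_exists_fun.1 hkK
    obtain ⟨t, ht, et⟩ := hpow p b (by rw [hb]; exact hkI)
    have h0 := trivG_rel g t ht
    have : k = ∑ j, (b j - t j) * g j := by
      simp only [sub_mul, Finset.sum_sub_distrib, h0, sub_zero, hb]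
    rw [this]
    exact Ideal.sum_mem _ (fun j _ => Ideal.mul_mem_mul (et j) (Ideal.subset_span ⟨j, rfl⟩))
  -- Step (iv)
  obtain ⟨U, hUh, hUc, hUe⟩ := exists_poly_of_mem_mul f K p k hkIK
  set R : MvPolynomial (Fin n) A := ∑ d ∈ T', monomial (alphaOf d) (a d) with hR
  have hRh : R.IsHomogeneous p :=
    IsHomogeneous.sum _ _ _ (fun d hd =>
      isHomogeneous_monomial _ (hTp d (Finset.mem_filter.1 hd).1))
  have hRe : eval f R = c := by
    rw [hR, map_sum, hc]
    exact Finset.sum_congr rfl (fun d _ => eval_monomial' f _ _)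
  have hRU : eval f (R - U) ∈ I ^ (p + 1) := by
    rw [map_sub, hRe, hUe]; exact hck
  have hfin := hf p (R - U) (hRh.sub hUh) hRU (alphaOf d0)
  have hd0T' : d0 ∈ T' := by
    rw [hT', Finset.mem_filter, hT, Finset.mem_filter]
    exact ⟨⟨mem_support_iff.2 hd0, rfl⟩, rfl⟩
  have hcoefR : coeff (alphaOf d0) R = a d0 := by
    rw [hR, coeff_sum, Finset.sum_eq_single d0]
    · rw [coeff_monomial, if_pos rfl]
    · intro d hd hne
      rw [coeff_monomial, if_neg]
      intro heq
      exact hne (split_inj heq (Finset.mem_filter.1 hd).2)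
    · intro hh'; exact absurd hd0T' hh'
  rw [coeff_sub, hcoefR] at hfin
  have : a d0 = (a d0 - coeff (alphaOf d0) U) + coeff (alphaOf d0) U := by ring
  show a d0 ∈ I ⊔ K
  rw [this]
  exact Ideal.add_mem _ (Ideal.mem_sup_left hfin) (Ideal.mem_sup_right (hUc _))

end main

end Groth.Agent.H59.QReg
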