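import Mathlib

/-!
# helper59: stalks of quasi-coherent ideal sheaves (`IdealSheafData`) as ideals of the local rings
-/

set_option autoImplicit false
universe u
open CategoryTheory AlgebraicGeometry TopologicalSpace

namespace Groth.Agent.H59.StalkIdeal

variable {X : Scheme.{u}}

/-- stalk of an ideal sheaf at a point, as an ideal of the local ring. -/
noncomputable def st (𝓘 : X.IdealSheafData) (x : X) : Ideal (X.presheaf.stalk x) :=
  ⨆ (V : X.affineOpens) (hx : x ∈ V.1), (𝓘.ideal V).map (X.presheaf.germ V.1 x hx).hom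

lemma exists_affine_nhd (x : X) : ∃ V : X.affineOpens, x ∈ V.1 := by
  obtain ⟨W, hW, hxW, -⟩ := Opens.isBasis_iff_nbhd.mp X.isBasis_affineOpens
    (show x ∈ (⊤ : X.Opens) from trivial)
  exact ⟨⟨W, hW⟩, hxW⟩

lemma st_eq (𝓘 : X.IdealSheafData) (x : X) (V : X.affineOpens) (hx : x ∈ V.1) :
    st 𝓘 x = (𝓘.ideal V).map (X.presheaf.germ V.1 x hx).hom := by
  apply le_antisymm
  · refine iSup₂_le fun V' hx' => ?_
    obtain ⟨W, hW, hxW, hWle⟩ := Opens.isBasis_iff_nbhd.mp X.isBasis_affineOpens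
      (show x ∈ V.1 ⊓ V'.1 from ⟨hx, hx'⟩)
    let W' : X.affineOpens := ⟨W, hW⟩
    have hWV : W' ≤ V := fun y hy => (hWle hy).1
    have hWV' : W' ≤ V' := fun y hy => (hWle hy).2
    have h1 := 𝓘.map_ideal hWV
    have h2 := 𝓘.map_ideal hWV'
    have g1 : X.presheaf.map (homOfLE hWV').op ≫ X.presheaf.germ W'.1 x hxW =
        X.presheaf.germ V'.1 x hx' := X.presheaf.germ_res (homOfLE hWV') x hxW
    have g2 : X.presheaf.map (homOfLE hWV).op ≫ X.presheaf.germ W'.1 x hxW =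
        X.presheaf.germ V.1 x hx := X.presheaf.germ_res (homOfLE hWV) x hxW
    rw [← g1, ← g2, CommRingCat.hom_comp, CommRingCat.hom_comp, ← Ideal.map_map, ← Ideal.map_map,
      h1, h2]
  · exact le_iSup₂ (f := fun (V : X.affineOpens) (hx : x ∈ V.1) =>
      (𝓘.ideal V).map (X.presheaf.germ V.1 x hx).hom) V hx

lemma st_mono {𝓘 𝓙 : X.IdealSheafData} (h : 𝓘 ≤ 𝓙) (x : X) : st 𝓘 x ≤ st 𝓙 x := by
  obtain ⟨V, hx⟩ := exists_affine_nhd x
  rw [st_eq 𝓘 x V hx, st_eq 𝓙 x V hx]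
  exact Ideal.map_mono (h V)

lemma le_iff_st {𝓘 𝓙 : X.IdealSheafData} : 𝓘 ≤ 𝓙 ↔ ∀ x, st 𝓘 x ≤ st 𝓙 x := by
  refine ⟨fun h x => st_mono h x, fun h U => ?_⟩
  rw [U.2.ideal_le_iff]
  intro x hx
  rw [← st_eq 𝓘 x U hx, ← st_eq 𝓙 x U hx]
  exact h x

lemma st_top (x : X) : st (⊤ : X.IdealSheafData) x = ⊤ := by
  obtain ⟨V, hx⟩ := exists_affine_nhd x
  rw [st_eq _ x V hx]
  show (⊤ : Ideal Γ(X, V.1)).map _ = ⊤
  exact Ideal.map_top _

lemma st_one (x : X) : st (1 : X.IdealSheafData) x = ⊤ := st_top x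

lemma st_mul (𝓘 𝓙 : X.IdealSheafData) (x : X) : st (𝓘 * 𝓙) x = st 𝓘 x * st 𝓙 x := by
  obtain ⟨V, hx⟩ := exists_affine_nhd x
  rw [st_eq _ x V hx, st_eq 𝓘 x V hx, st_eq 𝓙 x V hx]
  show (𝓘.ideal V * 𝓙.ideal V).map _ = _
  exact Ideal.map_mul _ _ _

lemma st_pow (𝓘 : X.IdealSheafData) (n : ℕ) (x : X) : st (𝓘 ^ n) x = st 𝓘 x ^ n := by
  obtain ⟨V, hx⟩ := exists_affine_nhd x
  rw [st_eq _ x V hx, st_eq 𝓘 x V hx]
  show ((𝓘.ideal V) ^ n).map _ = _
  exact Ideal.map_pow _ _ _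

lemma st_finset_prod {ι : Type*} (s : Finset ι) (f : ι → X.IdealSheafData) (x : X) :
    st (∏ i ∈ s, f i) x = ∏ i ∈ s, st (f i) x := by
  classical
  induction s using Finset.induction_on with
  | empty => simp only [Finset.prod_empty]; rw [st_one, Ideal.one_eq_top]
  | insert a s ha ih => rw [Finset.prod_insert ha, Finset.prod_insert ha, st_mul, ih]

lemma mem_support_iff_st {𝓘 : X.IdealSheafData} {x : X} : x ∈ 𝓘.support ↔ st 𝓘 x ≠ ⊤ := by
  obtain ⟨V, hx⟩ := exists_affine_nhd x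
  rw [Scheme.IdealSheafData.mem_support_iff_of_mem hx, Scheme.mem_zeroLocus_iff, st_eq 𝓘 x V hx]
  constructor
  · intro h htop
    have hle : (𝓘.ideal V).map (X.presheaf.germ V.1 x hx).hom ≤
        IsLocalRing.maximalIdeal (X.presheaf.stalk x) := by
      rw [Ideal.map_le_iff_le_comap]
      intro f hf
      have := h f hf
      rw [Scheme.mem_basicOpen _ _ _ hx] at this
      exact this
    rw [htop] at hle
    exact (IsLocalRing.maximalIdeal.isMaximal _).ne_top (top_le_iff.mp hle)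
  · intro h f hf hfx
    rw [Scheme.mem_basicOpen _ _ _ hx] at hfx
    exact h (Ideal.eq_top_of_isUnit_mem _ (Ideal.mem_map_of_mem _ hf) hfx)

lemma st_specializes (𝓘 : X.IdealSheafData) {ζ x : X} (h : ζ ⤳ x) :
    (st 𝓘 x).map (X.presheaf.stalkSpecializes h).hom = st 𝓘 ζ := by
  obtain ⟨V, hx⟩ := exists_affine_nhd x
  have hζ : ζ ∈ V.1 := h.mem_open V.1.isOpen hx
  rw [st_eq 𝓘 x V hx, st_eq 𝓘 ζ V hζ, Ideal.map_map, ← CommRingCat.hom_comp,
    X.presheaf.germ_stalkSpecializes]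

end Groth.Agent.H59.StalkIdeal
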