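import Mathlib
import Groth.Prelude.Def_BlowUp2
import Groth.Agent.H59.StalkIdeal

/-!
# helper59: local structure of integral effective Cartier ideal sheaves
-/

set_option autoImplicit false
universe u
open CategoryTheory AlgebraicGeometry TopologicalSpace

namespace Groth.Agent.H59.CartierLocal

open Groth.Agent.H59.StalkIdeal

variable {X : Scheme.{u}}

/-- the prime ideal of a point in an affine open, as the contraction of the maximal ideal. -/
noncomputable abbrev pr (V : X.affineOpens) (x : X) (hx : x ∈ V.1) : Ideal Γ(X, V.1) :=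
  (IsLocalRing.maximalIdeal (X.presheaf.stalk x)).comap (X.presheaf.germ V.1 x hx).hom

lemma isLocalization_stalk (V : X.affineOpens) (x : X) (hx : x ∈ V.1) :
    letI := X.presheaf.algebra_section_stalk ⟨x, hx⟩
    IsLocalization.AtPrime (X.presheaf.stalk x) (pr V x hx) := by
  letI := X.presheaf.algebra_section_stalk ⟨x, hx⟩
  have h := V.2.isLocalization_stalk ⟨x, hx⟩
  have e : (V.2.primeIdealOf ⟨x, hx⟩).asIdeal = pr V x hx := by
    rw [V.2.primeIdealOf_eq_map_closedPoint]; rfl
  have e' : (V.2.primeIdealOf ⟨x, hx⟩).asIdeal.primeCompl = (pr V x hx).primeCompl := by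
    ext a
    show a ∉ _ ↔ a ∉ _
    rw [e]
  show IsLocalization (pr V x hx).primeCompl (X.presheaf.stalk x)
  rw [← e']
  exact h

/-- a point of the support: the ideal on an affine open lies in the prime of the point. -/
lemma ideal_le_pr {𝓘 : X.IdealSheafData} (V : X.affineOpens) (x : X) (hx : x ∈ V.1)
    (hxs : x ∈ 𝓘.support) : 𝓘.ideal V ≤ pr V x hx := by
  have h1 : st 𝓘 x ≠ ⊤ := mem_support_iff_st.mp hxs
  have h2 : st 𝓘 x ≤ IsLocalRing.maximalIdeal _ := IsLocalRing.le_maximalIdeal h1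
  rw [st_eq 𝓘 x V hx] at h2
  exact Ideal.le_comap_map.trans (Ideal.comap_mono h2)

lemma mem_support_of_ideal_le_pr {𝓘 : X.IdealSheafData} (V : X.affineOpens) (x : X) (hx : x ∈ V.1)
    (h : 𝓘.ideal V ≤ pr V x hx) : x ∈ 𝓘.support := by
  rw [mem_support_iff_st, st_eq 𝓘 x V hx]
  intro htop
  have : (𝓘.ideal V).map (X.presheaf.germ V.1 x hx).hom ≤ IsLocalRing.maximalIdeal _ :=
    Ideal.map_le_iff_le_comap.mpr h
  rw [htop] at this
  exact (IsLocalRing.maximalIdeal.isMaximal _).ne_top (top_le_iff.mp this)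

/-- (E1) local generator of an effective Cartier ideal sheaf at a stalk. -/
theorem exists_gen {𝓔 : X.IdealSheafData} (hE : BlowUp.IsEffCartierIdeal 𝓔) (x : X) :
    ∃ g : X.presheaf.stalk x, g ∈ nonZeroDivisors (X.presheaf.stalk x) ∧
      st 𝓔 x = Ideal.span {g} := by
  obtain ⟨U, hxU, f, hf, hI⟩ := hE x
  refine ⟨X.presheaf.germ U.1 x hxU f, ?_, ?_⟩
  · letI := X.presheaf.algebra_section_stalk ⟨x, hxU⟩
    haveI := isLocalization_stalk U x hxU
    exact IsLocalization.map_nonZeroDivisors_le (pr U x hxU).primeCompl (X.presheaf.stalk x)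
      (Submonoid.mem_map_of_mem _ hf)
  · rw [st_eq 𝓔 x U hxU, hI, Ideal.map_span, Set.image_singleton]

/-- (E2') on an affine open meeting the support, the ideal of an integral closed subscheme is
prime. -/
theorem ideal_isPrime {𝓔 : X.IdealSheafData} (hint : IsIntegral 𝓔.subscheme) (V : X.affineOpens)
    (h : ((𝓔.support : Set X) ∩ V.1).Nonempty) : (𝓔.ideal V).IsPrime := by
  haveI := hint
  obtain ⟨x, hxs, hxV⟩ := h
  have hr : x ∈ Set.range 𝓔.subschemeι := by rw [𝓔.range_subschemeι]; exact hxs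
  obtain ⟨y, rfl⟩ := hr
  haveI : IsDomain Γ(𝓔.subscheme, 𝓔.subschemeι ⁻¹ᵁ V.1) :=
    @IsIntegral.component_integral _ hint (𝓔.subschemeι ⁻¹ᵁ V.1) ⟨⟨y, hxV⟩⟩
  have e := (𝓔.subschemeObjIso V).commRingCatIsoToRingEquiv
  haveI : IsDomain (Γ(X, V.1) ⧸ 𝓔.ideal V) := e.symm.toMulEquiv.isDomain _
  exact (Ideal.Quotient.isDomain_iff_prime _).mp inferInstance

/-- (E2) the stalk of an integral closed subscheme's ideal at a point of the support is prime. -/
theorem st_isPrime {𝓔 : X.IdealSheafData} (hint : IsIntegral 𝓔.subscheme) (x : X)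
    (hx : x ∈ 𝓔.support) : (st 𝓔 x).IsPrime := by
  obtain ⟨V, hxV⟩ := exists_affine_nhd x
  have hP := ideal_isPrime hint V ⟨x, hx, hxV⟩
  letI := X.presheaf.algebra_section_stalk ⟨x, hxV⟩
  haveI := isLocalization_stalk V x hxV
  rw [st_eq 𝓔 x V hxV]
  refine IsLocalization.isPrime_of_isPrime_disjoint (pr V x hxV).primeCompl _ _ hP ?_
  rw [Set.disjoint_left]
  intro a ha haP
  exact ha (ideal_le_pr V x hxV hx haP)

/-- contraction of the stalk ideal. -/
theorem comap_st {𝓔 : X.IdealSheafData} (hint : IsIntegral 𝓔.subscheme) (V : X.affineOpens) (x : X)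
    (hxV : x ∈ V.1) (hx : x ∈ 𝓔.support) :
    (st 𝓔 x).comap (X.presheaf.germ V.1 x hxV).hom = 𝓔.ideal V := by
  have hP := ideal_isPrime hint V ⟨x, hx, hxV⟩
  letI := X.presheaf.algebra_section_stalk ⟨x, hxV⟩
  haveI := isLocalization_stalk V x hxV
  rw [st_eq 𝓔 x V hxV]
  refine IsLocalization.comap_map_of_isPrime_disjoint (pr V x hxV).primeCompl _ hP ?_
  rw [Set.disjoint_left]
  intro a ha haP
  exact ha (ideal_le_pr V x hxV hx haP)

/-- (E3) the ideal sheaf of an integral closed subscheme is radical. -/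
theorem radical_eq {𝓔 : X.IdealSheafData} (hint : IsIntegral 𝓔.subscheme) : 𝓔.radical = 𝓔 := by
  haveI := hint
  ext U : 2
  rw [Scheme.IdealSheafData.radical_ideal]
  have e := (𝓔.subschemeObjIso U).commRingCatIsoToRingEquiv
  haveI : IsReduced Γ(𝓔.subscheme, 𝓔.subschemeι ⁻¹ᵁ U.1) := inferInstance
  haveI : IsReduced (Γ(X, U.1) ⧸ 𝓔.ideal U) := isReduced_of_injective e.symm e.symm.injective
  exact ((Ideal.isRadical_iff_quotient_reduced _).mpr inferInstance).radical

theorem eq_of_support_eq {𝓔 𝓔' : X.IdealSheafData} (hint : IsIntegral 𝓔.subscheme)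
    (hint' : IsIntegral 𝓔'.subscheme) (h : 𝓔.support = 𝓔'.support) : 𝓔 = 𝓔' := by
  rw [← radical_eq hint, ← radical_eq hint', ← Scheme.IdealSheafData.vanishingIdeal_support,
    ← Scheme.IdealSheafData.vanishingIdeal_support, h]

/-- (E4) the support of an integral closed subscheme is irreducible. -/
theorem isIrreducible_support {𝓔 : X.IdealSheafData} (hint : IsIntegral 𝓔.subscheme) :
    IsIrreducible (𝓔.support : Set X) := by
  haveI := hint
  rw [← 𝓔.range_subschemeι, ← Set.image_univ]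
  exact (IrreducibleSpace.isIrreducible_univ _).image _ 𝓔.subschemeι.continuous.continuousOn

end Groth.Agent.H59.CartierLocal
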