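import Mathlib

/-!
# helper59: principal prime ideals generated by nonzerodivisors
-/

set_option autoImplicit false
universe u

namespace Groth.Agent.H59.PrincPrime

variable {R : Type u} [CommRing R]

/-- `(g^a)` is `(g)`-primary: if `h ∉ (g)` and `h c ∈ (g^a)` then `c ∈ (g^a)`. -/
lemma mem_span_pow_of_mul_mem (g : R) (hg : g ∈ nonZeroDivisors R)
    (hp : (Ideal.span {g}).IsPrime) (h : R) (hh : h ∉ Ideal.span {g}) :
    ∀ (a : ℕ) (c : R), h * c ∈ Ideal.span {g ^ a} → c ∈ Ideal.span {g ^ a} := by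
  intro a
  induction a with
  | zero => intro c _; rw [pow_zero, Ideal.span_singleton_one]; trivial
  | succ a ih =>
    intro c hc
    obtain ⟨d, hd⟩ := Ideal.mem_span_singleton'.mp hc
    have h1 : h * c ∈ Ideal.span {g} := by
      rw [← hd, pow_succ]
      exact Ideal.mem_span_singleton'.mpr ⟨d * g ^ a, by ring⟩
    have h2 : c ∈ Ideal.span {g} := (hp.mem_or_mem h1).resolve_left hh
    obtain ⟨c', rfl⟩ := Ideal.mem_span_singleton'.mp h2
    have h3 : h * c' = d * g ^ a := by
      have : (h * c' - d * g ^ a) * g = 0 := by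
        have : d * g ^ (a + 1) = h * (c' * g) := hd
        rw [pow_succ] at this
        linear_combination -this
      have := (mem_nonZeroDivisors_iff_right.mp hg) _ this
      exact sub_eq_zero.mp this
    have h4 : c' ∈ Ideal.span {g ^ a} := ih c' (h3 ▸ Ideal.mem_span_singleton'.mpr ⟨d, rfl⟩)
    obtain ⟨e, he⟩ := Ideal.mem_span_singleton'.mp h4
    exact Ideal.mem_span_singleton'.mpr ⟨e, by rw [← he, pow_succ]; ring⟩

/-- distinct principal primes with nonzerodivisor generators: no generator lies in the other ideal. -/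
lemma not_mem_of_ne (g g' : R) (hg : g ∈ nonZeroDivisors R)
    (hp : (Ideal.span {g}).IsPrime) (hp' : (Ideal.span {g'}).IsPrime)
    (hne : Ideal.span {g} ≠ Ideal.span {g'}) : g ∉ Ideal.span {g'} := by
  intro hmem
  obtain ⟨u, hu⟩ := Ideal.mem_span_singleton'.mp hmem
  have h1 : u * g' ∈ Ideal.span {g} := hu ▸ Ideal.mem_span_singleton_self g
  rcases hp.mem_or_mem h1 with h2 | h2
  · obtain ⟨v, hv⟩ := Ideal.mem_span_singleton'.mp h2
    have h3 : (v * g' - 1) * g = 0 := by linear_combination hu + g' * hv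
    have h4 := (mem_nonZeroDivisors_iff_right.mp hg) _ h3
    have h5 : v * g' = 1 := sub_eq_zero.mp h4
    exact hp'.ne_top ((Ideal.eq_top_iff_one _).mpr (Ideal.mem_span_singleton'.mpr ⟨v, h5⟩))
  · apply hne
    apply le_antisymm
    · rw [Ideal.span_le, Set.singleton_subset_iff]; exact hmem
    · rw [Ideal.span_le, Set.singleton_subset_iff]; exact h2

/-- **Peeling lemma**: for pairwise distinct principal primes `(g k)` with nonzerodivisor
generators, `⋂ (g k ^ a k) = (∏ g k ^ a k)`. -/
theorem mem_span_prod_of_forall_mem {κ : Type*} [DecidableEq κ] (g : κ → R) (a : κ → ℕ)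
    (s : Finset κ) (hg : ∀ k ∈ s, g k ∈ nonZeroDivisors R)
    (hp : ∀ k ∈ s, (Ideal.span {g k}).IsPrime)
    (hne : ∀ k ∈ s, ∀ l ∈ s, k ≠ l → Ideal.span {g k} ≠ Ideal.span {g l}) (y : R)
    (hy : ∀ k ∈ s, y ∈ Ideal.span {g k ^ a k}) : y ∈ Ideal.span {∏ k ∈ s, g k ^ a k} := by
  induction s using Finset.induction_on with
  | empty => rw [Finset.prod_empty, Ideal.span_singleton_one]; trivial
  | insert k₀ s hk₀ ih =>
    have ih' := ih (fun k hk => hg k (Finset.mem_insert_of_mem hk))
      (fun k hk => hp k (Finset.mem_insert_of_mem hk))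
      (fun k hk l hl => hne k (Finset.mem_insert_of_mem hk) l (Finset.mem_insert_of_mem hl))
      (fun k hk => hy k (Finset.mem_insert_of_mem hk))
    obtain ⟨c, hc⟩ := Ideal.mem_span_singleton'.mp ih'
    have h0 := hy k₀ (Finset.mem_insert_self _ _)
    have hprod : (∏ k ∈ s, g k ^ a k) ∉ Ideal.span {g k₀} := by
      intro hmem
      haveI := hp k₀ (Finset.mem_insert_self _ _)
      obtain ⟨k, hk, hk'⟩ := (Ideal.IsPrime.prod_mem_iff).mp hmem
      have hk'' : g k ∈ Ideal.span {g k₀} := Ideal.IsPrime.mem_of_pow_mem inferInstance _ hk'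
      have hkne : k ≠ k₀ := fun h => hk₀ (h ▸ hk)
      exact not_mem_of_ne (g k) (g k₀) (hg k (Finset.mem_insert_of_mem hk))
        (hp k (Finset.mem_insert_of_mem hk)) (hp k₀ (Finset.mem_insert_self _ _))
        (hne k (Finset.mem_insert_of_mem hk) k₀ (Finset.mem_insert_self _ _) hkne) hk''
    have h1 : c ∈ Ideal.span {g k₀ ^ a k₀} := by
      apply mem_span_pow_of_mul_mem (g k₀) (hg k₀ (Finset.mem_insert_self _ _))
        (hp k₀ (Finset.mem_insert_self _ _)) _ hprod
      rw [mul_comm, hc]; exact h0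
    obtain ⟨d, hd⟩ := Ideal.mem_span_singleton'.mp h1
    rw [Finset.prod_insert hk₀]
    exact Ideal.mem_span_singleton'.mpr ⟨d, by rw [← hc, ← hd]; ring⟩

/-- In a local ring with principal maximal ideal `(g)`, an ideal contained in `(g^n)` but not in
`(g^(n+1))` contains `g^n`. -/
lemma span_pow_le_of_not_le [IsLocalRing R] (g : R)
    (hm : Ideal.span {g} = IsLocalRing.maximalIdeal R) (J : Ideal R) (n : ℕ)
    (h1 : J ≤ Ideal.span {g ^ n}) (h2 : ¬ J ≤ Ideal.span {g ^ (n + 1)}) :
    Ideal.span {g ^ n} ≤ J := by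
  obtain ⟨y, hyJ, hy⟩ := SetLike.not_le_iff_exists.mp h2
  obtain ⟨u, hu⟩ := Ideal.mem_span_singleton'.mp (h1 hyJ)
  have hunit : IsUnit u := by
    by_contra hnu
    have : u ∈ IsLocalRing.maximalIdeal R := (IsLocalRing.mem_maximalIdeal u).mpr hnu
    rw [← hm] at this
    obtain ⟨v, hv⟩ := Ideal.mem_span_singleton'.mp this
    exact hy (Ideal.mem_span_singleton'.mpr ⟨v, by rw [← hu, ← hv, pow_succ]; ring⟩)
  obtain ⟨u', rfl⟩ := hunit
  rw [Ideal.span_le, Set.singleton_subset_iff]
  have : g ^ n = ↑u'⁻¹ * y := by rw [← hu, ← mul_assoc, Units.inv_mul, one_mul]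
  rw [this]
  exact J.mul_mem_left _ hyJ

/-- Krull intersection for a principal proper ideal in a Noetherian local ring. -/
lemma eq_bot_of_forall_le_span_pow [IsLocalRing R] [IsNoetherianRing R] (g : R)
    (hg : g ∈ IsLocalRing.maximalIdeal R) (J : Ideal R) (h : ∀ n : ℕ, J ≤ Ideal.span {g ^ n}) :
    J = ⊥ := by
  have hne : Ideal.span {g} ≠ ⊤ := by
    intro htop
    have : Ideal.span {g} ≤ IsLocalRing.maximalIdeal R := by
      rw [Ideal.span_le, Set.singleton_subset_iff]; exact hg
    rw [htop] at this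
    exact (IsLocalRing.maximalIdeal.isMaximal R).ne_top (top_le_iff.mp this)
  have h1 := Ideal.iInf_pow_eq_bot_of_isLocalRing (Ideal.span {g}) hne
  rw [eq_bot_iff, ← h1]
  refine le_iInf fun n => ?_
  rw [Ideal.span_singleton_pow]
  exact h n

/-- A Noetherian local ring with a nonzerodivisor in its maximal ideal has dimension ≥ 1. -/
lemma one_le_ringKrullDim [IsLocalRing R] (g : R) (hg : g ∈ nonZeroDivisors R)
    (hgm : g ∈ IsLocalRing.maximalIdeal R) : (1 : WithBot ℕ∞) ≤ ringKrullDim R := by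
  have h1 := Ideal.one_le_height_span_singleton_of_mem_nonZeroDivisors hg
  have h2 : Ideal.span {g} ≤ IsLocalRing.maximalIdeal R := by
    rw [Ideal.span_le, Set.singleton_subset_iff]; exact hgm
  have h3 := Ideal.height_mono h2
  rw [← IsLocalRing.maximalIdeal_height_eq_ringKrullDim]
  exact_mod_cast h1.trans h3

/-- In a Noetherian local ring of dimension ≤ 1, a principal prime generated by a nonzerodivisor
is the maximal ideal. -/
lemma span_eq_maximalIdeal [IsLocalRing R] [IsNoetherianRing R] (g : R)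
    (hg : g ∈ nonZeroDivisors R) (hp : (Ideal.span {g}).IsPrime)
    (hdim : ringKrullDim R ≤ 1) : Ideal.span {g} = IsLocalRing.maximalIdeal R := by
  have hle : Ideal.span {g} ≤ IsLocalRing.maximalIdeal R := IsLocalRing.le_maximalIdeal hp.ne_top
  by_contra hne
  have hlt : Ideal.span {g} < IsLocalRing.maximalIdeal R := lt_of_le_of_ne hle hne
  have h1 := Ideal.one_le_height_span_singleton_of_mem_nonZeroDivisors hg
  have h2 := Ideal.height_strict_mono_of_isPrime_of_isPrime hlt
  have h3 : ((IsLocalRing.maximalIdeal R).height : WithBot ℕ∞) ≤ 1 := by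
    rw [IsLocalRing.maximalIdeal_height_eq_ringKrullDim]; exact hdim
  have h4 : (IsLocalRing.maximalIdeal R).height ≤ 1 := by exact_mod_cast h3
  exact absurd (lt_of_le_of_lt h1 h2) (not_lt.mpr h4)

/-- Krull's principal ideal theorem for a local ring with principal maximal ideal. -/
lemma ringKrullDim_le_one [IsLocalRing R] [IsNoetherianRing R] (g : R)
    (hm : Ideal.span {g} = IsLocalRing.maximalIdeal R) : ringKrullDim R ≤ 1 := by
  haveI : (Ideal.span {g}).IsPrincipal := ⟨⟨g, rfl⟩⟩
  have hmin : IsLocalRing.maximalIdeal R ∈ (Ideal.span {g}).minimalPrimes := by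
    rw [hm, Ideal.minimalPrimes_eq_subsingleton_self]
    exact Set.mem_singleton _
  have := Ideal.height_le_one_of_isPrincipal_of_mem_minimalPrimes (Ideal.span {g}) _ hmin
  rw [← IsLocalRing.maximalIdeal_height_eq_ringKrullDim]
  exact_mod_cast this

end Groth.Agent.H59.PrincPrime
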