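import Mathlib
import Groth.Prelude.Def_BlowUp2
import Groth.Agent.H59.StalkIdeal
import Groth.Agent.H59.CartierLocal
import Groth.Agent.H59.PrincPrime

/-!
# helper59: global consequences for integral effective Cartier ideal sheaves
-/

set_option autoImplicit false
set_option linter.style.haveILetI false
universe u
open CategoryTheory AlgebraicGeometry TopologicalSpace

namespace Groth.Agent.H59.CartierGlobal

open Groth.Agent.H59.StalkIdeal Groth.Agent.H59.CartierLocal

variable {X : Scheme.{u}}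

lemma exists_mul_mem {R S : Type*} [CommRing R] [CommRing S] [Algebra R S] (M : Submonoid R)
    [IsLocalization M S] (I : Ideal R) (y : R)
    (h : algebraMap R S y ∈ I.map (algebraMap R S)) : ∃ t ∈ M, t * y ∈ I := by
  obtain ⟨⟨i, s⟩, h1⟩ := (IsLocalization.mem_map_algebraMap_iff M S).mp h
  rw [← map_mul] at h1
  obtain ⟨c, hc⟩ := (IsLocalization.eq_iff_exists M S).mp h1
  refine ⟨c * s, M.mul_mem c.2 s.2, ?_⟩
  have : (c : R) * s * y = c * i := by rw [← hc]; ring
  rw [this]
  exact I.mul_mem_left _ i.2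

/-- comparison of primes gives specialization. -/
lemma specializes_of_pr_le (V : X.affineOpens) (z x : X) (hz : z ∈ V.1) (hx : x ∈ V.1)
    (h : pr V z hz ≤ pr V x hx) : z ⤳ x := by
  have e : ∀ (w : X) (hw : w ∈ V.1), (V.2.primeIdealOf ⟨w, hw⟩).asIdeal = pr V w hw := by
    intro w hw
    rw [V.2.primeIdealOf_eq_map_closedPoint]; rfl
  have h1 : V.2.primeIdealOf ⟨z, hz⟩ ⤳ V.2.primeIdealOf ⟨x, hx⟩ := by
    rw [← PrimeSpectrum.le_iff_specializes]
    show (V.2.primeIdealOf ⟨z, hz⟩).asIdeal ≤ (V.2.primeIdealOf ⟨x, hx⟩).asIdeal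
    rw [e, e]; exact h
  have h2 := h1.map V.2.fromSpec.continuous
  rw [V.2.fromSpec_primeIdealOf, V.2.fromSpec_primeIdealOf] at h2
  exact h2

/-- the support of an integral closed subscheme is contained in the closure of its trace on any
open set which it meets. -/
lemma support_subset_closure_inter {𝓔 : X.IdealSheafData} (hint : IsIntegral 𝓔.subscheme)
    (V : X.Opens) (h : ((𝓔.support : Set X) ∩ V).Nonempty) :
    (𝓔.support : Set X) ⊆ closure ((𝓔.support : Set X) ∩ V) :=
  subset_closure_inter_of_isPreirreducible_of_isOpen (isIrreducible_support hint).2 V.2 h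

/-- (D') two integral closed subschemes with the same stalk ideal at a common point coincide. -/
theorem eq_of_st_eq {𝓔 𝓔' : X.IdealSheafData} (hint : IsIntegral 𝓔.subscheme)
    (hint' : IsIntegral 𝓔'.subscheme) (x : X) (hx : x ∈ 𝓔.support) (hx' : x ∈ 𝓔'.support)
    (h : st 𝓔 x = st 𝓔' x) : 𝓔 = 𝓔' := by
  obtain ⟨V, hxV⟩ := exists_affine_nhd x
  have hP : 𝓔.ideal V = 𝓔'.ideal V := by
    rw [← comap_st hint V x hxV hx, ← comap_st hint' V x hxV hx', h]
  have hinter : (𝓔.support : Set X) ∩ V.1 = (𝓔'.support : Set X) ∩ V.1 := by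
    rw [Scheme.IdealSheafData.coe_support_inter, Scheme.IdealSheafData.coe_support_inter, hP]
  apply eq_of_support_eq hint hint'
  apply le_antisymm
  · intro y hy
    have h1 := support_subset_closure_inter hint V.1 ⟨x, hx, hxV⟩ hy
    rw [hinter] at h1
    exact (closure_minimal Set.inter_subset_left 𝓔'.support.isClosed) h1
  · intro y hy
    have h1 := support_subset_closure_inter hint' V.1 ⟨x, hx', hxV⟩ hy
    rw [← hinter] at h1
    exact (closure_minimal Set.inter_subset_left 𝓔.support.isClosed) h1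

/-- (Gen) a point of the support whose stalk ideal is the maximal ideal is the generic point. -/
theorem specializes_of_st_eq_maximalIdeal {𝓔 : X.IdealSheafData} (hint : IsIntegral 𝓔.subscheme)
    (z : X) (hz : z ∈ 𝓔.support) (hm : st 𝓔 z = IsLocalRing.maximalIdeal _) (x : X)
    (hx : x ∈ 𝓔.support) : z ⤳ x := by
  obtain ⟨V, hzV⟩ := exists_affine_nhd z
  have hP : 𝓔.ideal V = pr V z hzV := by
    rw [← comap_st hint V z hzV hz, hm]
  have hsub : (𝓔.support : Set X) ∩ V.1 ⊆ closure {z} := by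
    rintro y ⟨hy, hyV⟩
    rw [← specializes_iff_mem_closure]
    apply specializes_of_pr_le V z y hzV hyV
    rw [← hP]
    exact ideal_le_pr V y hyV hy
  have h1 := support_subset_closure_inter hint V.1 ⟨z, hz, hzV⟩ hx
  have h2 : x ∈ closure {z} := (closure_minimal hsub isClosed_closure) h1
  exact specializes_iff_mem_closure.mpr h2

/-- if the generic point of an integral closed subscheme lies in the support of `𝓩`, then
`𝓩 ≤ 𝓔`. -/
theorem le_of_generic_mem {𝓔 𝓩 : X.IdealSheafData} (hint : IsIntegral 𝓔.subscheme)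
    (z : X) (hz : z ∈ 𝓔.support) (hm : st 𝓔 z = IsLocalRing.maximalIdeal _)
    (hzZ : z ∈ 𝓩.support) : 𝓩 ≤ 𝓔 := by
  have hsub : 𝓔.support ≤ 𝓩.support := by
    intro x hx
    exact (specializes_of_st_eq_maximalIdeal hint z hz hm x hx).mem_closed 𝓩.support.isClosed hzZ
  calc 𝓩 ≤ 𝓩.radical := Scheme.IdealSheafData.le_radical _
    _ = Scheme.IdealSheafData.vanishingIdeal 𝓩.support :=
        Scheme.IdealSheafData.vanishingIdeal_support.symm
    _ ≤ Scheme.IdealSheafData.vanishingIdeal 𝓔.support :=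
        Scheme.IdealSheafData.vanishingIdeal_antimono hsub
    _ = 𝓔.radical := Scheme.IdealSheafData.vanishingIdeal_support
    _ = 𝓔 := radical_eq hint


/-- (T) transfer from the generic point: containment in a power can be checked at the generic
point of the divisor. -/
theorem le_pow_of_st_le {𝓔 𝓩 : X.IdealSheafData} (hE : BlowUp.IsEffCartierIdeal 𝓔)
    (hint : IsIntegral 𝓔.subscheme) (z : X) (hz : z ∈ 𝓔.support)
    (hm : st 𝓔 z = IsLocalRing.maximalIdeal _) (m : ℕ)
    (h : st 𝓩 z ≤ st 𝓔 z ^ m) : 𝓩 ≤ 𝓔 ^ m := by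
  rw [le_iff_st]
  intro x
  rw [st_pow]
  by_cases hx : x ∈ 𝓔.support
  · have hzx := specializes_of_st_eq_maximalIdeal hint z hz hm x hx
    obtain ⟨V, hxV⟩ := exists_affine_nhd x
    have hzV : z ∈ V.1 := hzx.mem_open V.1.2 hxV
    obtain ⟨g, hg, hgs⟩ := exists_gen hE x
    have hgp : (Ideal.span {g}).IsPrime := hgs ▸ st_isPrime hint x hx
    have hP : 𝓔.ideal V = pr V z hzV := by rw [← comap_st hint V z hzV hz, hm]
    rw [st_eq 𝓩 x V hxV, hgs, Ideal.span_singleton_pow, Ideal.map_le_iff_le_comap]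
    intro y hy
    rw [Ideal.mem_comap]
    have h1 : (X.presheaf.germ V.1 z hzV).hom y ∈
        ((𝓔.ideal V) ^ m).map (X.presheaf.germ V.1 z hzV).hom := by
      have h0 : (X.presheaf.germ V.1 z hzV).hom y ∈ st 𝓩 z := by
        rw [st_eq 𝓩 z V hzV]; exact Ideal.mem_map_of_mem _ hy
      have h2 := h h0
      rw [st_eq 𝓔 z V hzV, ← Ideal.map_pow] at h2
      exact h2
    letI := X.presheaf.algebra_section_stalk ⟨z, hzV⟩
    haveI := isLocalization_stalk V z hzV
    obtain ⟨t, ht, hty⟩ := exists_mul_mem (pr V z hzV).primeCompl (S := X.presheaf.stalk z)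
      ((𝓔.ideal V) ^ m) y h1
    have htP : t ∉ 𝓔.ideal V := by rw [hP]; exact ht
    have h3 : (X.presheaf.germ V.1 x hxV).hom t ∉ Ideal.span {g} := by
      intro hmem
      rw [← hgs] at hmem
      have h5 : t ∈ (st 𝓔 x).comap (X.presheaf.germ V.1 x hxV).hom := hmem
      rw [comap_st hint V x hxV hx] at h5
      exact htP h5
    have h4 : (X.presheaf.germ V.1 x hxV).hom t * (X.presheaf.germ V.1 x hxV).hom y ∈
        Ideal.span {g ^ m} := by
      rw [← map_mul, ← Ideal.span_singleton_pow, ← hgs, st_eq 𝓔 x V hxV, ← Ideal.map_pow]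
      exact Ideal.mem_map_of_mem _ hty
    exact PrincPrime.mem_span_pow_of_mul_mem g hg hgp _ h3 m _ h4
  · have htop : st 𝓔 x = ⊤ := by
      by_contra hne
      exact hx (mem_support_iff_st.mpr hne)
    rw [htop, Ideal.top_pow]
    exact le_top

end Groth.Agent.H59.CartierGlobal
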