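import Mathlib

/-!
# helper59: dimensions of local rings of a scheme along specializations
-/

set_option autoImplicit false
set_option linter.style.haveILetI false
universe u
open CategoryTheory AlgebraicGeometry TopologicalSpace

namespace Groth.Agent.H59.PtDim

variable {X : Scheme.{u}}

lemma dim_le_of_specializes {ζ x : X} (h : ζ ⤳ x) :
    ringKrullDim (X.presheaf.stalk ζ) ≤ ringKrullDim (X.presheaf.stalk x) := by
  rw [ringKrullDim_stalk_eq_coheight, ringKrullDim_stalk_eq_coheight]
  have hle : x ≤ ζ := h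
  exact_mod_cast Order.coheight_anti hle

lemma eq_of_specializes_of_dim_le [IsLocallyNoetherian X] {ζ x : X} (h : ζ ⤳ x)
    (hle : ringKrullDim (X.presheaf.stalk x) ≤ ringKrullDim (X.presheaf.stalk ζ)) : ζ = x := by
  by_contra hne
  have hfin : ringKrullDim (X.presheaf.stalk x) < ⊤ := ringKrullDim_lt_top
  rw [ringKrullDim_stalk_eq_coheight, ringKrullDim_stalk_eq_coheight] at hle
  rw [ringKrullDim_stalk_eq_coheight] at hfin
  have hle' : Order.coheight x ≤ Order.coheight ζ := by exact_mod_cast hle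
  have hfin' : Order.coheight x < ⊤ := by
    have h0 : ((Order.coheight x : ℕ∞) : WithBot ℕ∞) < ((⊤ : ℕ∞) : WithBot ℕ∞) := hfin
    exact WithBot.coe_lt_coe.mp h0
  have hxz : x ≤ ζ := h
  have hlt : x < ζ := lt_of_le_not_ge hxz (fun hge => hne (Specializes.antisymm h hge).eq)
  have h1 := Order.coheight_add_one_le hlt
  have h2 : Order.coheight ζ + 1 ≤ Order.coheight ζ := h1.trans hle'
  have h3 : Order.coheight ζ ≠ ⊤ := ne_top_of_le_ne_top hfin'.ne (le_trans le_self_add h1)
  exact absurd h2 (not_le.mpr (ENat.lt_add_one_iff h3 |>.mpr le_rfl))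

/-- every point has a generization whose local ring has dimension zero. -/
lemma exists_generization_dim_zero [IsLocallyNoetherian X] (x : X) :
    ∃ ζ : X, ζ ⤳ x ∧ ringKrullDim (X.presheaf.stalk ζ) = 0 := by
  have key : ∀ (n : ℕ) (x : X), Order.coheight x = n →
      ∃ ζ : X, ζ ⤳ x ∧ Order.coheight ζ = 0 := by
    intro n
    induction n using Nat.strong_induction_on with
    | _ n ih =>
      intro x hx
      by_cases h0 : Order.coheight x = 0
      · exact ⟨x, specializes_rfl, h0⟩
      · rw [Order.coheight_eq_zero] at h0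
        obtain ⟨y, hy⟩ := not_isMax_iff.mp h0
        have h1 := Order.coheight_add_one_le hy
        rw [hx] at h1
        have hyfin : Order.coheight y ≠ ⊤ := by
          intro htop
          rw [htop] at h1
          simp at h1
        obtain ⟨m, hm⟩ := ENat.ne_top_iff_exists.mp hyfin
        have hmn : m < n := by
          rw [← hm] at h1
          have : ((m + 1 : ℕ) : ℕ∞) ≤ n := by exact_mod_cast h1
          exact_mod_cast this
        obtain ⟨ζ, hζ, hζ0⟩ := ih m hmn y hm.symm
        have hyx : y ⤳ x := hy.le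
        exact ⟨ζ, hζ.trans hyx, hζ0⟩
  have hfin : ringKrullDim (X.presheaf.stalk x) < ⊤ := ringKrullDim_lt_top
  rw [ringKrullDim_stalk_eq_coheight] at hfin
  have hfin' : Order.coheight x ≠ ⊤ := by
    have h0 : ((Order.coheight x : ℕ∞) : WithBot ℕ∞) < ((⊤ : ℕ∞) : WithBot ℕ∞) := hfin
    exact (WithBot.coe_lt_coe.mp h0).ne
  obtain ⟨n, hn⟩ := ENat.ne_top_iff_exists.mp hfin'
  obtain ⟨ζ, hζ, hζ0⟩ := key n x hn.symm
  refine ⟨ζ, hζ, ?_⟩
  rw [ringKrullDim_stalk_eq_coheight, hζ0]
  rfl

/-- if the maximal points of a set have local rings of dimension ≥ 2, so do all its points. -/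
lemma two_le_dim_of_maximal [IsLocallyNoetherian X] (Z' : Set X)
    (hcodim : ∀ z ∈ Z', (∀ y ∈ Z', y ⤳ z → y = z) →
      (2 : WithBot ℕ∞) ≤ ringKrullDim (X.presheaf.stalk z)) (z : X) (hz : z ∈ Z') :
    (2 : WithBot ℕ∞) ≤ ringKrullDim (X.presheaf.stalk z) := by
  classical
  let S : Set X := {y | y ∈ Z' ∧ y ⤳ z}
  have hS : S.Nonempty := ⟨z, hz, specializes_rfl⟩
  obtain ⟨y, hyS, hymin⟩ := WellFounded.has_min
    (InvImage.wf (fun y : X => Order.coheight y) (wellFounded_lt (α := ℕ∞))) S hS
  have hmax : ∀ y' ∈ Z', y' ⤳ y → y' = y := by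
    intro y' hy' hy'y
    apply eq_of_specializes_of_dim_le hy'y
    have h1 := hymin y' ⟨hy', hy'y.trans hyS.2⟩
    rw [ringKrullDim_stalk_eq_coheight, ringKrullDim_stalk_eq_coheight]
    have h2 : Order.coheight y ≤ Order.coheight y' := not_lt.mp h1
    exact_mod_cast h2
  exact (hcodim y hyS.1 hmax).trans (dim_le_of_specializes hyS.2)

end Groth.Agent.H59.PtDim
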