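import Mathlib
import Groth.Prelude.Def_BlowUp2
import Groth.Agent.H59.StalkIdeal
import Groth.Agent.H59.CartierLocal
import Groth.Agent.H59.CartierGlobal
import Groth.Agent.H59.PrincPrime
import Groth.Agent.H59.PtDim

/-!
# helper59: generic points of integral effective Cartier divisors, finiteness of the set of
divisors containing a closed subscheme
-/

set_option autoImplicit false
set_option linter.style.haveILetI false
universe u
open CategoryTheory AlgebraicGeometry TopologicalSpace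

namespace Groth.Agent.H59.CartierSum

open Groth.Agent.H59.StalkIdeal Groth.Agent.H59.CartierLocal Groth.Agent.H59.CartierGlobal

variable {X : Scheme.{u}}

/-- every prime of the ring of an affine open is the prime of a point. -/
lemma exists_point_of_prime (V : X.affineOpens) (q : Ideal Γ(X, V.1)) [hq : q.IsPrime] :
    ∃ (y : X) (hy : y ∈ V.1), pr V y hy = q := by
  let p : PrimeSpectrum Γ(X, V.1) := ⟨q, hq⟩
  have hy : V.2.fromSpec p ∈ V.1 := by
    have : V.2.fromSpec p ∈ Set.range V.2.fromSpec := ⟨p, rfl⟩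
    rw [V.2.range_fromSpec] at this
    exact this
  refine ⟨V.2.fromSpec p, hy, ?_⟩
  have e : (V.2.primeIdealOf ⟨V.2.fromSpec p, hy⟩).asIdeal = pr V (V.2.fromSpec p) hy := by
    rw [V.2.primeIdealOf_eq_map_closedPoint]; rfl
  rw [← e]
  have h1 : V.2.fromSpec (V.2.primeIdealOf ⟨V.2.fromSpec p, hy⟩) = V.2.fromSpec p :=
    V.2.fromSpec_primeIdealOf ⟨V.2.fromSpec p, hy⟩
  have h2 := V.2.fromSpec.isOpenEmbedding.injective h1
  rw [h2]

lemma support_nonempty {𝓔 : X.IdealSheafData} (hint : IsIntegral 𝓔.subscheme) :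
    (𝓔.support : Set X).Nonempty := by
  haveI := hint
  obtain ⟨y⟩ : Nonempty 𝓔.subscheme := inferInstance
  refine ⟨𝓔.subschemeι y, ?_⟩
  rw [← 𝓔.range_subschemeι]
  exact ⟨y, rfl⟩

/-- the generic point of an integral closed subscheme. -/
theorem exists_generic {𝓔 : X.IdealSheafData} (hint : IsIntegral 𝓔.subscheme) :
    ∃ ξ : X, ξ ∈ 𝓔.support ∧ st 𝓔 ξ = IsLocalRing.maximalIdeal (X.presheaf.stalk ξ) := by
  obtain ⟨x, hx⟩ := support_nonempty hint
  obtain ⟨V, hxV⟩ := exists_affine_nhd x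
  haveI hP := ideal_isPrime hint V ⟨x, hx, hxV⟩
  obtain ⟨ξ, hξV, hξ⟩ := exists_point_of_prime V (𝓔.ideal V)
  refine ⟨ξ, mem_support_of_ideal_le_pr V ξ hξV hξ.ge, ?_⟩
  letI := X.presheaf.algebra_section_stalk ⟨ξ, hξV⟩
  haveI := isLocalization_stalk V ξ hξV
  rw [st_eq 𝓔 ξ V hξV, ← hξ]
  exact IsLocalization.AtPrime.map_eq_maximalIdeal (pr V ξ hξV) (X.presheaf.stalk ξ)

lemma gen_mem_maximalIdeal {𝓔 : X.IdealSheafData} {x : X} (hx : x ∈ 𝓔.support)
    (g : X.presheaf.stalk x) (hg : st 𝓔 x = Ideal.span {g}) :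
    g ∈ IsLocalRing.maximalIdeal (X.presheaf.stalk x) := by
  have h1 : st 𝓔 x ≠ ⊤ := mem_support_iff_st.mp hx
  have h2 : st 𝓔 x ≤ IsLocalRing.maximalIdeal _ := IsLocalRing.le_maximalIdeal h1
  rw [hg] at h2
  exact h2 (Ideal.mem_span_singleton_self g)

theorem one_le_dim_of_mem_support {𝓔 : X.IdealSheafData} (hE : BlowUp.IsEffCartierIdeal 𝓔)
    (x : X) (hx : x ∈ 𝓔.support) : (1 : WithBot ℕ∞) ≤ ringKrullDim (X.presheaf.stalk x) := by
  obtain ⟨g, hg, hgs⟩ := exists_gen hE x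
  exact PrincPrime.one_le_ringKrullDim g hg (gen_mem_maximalIdeal hx g hgs)

theorem dim_le_one_of_st_eq_maximalIdeal [IsLocallyNoetherian X] {𝓔 : X.IdealSheafData}
    (hE : BlowUp.IsEffCartierIdeal 𝓔) (z : X)
    (hm : st 𝓔 z = IsLocalRing.maximalIdeal (X.presheaf.stalk z)) :
    ringKrullDim (X.presheaf.stalk z) ≤ 1 := by
  obtain ⟨g, -, hgs⟩ := exists_gen hE z
  exact PrincPrime.ringKrullDim_le_one g (hgs.symm.trans hm)

theorem support_eq_closure {𝓔 : X.IdealSheafData} (hint : IsIntegral 𝓔.subscheme) (ξ : X)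
    (hξ : ξ ∈ 𝓔.support) (hm : st 𝓔 ξ = IsLocalRing.maximalIdeal (X.presheaf.stalk ξ)) :
    (𝓔.support : Set X) = closure {ξ} := by
  apply Set.Subset.antisymm
  · intro x hx
    exact specializes_iff_mem_closure.mp (specializes_of_st_eq_maximalIdeal hint ξ hξ hm x hx)
  · exact closure_minimal (Set.singleton_subset_iff.mpr hξ) 𝓔.support.isClosed

lemma support_le_of_le {𝓘 𝓙 : X.IdealSheafData} (h : 𝓘 ≤ 𝓙) {x : X} (hx : x ∈ 𝓙.support) :
    x ∈ 𝓘.support := by
  rw [mem_support_iff_st] at hx ⊢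
  intro htop
  apply hx
  have := st_mono h x
  rw [htop] at this
  exact top_le_iff.mp this

/-- finiteness of a set of integral effective Cartier divisors containing `𝓩`, when no point of
`𝓩` has a zero-dimensional local ring. -/
theorem finite_of_le [IsNoetherian X] (𝓩 : X.IdealSheafData)
    (G0 : ∀ ζ ∈ 𝓩.support, (1 : WithBot ℕ∞) ≤ ringKrullDim (X.presheaf.stalk ζ))
    (P : Set X.IdealSheafData)
    (hP : ∀ 𝓔 ∈ P, BlowUp.IsEffCartierIdeal 𝓔 ∧ IsIntegral 𝓔.subscheme ∧ 𝓩 ≤ 𝓔) : P.Finite := by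
  obtain ⟨S, hSfin, hSc, hSirr, hSU⟩ :=
    NoetherianSpace.exists_finite_set_isClosed_irreducible 𝓩.support.isClosed
  apply Set.Finite.of_finite_image (f := fun 𝓔 : X.IdealSheafData => (𝓔.support : Set X))
  · apply hSfin.subset
    rintro _ ⟨𝓔, h𝓔, rfl⟩
    obtain ⟨hE, hint, hle⟩ := hP 𝓔 h𝓔
    obtain ⟨ξ, hξ, hm⟩ := exists_generic hint
    have hξZ : ξ ∈ (𝓩.support : Set X) := support_le_of_le hle hξ
    rw [hSU] at hξZ
    obtain ⟨C, hCS, hξC⟩ := hξZ
    obtain ⟨η, hη⟩ := QuasiSober.sober (hSirr C hCS) (hSc C hCS)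
    have hηξ : η ⤳ ξ := by
      rw [specializes_iff_mem_closure, hη.def]; exact hξC
    have hηC : η ∈ C := hη.mem
    have hηZ : η ∈ 𝓩.support := by
      show η ∈ (𝓩.support : Set X)
      rw [hSU]; exact ⟨C, hCS, hηC⟩
    have h1 := G0 η hηZ
    have h2 := dim_le_one_of_st_eq_maximalIdeal hE ξ hm
    have heq : η = ξ := PtDim.eq_of_specializes_of_dim_le hηξ (h2.trans h1)
    show (𝓔.support : Set X) ∈ S
    rw [support_eq_closure hint ξ hξ hm, ← heq, hη.def]
    exact hCS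
  · intro 𝓔 h𝓔 𝓔' h𝓔' hss
    exact eq_of_support_eq (hP 𝓔 h𝓔).2.1 (hP 𝓔' h𝓔').2.1 (SetLike.coe_injective hss)

end Groth.Agent.H59.CartierSum
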