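import Mathlib
import Groth.Prelude.Def_BlowUp2
import Groth.Agent.H59.StalkIdeal
import Groth.Agent.H59.CartierLocal
import Groth.Agent.H59.CartierGlobal
import Groth.Agent.H59.PrincPrime
import Groth.Agent.H59.PtDim
import Groth.Agent.H59.CartierSum

/-!
# helper59: multiplicities of a closed subscheme along integral effective Cartier divisors
-/

set_option autoImplicit false
set_option linter.style.haveILetI false
universe u
open CategoryTheory AlgebraicGeometry TopologicalSpace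

namespace Groth.Agent.H59.CartierSum

open Groth.Agent.H59.StalkIdeal Groth.Agent.H59.CartierLocal Groth.Agent.H59.CartierGlobal

variable {X : Scheme.{u}}

lemma st_ne_top (𝓘 : X.IdealSheafData) (x : X) (h : st 𝓘 x = ⊥) : st 𝓘 x ≠ ⊤ := by
  rw [h]
  exact bot_ne_top

/-- (G2) some power of the divisor does not contain `𝓩`. -/
theorem exists_not_le_pow [IsLocallyNoetherian X] (𝓩 : X.IdealSheafData)
    (G0 : ∀ ζ ∈ 𝓩.support, (1 : WithBot ℕ∞) ≤ ringKrullDim (X.presheaf.stalk ζ))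
    {𝓔 : X.IdealSheafData} (hE : BlowUp.IsEffCartierIdeal 𝓔) (hint : IsIntegral 𝓔.subscheme) :
    ∃ n : ℕ, ¬ 𝓩 ≤ 𝓔 ^ n := by
  by_contra hcon
  push Not at hcon
  obtain ⟨x, hx⟩ := support_nonempty hint
  obtain ⟨g, hg, hgs⟩ := exists_gen hE x
  have hgm := gen_mem_maximalIdeal hx g hgs
  have hbot : st 𝓩 x = ⊥ := by
    apply PrincPrime.eq_bot_of_forall_le_span_pow g hgm
    intro n
    have h1 := st_mono (hcon n) x
    rw [st_pow, hgs, Ideal.span_singleton_pow] at h1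
    exact h1
  obtain ⟨ζ, hζx, hζ0⟩ := PtDim.exists_generization_dim_zero x
  have hbotζ : st 𝓩 ζ = ⊥ := by
    rw [← st_specializes 𝓩 hζx, hbot, Ideal.map_bot]
  have hζZ : ζ ∈ 𝓩.support := mem_support_iff_st.mpr (st_ne_top 𝓩 ζ hbotζ)
  have h1 := G0 ζ hζZ
  rw [hζ0] at h1
  exact absurd h1 (by decide)

theorem exists_alpha [IsLocallyNoetherian X] (𝓩 : X.IdealSheafData)
    (G0 : ∀ ζ ∈ 𝓩.support, (1 : WithBot ℕ∞) ≤ ringKrullDim (X.presheaf.stalk ζ))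
    {𝓔 : X.IdealSheafData} (hE : BlowUp.IsEffCartierIdeal 𝓔) (hint : IsIntegral 𝓔.subscheme) :
    ∃ n : ℕ, 𝓩 ≤ 𝓔 ^ n ∧ ¬ 𝓩 ≤ 𝓔 ^ (n + 1) := by
  classical
  have h := exists_not_le_pow 𝓩 G0 hE hint
  have h0 : Nat.find h ≠ 0 := by
    intro h0
    have := Nat.find_spec h
    rw [h0, pow_zero] at this
    exact this le_top
  obtain ⟨m, hm⟩ := Nat.exists_eq_succ_of_ne_zero h0
  refine ⟨m, ?_, ?_⟩
  · have := Nat.find_min h (m := m) (by omega)
    exact not_not.mp this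
  · have := Nat.find_spec h
    rw [hm] at this
    exact this

/-- (G3) `𝓩` is contained in the product of the powers of the distinct divisors. -/
theorem le_prod (𝓩 : X.IdealSheafData) (T : Finset X.IdealSheafData)
    (α : X.IdealSheafData → ℕ)
    (hT : ∀ 𝓔 ∈ T, BlowUp.IsEffCartierIdeal 𝓔 ∧ IsIntegral 𝓔.subscheme ∧ 𝓩 ≤ 𝓔 ^ α 𝓔) :
    𝓩 ≤ ∏ 𝓔 ∈ T, 𝓔 ^ α 𝓔 := by
  classical
  rw [le_iff_st]
  intro x
  rw [st_finset_prod]
  have hex : ∀ 𝓔 : X.IdealSheafData, ∃ g : X.presheaf.stalk x,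
      𝓔 ∈ T → g ∈ nonZeroDivisors (X.presheaf.stalk x) ∧ st 𝓔 x = Ideal.span {g} := by
    intro 𝓔
    by_cases h : 𝓔 ∈ T
    · obtain ⟨g, hg, hgs⟩ := exists_gen (hT 𝓔 h).1 x
      exact ⟨g, fun _ => ⟨hg, hgs⟩⟩
    · exact ⟨0, fun h' => absurd h' h⟩
  choose g hg using hex
  let T' : Finset X.IdealSheafData := T.filter (fun 𝓔 => x ∈ 𝓔.support)
  have hT' : ∏ 𝓔 ∈ T, st (𝓔 ^ α 𝓔) x = ∏ 𝓔 ∈ T', st (𝓔 ^ α 𝓔) x := by
    symm
    apply Finset.prod_filter_of_ne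
    intro 𝓔 _ hne
    by_contra hx
    apply hne
    have htop : st 𝓔 x = ⊤ := by
      by_contra hne'
      exact hx (mem_support_iff_st.mpr hne')
    rw [st_pow, htop, Ideal.top_pow, Ideal.one_eq_top]
  rw [hT']
  have hT'2 : ∏ 𝓔 ∈ T', st (𝓔 ^ α 𝓔) x = Ideal.span {∏ 𝓔 ∈ T', g 𝓔 ^ α 𝓔} := by
    rw [← Ideal.prod_span_singleton]
    apply Finset.prod_congr rfl
    intro 𝓔 h𝓔
    rw [st_pow, (hg 𝓔 (Finset.mem_filter.mp h𝓔).1).2, Ideal.span_singleton_pow]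
  rw [hT'2]
  intro y hy
  apply PrincPrime.mem_span_prod_of_forall_mem g α T'
  · intro 𝓔 h𝓔
    exact (hg 𝓔 (Finset.mem_filter.mp h𝓔).1).1
  · intro 𝓔 h𝓔
    have h1 := Finset.mem_filter.mp h𝓔
    rw [← (hg 𝓔 h1.1).2]
    exact st_isPrime (hT 𝓔 h1.1).2.1 x h1.2
  · intro 𝓔 h𝓔 𝓔' h𝓔' hne heq
    have h1 := Finset.mem_filter.mp h𝓔
    have h2 := Finset.mem_filter.mp h𝓔'
    apply hne
    apply eq_of_st_eq (hT 𝓔 h1.1).2.1 (hT 𝓔' h2.1).2.1 x h1.2 h2.2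
    rw [(hg 𝓔 h1.1).2, (hg 𝓔' h2.1).2, heq]
  · intro 𝓔 h𝓔
    have h1 := Finset.mem_filter.mp h𝓔
    have h2 := st_mono (hT 𝓔 h1.1).2.2 x hy
    rw [st_pow, (hg 𝓔 h1.1).2, Ideal.span_singleton_pow] at h2
    exact h2

/-- the locus where one ideal sheaf is stalkwise contained in another is open. -/
theorem isOpen_st_le [IsLocallyNoetherian X] (𝓘 𝓙 : X.IdealSheafData) :
    IsOpen {x : X | st 𝓘 x ≤ st 𝓙 x} := by
  classical
  rw [isOpen_iff_forall_mem_open]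
  intro x hx
  obtain ⟨V, hxV⟩ := exists_affine_nhd x
  haveI : IsNoetherianRing Γ(X, V.1) := IsLocallyNoetherian.component_noetherian V
  obtain ⟨s, hs⟩ := (isNoetherianRing_iff_ideal_fg _).mp inferInstance (𝓘.ideal V)
  have hex : ∀ d : Γ(X, V.1), ∃ t : Γ(X, V.1), d ∈ s → t ∈ (pr V x hxV).primeCompl ∧
      t * d ∈ 𝓙.ideal V := by
    intro d
    by_cases hd : d ∈ s
    · have h1 : (X.presheaf.germ V.1 x hxV).hom d ∈ st 𝓘 x := by
        rw [st_eq 𝓘 x V hxV]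
        apply Ideal.mem_map_of_mem
        rw [← hs]
        exact Ideal.subset_span hd
      have h2 := hx h1
      rw [st_eq 𝓙 x V hxV] at h2
      letI := X.presheaf.algebra_section_stalk ⟨x, hxV⟩
      haveI := isLocalization_stalk V x hxV
      obtain ⟨t, ht, htd⟩ := exists_mul_mem (pr V x hxV).primeCompl (S := X.presheaf.stalk x)
        (𝓙.ideal V) d h2
      exact ⟨t, fun _ => ⟨ht, htd⟩⟩
    · exact ⟨0, fun h => absurd h hd⟩
  choose t ht using hex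
  let Tt : Γ(X, V.1) := ∏ d ∈ s, t d
  have hTt : Tt ∈ (pr V x hxV).primeCompl :=
    Submonoid.prod_mem _ (fun d hd => (ht d hd).1)
  refine ⟨X.basicOpen Tt, ?_, (X.basicOpen Tt).isOpen, ?_⟩
  · intro y hy
    have hyV : y ∈ V.1 := X.basicOpen_le Tt hy
    have hyu : IsUnit ((X.presheaf.germ V.1 y hyV).hom Tt) :=
      (Scheme.mem_basicOpen X Tt y hyV).mp hy
    show st 𝓘 y ≤ st 𝓙 y
    rw [st_eq 𝓘 y V hyV, ← hs, Ideal.map_span, Ideal.span_le]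
    rintro _ ⟨d, hd, rfl⟩
    have hdvd : t d ∣ Tt := Finset.dvd_prod_of_mem t hd
    have hu : IsUnit ((X.presheaf.germ V.1 y hyV).hom (t d)) :=
      isUnit_of_dvd_unit (map_dvd _ hdvd) hyu
    have h3 : (X.presheaf.germ V.1 y hyV).hom (t d * d) ∈ st 𝓙 y := by
      rw [st_eq 𝓙 y V hyV]
      exact Ideal.mem_map_of_mem _ (ht d hd).2
    rw [map_mul] at h3
    exact (Ideal.unit_mul_mem_iff_mem _ hu).mp h3
  · show x ∈ X.basicOpen Tt
    rw [Scheme.mem_basicOpen X Tt x hxV]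
    have : Tt ∉ pr V x hxV := hTt
    by_contra hnu
    exact this ((IsLocalRing.mem_maximalIdeal _).mpr hnu)

/-- two ideal sheaves with the same stalks over an open set restrict to the same ideal sheaf
on it. -/
theorem comap_eq_of_st_eq (𝓘 𝓙 : X.IdealSheafData) (U : X.Opens)
    (h : ∀ x ∈ U, st 𝓘 x = st 𝓙 x) : 𝓘.comap U.ι = 𝓙.comap U.ι := by
  ext W : 2
  rw [Scheme.IdealSheafData.ideal_comap_of_isOpenImmersion,
    Scheme.IdealSheafData.ideal_comap_of_isOpenImmersion]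
  congr 1
  rw [IsAffineOpen.ideal_ext_iff (W.2.image_of_isOpenImmersion U.ι)]
  intro x hx
  have hxU : x ∈ U := by
    obtain ⟨w, -, rfl⟩ := hx
    exact w.2
  have := h x hxU
  rw [st_eq 𝓘 x ⟨U.ι ''ᵁ W.1, W.2.image_of_isOpenImmersion U.ι⟩ hx,
    st_eq 𝓙 x ⟨U.ι ''ᵁ W.1, W.2.image_of_isOpenImmersion U.ι⟩ hx] at this
  exact this

lemma le_one_of_not_two_le (d : WithBot ℕ∞) (h : ¬ (2 : WithBot ℕ∞) ≤ d) : d ≤ 1 := by
  induction d with
  | bot => exact bot_le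
  | coe d =>
    have h' : ¬ (2 : ℕ∞) ≤ d := by
      intro h2
      apply h
      exact WithBot.coe_le_coe.mpr h2
    have h'' : d ≤ 1 := by
      rw [not_le, ← one_add_one_eq_two] at h'
      exact (ENat.lt_add_one_iff ENat.one_ne_top).mp h'
    exact WithBot.coe_le_coe.mpr h''

/-- (G5) at a point of `𝓩` of codimension ≤ 1 lying on one of the divisors, the product of powers
is contained in `𝓩`. -/
theorem st_prod_le_of_dim_le_one [IsLocallyNoetherian X] (𝓩 : X.IdealSheafData)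
    (T : Finset X.IdealSheafData) (α : X.IdealSheafData → ℕ)
    (hT : ∀ 𝓔 ∈ T, 𝓩 ≤ 𝓔 ^ α 𝓔 ∧ ¬ 𝓩 ≤ 𝓔 ^ (α 𝓔 + 1))
    {𝓔₀ : X.IdealSheafData} (hE : BlowUp.IsEffCartierIdeal 𝓔₀) (hint : IsIntegral 𝓔₀.subscheme)
    (hmem : 𝓩 ≤ 𝓔₀ → 𝓔₀ ∈ T)
    (z : X) (hzZ : z ∈ 𝓩.support) (hz : z ∈ 𝓔₀.support)
    (hdim : ringKrullDim (X.presheaf.stalk z) ≤ 1) :
    st (∏ 𝓔 ∈ T, 𝓔 ^ α 𝓔) z ≤ st 𝓩 z := by
  classical
  obtain ⟨g, hg, hgs⟩ := exists_gen hE z
  have hgp : (Ideal.span {g}).IsPrime := hgs ▸ st_isPrime hint z hz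
  have hgm : Ideal.span {g} = IsLocalRing.maximalIdeal _ :=
    PrincPrime.span_eq_maximalIdeal g hg hgp hdim
  have hm : st 𝓔₀ z = IsLocalRing.maximalIdeal _ := hgs.trans hgm
  have hle : 𝓩 ≤ 𝓔₀ := le_of_generic_mem hint z hz hm hzZ
  have hT0 := hmem hle
  obtain ⟨h1, h2⟩ := hT 𝓔₀ hT0
  have h3 : ¬ st 𝓩 z ≤ Ideal.span {g ^ (α 𝓔₀ + 1)} := by
    intro hcon
    apply h2
    apply le_pow_of_st_le hE hint z hz hm
    rw [hgs, Ideal.span_singleton_pow]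
    exact hcon
  have h4 : st 𝓩 z ≤ Ideal.span {g ^ α 𝓔₀} := by
    have := st_mono h1 z
    rw [st_pow, hgs, Ideal.span_singleton_pow] at this
    exact this
  have h5 := PrincPrime.span_pow_le_of_not_le g hgm (st 𝓩 z) (α 𝓔₀) h4 h3
  refine le_trans ?_ h5
  rw [st_finset_prod, ← Finset.mul_prod_erase T _ hT0, st_pow, hgs, Ideal.span_singleton_pow]
  exact Ideal.mul_le_left

end Groth.Agent.H59.CartierSum
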