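import Mathlib
import Groth.Prelude.Def_BlowUp2
import Groth.Agent.H59.CartierSum2
import Groth.Agent.H95.StalkPrimes

/-!
# helper59: an effective Cartier divisor is determined by its behaviour in codimension one
-/

set_option autoImplicit false
set_option linter.style.haveILetI false
universe u
open CategoryTheory AlgebraicGeometry TopologicalSpace

namespace Groth.Agent.H59.CartierSum

open Groth.Agent.H59.StalkIdeal Groth.Agent.H59.CartierLocal Groth.Agent.H59.CartierGlobal

variable {X : Scheme.{u}}

/-- the stalks of a product of powers of effective Cartier ideal sheaves are principal. -/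
theorem st_prod_principal (T : Finset X.IdealSheafData) (α : X.IdealSheafData → ℕ)
    (hT : ∀ 𝓔 ∈ T, BlowUp.IsEffCartierIdeal 𝓔) (x : X) :
    ∃ g : X.presheaf.stalk x, st (∏ 𝓔 ∈ T, 𝓔 ^ α 𝓔) x = Ideal.span {g} := by
  classical
  induction T using Finset.induction_on with
  | empty =>
    refine ⟨1, ?_⟩
    rw [Finset.prod_empty, st_one, Ideal.span_singleton_one]
  | insert a s ha ih =>
    obtain ⟨g', hg'⟩ := ih (fun 𝓔 h => hT 𝓔 (Finset.mem_insert_of_mem h))
    obtain ⟨g, -, hg⟩ := exists_gen (hT a (Finset.mem_insert_self a s)) x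
    refine ⟨g ^ α a * g', ?_⟩
    rw [Finset.prod_insert ha, st_mul, st_pow, hg, hg', Ideal.span_singleton_pow,
      Ideal.span_singleton_mul_span_singleton]

/-- (L) if `D ≤ D'`, `D` is effective Cartier, `D'` is stalkwise principal and `D' ≤ D` at all
points of `D` of codimension at most one, then `D' ≤ D`. -/
theorem le_of_le_codim_one [IsLocallyNoetherian X] {D D' : X.IdealSheafData}
    (hD : BlowUp.IsEffCartierIdeal D) (hle : D ≤ D')
    (hprinc : ∀ x : X, ∃ g : X.presheaf.stalk x, st D' x = Ideal.span {g})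
    (h1 : ∀ z ∈ D.support, ringKrullDim (X.presheaf.stalk z) ≤ 1 → st D' z ≤ st D z) :
    D' ≤ D := by
  rw [le_iff_st]
  intro x
  obtain ⟨f, hf, hfs⟩ := exists_gen hD x
  obtain ⟨g, hgs⟩ := hprinc x
  have hfg : f ∈ Ideal.span {g} := by
    rw [← hgs]
    exact st_mono hle x (hfs ▸ Ideal.mem_span_singleton_self f)
  obtain ⟨h, hh⟩ := Ideal.mem_span_singleton'.mp hfg
  -- `h * g = f`
  rw [hgs, hfs, Ideal.span_singleton_le_span_singleton]
  by_cases hu : IsUnit h
  · obtain ⟨u, rfl⟩ := hu
    refine ⟨↑u⁻¹, ?_⟩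
    rw [← hh]
    rw [mul_comm, ← mul_assoc, Units.inv_mul, one_mul]
  · exfalso
    have hhnzd : h ∈ nonZeroDivisors (X.presheaf.stalk x) := by
      rw [← hh] at hf
      exact (mul_mem_nonZeroDivisors.mp hf).1
    have hhm : Ideal.span {h} ≤ IsLocalRing.maximalIdeal (X.presheaf.stalk x) := by
      rw [Ideal.span_le, Set.singleton_subset_iff]
      exact (IsLocalRing.mem_maximalIdeal h).mpr hu
    obtain ⟨P, hPmin, -⟩ := Ideal.exists_minimalPrimes_le hhm
    haveI hPprime : P.IsPrime := hPmin.1.1
    haveI : (Ideal.span {h}).IsPrincipal := ⟨⟨h, rfl⟩⟩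
    have hht1 : P.height ≤ 1 :=
      Ideal.height_le_one_of_isPrincipal_of_mem_minimalPrimes (Ideal.span {h}) P hPmin
    have hht2 : 1 ≤ P.height :=
      (Ideal.one_le_height_span_singleton_of_mem_nonZeroDivisors hhnzd).trans
        (Ideal.height_mono hPmin.1.2)
    have hht : P.height = 1 := le_antisymm hht1 hht2
    obtain ⟨ζ, hζx, hdim, hcomap⟩ :=
      Groth.Agent.H95.StalkPrimes.exists_generization_of_height_one x P hht
    set φ := (X.presheaf.stalkSpecializes hζx).hom with hφ
    have hφh : φ h ∈ IsLocalRing.maximalIdeal (X.presheaf.stalk ζ) := by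
      have : h ∈ P := hPmin.1.2 (Ideal.mem_span_singleton_self h)
      rw [← hcomap] at this
      exact this
    have hDζ : st D ζ = Ideal.span {φ f} := by
      rw [← st_specializes D hζx, hfs, Ideal.map_span, Set.image_singleton]
    have hD'ζ : st D' ζ = Ideal.span {φ g} := by
      rw [← st_specializes D' hζx, hgs, Ideal.map_span, Set.image_singleton]
    have hφfg : φ f = φ h * φ g := by rw [← map_mul, hh]
    have hζsupp : ζ ∈ D.support := by
      rw [mem_support_iff_st, hDζ]
      intro htop
      have h1 : φ f ∈ IsLocalRing.maximalIdeal (X.presheaf.stalk ζ) := by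
        rw [hφfg]
        exact Ideal.mul_mem_right _ _ hφh
      have h2 : Ideal.span {φ f} ≤ IsLocalRing.maximalIdeal (X.presheaf.stalk ζ) := by
        rw [Ideal.span_le, Set.singleton_subset_iff]; exact h1
      rw [htop] at h2
      exact (IsLocalRing.maximalIdeal.isMaximal _).ne_top (top_le_iff.mp h2)
    have h3 := h1 ζ hζsupp hdim.le
    rw [hDζ, hD'ζ, Ideal.span_singleton_le_span_singleton] at h3
    obtain ⟨c, hc⟩ := h3
    -- `φ g = φ f * c = φ h * φ g * c`
    have h4 : φ g * (1 - φ h * c) = 0 := by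
      have : φ g = φ h * φ g * c := by rw [← hφfg]; exact hc
      linear_combination this
    have hunit : IsUnit (1 - φ h * c) := by
      have hmem : φ h * c ∈ IsLocalRing.maximalIdeal (X.presheaf.stalk ζ) :=
        Ideal.mul_mem_right _ _ hφh
      by_contra hnu
      have h5 : 1 - φ h * c ∈ IsLocalRing.maximalIdeal (X.presheaf.stalk ζ) :=
        (IsLocalRing.mem_maximalIdeal _).mpr hnu
      have h6 : (1 : X.presheaf.stalk ζ) ∈ IsLocalRing.maximalIdeal (X.presheaf.stalk ζ) := by
        have := Ideal.add_mem _ h5 hmem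
        rwa [sub_add_cancel] at this
      exact (IsLocalRing.maximalIdeal.isMaximal _).ne_top
        ((Ideal.eq_top_iff_one _).mpr h6)
    have hg0 : φ g = 0 := by
      obtain ⟨u, hu'⟩ := hunit
      rw [← hu'] at h4
      exact (Units.mul_left_eq_zero u).mp h4
    have hf0 : φ f = 0 := by rw [hφfg, hg0, mul_zero]
    obtain ⟨f', hf', hf's⟩ := exists_gen hD ζ
    rw [hDζ, hf0] at hf's
    have : f' = 0 := by
      have h7 : f' ∈ Ideal.span {(0 : X.presheaf.stalk ζ)} :=
        hf's ▸ Ideal.mem_span_singleton_self f'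
      rw [Ideal.span_singleton_eq_bot.mpr rfl] at h7
      exact h7
    rw [this] at hf'
    exact zero_notMem_nonZeroDivisors hf'

end Groth.Agent.H59.CartierSum
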