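import Mathlib
import Groth.Prelude.Def_BlowUp2
import Groth.Agent.H59.CartierGlobal

/-!
# helper59: spreading out a principal generator of a stalk ideal (locally Noetherian schemes)

If the stalk at `x` of a quasi-coherent ideal sheaf on a locally Noetherian scheme is generated by
one nonzerodivisor, then so is the ideal on some affine open neighbourhood of `x`.
-/

set_option autoImplicit false
set_option linter.style.haveILetI false
universe u
open CategoryTheory AlgebraicGeometry TopologicalSpace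

namespace Groth.Agent.H59.CartierSpread

open Groth.Agent.H59.StalkIdeal Groth.Agent.H59.CartierLocal

section Ring

variable {A : Type*} [CommRing A]

/-- a common multiplier for a finitely generated ideal. -/
lemma exists_common_mul (M : Submonoid A) (N K : Ideal A) (hN : N.FG)
    (h : ∀ c ∈ N, ∃ s ∈ M, s * c ∈ K) : ∃ s ∈ M, ∀ c ∈ N, s * c ∈ K := by
  classical
  obtain ⟨T, rfl⟩ := hN
  have h' : ∀ c : A, ∃ s ∈ M, c ∈ T → s * c ∈ K := by
    intro c
    by_cases hc : c ∈ T
    · obtain ⟨s, hs, hsc⟩ := h c (Ideal.subset_span hc)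
      exact ⟨s, hs, fun _ => hsc⟩
    · exact ⟨1, M.one_mem, fun h => absurd h hc⟩
  choose σ hσM hσ using h'
  refine ⟨∏ t ∈ T, σ t, M.prod_mem fun t _ => hσM t, ?_⟩
  intro c hc
  refine Submodule.span_induction (p := fun c _ => (∏ t ∈ T, σ t) * c ∈ K) ?_ ?_ ?_ ?_ hc
  · intro t ht
    have ht' : t ∈ T := ht
    rw [← Finset.mul_prod_erase T σ ht', mul_assoc, mul_comm, mul_assoc]
    apply K.mul_mem_left
    rw [mul_comm]
    exact hσ t ht'
  · simp
  · intro x y _ _ hx hy
    rw [mul_add]
    exact K.add_mem hx hy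
  · intro a x _ hx
    rw [smul_eq_mul, mul_left_comm]
    exact K.mul_mem_left _ hx

/-- spreading out: a nonzerodivisor generator of the localisation of an ideal at a prime comes
from an element of the ideal, which generates it and is a nonzerodivisor up to a multiplier
outside the prime. -/
theorem spread_ring [IsNoetherianRing A] (p : Ideal A) [p.IsPrime]
    (Ap : Type*) [CommRing Ap] [Algebra A Ap] [IsLocalization.AtPrime Ap p]
    (I : Ideal A) (g : Ap) (hg : g ∈ nonZeroDivisors Ap)
    (hI : I.map (algebraMap A Ap) = Ideal.span {g}) :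
    ∃ s : A, s ∉ p ∧ ∃ f ∈ I, (∀ i ∈ I, s * i ∈ Ideal.span {f}) ∧
      (∀ c : A, c * f = 0 → s * c = 0) := by
  have hgI : g ∈ I.map (algebraMap A Ap) := by rw [hI]; exact Ideal.mem_span_singleton_self g
  obtain ⟨⟨f, t⟩, hft⟩ := (IsLocalization.mem_map_algebraMap_iff p.primeCompl Ap).mp hgI
  have htu : IsUnit (algebraMap A Ap (t : A)) := IsLocalization.map_units Ap t
  have hfnzd : algebraMap A Ap (f : A) ∈ nonZeroDivisors Ap := by
    rw [← hft]
    exact mul_mem hg (htu.mem_nonZeroDivisors)
  have hspan : Ideal.span {algebraMap A Ap (f : A)} = Ideal.span {g} := by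
    rw [← hft]
    exact Ideal.span_singleton_mul_right_unit htu g
  -- step 1: multiplier for `I ⊆ (f)`
  have h1 : ∀ i ∈ I, ∃ s ∈ p.primeCompl, s * i ∈ Ideal.span {(f : A)} := by
    intro i hi
    apply Groth.Agent.H59.CartierGlobal.exists_mul_mem p.primeCompl (S := Ap)
    rw [Ideal.map_span, Set.image_singleton, hspan, ← hI]
    exact Ideal.mem_map_of_mem _ hi
  obtain ⟨s₁, hs₁, hs₁I⟩ := exists_common_mul p.primeCompl I (Ideal.span {(f : A)})
    (IsNoetherian.noetherian I) h1
  -- step 2: multiplier for the annihilator of `f`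
  have h2 : ∀ c ∈ (Ideal.span {(f : A)}).annihilator, ∃ s ∈ p.primeCompl, s * c ∈ (⊥ : Ideal A) := by
    intro c hc
    rw [Submodule.mem_annihilator_span_singleton, smul_eq_mul] at hc
    have h3 : algebraMap A Ap c * algebraMap A Ap (f : A) = 0 := by
      rw [← map_mul, hc, map_zero]
    have h4 : algebraMap A Ap c = 0 := (mem_nonZeroDivisors_iff_right.mp hfnzd) _ h3
    obtain ⟨m, hm⟩ := (IsLocalization.map_eq_zero_iff p.primeCompl Ap c).mp h4
    exact ⟨m, m.2, by rw [Ideal.mem_bot]; exact hm⟩
  obtain ⟨s₂, hs₂, hs₂N⟩ := exists_common_mul p.primeCompl (Ideal.span {(f : A)}).annihilator ⊥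
    (IsNoetherian.noetherian _) h2
  refine ⟨s₁ * s₂, (p.primeCompl.mul_mem hs₁ hs₂), f, f.2, ?_, ?_⟩
  · intro i hi
    rw [mul_comm s₁ s₂, mul_assoc]
    exact Ideal.mul_mem_left _ _ (hs₁I i hi)
  · intro c hc
    have hcN : c ∈ (Ideal.span {(f : A)}).annihilator := by
      rw [Submodule.mem_annihilator_span_singleton, smul_eq_mul]; exact hc
    have := hs₂N c hcN
    rw [Ideal.mem_bot] at this
    rw [mul_assoc, this, mul_zero]

/-- in the localisation away from the multiplier, the ideal becomes principal, generated by a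
nonzerodivisor. -/
theorem away_ring (s : A) (B : Type*) [CommRing B] [Algebra A B] [IsLocalization.Away s B]
    (I : Ideal A) (f : A) (hf : f ∈ I) (h1 : ∀ i ∈ I, s * i ∈ Ideal.span {f})
    (h2 : ∀ c : A, c * f = 0 → s * c = 0) :
    algebraMap A B f ∈ nonZeroDivisors B ∧ I.map (algebraMap A B) = Ideal.span {algebraMap A B f} := by
  have hsu : IsUnit (algebraMap A B s) := IsLocalization.Away.algebraMap_isUnit s
  constructor
  · rw [mem_nonZeroDivisors_iff_right]
    intro b hb
    obtain ⟨⟨a, m⟩, rfl⟩ := IsLocalization.mk'_surjective (Submonoid.powers s) (S := B) b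
    rw [IsLocalization.mk'_eq_zero_iff]
    have h3 : algebraMap A B (a * f) = 0 := by
      have hm : IsUnit (algebraMap A B (m : A)) := IsLocalization.map_units B m
      have : IsLocalization.mk' B a m * algebraMap A B (m : A) = algebraMap A B a :=
        IsLocalization.mk'_spec B a m
      rw [map_mul, ← this, mul_right_comm, hb, zero_mul]
    obtain ⟨m', hm'⟩ := (IsLocalization.map_eq_zero_iff (Submonoid.powers s) B _).mp h3
    have h4 : s * ((m' : A) * a) = 0 := h2 _ (by rw [mul_assoc]; exact hm')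
    refine ⟨⟨s, Submonoid.mem_powers s⟩ * m', ?_⟩
    simp only [Submonoid.coe_mul]
    rw [mul_assoc]; exact h4
  · apply le_antisymm
    · rw [Ideal.map_le_iff_le_comap]
      intro i hi
      rw [Ideal.mem_comap]
      have h3 := h1 i hi
      rw [Ideal.mem_span_singleton'] at h3
      obtain ⟨a, ha⟩ := h3
      rw [Ideal.mem_span_singleton']
      refine ⟨hsu.unit⁻¹ * algebraMap A B a, ?_⟩
      rw [mul_assoc, ← map_mul, ha, map_mul, ← mul_assoc]
      simp
    · rw [Ideal.span_singleton_le_iff_mem]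
      exact Ideal.mem_map_of_mem _ hf

end Ring

variable {X : Scheme.{u}}

/-- **Spreading out**: on a locally Noetherian scheme, if the stalk of `𝓘` at `x` is generated by
one nonzerodivisor then so is `𝓘` on an affine open neighbourhood of `x`. -/
theorem exists_affine_of_st [IsLocallyNoetherian X] (𝓘 : X.IdealSheafData) (x : X)
    (g : X.presheaf.stalk x) (hg : g ∈ nonZeroDivisors (X.presheaf.stalk x))
    (h : st 𝓘 x = Ideal.span {g}) :
    ∃ U : X.affineOpens, x ∈ U.1 ∧
      ∃ f : Γ(X, U.1), f ∈ nonZeroDivisors Γ(X, U.1) ∧ 𝓘.ideal U = Ideal.span {f} := by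
  obtain ⟨V, hxV⟩ := exists_affine_nhd x
  haveI : IsNoetherianRing Γ(X, V.1) := IsLocallyNoetherian.component_noetherian V
  letI := X.presheaf.algebra_section_stalk ⟨x, hxV⟩
  haveI := isLocalization_stalk V x hxV
  have hI : (𝓘.ideal V).map (algebraMap Γ(X, V.1) (X.presheaf.stalk x)) = Ideal.span {g} := by
    rw [← h, st_eq 𝓘 x V hxV]; rfl
  obtain ⟨s, hs, f, hf, h1, h2⟩ := spread_ring (pr V x hxV) (X.presheaf.stalk x) (𝓘.ideal V) g hg hI
  haveI := V.2.isLocalization_basicOpen s
  obtain ⟨h3, h4⟩ := away_ring s Γ(X, X.basicOpen s) (𝓘.ideal V) f hf h1 h2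
  refine ⟨X.affineBasicOpen s, ?_, algebraMap Γ(X, V.1) Γ(X, X.basicOpen s) f, h3, ?_⟩
  · show x ∈ X.basicOpen s
    rw [Scheme.mem_basicOpen _ _ _ hxV]
    by_contra hns
    exact hs hns
  · rw [← 𝓘.map_ideal_basicOpen V s]
    exact h4

/-- stalkwise criterion for effective Cartier ideal sheaves on a locally Noetherian scheme. -/
theorem isEffCartierIdeal_of_st [IsLocallyNoetherian X] (𝓘 : X.IdealSheafData)
    (h : ∀ x : X, ∃ g : X.presheaf.stalk x, g ∈ nonZeroDivisors (X.presheaf.stalk x) ∧
      st 𝓘 x = Ideal.span {g}) : BlowUp.IsEffCartierIdeal 𝓘 := by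
  intro x
  obtain ⟨g, hg, hgs⟩ := h x
  exact exists_affine_of_st 𝓘 x g hg hgs

end Groth.Agent.H59.CartierSpread
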