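import Mathlib

/-!
# helper59: a principal-ideal criterion in a UFD

Let `A` be a UFD, `I` an ideal and `𝒰` a set of primes such that
* (`h1`) at every `P ∈ 𝒰` the ideal `I` is "locally generated by a nonzero element `g`" (in the
  elementwise form `t g ∈ I`, `t I ⊆ (g)` for some `t ∉ P`);
* (`h2`) membership in `I` can be tested at the primes of `𝒰` (no associated primes of `A/I`
  outside `𝒰`).
Then `I` is principal, generated by a nonzero element.  No dimension theory is used.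
-/

set_option autoImplicit false

namespace Groth.Agent.H59.UFDPrincipal

variable {A : Type*} [CommRing A] [IsDomain A] [UniqueFactorizationMonoid A]

omit [IsDomain A] in
/-- a prime ideal containing a nonzero element contains one of its prime factors. -/
lemma exists_prime_dvd_mem (P : Ideal A) [hP : P.IsPrime] (c : A) (hc0 : c ≠ 0) (hcP : c ∈ P) :
    ∃ π : A, Prime π ∧ π ∣ c ∧ π ∈ P := by
  obtain ⟨f, hf, hfd⟩ := UniqueFactorizationMonoid.exists_prime_factors c hc0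
  have h1 : f.prod ∈ P := by
    obtain ⟨u, hu⟩ := hfd.symm
    rw [← hu]
    exact P.mul_mem_right _ hcP
  obtain ⟨b, hbf, hbP⟩ := (hP.multiset_prod_mem_iff_exists_mem f).mp h1
  exact ⟨b, hf b hbf, (Multiset.dvd_prod hbf).trans hfd.dvd, hbP⟩

/-- a largest principal ideal generator containing a nonzero ideal. -/
lemma exists_maximal_divisor (I : Ideal A) (a₀ : A) (ha₀ : a₀ ≠ 0) (ha₀I : a₀ ∈ I) :
    ∃ d : A, d ≠ 0 ∧ I ≤ Ideal.span {d} ∧ ∀ u : A, ¬ IsUnit u → ¬ I ≤ Ideal.span {d * u} := by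
  let E : Set A := {e | ∃ d, d * e = a₀ ∧ I ≤ Ideal.span {d}}
  have hE : E.Nonempty := ⟨a₀, 1, one_mul _, by rw [Ideal.span_singleton_one]; exact le_top⟩
  obtain ⟨e, ⟨d, hde, hId⟩, hmin⟩ := (wellFounded_dvdNotUnit (α := A)).has_min E hE
  have hd0 : d ≠ 0 := by
    rintro rfl
    rw [zero_mul] at hde
    exact ha₀ hde.symm
  refine ⟨d, hd0, hId, ?_⟩
  intro u hu hIu
  have h1 : a₀ ∈ Ideal.span {d * u} := hIu ha₀I
  rw [Ideal.mem_span_singleton'] at h1
  obtain ⟨e', he'⟩ := h1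
  -- `e' * (d * u) = a₀ = d * e`
  have h2 : e = e' * u := by
    apply mul_left_cancel₀ hd0
    rw [hde, ← he']; ring
  have he'0 : e' ≠ 0 := by
    rintro rfl
    rw [zero_mul] at he'
    exact ha₀ he'.symm
  have he'E : e' ∈ E := ⟨d * u, by rw [← he']; ring, hIu⟩
  exact hmin e' he'E ⟨he'0, u, hu, h2⟩

/-- **Principal ideal criterion in a UFD.** -/
theorem principal_of_local_data (I : Ideal A) (𝒰 : Set (Ideal A))
    (hprime : ∀ P ∈ 𝒰, P.IsPrime)
    (h1 : ∀ P ∈ 𝒰, ∃ g t : A, g ≠ 0 ∧ t ∉ P ∧ t * g ∈ I ∧ ∀ i ∈ I, t * i ∈ Ideal.span {g})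
    (h2 : ∀ a : A, (∀ P ∈ 𝒰, ∃ t : A, t ∉ P ∧ t * a ∈ I) → a ∈ I) :
    ∃ f : A, f ≠ 0 ∧ I = Ideal.span {f} := by
  -- Step 0: a nonzero element of `I`
  obtain ⟨a₀, ha₀, ha₀I⟩ : ∃ a₀ : A, a₀ ≠ 0 ∧ a₀ ∈ I := by
    by_cases h𝒰 : 𝒰 = ∅
    · refine ⟨1, one_ne_zero, h2 1 ?_⟩
      intro P hP
      rw [h𝒰] at hP
      exact absurd hP (Set.notMem_empty P)
    · obtain ⟨P, hP⟩ := Set.nonempty_iff_ne_empty.mpr h𝒰
      obtain ⟨g, t, hg0, htP, htg, -⟩ := h1 P hP
      have ht0 : t ≠ 0 := by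
        rintro rfl
        exact htP P.zero_mem
      exact ⟨t * g, mul_ne_zero ht0 hg0, htg⟩
  -- Step 1: a maximal divisor
  obtain ⟨f, hf0, hIf, hmax⟩ := exists_maximal_divisor I a₀ ha₀ ha₀I
  refine ⟨f, hf0, le_antisymm hIf ?_⟩
  rw [Ideal.span_singleton_le_iff_mem]
  -- Step 2: `f ∈ I` by the local criterion
  apply h2
  intro P hP
  have := hprime P hP
  obtain ⟨g, t, hg0, htP, htg, htI⟩ := h1 P hP
  have ht0 : t ≠ 0 := by
    rintro rfl
    exact htP P.zero_mem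
  have h3 : t * g ∈ Ideal.span {f} := hIf htg
  rw [Ideal.mem_span_singleton'] at h3
  obtain ⟨c, hc⟩ := h3
  -- `c * f = t * g`
  refine ⟨c, ?_, by rw [hc]; exact htg⟩
  intro hcP
  have hc0 : c ≠ 0 := by
    rintro rfl
    rw [zero_mul] at hc
    exact mul_ne_zero ht0 hg0 hc.symm
  obtain ⟨π, hπ, hπc, hπP⟩ := exists_prime_dvd_mem P c hc0 hcP
  apply hmax π hπ.not_isUnit
  intro i hi
  have h4 : i ∈ Ideal.span {f} := hIf hi
  rw [Ideal.mem_span_singleton'] at h4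
  obtain ⟨b, hb⟩ := h4
  -- `b * f = i`
  have h5 := htI i hi
  rw [Ideal.mem_span_singleton'] at h5
  obtain ⟨r, hr⟩ := h5
  -- `r * g = t * i`
  have h6 : t * t * b = c * r := by
    apply mul_left_cancel₀ hf0
    have : f * (c * r) = (c * f) * r := by ring
    rw [this, hc]
    have : t * g * r = t * (r * g) := by ring
    rw [this, hr, ← hb]; ring
  have h7 : π ∣ t * t * b := by rw [h6]; exact Dvd.dvd.mul_right hπc r
  have hπt : ¬ π ∣ t := by
    rintro ⟨t', rfl⟩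
    exact htP (P.mul_mem_right _ hπP)
  have h8 : π ∣ b := by
    rcases hπ.dvd_or_dvd h7 with h | h
    · rcases hπ.dvd_or_dvd h with h' | h'
      · exact absurd h' hπt
      · exact absurd h' hπt
    · exact h
  obtain ⟨b', rfl⟩ := h8
  rw [Ideal.mem_span_singleton']
  exact ⟨b', by rw [← hb]; ring⟩

end Groth.Agent.H59.UFDPrincipal
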