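import Mathlib
import Groth.Prelude.Def_BlowUp2
import Groth.Agent.H59.CartierSpread
import Groth.Agent.H59.CartierSum
import Groth.Agent.H59.UFDPrincipal

/-!
# helper59: extending an effective Cartier divisor across points with factorial local rings

`X` locally Noetherian, `U ⊆ X` open, `D` an effective Cartier divisor on `U`.  The scheme
theoretic closure `D.map U.ι` restricts to `D` on `U`, and is an effective Cartier divisor as
soon as the local rings of `X` at the points outside `U` are UFDs.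
-/

set_option autoImplicit false
set_option linter.style.haveILetI false
universe u
open CategoryTheory AlgebraicGeometry TopologicalSpace

namespace Groth.Agent.H59.CartierExtend

open Groth.Agent.H59.StalkIdeal Groth.Agent.H59.CartierLocal Groth.Agent.H59.CartierGlobal
  Groth.Agent.H59.CartierSum Groth.Agent.H59.CartierSpread

variable {X : Scheme.{u}} [IsLocallyNoetherian X] (U : X.Opens)
  (D : (U : Scheme.{u}).IdealSheafData)

/-- (S1) the schematic closure restricts to `D`. -/
theorem comap_map_eq : (D.map U.ι).comap U.ι = D := by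
  apply le_antisymm (Scheme.IdealSheafData.comap_map_le _ _)
  intro V'
  rw [Scheme.IdealSheafData.ideal_comap_of_isOpenImmersion]
  have H : IsAffineOpen (U.ι ⁻¹ᵁ (U.ι ''ᵁ V'.1)) := by
    rw [Scheme.Hom.preimage_image_eq]; exact V'.2
  rw [Scheme.IdealSheafData.ideal_map D U.ι ⟨U.ι ''ᵁ V'.1, V'.2.image_of_isOpenImmersion U.ι⟩ H]
  intro a ha
  rw [Ideal.mem_comap, Ideal.mem_comap]
  have e : (U.ι.appIso V'.1).inv ≫ U.ι.app (U.ι ''ᵁ V'.1) =
      (U : Scheme.{u}).presheaf.map (eqToHom (U.ι.preimage_image_eq V'.1)).op :=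
    Scheme.Hom.appIso_inv_app _ _
  have e' : (U.ι.app (U.ι ''ᵁ V'.1)).hom ((U.ι.appIso V'.1).inv.hom a) =
      ((U : Scheme.{u}).presheaf.map (eqToHom (U.ι.preimage_image_eq V'.1)).op).hom a := by
    rw [← e]; rfl
  rw [e']
  have hle : (⟨U.ι ⁻¹ᵁ (U.ι ''ᵁ V'.1), H⟩ : (U : Scheme.{u}).affineOpens) ≤ V' :=
    (U.ι.preimage_image_eq V'.1).le
  rw [← D.map_ideal hle]
  exact Ideal.mem_map_of_mem _ ha

/-- (S2) at the points of `U` the schematic closure is locally generated by a nonzerodivisor,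
on affine opens of `X` contained in `U`. -/
theorem exists_affine_of_mem (hD : BlowUp.IsEffCartierIdeal D) (y : X) (hy : y ∈ U) :
    ∃ W : X.affineOpens, y ∈ W.1 ∧ W.1 ≤ U ∧ ∃ g : Γ(X, W.1), g ∈ nonZeroDivisors Γ(X, W.1) ∧
      (D.map U.ι).ideal W = Ideal.span {g} := by
  obtain ⟨V', hyV', f, hf, hI⟩ := hD ⟨y, hy⟩
  let W : X.affineOpens := ⟨U.ι ''ᵁ V'.1, V'.2.image_of_isOpenImmersion U.ι⟩
  have hsurj : Function.Surjective (U.ι.appIso V'.1).inv.hom :=
    (ConcreteCategory.bijective_of_isIso (C := CommRingCat) _).2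
  have hinj : Function.Injective (U.ι.appIso V'.1).hom.hom :=
    (ConcreteCategory.bijective_of_isIso (C := CommRingCat) _).1
  have h1 : D.ideal V' = ((D.map U.ι).ideal W).comap (U.ι.appIso V'.1).inv.hom := by
    conv_lhs => rw [← comap_map_eq U D]
    rw [Scheme.IdealSheafData.ideal_comap_of_isOpenImmersion]
  have h2 : (D.map U.ι).ideal W = (D.ideal V').map (U.ι.appIso V'.1).inv.hom := by
    rw [h1, Ideal.map_comap_of_surjective _ hsurj]
  refine ⟨W, ⟨⟨y, hy⟩, hyV', rfl⟩, ?_, (U.ι.appIso V'.1).inv.hom f, ?_, ?_⟩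
  · rintro _ ⟨z, -, rfl⟩
    exact z.2
  · rw [mem_nonZeroDivisors_iff_right]
    intro b hb
    have h3 : (U.ι.appIso V'.1).hom.hom b * f = 0 := by
      have := congrArg (U.ι.appIso V'.1).hom.hom hb
      rw [map_mul, map_zero] at this
      have e : (U.ι.appIso V'.1).hom.hom ((U.ι.appIso V'.1).inv.hom f) = f := by
        rw [← CommRingCat.comp_apply, Iso.inv_hom_id]; rfl
      rwa [e] at this
    have h4 := (mem_nonZeroDivisors_iff_right.mp hf) _ h3
    exact hinj (by rw [h4, map_zero])
  · rw [h2, hI, Ideal.map_span, Set.image_singleton]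

/-- (S3) membership in the schematic closure can be tested on the affine opens inside `U`. -/
theorem mem_map_ideal_of_forall (V : X.affineOpens) (s : Γ(X, V.1))
    (h : ∀ (W : X.affineOpens) (hWV : W.1 ≤ V.1), W.1 ≤ U →
      (X.presheaf.map (homOfLE hWV).op).hom s ∈ (D.map U.ι).ideal W) :
    s ∈ (D.map U.ι).ideal V := by
  set φ : D.subscheme ⟶ X := D.subschemeι ≫ U.ι with hφ
  show s ∈ φ.ker.ideal V
  rw [Scheme.Hom.ker_apply, RingHom.mem_ker]
  let ι' := {W : X.affineOpens // W.1 ≤ V.1 ⊓ U}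
  refine D.subscheme.sheaf.eq_of_locally_eq' (fun W : ι' => φ ⁻¹ᵁ W.1.1) (φ ⁻¹ᵁ V.1)
    (fun W => homOfLE (fun z hz => (W.2 hz).1)) ?_ _ _ ?_
  · intro z hz
    have hzV : φ z ∈ V.1 := hz
    have hzU : φ z ∈ U := by
      have : φ z = U.ι (D.subschemeι z) := rfl
      rw [this]
      exact (D.subschemeι z).2
    obtain ⟨W, hW, hzW, hWle⟩ := Opens.isBasis_iff_nbhd.mp X.isBasis_affineOpens
      (show φ z ∈ V.1 ⊓ U from ⟨hzV, hzU⟩)
    exact Opens.mem_iSup.mpr ⟨⟨⟨W, hW⟩, hWle⟩, hzW⟩
  · intro W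
    have hWV : W.1.1 ≤ V.1 := fun z hz => (W.2 hz).1
    have hWU : W.1.1 ≤ U := fun z hz => (W.2 hz).2
    have h1 := h W.1 hWV hWU
    have h2 : (X.presheaf.map (homOfLE hWV).op).hom s ∈ φ.ker.ideal W.1 := h1
    rw [Scheme.Hom.ker_apply, RingHom.mem_ker] at h2
    have nat := φ.naturality (homOfLE hWV).op
    have h3 : (D.subscheme.presheaf.map ((Opens.map φ.base).map (homOfLE hWV)).op).hom
        ((φ.app V.1).hom s) = 0 := by
      have := congrArg (fun ψ => ψ.hom s) nat
      simp only [CommRingCat.hom_comp, RingHom.coe_comp, Function.comp_apply] at this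
      exact this.symm.trans h2
    exact h3.trans (map_zero _).symm


/-- stalk generator at a point of `U`. -/
theorem exists_gen_of_mem (hD : BlowUp.IsEffCartierIdeal D) (y : X) (hy : y ∈ U) :
    ∃ g : X.presheaf.stalk y, g ∈ nonZeroDivisors (X.presheaf.stalk y) ∧
      st (D.map U.ι) y = Ideal.span {g} := by
  obtain ⟨W, hyW, -, f, hf, hI⟩ := exists_affine_of_mem U D hD y hy
  refine ⟨X.presheaf.germ W.1 y hyW f, ?_, ?_⟩
  · letI := X.presheaf.algebra_section_stalk ⟨y, hyW⟩
    haveI := isLocalization_stalk W y hyW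
    exact IsLocalization.map_nonZeroDivisors_le (pr W y hyW).primeCompl (X.presheaf.stalk y)
      (Submonoid.mem_map_of_mem _ hf)
  · rw [st_eq _ y W hyW, hI, Ideal.map_span, Set.image_singleton]

/-- (S4) at a point whose local ring is a UFD, the stalk of the schematic closure of an effective
Cartier divisor on `U` is generated by one nonzero element. -/
theorem st_principal_of_ufd (hD : BlowUp.IsEffCartierIdeal D) (x : X)
    [IsDomain (X.presheaf.stalk x)] [UniqueFactorizationMonoid (X.presheaf.stalk x)] :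
    ∃ f : X.presheaf.stalk x, f ≠ 0 ∧ st (D.map U.ι) x = Ideal.span {f} := by
  classical
  obtain ⟨V, hxV⟩ := exists_affine_nhd x
  haveI : IsNoetherianRing Γ(X, V.1) := IsLocallyNoetherian.component_noetherian V
  letI := X.presheaf.algebra_section_stalk ⟨x, hxV⟩
  haveI := isLocalization_stalk V x hxV
  haveI : IsNoetherianRing (X.presheaf.stalk x) :=
    IsLocalization.isNoetherianRing (pr V x hxV).primeCompl (X.presheaf.stalk x) inferInstance
  set γ : Γ(X, V.1) →+* X.presheaf.stalk x := (X.presheaf.germ V.1 x hxV).hom with hγ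
  have hγalg : algebraMap Γ(X, V.1) (X.presheaf.stalk x) = γ := rfl
  set J : Ideal Γ(X, V.1) := (D.map U.ι).ideal V with hJ
  have hI : st (D.map U.ι) x = J.map γ := st_eq _ x V hxV
  rw [hI]
  -- units
  have hunit : ∀ u : Γ(X, V.1), u ∉ pr V x hxV → IsUnit (γ u) := fun u hu =>
    IsLocalization.map_units (X.presheaf.stalk x) (⟨u, hu⟩ : (pr V x hxV).primeCompl)
  let 𝒰 : Set (Ideal (X.presheaf.stalk x)) := {P | P.IsPrime ∧
    ∃ ζ : X, ζ ∈ U ∧ ∃ hζV : ζ ∈ V.1, pr V ζ hζV = P.comap γ}
  apply Groth.Agent.H59.UFDPrincipal.principal_of_local_data (J.map γ) 𝒰 (fun P hP => hP.1)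
  · -- (h1)
    rintro P ⟨hPprime, ζ, hζU, hζV, hζ⟩
    obtain ⟨gζ, hgζ, hgζs⟩ := exists_gen_of_mem U D hD ζ hζU
    letI := X.presheaf.algebra_section_stalk ⟨ζ, hζV⟩
    haveI := isLocalization_stalk V ζ hζV
    have hIζ : J.map (algebraMap Γ(X, V.1) (X.presheaf.stalk ζ)) = Ideal.span {gζ} := by
      rw [← hgζs, st_eq _ ζ V hζV]; rfl
    obtain ⟨s, hs, f₀, hf₀, h1, h2⟩ :=
      spread_ring (pr V ζ hζV) (X.presheaf.stalk ζ) J gζ hgζ hIζ
    have htP : γ s ∉ P := by
      intro h
      apply hs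
      rw [hζ]
      exact h
    refine ⟨γ f₀, γ s, ?_, htP, ?_, ?_⟩
    · intro h0
      obtain ⟨m, hm⟩ := (IsLocalization.map_eq_zero_iff (pr V x hxV).primeCompl
        (X.presheaf.stalk x) f₀).mp h0
      have h3 : s * (m : Γ(X, V.1)) = 0 := h2 _ hm
      have h4 : γ s * γ (m : Γ(X, V.1)) = 0 := by rw [← map_mul, h3, map_zero]
      have h5 : γ s = 0 := (hunit _ m.2).mul_left_eq_zero.mp h4
      exact htP (h5 ▸ P.zero_mem)
    · exact Ideal.mul_mem_left _ _ (Ideal.mem_map_of_mem _ hf₀)
    · intro i hi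
      refine Submodule.span_induction (p := fun i _ => γ s * i ∈ Ideal.span {γ f₀}) ?_ ?_ ?_ ?_ hi
      · rintro _ ⟨j, hj, rfl⟩
        have h3 := h1 j hj
        rw [Ideal.mem_span_singleton'] at h3 ⊢
        obtain ⟨c, hc⟩ := h3
        exact ⟨γ c, by rw [← map_mul, hc, map_mul]⟩
      · simp
      · intro a b _ _ ha hb
        rw [mul_add]; exact Ideal.add_mem _ ha hb
      · intro a b _ hb
        rw [smul_eq_mul, mul_left_comm]
        exact Ideal.mul_mem_left _ _ hb
  · -- (h2)
    intro a ha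
    by_contra haI
    have hne : (Ideal.Quotient.mk (J.map γ) a) ≠ 0 := by
      rwa [Ne, Ideal.Quotient.eq_zero_iff_mem]
    obtain ⟨P, hPass, hle⟩ := exists_le_isAssociatedPrime_of_isNoetherianRing
      (X.presheaf.stalk x) (Ideal.Quotient.mk (J.map γ) a) hne
    rw [isAssociatedPrime_iff] at hPass
    obtain ⟨hPprime, m, hPm⟩ := hPass
    obtain ⟨c, rfl⟩ := Ideal.Quotient.mk_surjective m
    have hPc : ∀ b : X.presheaf.stalk x, b ∈ P ↔ b * c ∈ J.map γ := by
      intro b
      rw [hPm, Submodule.mem_colon_singleton, Submodule.mem_bot, ← Ideal.Quotient.eq_zero_iff_mem,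
        map_mul]
      rfl
    have hPa : ∀ t : X.presheaf.stalk x, t * a ∈ J.map γ → t ∈ P := by
      intro t ht
      apply hle
      rw [Submodule.mem_colon_singleton, Submodule.mem_bot]
      have e : t • (Ideal.Quotient.mk (J.map γ) a) = Ideal.Quotient.mk (J.map γ) (t * a) := rfl
      rw [e]
      exact Ideal.Quotient.eq_zero_iff_mem.mpr ht
    have hcI : c ∉ J.map γ := by
      intro hc
      apply hPprime.ne_top
      rw [Ideal.eq_top_iff_one, hPc, one_mul]
      exact hc
    haveI : (P.comap γ).IsPrime := Ideal.comap_isPrime _ _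
    obtain ⟨ζ, hζV, hζ⟩ := exists_point_of_prime V (P.comap γ)
    by_cases hζU : ζ ∈ U
    · obtain ⟨t, htP, hta⟩ := ha P ⟨hPprime, ζ, hζU, hζV, hζ⟩
      exact htP (hPa t hta)
    · -- the associated prime lies outside `U`
      obtain ⟨⟨s', t₁⟩, hst⟩ := IsLocalization.surj (pr V x hxV).primeCompl c
      have hst' : c * γ (t₁ : Γ(X, V.1)) = γ s' := hst
      have ht₁ : IsUnit (γ (t₁ : Γ(X, V.1))) := hunit _ t₁.2
      let K : Ideal Γ(X, V.1) := Submodule.comap (LinearMap.mulRight Γ(X, V.1) s') J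
      have hK : ∀ b : Γ(X, V.1), b ∈ K ↔ b * s' ∈ J := fun b => Iff.rfl
      have h1 : ∀ b ∈ P.comap γ, ∃ u ∈ (pr V x hxV).primeCompl, u * b ∈ K := by
        intro b hb
        have hb' : γ b * c ∈ J.map γ := (hPc _).mp hb
        have h2 : γ (b * s') ∈ J.map γ := by
          rw [map_mul, ← hst', ← mul_assoc]
          exact Ideal.mul_mem_right _ _ hb'
        obtain ⟨u, hu, hub⟩ := exists_mul_mem (pr V x hxV).primeCompl
          (S := X.presheaf.stalk x) J (b * s') h2
        exact ⟨u, hu, by rw [hK, mul_assoc]; exact hub⟩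
      obtain ⟨u, hu, huK⟩ := exists_common_mul (pr V x hxV).primeCompl (P.comap γ) K
        (IsNoetherian.noetherian _) h1
      -- `s'' = u * s'`
      have hs''J : u * s' ∉ J := by
        intro h
        apply hcI
        have h2 : γ u * (c * γ (t₁ : Γ(X, V.1))) ∈ J.map γ := by
          rw [hst', ← map_mul]; exact Ideal.mem_map_of_mem _ h
        have h3 : c * (γ u * γ (t₁ : Γ(X, V.1))) ∈ J.map γ := by
          have : c * (γ u * γ (t₁ : Γ(X, V.1))) = γ u * (c * γ (t₁ : Γ(X, V.1))) := by ring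
          rw [this]; exact h2
        have hunit' : IsUnit (γ u * γ (t₁ : Γ(X, V.1))) := (hunit u hu).mul ht₁
        obtain ⟨w, hw⟩ := hunit'
        rw [← hw] at h3
        have := Ideal.mul_mem_right (↑w⁻¹ : X.presheaf.stalk x) _ h3
        rwa [mul_assoc, Units.mul_inv, mul_one] at this
      have hex : ∃ (W : X.affineOpens) (hWV : W.1 ≤ V.1), W.1 ≤ U ∧
          (X.presheaf.map (homOfLE hWV).op).hom (u * s') ∉ (D.map U.ι).ideal W := by
        by_contra hcon
        push Not at hcon
        exact hs''J (mem_map_ideal_of_forall U D V (u * s') hcon)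
      obtain ⟨W, hWV, hWU, hnot⟩ := hex
      rw [W.2.mem_ideal_iff] at hnot
      push Not at hnot
      obtain ⟨y, hyW, hy⟩ := hnot
      have hyV : y ∈ V.1 := hWV hyW
      have hy' : (X.presheaf.germ V.1 y hyV).hom (u * s') ∉ J.map (X.presheaf.germ V.1 y hyV).hom := by
        intro hmem
        apply hy
        rw [← st_eq _ y W hyW]
        rw [st_eq _ y V hyV]
        have e := X.presheaf.germ_res_apply (homOfLE hWV) y hyW (u * s')
        rw [e]
        exact hmem
      have hle' : P.comap γ ≤ pr V y hyV := by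
        intro b hb
        by_contra hby
        apply hy'
        have hbu : IsUnit ((X.presheaf.germ V.1 y hyV).hom b) := by
          by_contra hnu
          exact hby ((IsLocalRing.mem_maximalIdeal _).mpr hnu)
        have h2 : b * (u * s') ∈ J := by
          have := huK b hb
          rw [hK] at this
          have e : b * (u * s') = u * b * s' := by ring
          rw [e]; exact this
        have h3 := Ideal.mem_map_of_mem (X.presheaf.germ V.1 y hyV).hom h2
        rw [map_mul] at h3
        obtain ⟨w, hw⟩ := hbu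
        rw [← hw] at h3
        have := Ideal.mul_mem_left _ (↑w⁻¹ : X.presheaf.stalk y) h3
        rwa [← mul_assoc, Units.inv_mul, one_mul] at this
      have hspec : ζ ⤳ y := specializes_of_pr_le V ζ y hζV hyV (by rw [hζ]; exact hle')
      exact hζU (hspec.mem_open U.2 (hWU hyW))


/-- (S5) the schematic closure of an effective Cartier divisor on `U` is an effective Cartier
divisor on `X` if the local rings of `X` at the points outside `U` are UFDs. -/
theorem isEffCartierIdeal_map (hD : BlowUp.IsEffCartierIdeal D)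
    (hufd : ∀ x : X, x ∉ U →
      IsDomain (X.presheaf.stalk x) ∧ UniqueFactorizationMonoid (X.presheaf.stalk x)) :
    BlowUp.IsEffCartierIdeal (D.map U.ι) := by
  intro x
  by_cases hx : x ∈ U
  · obtain ⟨W, hxW, -, g, hg, hI⟩ := exists_affine_of_mem U D hD x hx
    exact ⟨W, hxW, g, hg, hI⟩
  · obtain ⟨hdom, hufm⟩ := hufd x hx
    obtain ⟨f, hf0, hfs⟩ := st_principal_of_ufd U D hD x
    exact exists_affine_of_st _ x f (mem_nonZeroDivisors_of_ne_zero hf0) hfs


end Groth.Agent.H59.CartierExtend
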