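import Mathlib

/-!
# Local coordinates of a finite flat module at a prime (helper59)

A finite flat module `M` over a commutative ring `B` is free at every prime `q`; in elementwise
terms there are `m₁, …, m_k ∈ M` which generate `M` and are linearly independent "up to
multiplication by elements outside `q`".
-/

set_option autoImplicit false
universe u

namespace Groth.Agent.H59.CotLocFree

theorem exists_local_coords {B : Type u} [CommRing B] (M : Type u) [AddCommGroup M] [Module B M]
    [Module.Finite B M] [Module.Flat B M] (q : Ideal B) [q.IsPrime] :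
    ∃ (k : ℕ) (m : Fin k → M),
      (∀ z : M, ∃ t : B, t ∉ q ∧ ∃ c : Fin k → B, t • z = ∑ i, c i • m i) ∧
      (∀ c : Fin k → B, ∑ i, c i • m i = 0 → ∃ t : B, t ∉ q ∧ ∀ i, t * c i = 0) := by
  classical
  let S := q.primeCompl
  let Bq := Localization.AtPrime q
  let Mq := LocalizedModule S M
  let f : M →ₗ[B] Mq := LocalizedModule.mkLinearMap S M
  have : Module.Finite Bq Mq := inferInstance
  have : Module.Flat Bq Mq := inferInstance
  have : Module.Free Bq Mq := Module.free_of_flat_of_isLocalRing
  let ι := Module.Free.ChooseBasisIndex Bq Mq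
  let b₀ : Module.Basis ι Bq Mq := Module.Free.chooseBasis Bq Mq
  have : Fintype ι := inferInstance
  let e : ι ≃ Fin (Fintype.card ι) := Fintype.equivFin ι
  let b₁ : Module.Basis (Fin (Fintype.card ι)) Bq Mq := b₀.reindex e
  -- numerators
  have hsurj : ∀ j, ∃ x : M × S, x.2 • b₁ j = f x.1 := fun j => IsLocalizedModule.surj S f (b₁ j)
  choose x hx using hsurj
  let w : Fin (Fintype.card ι) → Bq := fun j => algebraMap B Bq ((x j).2 : B)
  have hw : ∀ j, IsUnit (w j) := fun j => IsLocalization.map_units Bq (x j).2
  let b : Module.Basis (Fin (Fintype.card ι)) Bq Mq := b₁.isUnitSMul hw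
  have hb : ∀ j, b j = f (x j).1 := by
    intro j
    rw [Module.Basis.isUnitSMul_apply, ← hx j]
    show algebraMap B Bq ((x j).2 : B) • b₁ j = ((x j).2 : B) • b₁ j
    rw [algebraMap_smul]
  refine ⟨Fintype.card ι, fun j => (x j).1, ?_, ?_⟩
  · intro z
    obtain ⟨t, ht⟩ := IsLocalization.exist_integer_multiples_of_finite S
      (fun j => b.repr (f z) j)
    choose c hc using ht
    have h1 : f ((t : B) • z) = f (∑ j, c j • (x j).1) := by
      rw [map_smul, map_sum]
      conv_lhs => rw [← b.sum_repr (f z)]
      rw [Finset.smul_sum]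
      refine Finset.sum_congr rfl (fun j _ => ?_)
      rw [map_smul, ← hb j, ← algebraMap_smul Bq (c j) (b j), hc j, smul_assoc]
    obtain ⟨s, hs⟩ := IsLocalizedModule.exists_of_eq (S := S) h1
    refine ⟨(s : B) * (t : B), ?_, fun j => (s : B) * c j, ?_⟩
    · exact (S.mul_mem s.2 t.2)
    · have hs' : (s : B) • ((t : B) • z) = (s : B) • ∑ j, c j • (x j).1 := hs
      rw [mul_smul, hs', Finset.smul_sum]
      refine Finset.sum_congr rfl (fun j _ => ?_)
      rw [mul_smul]
  · intro c hc
    have h1 : ∑ j, algebraMap B Bq (c j) • b j = 0 := by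
      have := congrArg f hc
      rw [map_sum, map_zero] at this
      rw [← this]
      refine Finset.sum_congr rfl (fun j _ => ?_)
      rw [map_smul, hb j, algebraMap_smul]
    have h2 := Fintype.linearIndependent_iff.mp b.linearIndependent _ h1
    have h3 : ∀ j, ∃ t : S, (t : B) * c j = 0 := fun j =>
      (IsLocalization.map_eq_zero_iff S Bq (c j)).mp (h2 j)
    choose t ht using h3
    refine ⟨∏ j, (t j : B), ?_, fun i => ?_⟩
    · have : ∏ j, (t j : B) ∈ S := Submonoid.prod_mem _ (fun j _ => (t j).2)
      exact this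
    · rw [← Finset.prod_erase_mul _ _ (Finset.mem_univ i), mul_assoc, ht i, mul_zero]

end Groth.Agent.H59.CotLocFree
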