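import Groth.Agent.H59.KoszFlat

/-!
# Koszul-regular ideals: basic API
-/

universe u
open CategoryTheory CochainComplex HomologicalComplex Limits

namespace Groth.Agent.H59.Kosz

/-- transport of Koszul-regular sequences along ring isomorphisms -/
theorem kreg_ringEquiv {S S' : Type u} [CommRing S] [CommRing S'] (e : S ≃+* S') (l : List S)
    (hl : LCI.IsKoszulRegularSeq S l) : LCI.IsKoszulRegularSeq S' (l.map e) := by
  letI : Algebra S S' := e.toRingHom.toAlgebra
  haveI : Module.Flat S S' := RingHom.Flat.of_bijective (f := e.toRingHom) e.bijective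
  exact isKoszulRegularSeq_of_flat (A := S) (B := S') l hl

lemma span_list_map {S S' : Type u} [CommRing S] [CommRing S'] (f : S →+* S') (l : List S) :
    (Ideal.span {x | x ∈ l}).map f = Ideal.span {x | x ∈ l.map f} := by
  rw [Ideal.map_span]
  congr 1
  ext y
  simp only [Set.mem_image, Set.mem_ofPred_eq, List.mem_map]

/-- flexible introduction rule for Koszul-regular ideals -/
theorem kregIdeal_intro {A : Type u} [CommRing A] (I : Ideal A)
    (h : ∀ 𝔭 : PrimeSpectrum A, I ≤ 𝔭.asIdeal → ∃ (g : A) (_ : g ∉ 𝔭.asIdeal) (S : Type u)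
      (_ : CommRing S) (_ : Algebra A S) (_ : IsLocalization.Away g S) (l : List S),
      LCI.IsKoszulRegularSeq S l ∧ I.map (algebraMap A S) = Ideal.span {x | x ∈ l}) :
    LCI.IsKoszulRegularIdeal I := by
  intro 𝔭 h𝔭
  obtain ⟨g, hg, S, _, _, _, l, hl, hspan⟩ := h 𝔭 h𝔭
  refine ⟨g, hg, ?_⟩
  let e : S ≃ₐ[A] Localization.Away g :=
    IsLocalization.algEquiv (Submonoid.powers g) S (Localization.Away g)
  refine ⟨l.map e.toRingEquiv, kreg_ringEquiv e.toRingEquiv l hl, ?_⟩
  have h1 : algebraMap A (Localization.Away g) =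
      (e.toRingEquiv : S →+* Localization.Away g).comp (algebraMap A S) := by
    ext a
    exact (e.commutes a).symm
  rw [h1, ← Ideal.map_map, hspan, span_list_map]
  rfl

/-- shrinking the neighbourhood -/
theorem kreg_shrink {A : Type u} [CommRing A] (I : Ideal A) (g h : A) (S : Type u) [CommRing S]
    [Algebra A S] [IsLocalization.Away g S] (l : List S) (hl : LCI.IsKoszulRegularSeq S l)
    (hspan : I.map (algebraMap A S) = Ideal.span {x | x ∈ l})
    (S' : Type u) [CommRing S'] [Algebra A S'] [Algebra S S'] [IsScalarTower A S S']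
    [IsLocalization.Away (algebraMap A S h) S'] :
    LCI.IsKoszulRegularSeq S' (l.map (algebraMap S S')) ∧
      I.map (algebraMap A S') = Ideal.span {x | x ∈ l.map (algebraMap S S')} := by
  haveI : Module.Flat S S' := IsLocalization.flat S' (Submonoid.powers (algebraMap A S h))
  refine ⟨isKoszulRegularSeq_of_flat l hl, ?_⟩
  rw [IsScalarTower.algebraMap_eq A S S', ← Ideal.map_map, hspan, span_list_map]

end Groth.Agent.H59.Kosz
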