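import Mathlib
import Groth.Agent.H66.RelCI

/-!
# `H_1`-regularity passes to the fibre when the quotient is flat
-/

universe u

namespace Groth.Agent.H59.H1Fibre

/-- If `f` is `H_1`-regular in `B` and `B/(f)` is flat over `R`, then the image of `f` in
`B/pB` is `H_1`-regular, for every ideal `p` of `R`. -/
theorem isH1Regular_quot_of_flat {R B : Type u} [CommRing R] [CommRing B] [Algebra R B] {c : ℕ}
    (f : Fin c → B) (hf : CAlgX.IsH1Regular f)
    [Module.Flat R (B ⧸ Ideal.span (Set.range f))] (p : Ideal R) :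
    CAlgX.IsH1Regular (fun i => Ideal.Quotient.mk (p.map (algebraMap R B)) (f i)) := by
  classical
  obtain ⟨𝔭, h𝔭⟩ : ∃ 𝔭 : Ideal B, 𝔭 = p.map (algebraMap R B) := ⟨_, rfl⟩
  rw [← h𝔭]
  intro ā hā
  choose a ha using fun i => Ideal.Quotient.mk_surjective (ā i)
  have h1 : ∑ i, a i * f i ∈ 𝔭 := by
    rw [← Ideal.Quotient.eq_zero_iff_mem, map_sum, ← hā]
    exact Finset.sum_congr rfl (fun i _ => by rw [map_mul, ha])
  have h2 : ∑ i, a i * f i ∈ Ideal.span (Set.range f) :=
    Ideal.sum_mem _ (fun i _ => Ideal.mul_mem_left _ _ (Ideal.subset_span ⟨i, rfl⟩))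
  have h3 : ∑ i, a i * f i ∈ 𝔭 * Ideal.span (Set.range f) :=
    h𝔭 ▸ Groth.Agent.H66.RelCI.inf_map_le_of_flat (Ideal.span (Set.range f)) p ⟨h2, h𝔭 ▸ h1⟩
  obtain ⟨π, hπ, hsum⟩ : ∃ π : Fin c → B, (∀ i, π i ∈ 𝔭) ∧ ∑ i, π i * f i = ∑ i, a i * f i := by
    have h4 : ∑ i, a i * f i ∈ 𝔭 • Submodule.span B (Set.range f) := h3
    obtain ⟨b, hb, hbs⟩ := (Submodule.mem_ideal_smul_span_iff_exists_sum 𝔭 f _).mp h4
    refine ⟨fun i => b i, hb, ?_⟩
    rw [← hbs, Finsupp.sum_fintype _ _ (fun i => by simp)]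
    rfl
  have hrel : ∑ i, (a i - π i) * f i = 0 := by
    simp only [sub_mul, Finset.sum_sub_distrib, hsum, sub_self]
  have hmem := hf (fun i => a i - π i) hrel
  have hā' : ā = fun i => Ideal.Quotient.mk 𝔭 (a i - π i) := by
    funext i
    rw [map_sub, ha, Ideal.Quotient.eq_zero_iff_mem.mpr (hπ i), sub_zero]
  rw [hā']
  clear hrel hā'
  have key : ∀ v ∈ Submodule.span B {v : Fin c → B | ∃ i j : Fin c,
      v = Pi.single i (f j) - Pi.single j (f i)},
      (fun i => Ideal.Quotient.mk 𝔭 (v i)) ∈ Submodule.span (B ⧸ 𝔭)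
        {v : Fin c → B ⧸ 𝔭 | ∃ i j : Fin c,
          v = Pi.single i ((fun i => Ideal.Quotient.mk 𝔭 (f i)) j) -
            Pi.single j ((fun i => Ideal.Quotient.mk 𝔭 (f i)) i)} := by
    intro v hv
    induction hv using Submodule.span_induction with
    | mem v hv =>
      obtain ⟨i, j, rfl⟩ := hv
      apply Submodule.subset_span
      refine ⟨i, j, ?_⟩
      funext l
      simp only [Pi.sub_apply, Pi.single_apply]
      split_ifs <;> simp
    | zero =>
      have : (fun i => Ideal.Quotient.mk 𝔭 ((0 : Fin c → B) i)) = 0 := by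
        funext i
        simp
      rw [this]
      exact Submodule.zero_mem _
    | add x y _ _ hx hy =>
      have : (fun i => Ideal.Quotient.mk 𝔭 ((x + y) i)) =
          (fun i => Ideal.Quotient.mk 𝔭 (x i)) + (fun i => Ideal.Quotient.mk 𝔭 (y i)) := by
        funext i
        simp
      rw [this]
      exact Submodule.add_mem _ hx hy
    | smul b x _ hx =>
      have : (fun i => Ideal.Quotient.mk 𝔭 ((b • x) i)) =
          Ideal.Quotient.mk 𝔭 b • (fun i => Ideal.Quotient.mk 𝔭 (x i)) := by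
        funext i
        simp
      rw [this]
      exact Submodule.smul_mem _ _ hx
  exact key _ hmem

end Groth.Agent.H59.H1Fibre
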