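import Mathlib
import Groth.Agent.H59.H1Fibre
import Groth.Agent.H59.KRegFF
import Groth.Agent.H59.KoszH1Bridge
import Groth.Agent.H66.RelCI2
import Groth.Agent.S5803
import Groth.Agent.S2103
import Groth.Agent.S9146

/-!
# Flat + local complete intersection implies syntomic
-/

universe u

namespace Groth.Agent.H59.LCISynt

open Groth.Agent.H59.Kosz RingTheory.Sequence

/-- Core: a Koszul-regular sequence in a local ring `B_{q'}` with `R`-flat quotient stays regular
in the fibre local ring `B_{q'}/pB_{q'}` (assumed Noetherian). -/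
theorem regular_fibLoc_core {R B : Type u} [CommRing R] [CommRing B] [Algebra R B]
    (q' : Ideal B) [q'.IsPrime] (I : Ideal B) (hIq' : I ≤ q')
    (l' : List (Localization.AtPrime q'))
    (hl' : LCI.IsKoszulRegularSeq (Localization.AtPrime q') l')
    (hspan : I.map (algebraMap B (Localization.AtPrime q')) = Ideal.span {x | x ∈ l'})
    (hflat : Module.Flat R (Localization.AtPrime q' ⧸ I.map (algebraMap B (Localization.AtPrime q'))))
    [IsNoetherianRing (EGA4.FibLocRing R B q')] [Nontrivial (EGA4.FibLocRing R B q')] :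
    ∃ rs : List (EGA4.FibLocRing R B q'), IsRegular (EGA4.FibLocRing R B q') rs ∧
      I.map (algebraMap B (EGA4.FibLocRing R B q')) = Ideal.ofList rs := by
  classical
  obtain ⟨p, hp⟩ : ∃ p : Ideal R, p = q'.comap (algebraMap R B) := ⟨_, rfl⟩
  have hH1 : CAlgX.IsH1Regular l'.get := isH1Regular_of_isKoszulRegularSeq l' hl'
  have hrange : Ideal.span (Set.range l'.get) = Ideal.span {x | x ∈ l'} := by
    congr 1
    ext x
    simp [List.mem_iff_get]
  haveI : Module.Flat R (Localization.AtPrime q' ⧸ Ideal.span (Set.range l'.get)) := by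
    rw [hrange, ← hspan]; exact hflat
  have hH1' := Groth.Agent.H59.H1Fibre.isH1Regular_quot_of_flat (R := R) l'.get hH1 p
  subst hp
  obtain ⟨fb, hfb⟩ : ∃ fb : Fin l'.length → EGA4.FibLocRing R B q', fb = fun i =>
      Ideal.Quotient.mk ((q'.comap (algebraMap R B)).map
        (algebraMap R (Localization.AtPrime q'))) (l'.get i) := ⟨_, rfl⟩
  have hH1'' : CAlgX.IsH1Regular fb := hfb ▸ hH1'
  have hq := Groth.Agent.S2103.result fb hH1''
  haveI : IsLocalHom (Ideal.Quotient.mk ((q'.comap (algebraMap R B)).map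
      (algebraMap R (Localization.AtPrime q')))) :=
    IsLocalHom.of_surjective _ Ideal.Quotient.mk_surjective
  have hmax : ∀ i, fb i ∈ IsLocalRing.maximalIdeal (EGA4.FibLocRing R B q') := by
    intro i
    have h1 : l'.get i ∈ IsLocalRing.maximalIdeal (Localization.AtPrime q') := by
      rw [← IsLocalization.AtPrime.map_eq_maximalIdeal q' (Localization.AtPrime q')]
      apply Ideal.map_mono hIq'
      rw [hspan]
      exact Ideal.subset_span (List.get_mem _ _)
    rw [hfb]
    intro hu
    exact h1 (isUnit_of_map_unit (Ideal.Quotient.mk _) _ hu)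
  have hw := Groth.Agent.S5803.result (EGA4.FibLocRing R B q') l'.length fb
    (fun i => by rw [IsLocalRing.ringJacobson_eq_maximalIdeal]; exact hmax i) hq
  refine ⟨List.ofFn fb, ⟨hw, ?_⟩, ?_⟩
  · rw [smul_eq_mul, Ideal.mul_top]
    intro h
    have hle : Ideal.ofList (List.ofFn fb) ≤ IsLocalRing.maximalIdeal (EGA4.FibLocRing R B q') := by
      rw [Ideal.ofList, Ideal.span_le]
      intro y hy
      obtain ⟨i, rfl⟩ := (List.mem_ofFn' _ _).mp hy
      exact hmax i
    exact (IsLocalRing.maximalIdeal.isMaximal _).ne_top (top_le_iff.mp (h ▸ hle))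
  · have hcomp : algebraMap B (EGA4.FibLocRing R B q') =
        (Ideal.Quotient.mk ((q'.comap (algebraMap R B)).map
          (algebraMap R (Localization.AtPrime q')))).comp
          (algebraMap B (Localization.AtPrime q')) := rfl
    rw [hcomp, ← Ideal.map_map, hspan, Ideal.map_span, Ideal.ofList]
    congr 1
    ext y
    simp only [Set.mem_image, Set.mem_ofPred_eq, List.mem_ofFn', hfb]
    constructor
    · rintro ⟨x, hx, rfl⟩
      obtain ⟨i, rfl⟩ := List.mem_iff_get.mp hx
      exact ⟨i, rfl⟩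
    · rintro ⟨i, rfl⟩
      exact ⟨l'.get i, List.get_mem _ _, rfl⟩


/-- local version of "flat + lci implies syntomic" -/
theorem exists_syntomic_away {R S : Type u} [CommRing R] [CommRing S] [Algebra R S]
    [Module.Flat R S] {n : ℕ} (α : MvPolynomial (Fin n) R →ₐ[R] S) (hα : Function.Surjective α)
    (hI : LCI.IsKoszulRegularIdeal (RingHom.ker α.toRingHom)) (q : PrimeSpectrum S) :
    ∃ g : S, g ∉ q.asIdeal ∧ Synt.IsSyntomic R (Localization.Away g) := by
  classical
  haveI := q.isPrime
  have hIq' : RingHom.ker α.toRingHom ≤ q.asIdeal.comap α.toRingHom := by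
    intro x hx
    rw [Ideal.mem_comap, RingHom.mem_ker.mp hx]
    exact zero_mem _
  obtain ⟨G, hG, l, hl, hspanG⟩ := hI ⟨q.asIdeal.comap α.toRingHom, inferInstance⟩ hIq'
  obtain ⟨l', -, hl', hspan⟩ :=
    kreg_atPrime_of_away (RingHom.ker α.toRingHom) (q.asIdeal.comap α.toRingHom) G hG l hl hspanG
  obtain ⟨e⟩ := Groth.Agent.H66.GlobalCI.nonempty_atPrime_equiv_quot α hα q.asIdeal
  haveI : Module.Flat S (Localization.AtPrime q.asIdeal) :=
    IsLocalization.flat _ q.asIdeal.primeCompl
  have hflatq : Module.Flat R (Localization.AtPrime q.asIdeal) :=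
    Module.Flat.trans R S (Localization.AtPrime q.asIdeal)
  have hflat : Module.Flat R (Localization.AtPrime (q.asIdeal.comap α.toRingHom) ⧸
      (RingHom.ker α.toRingHom).map (algebraMap (MvPolynomial (Fin n) R)
        (Localization.AtPrime (q.asIdeal.comap α.toRingHom)))) :=
    Module.Flat.of_linearEquiv e.symm.toLinearEquiv
  haveI hreg : IsRegularLocalRing (EGA4.FibLocRing R (MvPolynomial (Fin n) R)
      (q.asIdeal.comap α.toRingHom)) :=
    Groth.Agent.H66.RelCI.isRegularLocalRing_fibLoc_poly R n _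
  obtain ⟨rs, hrs, hrsI⟩ := regular_fibLoc_core (R := R) (q.asIdeal.comap α.toRingHom)
    (RingHom.ker α.toRingHom) hIq' l' hl' hspan hflat
  obtain ⟨e1⟩ := Groth.Agent.H66.RelCI.nonempty_fibLoc_equiv_quot α hα q.asIdeal
  have hfg : (RingHom.ker α.toRingHom).FG := fg_of_kregIdeal hI
  obtain ⟨g, hg, n', c', F', hF', ⟨e2⟩⟩ := Groth.Agent.H66.RelCI.exists_relGCI_away α hα hfg
    q.asIdeal hflatq ⟨_, inferInstance, hreg, rs, hrs,
      ⟨e1.trans (Ideal.quotEquivOfEq hrsI)⟩⟩
  exact ⟨g, hg, Groth.Agent.H66.RelCI.isSyntomic_of_algEquiv e2.symm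
    (Groth.Agent.H66.RelGCI.isSyntomic_of_isRelGCI R n' c' F' hF')⟩

/-- **Flat + lci implies syntomic.** -/
theorem isSyntomic_of_flat_of_isLCI (R S : Type u) [CommRing R] [CommRing S] [Algebra R S]
    [Module.Flat R S] (h : LCI.IsLCI R S) : Synt.IsSyntomic R S := by
  classical
  obtain ⟨-, n, α, hα, hI⟩ := h
  choose g hg hsyn using exists_syntomic_away α hα hI
  have htop : Ideal.span (Set.range g) = ⊤ := by
    by_contra hne
    obtain ⟨M, hM, hle⟩ := Ideal.exists_le_maximal _ hne
    exact hg ⟨M, hM.isPrime⟩ (hle (Ideal.subset_span ⟨_, rfl⟩))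
  obtain ⟨s, hs, hstop⟩ := (Ideal.span_eq_top_iff_finite _).mp htop
  refine Groth.Agent.S9146.result R S s hstop ?_
  intro x hx
  obtain ⟨q, rfl⟩ := hs hx
  exact hsyn q

end Groth.Agent.H59.LCISynt
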