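import Mathlib
import Groth.Agent.H59.FibFlat
import Groth.Agent.H59.LCISynt
import Groth.Agent.H59.LCIReg
import Groth.Agent.H59.KRegDesc
import Groth.Agent.H59.KRegFF
import Groth.Agent.H59.KRegIdeal
import Groth.Agent.H79.FibreSeqSpread
import Groth.Agent.H79.CILocus

/-!
# Pointwise Koszul-regularity of an ideal and the fibre local ring (helper59)

`R → P` flat of finite presentation, `φ : P → B` a surjection of `R`-algebras with finitely
generated kernel `K`, `B` flat over `R`, `qB` a prime of `B` and `q` its preimage in `P`.  Then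
`K` is generated by a Koszul-regular sequence on a basic open neighbourhood of `q` iff
`K · (P_q / p P_q)` is generated by a regular sequence of the (Noetherian local) fibre local ring.
-/

set_option autoImplicit false
set_option linter.unusedVariables false
set_option linter.style.haveILetI false
set_option linter.unusedSectionVars false

universe u

open TensorProduct RingTheory.Sequence

namespace Groth.Agent.H59.FibKAt

open Groth.Agent.H59.Kosz

/-- pointwise Koszul-regularity of an ideal at a prime -/
def KAt {P : Type u} [CommRing P] (I : Ideal P) (q : Ideal P) : Prop :=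
  ∃ (g : P) (_ : g ∉ q) (S : Type u) (_ : CommRing S) (_ : Algebra P S)
      (_ : IsLocalization.Away g S) (l : List S),
      LCI.IsKoszulRegularSeq S l ∧ I.map (algebraMap P S) = Ideal.span {x | x ∈ l}

/-- the extension of `I` to the fibre local ring at `q` is generated by a regular sequence -/
def FibReg (R : Type u) {P : Type u} [CommRing R] [CommRing P] [Algebra R P] (I : Ideal P)
    (q : Ideal P) [q.IsPrime] : Prop :=
  ∃ rs : List (EGA4.FibLocRing R P q), IsRegular (EGA4.FibLocRing R P q) rs ∧
    I.map (algebraMap P (EGA4.FibLocRing R P q)) = Ideal.ofList rs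

section

variable {R P B : Type u} [CommRing R] [CommRing P] [CommRing B] [Algebra R P] [Algebra R B]
  [Algebra.FinitePresentation R P] [Module.Flat R P] [Module.Flat R B]
  (φ : P →ₐ[R] B) (hφ : Function.Surjective φ) (hfg : (RingHom.ker φ.toRingHom).FG)
  (qB : Ideal B) [qB.IsPrime]

include hφ hfg in
theorem kAt_of_fibReg (h : FibReg R (RingHom.ker φ.toRingHom) (qB.comap φ.toRingHom)) :
    KAt (RingHom.ker φ.toRingHom) (qB.comap φ.toRingHom) := by
  obtain ⟨rs, hrs, hrsK⟩ := h
  haveI : Module.Flat R (Localization.AtPrime (qB.comap φ.toRingHom)) :=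
    Module.Flat.trans R P _
  haveI : Module.Flat R (Localization.AtPrime qB) := Module.Flat.trans R B _
  obtain ⟨h, hh, g, -, hgK, H⟩ :=
    Groth.Agent.H79.FibreSeqSpread.exists_regular_away_of_fibre_seq φ hφ hfg qB inferInstance
      inferInstance rs hrs hrsK.symm
  obtain ⟨hw, hK⟩ := H 1 (Localization.Away (h * 1))
  refine ⟨h * 1, by rw [mul_one]; exact hh, Localization.Away (h * 1), inferInstance,
    inferInstance, inferInstance, g.map (algebraMap P (Localization.Away (h * 1))),
    kreg_of_isWeaklyRegular _ hw, ?_⟩
  rw [hK]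

include hφ in
theorem fibReg_of_kAt (h : KAt (RingHom.ker φ.toRingHom) (qB.comap φ.toRingHom)) :
    FibReg R (RingHom.ker φ.toRingHom) (qB.comap φ.toRingHom) := by
  classical
  obtain ⟨g, hg, S, _, _, _, l, hl, hspan⟩ := h
  set q := qB.comap φ.toRingHom with hq
  set K := RingHom.ker φ.toRingHom with hK
  have hKq : K ≤ q := fun x hx => by
    rw [hq, Ideal.mem_comap, RingHom.mem_ker.mp hx]; exact zero_mem _
  -- transport to `Localization.Away g`
  let e : S ≃ₐ[P] Localization.Away g :=
    IsLocalization.algEquiv (Submonoid.powers g) S (Localization.Away g)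
  have hl' : LCI.IsKoszulRegularSeq (Localization.Away g) (l.map e.toRingEquiv) :=
    kreg_ringEquiv e.toRingEquiv l hl
  have hspan' : K.map (algebraMap P (Localization.Away g)) =
      Ideal.span {x | x ∈ l.map e.toRingEquiv} := by
    have h1 : algebraMap P (Localization.Away g) =
        (e.toRingEquiv : S →+* Localization.Away g).comp (algebraMap P S) := by
      ext x
      exact (e.commutes x).symm
    rw [h1, ← Ideal.map_map, hspan, span_list_map]
    rfl
  obtain ⟨l'', -, hl'', hspan''⟩ := kreg_atPrime_of_away K q g hg _ hl' hspan'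
  -- flatness of the local quotient
  have hflat : Module.Flat R (Localization.AtPrime q ⧸
      K.map (algebraMap P (Localization.AtPrime q))) := by
    obtain ⟨e9⟩ := Groth.Agent.H66.GlobalCI.nonempty_atPrime_equiv_quot φ hφ qB
    haveI : Module.Flat R (Localization.AtPrime qB) := Module.Flat.trans R B _
    exact Module.Flat.of_linearEquiv e9.symm.toLinearEquiv
  -- the fibre local ring is Noetherian local
  obtain ⟨Q, hQp, hQ⟩ := Groth.Agent.H79.CILocus.exists_fiber_prime R P q
  haveI := hQp
  obtain ⟨e⟩ := Groth.Agent.H66.FibreReg.nonempty_loc_fiber_equiv (q.under R) Q q hQ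
  haveI : Algebra.FiniteType (q.under R).ResidueField ((q.under R).Fiber P) := inferInstance
  haveI : IsNoetherianRing ((q.under R).Fiber P) :=
    Algebra.FiniteType.isNoetherianRing (q.under R).ResidueField _
  haveI : IsNoetherianRing (Localization.AtPrime Q) :=
    IsLocalization.isNoetherianRing Q.primeCompl _ inferInstance
  haveI : IsNoetherianRing (EGA4.FibLocRing R P q) :=
    isNoetherianRing_of_ringEquiv (Localization.AtPrime Q) e
  haveI : IsLocalRing (EGA4.FibLocRing R P q) := e.isLocalRing
  exact Groth.Agent.H59.LCISynt.regular_fibLoc_core q K hKq l'' hl'' hspan'' hflat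

include hφ hfg in
theorem kAt_iff_fibReg :
    KAt (RingHom.ker φ.toRingHom) (qB.comap φ.toRingHom) ↔
      FibReg R (RingHom.ker φ.toRingHom) (qB.comap φ.toRingHom) :=
  ⟨fibReg_of_kAt φ hφ qB, kAt_of_fibReg φ hφ hfg qB⟩

end

end Groth.Agent.H59.FibKAt
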