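import Mathlib
import Groth.Agent.H59.FibKAt
import Groth.Agent.H61.FlatFibre
import Groth.Agent.H71.Vasconcelos
import Groth.Agent.H72.PdExt
import Groth.Agent.H79.RegSpreadSch

/-!
# From local coordinates of the conormal module to a regular sequence in the fibre (helper59)

`A → P` smooth, `φ : P → B` a surjection of `A`-algebras with kernel `K`, `B` flat over `A`, `qB` a
prime of `B` with preimage `𝔭`.  If the conormal module `K/K²` admits "local coordinates"
`y₁, …, y_k ∈ K` at `𝔭` (as provided by `CotLocFree.exists_local_coords` when `K/K²` is a finite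
flat `B`-module), then the extension of `K` to the fibre local ring at `𝔭` has a free conormal
module, hence (Vasconcelos, the fibre local ring being regular) is generated by a regular sequence.
-/

set_option autoImplicit false
set_option linter.unusedVariables false
set_option linter.style.haveILetI false
set_option linter.unusedSectionVars false

universe u

namespace Groth.Agent.H59.FibPCS

open Groth.Agent.H59.FibFlat Groth.Agent.H59.FibKAt

section Elements

variable (A : Type u) {P : Type u} [CommRing A] [CommRing P] [Algebra A P] (𝔭 : Ideal P)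
  [𝔭.IsPrime]

/-- membership in an extended ideal of the fibre local ring -/
lemma mem_map_fibLoc_iff (I : Ideal P) (x : P) :
    algebraMap P (EGA4.FibLocRing A P 𝔭) x ∈ I.map (algebraMap P (EGA4.FibLocRing A P 𝔭)) ↔
      ∃ s : P, s ∉ 𝔭 ∧ s * x ∈ I ⊔ (𝔭.comap (algebraMap A P)).map (algebraMap A P) := by
  have h0 : algebraMap P (EGA4.FibLocRing A P 𝔭) =
      (Ideal.Quotient.mk ((𝔭.comap (algebraMap A P)).map
        (algebraMap A (Localization.AtPrime 𝔭)))).comp (algebraMap P (Localization.AtPrime 𝔭)) :=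
    rfl
  have h1 : (𝔭.comap (algebraMap A P)).map (algebraMap A (Localization.AtPrime 𝔭)) =
      ((𝔭.comap (algebraMap A P)).map (algebraMap A P)).map
        (algebraMap P (Localization.AtPrime 𝔭)) := by
    rw [Ideal.map_map, ← IsScalarTower.algebraMap_eq]
  rw [h0, ← Ideal.map_map, RingHom.comp_apply, Ideal.mem_quotient_iff_mem_sup, h1, ← Ideal.map_sup,
    IsLocalization.algebraMap_mem_map_algebraMap_iff 𝔭.primeCompl]
  constructor
  · rintro ⟨s, hs, h⟩
    exact ⟨s, hs, h⟩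
  · rintro ⟨s, hs, h⟩
    exact ⟨s, hs, h⟩

/-- elements of the fibre local ring are fractions -/
lemma exists_frac_fibLoc' (a : EGA4.FibLocRing A P 𝔭) :
    ∃ a₀ s : P, s ∉ 𝔭 ∧
      algebraMap P (EGA4.FibLocRing A P 𝔭) s * a = algebraMap P (EGA4.FibLocRing A P 𝔭) a₀ := by
  obtain ⟨a', rfl⟩ := Ideal.Quotient.mk_surjective a
  obtain ⟨a₀, s, rfl⟩ := IsLocalization.exists_mk'_eq 𝔭.primeCompl a'
  refine ⟨a₀, s, s.2, ?_⟩
  show Ideal.Quotient.mk _ (algebraMap P (Localization.AtPrime 𝔭) s) *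
    Ideal.Quotient.mk _ (IsLocalization.mk' (Localization.AtPrime 𝔭) a₀ s) =
    Ideal.Quotient.mk _ (algebraMap P (Localization.AtPrime 𝔭) a₀)
  rw [← map_mul, IsLocalization.mk'_spec']

/-- elements of an extended ideal of the fibre local ring are fractions with numerator in the
ideal -/
lemma exists_frac_of_mem_map (I : Ideal P) (w : EGA4.FibLocRing A P 𝔭)
    (hw : w ∈ I.map (algebraMap P (EGA4.FibLocRing A P 𝔭))) :
    ∃ z ∈ I, ∃ s : P, s ∉ 𝔭 ∧
      w * algebraMap P (EGA4.FibLocRing A P 𝔭) s = algebraMap P (EGA4.FibLocRing A P 𝔭) z := by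
  have h0 : algebraMap P (EGA4.FibLocRing A P 𝔭) =
      (Ideal.Quotient.mk ((𝔭.comap (algebraMap A P)).map
        (algebraMap A (Localization.AtPrime 𝔭)))).comp (algebraMap P (Localization.AtPrime 𝔭)) :=
    rfl
  rw [h0, ← Ideal.map_map] at hw
  obtain ⟨l, hl, rfl⟩ := (Ideal.mem_map_iff_of_surjective _ Ideal.Quotient.mk_surjective).mp hw
  obtain ⟨⟨z, s⟩, hzs⟩ := (IsLocalization.mem_map_algebraMap_iff 𝔭.primeCompl
    (Localization.AtPrime 𝔭)).mp hl
  refine ⟨z.1, z.2, s.1, s.2, ?_⟩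
  rw [h0, RingHom.comp_apply, RingHom.comp_apply, ← map_mul, hzs]

end Elements

section Abstract

open Groth.Agent.H71.VAS Groth.Agent.H71.SR

variable {F : Type u} [CommRing F]

/-- an ideal with "coordinates" for its conormal module has a free conormal module -/
theorem free_cotangent_of_coords (J : Ideal F) (k : ℕ) (yF : Fin k → F) (hyF : ∀ i, yF i ∈ J)
    (hrel : ∀ g : Fin k → F, ∑ i, g i * yF i ∈ J ^ 2 → ∀ i, g i ∈ J)
    (hspan : ∀ w ∈ J, ∃ (u : Fˣ) (a : Fin k → F), (u : F) * w - ∑ i, a i * yF i ∈ J ^ 2) :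
    Module.Free (F ⧸ J) J.Cotangent := by
  classical
  let v : Fin k → J.Cotangent := fun i => J.toCotangent ⟨yF i, hyF i⟩
  have hsmul : ∀ (f : F) (x : J.Cotangent), Ideal.Quotient.mk J f • x = f • x := fun f x =>
    algebraMap_smul (F ⧸ J) f x
  have hli : LinearIndependent (F ⧸ J) v := by
    rw [Fintype.linearIndependent_iff]
    intro g hg
    choose g' hg' using fun i => Ideal.Quotient.mk_surjective (g i)
    have h8 : J.toCotangent (∑ i, g' i • (⟨yF i, hyF i⟩ : J)) = 0 := by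
      rw [map_sum, ← hg]
      refine Finset.sum_congr rfl (fun i _ => ?_)
      rw [map_smul, ← hg' i, hsmul]
    rw [Ideal.toCotangent_eq_zero] at h8
    have h9 : ∑ i, g' i * yF i ∈ J ^ 2 := by
      convert h8 using 1
      rw [Submodule.coe_sum]
      rfl
    intro i
    rw [← hg' i, Ideal.Quotient.eq_zero_iff_mem]
    exact hrel g' h9 i
  have hsp : ⊤ ≤ Submodule.span (F ⧸ J) (Set.range v) := by
    rintro x -
    obtain ⟨⟨w, hw⟩, rfl⟩ := J.toCotangent_surjective x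
    obtain ⟨u, a, ha⟩ := hspan w hw
    have h10 : (u : F) • (⟨w, hw⟩ : J) - ∑ i, a i • (⟨yF i, hyF i⟩ : J) ∈
        LinearMap.ker J.toCotangent := by
      rw [LinearMap.mem_ker, Ideal.toCotangent_eq_zero]
      have : ((((u : F) • (⟨w, hw⟩ : J) - ∑ i, a i • (⟨yF i, hyF i⟩ : J) : J)) : F) =
          (u : F) * w - ∑ i, a i * yF i := by
        rw [Submodule.coe_sub, Submodule.coe_sum]
        simp only [Submodule.coe_smul, smul_eq_mul]
      rw [this]
      exact ha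
    rw [LinearMap.mem_ker, map_sub, map_smul, map_sum, sub_eq_zero] at h10
    have hu1 : Ideal.Quotient.mk J ((u⁻¹ : Fˣ) : F) * Ideal.Quotient.mk J (u : F) = 1 := by
      rw [← map_mul, Units.inv_mul, map_one]
    have e1 : Ideal.Quotient.mk J (u : F) • J.toCotangent ⟨w, hw⟩ =
        ∑ i, Ideal.Quotient.mk J (a i) • v i := by
      rw [hsmul, h10]
      refine Finset.sum_congr rfl (fun i _ => ?_)
      rw [hsmul, map_smul]
    have h11 : J.toCotangent ⟨w, hw⟩ =
        Ideal.Quotient.mk J ((u⁻¹ : Fˣ) : F) • ∑ i, Ideal.Quotient.mk J (a i) • v i := by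
      rw [← e1, ← mul_smul, hu1, one_smul]
    rw [h11]
    exact Submodule.smul_mem _ _ (Submodule.sum_mem _ (fun i _ =>
      Submodule.smul_mem _ _ (Submodule.subset_span ⟨i, rfl⟩)))
  exact Module.Free.of_basis (Module.Basis.mk hli hsp)

/-- Vasconcelos in a regular local ring, in coordinate form -/
theorem exists_regular_of_coords [IsRegularLocalRing F] (J : Ideal F) (hJtop : J ≠ ⊤) (k : ℕ)
    (yF : Fin k → F) (hyF : ∀ i, yF i ∈ J)
    (hrel : ∀ g : Fin k → F, ∑ i, g i * yF i ∈ J ^ 2 → ∀ i, g i ∈ J)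
    (hspan : ∀ w ∈ J, ∃ (u : Fˣ) (a : Fin k → F), (u : F) * w - ∑ i, a i * yF i ∈ J ^ 2) :
    ∃ rs : List F, RingTheory.Sequence.IsRegular F rs ∧ J = Ideal.ofList rs := by
  haveI : Module.Free (F ⧸ J) J.Cotangent := free_cotangent_of_coords J k yF hyF hrel hspan
  haveI : Module.Projective (F ⧸ J) J.Cotangent := inferInstance
  have hpcs : HasPCS J := hasPCS_of_projective J
  have hk : FinPD F (F ⧸ J) :=
    ⟨_, Groth.Agent.H72.PdExt.pdLT_of_isRegularLocalRing F (F ⧸ J)⟩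
  obtain ⟨rs, hrs, hrsJ⟩ := exists_elemReg F J hJtop hk hpcs
  refine ⟨rs, ⟨isWeaklyRegular_of_elemReg rs hrs, ?_⟩, hrsJ.symm⟩
  rw [smul_eq_mul, Ideal.mul_top, hrsJ]
  exact hJtop.symm

end Abstract

section Main

variable {A P B : Type u} [CommRing A] [CommRing P] [CommRing B] [Algebra A P] [Algebra A B]
  [Algebra.Smooth A P] [Module.Flat A B]

open Groth.Agent.H71.VAS Groth.Agent.H71.SR

theorem fibReg_of_coords (φ : P →ₐ[A] B) (hφ : Function.Surjective φ) (qB : Ideal B)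
    [qB.IsPrime] (k : ℕ) (y : Fin k → P) (hy : ∀ i, y i ∈ RingHom.ker φ.toRingHom)
    (h1 : ∀ z ∈ RingHom.ker φ.toRingHom, ∃ s : P, s ∉ qB.comap φ.toRingHom ∧
      ∃ a : Fin k → P, s * z - ∑ i, a i * y i ∈ (RingHom.ker φ.toRingHom) ^ 2)
    (h2 : ∀ a : Fin k → P, ∑ i, a i * y i ∈ (RingHom.ker φ.toRingHom) ^ 2 →
      ∃ s : P, s ∉ qB.comap φ.toRingHom ∧ ∀ i, s * a i ∈ RingHom.ker φ.toRingHom) :
    FibReg A (RingHom.ker φ.toRingHom) (qB.comap φ.toRingHom) := by
  classical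
  set K : Ideal P := RingHom.ker φ.toRingHom with hK
  set 𝔭 : Ideal P := qB.comap φ.toRingHom with h𝔭
  set pP : Ideal P := (𝔭.comap (algebraMap A P)).map (algebraMap A P) with hpP
  have hK𝔭 : K ≤ 𝔭 := fun x hx => by
    rw [h𝔭, Ideal.mem_comap, RingHom.mem_ker.mp hx]; exact zero_mem _
  have hpP𝔭 : pP ≤ 𝔭 := Ideal.map_comap_le
  have hmul𝔭 : ∀ s t : P, s ∉ 𝔭 → t ∉ 𝔭 → s * t ∉ 𝔭 := fun s t hs ht h =>
    (Ideal.IsPrime.mem_or_mem inferInstance h).elim hs ht
  -- flatness of `P/K`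
  haveI : Module.Flat A (P ⧸ K) :=
    Module.Flat.of_linearEquiv (Ideal.quotientKerAlgEquivOfSurjective hφ).toLinearEquiv
  -- the linear combination map
  let Y : (Fin k → P) → P := fun a => ∑ i, a i * y i
  have hYadd : ∀ a b, Y (a + b) = Y a + Y b := fun a b => by
    simp only [Y, Pi.add_apply, add_mul, Finset.sum_add_distrib]
  have hYsub : ∀ a b, Y (a - b) = Y a - Y b := fun a b => by
    simp only [Y, Pi.sub_apply, sub_mul, Finset.sum_sub_distrib]
  have hYsmul : ∀ (c : P) a, Y (c • a) = c * Y a := fun c a => by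
    simp only [Y, Pi.smul_apply, smul_eq_mul, Finset.mul_sum, mul_assoc]
  have hYK : ∀ a, Y a ∈ K := fun a => K.sum_mem (fun i _ => K.mul_mem_left _ (hy i))
  replace h1 : ∀ z ∈ K, ∃ s : P, s ∉ 𝔭 ∧ ∃ a : Fin k → P, s * z - Y a ∈ K ^ 2 := h1
  replace h2 : ∀ a : Fin k → P, Y a ∈ K ^ 2 → ∃ s : P, s ∉ 𝔭 ∧ ∀ i, s * a i ∈ K := h2
  -- elements of `pP * K`
  have h4 : ∀ x ∈ pP * K, ∃ s : P, s ∉ 𝔭 ∧ ∃ π : Fin k → P, (∀ i, π i ∈ pP) ∧
      s * x - Y π ∈ K ^ 2 := by
    intro x hx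
    refine Submodule.smul_induction_on (p := fun x => ∃ s : P, s ∉ 𝔭 ∧ ∃ π : Fin k → P,
      (∀ i, π i ∈ pP) ∧ s * x - Y π ∈ K ^ 2) hx ?_ ?_
    · intro r hr z hz
      obtain ⟨s, hs, a, ha⟩ := h1 z hz
      refine ⟨s, hs, r • a, fun i => pP.mul_mem_right _ hr, ?_⟩
      have : s * (r • z) - Y (r • a) = r * (s * z - Y a) := by
        rw [hYsmul, smul_eq_mul]; ring
      rw [this]
      exact Ideal.mul_mem_left _ _ ha
    · rintro x x' ⟨s, hs, π, hπ, h⟩ ⟨s', hs', π', hπ', h'⟩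
      refine ⟨s * s', hmul𝔭 s s' hs hs', s' • π + s • π', ?_, ?_⟩
      · intro i
        exact pP.add_mem (pP.mul_mem_left _ (hπ i)) (pP.mul_mem_left _ (hπ' i))
      · have : s * s' * (x + x') - Y (s' • π + s • π') =
            s' * (s * x - Y π) + s * (s' * x' - Y π') := by
          rw [hYadd, hYsmul, hYsmul]; ring
        rw [this]
        exact (K ^ 2).add_mem (Ideal.mul_mem_left _ _ h) (Ideal.mul_mem_left _ _ h')
  -- the key computation in `P`
  have hP : ∀ (a : Fin k → P) (s₀ : P), s₀ ∉ 𝔭 → s₀ * Y a ∈ K ^ 2 ⊔ pP →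
      ∃ s : P, s ∉ 𝔭 ∧ ∀ i, s * a i ∈ K ⊔ pP := by
    intro a s₀ hs₀ hmem
    obtain ⟨k2, hk2, π, hπ, hsum⟩ := Submodule.mem_sup.mp hmem
    have hπK : π ∈ K := by
      have : π = s₀ * Y a - k2 := by rw [← hsum]; ring
      rw [this]
      exact K.sub_mem (K.mul_mem_left _ (hYK a)) (Ideal.pow_le_self two_ne_zero hk2)
    have hπ2 : π ∈ pP * K :=
      Groth.Agent.H61.FlatFibre.mem_mul_of_flat K (𝔭.comap (algebraMap A P)) π hπK hπ
    obtain ⟨s', hs', π', hπ', h'⟩ := h4 π hπ2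
    have h5 : Y ((s' * s₀) • a - π') ∈ K ^ 2 := by
      have : Y ((s' * s₀) • a - π') = s' * k2 + (s' * π - Y π') := by
        rw [hYsub, hYsmul, mul_assoc, ← hsum]; ring
      rw [this]
      exact (K ^ 2).add_mem (Ideal.mul_mem_left _ _ hk2) h'
    obtain ⟨t, ht, hta⟩ := h2 _ h5
    refine ⟨t * (s' * s₀), hmul𝔭 _ _ ht (hmul𝔭 _ _ hs' hs₀), fun i => ?_⟩
    have : t * (s' * s₀) * a i = t * (((s' * s₀) • a - π') i) + t * π' i := by
      simp only [Pi.sub_apply, Pi.smul_apply, smul_eq_mul]; ring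
    rw [this]
    exact Ideal.add_mem _ (Ideal.mem_sup_left (hta i))
      (Ideal.mem_sup_right (pP.mul_mem_left _ (hπ' i)))
  -- the fibre local ring
  haveI hreg : IsRegularLocalRing (EGA4.FibLocRing A P 𝔭) :=
    Groth.Agent.H79.RegSpreadSch.isRegularLocalRing_fibLoc_of_smooth A P 𝔭
  set F := EGA4.FibLocRing A P 𝔭 with hF
  set ι : P →+* F := algebraMap P F with hι
  set J : Ideal F := K.map ι with hJ
  have hunit : ∀ s : P, s ∉ 𝔭 → IsUnit (ι s) := fun s hs => isUnit_algebraMap_fibLoc A P 𝔭 s hs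
  have hJ2 : (K ^ 2).map ι = J ^ 2 := Ideal.map_pow _ _ _
  have hιY : ∀ a : Fin k → P, ι (Y a) = ∑ i, ι (a i) * ι (y i) := fun a => by
    simp only [Y, map_sum, map_mul]
  -- relation-freeness in `F`
  have hFrel : ∀ g : Fin k → F, ∑ i, g i * ι (y i) ∈ J ^ 2 → ∀ i, g i ∈ J := by
    intro g hg
    have hfrac : ∀ i, ∃ a₀ s : P, s ∉ 𝔭 ∧ ι s * g i = ι a₀ := fun i =>
      exists_frac_fibLoc' A 𝔭 (g i)
    choose a₀ s hs hsg using hfrac
    let s₀ : P := ∏ j, s j
    have hs₀ : s₀ ∉ 𝔭 := by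
      have : s₀ ∈ 𝔭.primeCompl := Submonoid.prod_mem _ (fun j _ => hs j)
      exact this
    let a' : Fin k → P := fun i => a₀ i * ∏ j ∈ Finset.univ.erase i, s j
    have ha' : ∀ i, ι s₀ * g i = ι (a' i) := by
      intro i
      have : s₀ = s i * ∏ j ∈ Finset.univ.erase i, s j :=
        (Finset.mul_prod_erase Finset.univ s (Finset.mem_univ i)).symm
      rw [this, map_mul, map_mul, ← hsg i]
      ring
    have h6 : ι (Y a') ∈ (K ^ 2).map ι := by
      rw [hJ2, hιY]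
      have : ∑ i, ι (a' i) * ι (y i) = ι s₀ * ∑ i, g i * ι (y i) := by
        rw [Finset.mul_sum]
        refine Finset.sum_congr rfl (fun i _ => ?_)
        rw [← ha' i]; ring
      rw [this]
      exact Ideal.mul_mem_left _ _ hg
    obtain ⟨t, ht, htY⟩ := (mem_map_fibLoc_iff A 𝔭 (K ^ 2) (Y a')).mp h6
    obtain ⟨t', ht', hta⟩ := hP a' t ht htY
    intro i
    have h7 : ι (a' i) ∈ J := (mem_map_fibLoc_iff A 𝔭 K (a' i)).mpr ⟨t', ht', hta i⟩
    rw [← ha' i] at h7
    exact (Ideal.unit_mul_mem_iff_mem J (hunit s₀ hs₀)).mp h7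
  -- `J` is a proper ideal
  have hJtop : J ≠ ⊤ := by
    intro htop
    have h1J : ι 1 ∈ K.map ι := by rw [← hJ, htop]; exact Submodule.mem_top
    obtain ⟨s, hs, hs1⟩ := (mem_map_fibLoc_iff A 𝔭 K 1).mp h1J
    rw [mul_one] at hs1
    exact hs (sup_le hK𝔭 hpP𝔭 hs1)
  -- Vasconcelos
  refine exists_regular_of_coords J hJtop k (fun i => ι (y i))
    (fun i => Ideal.mem_map_of_mem ι (hy i)) hFrel ?_
  intro w hw
  obtain ⟨z, hz, s, hs, hwz⟩ := exists_frac_of_mem_map A 𝔭 K w hw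
  obtain ⟨s', hs', a, ha⟩ := h1 z hz
  obtain ⟨u, hu⟩ := (hunit s' hs').mul (hunit s hs)
  refine ⟨u, fun i => ι (a i), ?_⟩
  have : (u : F) * w - ∑ i, ι (a i) * ι (y i) = ι (s' * z - Y a) := by
    rw [map_sub, hιY, map_mul, ← hwz, hu]
    ring
  rw [this, ← hJ2]
  exact Ideal.mem_map_of_mem ι ha

end Main

end Groth.Agent.H59.FibPCS
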