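import Mathlib
import Groth.Agent.H59.FibKAt
import Groth.Agent.H59.KoszH1Bridge
import Groth.Agent.H56.LciBasic
import Groth.Agent.S2103
import Groth.Agent.S5803

/-!
# Regular generation of an ideal along a flat local homomorphism, and along the comparison map of
fibre local rings (helper59)
-/

set_option autoImplicit false
set_option linter.unusedVariables false
set_option linter.style.haveILetI false
set_option linter.unusedSectionVars false

universe u

open TensorProduct RingTheory.Sequence

namespace Groth.Agent.H59.FibRegBC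

open Groth.Agent.H59.Kosz Groth.Agent.H59.FibFlat Groth.Agent.H59.FibKAt

section Local

variable {F F' : Type u} [CommRing F] [CommRing F'] [IsLocalRing F] [IsLocalRing F']

/-- in a Noetherian local ring a Koszul-regular sequence in the maximal ideal is regular -/
theorem isRegular_of_kreg [IsNoetherianRing F] (l : List F) (hl : LCI.IsKoszulRegularSeq F l)
    (hmem : ∀ x ∈ l, x ∈ IsLocalRing.maximalIdeal F) : IsRegular F l := by
  have hH1 : CAlgX.IsH1Regular l.get := isH1Regular_of_isKoszulRegularSeq l hl
  have hq := Groth.Agent.S2103.result l.get hH1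
  have hw := Groth.Agent.S5803.result F l.length l.get
    (fun i => by
      rw [IsLocalRing.ringJacobson_eq_maximalIdeal]; exact hmem _ (List.get_mem _ _)) hq
  rw [List.ofFn_get] at hw
  refine ⟨hw, ?_⟩
  rw [smul_eq_mul, Ideal.mul_top]
  intro h
  have hle : Ideal.ofList l ≤ IsLocalRing.maximalIdeal F := by
    rw [Ideal.ofList, Ideal.span_le]
    intro y hy
    exact hmem y hy
  exact (IsLocalRing.maximalIdeal.isMaximal _).ne_top (top_le_iff.mp (h ▸ hle))

theorem regular_map (ψ : F →+* F') (hψ : ψ.Flat) [IsLocalHom ψ] (J : Ideal F)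
    (h : ∃ rs : List F, IsRegular F rs ∧ J = Ideal.ofList rs) :
    ∃ rs' : List F', IsRegular F' rs' ∧ J.map ψ = Ideal.ofList rs' := by
  obtain ⟨rs, hrs, hJ⟩ := h
  letI : Algebra F F' := ψ.toAlgebra
  haveI : Module.Flat F F' := hψ
  haveI : IsLocalHom (algebraMap F F') := ‹IsLocalHom ψ›
  haveI : Module.FaithfullyFlat F F' := Module.FaithfullyFlat.of_flat_of_isLocalHom
  refine ⟨rs.map (algebraMap F F'), hrs.of_faithfullyFlat, ?_⟩
  rw [hJ, ← Ideal.map_ofList]
  rfl

theorem regular_descend [IsNoetherianRing F] (ψ : F →+* F') (hψ : ψ.Flat) [IsLocalHom ψ]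
    (J : Ideal F)
    (h : ∃ rs' : List F', IsRegular F' rs' ∧ J.map ψ = Ideal.ofList rs') :
    ∃ rs : List F, IsRegular F rs ∧ J = Ideal.ofList rs := by
  classical
  obtain ⟨rs', hrs', hJ⟩ := h
  letI : Algebra F F' := ψ.toAlgebra
  haveI : Module.Flat F F' := hψ
  haveI : IsLocalHom (algebraMap F F') := ‹IsLocalHom ψ›
  haveI : Module.FaithfullyFlat F F' := Module.FaithfullyFlat.of_flat_of_isLocalHom
  have hk : LCI.IsKoszulRegularIdeal (J.map (algebraMap F F')) := by
    show LCI.IsKoszulRegularIdeal (J.map ψ)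
    rw [hJ]
    exact Groth.Agent.H56.LciBasic.isKoszulRegularIdeal_of_seq rs'
      (kreg_of_isWeaklyRegular rs' hrs'.toIsWeaklyRegular)
  have hkJ : LCI.IsKoszulRegularIdeal J := kregIdeal_of_faithfullyFlat J hk
  -- `J` is proper
  have hJne : J ≠ ⊤ := by
    intro htop
    have h1 : J.map ψ = ⊤ := by rw [htop, Ideal.map_top]
    rw [hJ] at h1
    have := hrs'.top_ne_smul
    rw [smul_eq_mul, Ideal.mul_top] at this
    exact this h1.symm
  have hJle : J ≤ IsLocalRing.maximalIdeal F := IsLocalRing.le_maximalIdeal hJne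
  obtain ⟨g, hg, l, hl, hspan⟩ := hkJ ⟨IsLocalRing.maximalIdeal F, inferInstance⟩ hJle
  have hgu : IsUnit g := by
    by_contra hng
    exact hg ((IsLocalRing.mem_maximalIdeal g).mpr hng)
  have hle : Submonoid.powers g ≤ IsUnit.submonoid F := by
    rintro x ⟨n, rfl⟩
    exact hgu.pow n
  let e : F ≃ₐ[F] Localization.Away g := IsLocalization.atUnits F (Submonoid.powers g) hle
  have hl0 : LCI.IsKoszulRegularSeq F (l.map e.symm.toRingEquiv) :=
    kreg_ringEquiv e.symm.toRingEquiv l hl
  have hspan0 : J = Ideal.span {x | x ∈ l.map e.symm.toRingEquiv} := by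
    have h1 : (J.map (algebraMap F (Localization.Away g))).map
        (e.symm.toRingEquiv : Localization.Away g →+* F) = J := by
      rw [Ideal.map_map]
      have : (e.symm.toRingEquiv : Localization.Away g →+* F).comp
          (algebraMap F (Localization.Away g)) = RingHom.id F := by
        ext x
        show e.symm (algebraMap F (Localization.Away g) x) = x
        rw [e.symm.commutes]
        rfl
      rw [this, Ideal.map_id]
    rw [← h1, hspan, span_list_map]
    rfl
  refine ⟨_, isRegular_of_kreg _ hl0 ?_, hspan0⟩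
  intro x hx
  apply hJle
  rw [hspan0]
  exact Ideal.subset_span hx

end Local

section Noeth

/-- the fibre local ring of a finite type algebra is a Noetherian local ring -/
theorem noeth_local_fibLocRing (R P : Type u) [CommRing R] [CommRing P] [Algebra R P]
    [Algebra.FiniteType R P] (q : Ideal P) [q.IsPrime] :
    IsNoetherianRing (EGA4.FibLocRing R P q) ∧ IsLocalRing (EGA4.FibLocRing R P q) := by
  obtain ⟨Q, hQp, hQ⟩ := Groth.Agent.H79.CILocus.exists_fiber_prime R P q
  haveI := hQp
  obtain ⟨e⟩ := Groth.Agent.H66.FibreReg.nonempty_loc_fiber_equiv (q.under R) Q q hQ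
  haveI : Algebra.FiniteType (q.under R).ResidueField ((q.under R).Fiber P) := inferInstance
  haveI : IsNoetherianRing ((q.under R).Fiber P) :=
    Algebra.FiniteType.isNoetherianRing (q.under R).ResidueField _
  haveI : IsNoetherianRing (Localization.AtPrime Q) :=
    IsLocalization.isNoetherianRing Q.primeCompl _ inferInstance
  exact ⟨isNoetherianRing_of_ringEquiv (Localization.AtPrime Q) e, e.isLocalRing⟩

end Noeth

section BC

set_option synthInstance.maxHeartbeats 4000000

variable {R R' P P' : Type u} [CommRing R] [CommRing R'] [CommRing P] [CommRing P']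
  [Algebra R R'] [Algebra R P] [Algebra R' P'] [Algebra P P'] [Algebra R P']
  [IsScalarTower R R' P'] [IsScalarTower R P P'] [Algebra.IsPushout R P R' P']
  [Algebra.FiniteType R P] [Algebra.FiniteType R' P']
  (q : Ideal P) [q.IsPrime] (q' : Ideal P') [q'.IsPrime]
  (hq : q = q'.comap (algebraMap P P'))

include hq in
/-- **Base change of regular generation on the fibre local rings.** -/
theorem fibReg_baseChange_iff (I : Ideal P) :
    FibReg R' (I.map (algebraMap P P')) q' ↔ FibReg R I q := by
  obtain ⟨hN, hL⟩ := noeth_local_fibLocRing R P q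
  obtain ⟨hN', hL'⟩ := noeth_local_fibLocRing R' P' q'
  haveI := hN; haveI := hL; haveI := hN'; haveI := hL'
  haveI : IsLocalHom (fibMap (R := R) (R' := R') q q' hq) := isLocalHom_fibMap q q' hq
  have hflat : (fibMap (R := R) (R' := R') q q' hq).Flat := flat_fibMap q q' hq
  have hmap : (I.map (algebraMap P (EGA4.FibLocRing R P q))).map
      (fibMap (R := R) (R' := R') q q' hq) =
      (I.map (algebraMap P P')).map (algebraMap P' (EGA4.FibLocRing R' P' q')) := by
    rw [Ideal.map_map, Ideal.map_map]
    congr 1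
    ext x
    exact fibMap_algebraMap (R := R) (R' := R') q q' hq x
  constructor
  · rintro ⟨rs', hrs', hJ'⟩
    obtain ⟨rs, hrs, hJ⟩ := regular_descend (fibMap (R := R) (R' := R') q q' hq) hflat
      (I.map (algebraMap P (EGA4.FibLocRing R P q))) ⟨rs', hrs', by rw [hmap]; exact hJ'⟩
    exact ⟨rs, hrs, hJ⟩
  · rintro ⟨rs, hrs, hJ⟩
    obtain ⟨rs', hrs', hJ'⟩ := regular_map (fibMap (R := R) (R' := R') q q' hq) hflat
      (I.map (algebraMap P (EGA4.FibLocRing R P q))) ⟨rs, hrs, hJ⟩
    exact ⟨rs', hrs', by rw [← hmap]; exact hJ'⟩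

end BC

end Groth.Agent.H59.FibRegBC
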