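import Mathlib
import Groth.Prelude.Def_BlowUp2
import Groth.Agent.H59.CartierSpread
import Groth.Agent.H59.CartierSum
import Groth.Agent.H26.RegUFD

/-!
# helper59: irreducible components of an effective Cartier divisor on a regular scheme

* `st_minimal`: the stalk of the ideal of a maximal integral closed subscheme of `V(D)` is a
  minimal prime over the stalk of `D`.
* `principal_of_minimal`: in a UFD a prime minimal over a nonzero principal ideal is principal.
* `isEffCartierIdeal_of_maximal`: on a locally Noetherian regular scheme the irreducible components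
  (with reduced structure) of an effective Cartier divisor are effective Cartier divisors.
* `st_prod_at_generic`, `length_quotient_pow`: multiplicity computations at a generic point.
* `exists_maximal_irreducible`: Zorn.
-/

set_option autoImplicit false
set_option linter.style.haveILetI false
universe u
open CategoryTheory AlgebraicGeometry TopologicalSpace

namespace Groth.Agent.H59.FibreComp

open Groth.Agent.H59.StalkIdeal Groth.Agent.H59.CartierLocal Groth.Agent.H59.CartierGlobal
  Groth.Agent.H59.CartierSum Groth.Agent.H59.CartierSpread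

variable {X : Scheme.{u}}

/-- minimality of the stalk prime of a maximal integral closed subscheme of `V(D)`. -/
theorem st_minimal {D 𝓔 : X.IdealSheafData} (hint : IsIntegral 𝓔.subscheme)
    (hmax : ∀ S : Set X, IsIrreducible S → S ⊆ D.support → (𝓔.support : Set X) ⊆ S →
      S ⊆ 𝓔.support)
    (x : X) (hx : x ∈ 𝓔.support) (Q : Ideal (X.presheaf.stalk x)) [hQ : Q.IsPrime]
    (h1 : st D x ≤ Q) (h2 : Q ≤ st 𝓔 x) : Q = st 𝓔 x := by
  obtain ⟨V, hxV⟩ := exists_affine_nhd x
  letI := X.presheaf.algebra_section_stalk ⟨x, hxV⟩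
  haveI := isLocalization_stalk V x hxV
  set Q' : Ideal Γ(X, V.1) := Q.comap (X.presheaf.germ V.1 x hxV).hom with hQ'
  haveI : Q'.IsPrime := Ideal.comap_isPrime _ _
  have hI : 𝓔.ideal V = (st 𝓔 x).comap (X.presheaf.germ V.1 x hxV).hom :=
    (comap_st hint V x hxV hx).symm
  have hQI : Q' ≤ 𝓔.ideal V := by rw [hI]; exact Ideal.comap_mono h2
  have hDQ : D.ideal V ≤ Q' := by
    refine le_trans ?_ (Ideal.comap_mono h1)
    rw [st_eq D x V hxV]
    exact Ideal.le_comap_map
  obtain ⟨y, hyV, hy⟩ := exists_point_of_prime V Q'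
  have hyD : y ∈ D.support := mem_support_of_ideal_le_pr V y hyV (by rw [hy]; exact hDQ)
  have hirr : IsIrreducible (closure {y} : Set X) := isIrreducible_singleton.closure
  have hsubD : closure {y} ⊆ (D.support : Set X) :=
    closure_minimal (Set.singleton_subset_iff.mpr hyD) D.support.isClosed
  have hE : (𝓔.support : Set X) ⊆ closure {y} := by
    have hsub : (𝓔.support : Set X) ∩ V.1 ⊆ closure {y} := by
      rintro z ⟨hz, hzV⟩
      rw [← specializes_iff_mem_closure]
      apply specializes_of_pr_le V y z hyV hzV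
      rw [hy]
      exact hQI.trans (ideal_le_pr V z hzV hz)
    exact (support_subset_closure_inter hint V.1 ⟨x, hx, hxV⟩).trans
      (closure_minimal hsub isClosed_closure)
  have hyE : y ∈ 𝓔.support := hmax _ hirr hsubD hE (subset_closure rfl)
  have hIQ : 𝓔.ideal V ≤ Q' := by rw [← hy]; exact ideal_le_pr V y hyV hyE
  have heq : Q' = 𝓔.ideal V := le_antisymm hQI hIQ
  rw [st_eq 𝓔 x V hxV, ← heq]
  exact (IsLocalization.map_under (pr V x hxV).primeCompl (X.presheaf.stalk x) Q).symm

/-- in a UFD, a prime ideal minimal over a nonzero principal ideal is principal. -/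
theorem principal_of_minimal {A : Type*} [CommRing A] [IsDomain A] [UniqueFactorizationMonoid A]
    (P : Ideal A) [hP : P.IsPrime] (d : A) (hd0 : d ≠ 0) (hdP : d ∈ P)
    (hmin : ∀ Q : Ideal A, Q.IsPrime → Ideal.span {d} ≤ Q → Q ≤ P → Q = P) :
    ∃ q : A, q ≠ 0 ∧ P = Ideal.span {q} := by
  obtain ⟨f, hf, hfd⟩ := UniqueFactorizationMonoid.exists_prime_factors d hd0
  have h1 : f.prod ∈ P := by
    obtain ⟨u, hu⟩ := hfd.symm
    rw [← hu]
    exact P.mul_mem_right _ hdP
  obtain ⟨b, hbf, hbP⟩ := (hP.multiset_prod_mem_iff_exists_mem f).mp h1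
  have hb : Prime b := hf b hbf
  have hQ : (Ideal.span {b}).IsPrime := (Ideal.span_singleton_prime hb.ne_zero).mpr hb
  refine ⟨b, hb.ne_zero, (hmin _ hQ ?_ ?_).symm⟩
  · rw [Ideal.span_singleton_le_span_singleton]
    exact (Multiset.dvd_prod hbf).trans hfd.dvd
  · rw [Ideal.span_singleton_le_iff_mem]; exact hbP

/-- an integral closed subscheme whose support lies in the support of `D` contains `D`. -/
theorem le_of_support_subset {D 𝓔 : X.IdealSheafData} (hint : IsIntegral 𝓔.subscheme)
    (hsub : 𝓔.support ≤ D.support) : D ≤ 𝓔 :=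
  calc D ≤ D.radical := Scheme.IdealSheafData.le_radical _
    _ = Scheme.IdealSheafData.vanishingIdeal D.support :=
        Scheme.IdealSheafData.vanishingIdeal_support.symm
    _ ≤ Scheme.IdealSheafData.vanishingIdeal 𝓔.support :=
        Scheme.IdealSheafData.vanishingIdeal_antimono hsub
    _ = 𝓔.radical := Scheme.IdealSheafData.vanishingIdeal_support
    _ = 𝓔 := radical_eq hint

/-- On a locally Noetherian scheme with regular local rings, the reduced irreducible components
of an effective Cartier divisor are effective Cartier divisors. -/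
theorem isEffCartierIdeal_of_maximal [IsLocallyNoetherian X]
    (hreg : ∀ x : X, IsRegularLocalRing (X.presheaf.stalk x))
    {D 𝓔 : X.IdealSheafData} (hD : BlowUp.IsEffCartierIdeal D) (hint : IsIntegral 𝓔.subscheme)
    (hsub : 𝓔.support ≤ D.support)
    (hmax : ∀ S : Set X, IsIrreducible S → S ⊆ D.support → (𝓔.support : Set X) ⊆ S →
      S ⊆ 𝓔.support) :
    BlowUp.IsEffCartierIdeal 𝓔 := by
  have hle : D ≤ 𝓔 := le_of_support_subset hint hsub
  apply isEffCartierIdeal_of_st
  intro x
  haveI := hreg x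
  haveI := Groth.Agent.H23.isDomain_of_isRegularLocalRing (X.presheaf.stalk x)
  haveI := Groth.Agent.H26.RegUFD.ufm_of_isRegularLocalRing (X.presheaf.stalk x)
  by_cases hx : x ∈ 𝓔.support
  · haveI hP := st_isPrime hint x hx
    obtain ⟨d, hd, hds⟩ := exists_gen hD x
    have hd0 : d ≠ 0 := nonZeroDivisors.ne_zero hd
    have hdP : d ∈ st 𝓔 x := st_mono hle x (by rw [hds]; exact Ideal.mem_span_singleton_self d)
    obtain ⟨q, hq0, hq⟩ := principal_of_minimal (st 𝓔 x) d hd0 hdP (fun Q hQ h1 h2 => by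
      haveI := hQ
      exact st_minimal hint hmax x hx Q (by rw [hds]; exact h1) h2)
    exact ⟨q, mem_nonZeroDivisors_of_ne_zero hq0, hq⟩
  · refine ⟨1, one_mem _, ?_⟩
    rw [Ideal.span_singleton_one]
    by_contra hne
    exact hx (mem_support_iff_st.mpr hne)

/-- the stalk of a product of powers at a point which is generic in one factor and outside the
others. -/
theorem st_prod_at_generic {ι : Type*} [Fintype ι] [DecidableEq ι] (𝓔 : ι → X.IdealSheafData)
    (a : ι → ℕ) (i : ι) (ξ : X)
    (hm : st (𝓔 i) ξ = IsLocalRing.maximalIdeal (X.presheaf.stalk ξ))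
    (hne : ∀ j, j ≠ i → ξ ∉ (𝓔 j).support) :
    st (∏ j, 𝓔 j ^ a j) ξ = IsLocalRing.maximalIdeal (X.presheaf.stalk ξ) ^ a i := by
  rw [st_finset_prod, ← Finset.mul_prod_erase Finset.univ _ (Finset.mem_univ i), st_pow, hm]
  have h1 : ∏ j ∈ Finset.univ.erase i, st (𝓔 j ^ a j) ξ = 1 := by
    apply Finset.prod_eq_one
    intro j hj
    have hji : j ≠ i := Finset.ne_of_mem_erase hj
    have htop : st (𝓔 j) ξ = ⊤ := by
      by_contra hne'
      exact hne j hji (mem_support_iff_st.mpr hne')
    rw [st_pow, htop, Ideal.top_pow, Ideal.one_eq_top]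
  rw [h1, mul_one]

/-- length of the quotient by a power of a principal nonzero maximal ideal. -/
theorem length_quotient_pow (A : Type*) [CommRing A] [IsLocalRing A] [IsNoetherianRing A]
    [IsDomain A] (q : A) (hq0 : q ≠ 0) (hm : IsLocalRing.maximalIdeal A = Ideal.span {q}) (a : ℕ) :
    Module.length A (A ⧸ IsLocalRing.maximalIdeal A ^ a) = a := by
  have hnf : ¬ IsField A := by
    rw [IsLocalRing.isField_iff_maximalIdeal_eq, hm]
    intro h
    rw [Ideal.span_singleton_eq_bot] at h
    exact hq0 h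
  haveI : IsDiscreteValuationRing A := by
    refine ((IsDiscreteValuationRing.TFAE A hnf).out 0 4).mpr ?_
    rw [hm]
    exact ⟨⟨q, rfl⟩⟩
  exact IsDiscreteValuationRing.length_quotient_pow_maximalIdeal A a

/-- Zorn: every point of a set lies in a maximal irreducible subset of it. -/
lemma exists_maximal_irreducible {α : Type*} [TopologicalSpace α] (F : Set α) (x : α)
    (hx : x ∈ F) : ∃ Z, Maximal (fun S : Set α => IsIrreducible S ∧ S ⊆ F) Z ∧ x ∈ Z := by
  obtain ⟨m, hsm, hm⟩ := zorn_subset_nonempty {t : Set α | IsPreirreducible t ∧ t ⊆ F}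
    (fun c hc hcc _ => ⟨⋃₀ c, ⟨fun u v hu hv ⟨y, hy, hyu⟩ ⟨x, hx, hxv⟩ =>
          let ⟨p, hpc, hyp⟩ := Set.mem_sUnion.1 hy
          let ⟨q, hqc, hxq⟩ := Set.mem_sUnion.1 hx
          Or.casesOn (hcc.total hpc hqc)
            (fun hpq : p ⊆ q =>
              let ⟨x, hxp, hxuv⟩ := (hc hqc).1 u v hu hv ⟨y, hpq hyp, hyu⟩ ⟨x, hxq, hxv⟩
              ⟨x, Set.mem_sUnion_of_mem hxp hqc, hxuv⟩)
            fun hqp : q ⊆ p =>
            let ⟨x, hxp, hxuv⟩ := (hc hpc).1 u v hu hv ⟨y, hyp, hyu⟩ ⟨x, hqp hxq, hxv⟩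
            ⟨x, Set.mem_sUnion_of_mem hxp hpc, hxuv⟩,
          Set.sUnion_subset fun t ht => (hc ht).2⟩,
        fun _ hxc => Set.subset_sUnion_of_mem hxc⟩)
      {x} ⟨isIrreducible_singleton.2, Set.singleton_subset_iff.mpr hx⟩
  have hxm : x ∈ m := hsm rfl
  refine ⟨m, ⟨⟨⟨⟨x, hxm⟩, hm.prop.1⟩, hm.prop.2⟩, ?_⟩, hxm⟩
  intro S hS hmS
  exact hm.le_of_ge ⟨hS.1.2, hS.2⟩ hmS

end Groth.Agent.H59.FibreComp
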