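import Mathlib
import Groth.Agent.H41.GradedFT

/-!
# helper59: sections of `O(n)` over `D₊(f)` are flat over the base when the graded pieces of
large degree are
-/

set_option autoImplicit false
set_option linter.unusedSectionVars false
set_option linter.unusedVariables false
set_option linter.style.haveILetI false
universe u

open CategoryTheory AlgebraicGeometry HomogeneousIdeal TopologicalSpace Opposite
open Groth.Agent.H41.GrModQCoh Groth.Agent.H41.GradedFT Groth.Agent.H41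

noncomputable section

namespace Groth.Agent.H59.FlatTwistSect

variable {A σ : Type u} [CommRing A] [SetLike σ A] [AddSubgroupClass σ A] (𝒜 : ℕ → σ)
  [GradedRing 𝒜] {d : ℕ} (hd : 0 < d) {f : A} (hf : f ∈ 𝒜 d) (n : ℤ)
  {R : Type u} [CommRing R] (ρ : R →+* A) (hρ : ∀ r, ρ r ∈ 𝒜 0)

include hρ in
/-- the graded pieces are stable under the `R`-action. -/
theorem span_eq (i : ℕ) :
    letI := ρ.toAlgebra
    ((Submodule.span R (𝒜 i : Set A) : Submodule R A) : Set A) = (𝒜 i : Set A) := by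
  letI := ρ.toAlgebra
  refine Set.Subset.antisymm ?_ Submodule.subset_span
  intro x hx
  induction hx using Submodule.span_induction with
  | mem x hx => exact hx
  | zero => exact zero_mem (𝒜 i)
  | add x y _ _ hx hy => exact add_mem hx hy
  | smul r x _ hx =>
    have h1 : ρ r * x ∈ 𝒜 (0 + i) := SetLike.mul_mem_graded (hρ r) hx
    rw [zero_add] at h1
    exact h1

variable (φ : R →+* Γ(Proj 𝒜, Proj.basicOpen 𝒜 f))
  (hφ : ∀ (r : R) (x : (Proj.basicOpen 𝒜 f : (Proj 𝒜).Opens)),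
    (rval 𝒜 (φ r) x).val = Localization.mk (ρ r) 1)

include hρ hφ in
theorem smul_Phi (r : R) (K i : ℕ) (hi : (i : ℤ) = ((K • d : ℕ) : ℤ) + n) (w : A) :
    φ r • Phi 𝒜 𝒜 hf n K i hi w = Phi 𝒜 𝒜 hf n K i hi (ρ r * w) := by
  refine sect_ext 𝒜 𝒜 n _ _ fun x => ?_
  rw [val_smul, val_Phi, val_Phi, hφ]
  have h1 := GrModSections.coe_decompose_smul_of_mem 𝒜 𝒜 (hρ r) w i
  rw [zero_add] at h1
  have h2 : ((DirectSum.decompose 𝒜 (ρ r * w) i : 𝒜 i) : A) =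
      ρ r * ((DirectSum.decompose 𝒜 w i : 𝒜 i) : A) := h1
  rw [h2, LocalizedModule.mk_smul_mk, one_mul]
  rfl


theorem Phi_congr' {K K' i i' : ℕ} (hK : K = K') (hI : i = i')
    (hi : (i : ℤ) = ((K • d : ℕ) : ℤ) + n) (hi' : (i' : ℤ) = ((K' • d : ℕ) : ℤ) + n) (u : A) :
    Phi 𝒜 𝒜 hf n K i hi u = Phi 𝒜 𝒜 hf n K' i' hi' u := by
  subst hK hI; rfl

include hd hf hρ hφ in
/-- sections of `O(n)` over `D₊(f)` are flat over `R`. -/
theorem flat_sections (d₀ : ℕ)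
    (hflat : ∀ i : ℕ, d₀ ≤ i →
      letI := ρ.toAlgebra
      Module.Flat R ↥(Submodule.span R (𝒜 i : Set A))) :
    letI := Module.compHom Γ(GrMod.tilde 𝒜 𝒜 n, Proj.basicOpen 𝒜 f) φ
    Module.Flat R Γ(GrMod.tilde 𝒜 𝒜 n, Proj.basicOpen 𝒜 f) := by
  classical
  letI mod := Module.compHom Γ(GrMod.tilde 𝒜 𝒜 n, Proj.basicOpen 𝒜 f) φ
  refine Module.Flat.iff_forall_isTrivialRelation.mpr ?_
  intro l r t hrel
  have h1 : ∀ i, ∃ (k j : ℕ) (hj : (j : ℤ) = ((k • d : ℕ) : ℤ) + n) (m : A), m ∈ 𝒜 j ∧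
      t i = Phi 𝒜 𝒜 hf n k j hj m := by
    intro i
    obtain ⟨k, j, m, hj, hval⟩ := GrModSections.sections_eq_fraction 𝒜 𝒜 n hd hf (t i)
    have hj' : (j : ℤ) = ((k • d : ℕ) : ℤ) + n := by rw [hj, smul_eq_mul, Nat.cast_mul]
    refine ⟨k, j, hj', (m : A), m.2, ?_⟩
    refine sect_ext 𝒜 𝒜 n _ _ fun x => ?_
    rw [val_Phi, DirectSum.decompose_of_mem_same 𝒜 m.2]
    exact hval x
  choose k j hj m hm ht using h1
  obtain ⟨K, hK⟩ : ∃ K, ∀ i, k i ≤ K := ⟨∑ i, k i, fun i =>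
    Finset.single_le_sum (fun _ _ => Nat.zero_le _) (Finset.mem_univ i)⟩
  obtain ⟨J, hJdef⟩ : ∃ J : ℕ, J = Int.toNat (((K • d : ℕ) : ℤ) + n) := ⟨_, rfl⟩
  have hJi : ∀ i, (K - k i) • d + j i = J := by
    intro i
    have e := raise_eq (d := d) n (hj i) (K - k i)
    rw [Nat.sub_add_cancel (hK i)] at e
    rw [hJdef, ← e, Int.toNat_natCast]
  by_cases hl : l = 0
  · subst hl
    exact ⟨0, fun i => Fin.elim0 i, fun j => Fin.elim0 j, fun i => Fin.elim0 i,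
      fun j => Fin.elim0 j⟩
  obtain ⟨i₀⟩ : Nonempty (Fin l) := ⟨⟨0, Nat.pos_of_ne_zero hl⟩⟩
  have hJ : (J : ℤ) = ((K • d : ℕ) : ℤ) + n := by
    have e := raise_eq (d := d) n (hj i₀) (K - k i₀)
    rw [Nat.sub_add_cancel (hK i₀), hJi i₀] at e
    exact e
  -- numerators over the common denominator
  obtain ⟨u, hudef⟩ : ∃ u : Fin l → A, u = fun i => f ^ (K - k i) * m i := ⟨_, rfl⟩
  have hu : ∀ i, u i ∈ 𝒜 J := by
    intro i
    rw [hudef, ← hJi i]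
    exact SetLike.mul_mem_graded (SetLike.pow_mem_graded _ hf) (hm i)
  have htu : ∀ i, t i = Phi 𝒜 𝒜 hf n K J hJ (u i) := by
    intro i
    rw [ht i, Phi_raise 𝒜 𝒜 hf n (k i) (j i) (hj i) (K - k i) (m i)
      (raise_eq (d := d) n (hj i) (K - k i)), hudef]
    exact Phi_congr' 𝒜 hf n (Nat.sub_add_cancel (hK i)) (hJi i) _ _ _
  -- the relation on numerators
  obtain ⟨z, hzdef⟩ : ∃ z : A, z = ∑ i, ρ (r i) * u i := ⟨_, rfl⟩
  have hz : z ∈ 𝒜 J := by
    rw [hzdef]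
    refine sum_mem fun i _ => ?_
    have h1 : ρ (r i) * u i ∈ 𝒜 (0 + J) := SetLike.mul_mem_graded (hρ (r i)) (hu i)
    rwa [zero_add] at h1
  have hPz : Phi 𝒜 𝒜 hf n K J hJ z = 0 := by
    rw [← hrel, hzdef, ← PhiHom_apply, map_sum]
    refine Finset.sum_congr rfl fun i _ => ?_
    rw [PhiHom_apply, ← smul_Phi 𝒜 hf n ρ hρ φ hφ, ← htu i]
    rfl
  obtain ⟨N, hN⟩ : ∃ N : ℕ, f ^ N • z = 0 := by
    refine GrModSections.exists_pow_smul_eq_zero_of_forall_localized_eq_zero 𝒜 𝒜 hd hf hz ?_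
    intro x hx
    have h2 := congrArg (fun s => GrMod.val s (⟨x, hx⟩ : (Proj.basicOpen 𝒜 f : (Proj 𝒜).Opens)))
      hPz
    simp only at h2
    rw [val_Phi, DirectSum.decompose_of_mem_same 𝒜 hz] at h2
    have h3 : (LocalizedModule.mk z (⟨f ^ K, pow_not_mem 𝒜 K ⟨x, hx⟩⟩ :
        x.asHomogeneousIdeal.toIdeal.primeCompl) :
        LocalizedModule x.asHomogeneousIdeal.toIdeal.primeCompl A) = 0 := h2
    rw [← LocalizedModule.zero_mk (1 : x.asHomogeneousIdeal.toIdeal.primeCompl),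
      LocalizedModule.mk_eq] at h3
    obtain ⟨c, hc⟩ := h3
    rw [one_smul, smul_zero, smul_zero] at hc
    exact ⟨c.1, c.2, hc⟩
  -- raise into a flat degree
  obtain ⟨N', hN'def⟩ : ∃ N' : ℕ, N' = N + d₀ := ⟨_, rfl⟩
  obtain ⟨D, hDdef⟩ : ∃ D : ℕ, D = N' • d + J := ⟨_, rfl⟩
  have hD : d₀ ≤ D := by
    have : N' ≤ N' • d := by rw [smul_eq_mul]; exact Nat.le_mul_of_pos_right _ hd
    omega
  have hDJ : (D : ℤ) = (((N' + K) • d : ℕ) : ℤ) + n := by
    rw [hDdef]; exact raise_eq (d := d) n hJ N'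
  have hN'z : f ^ N' * z = 0 := by
    rw [hN'def, pow_add, mul_comm (f ^ N), mul_assoc]
    have : f ^ N * z = 0 := hN
    rw [this, mul_zero]
  letI alg := ρ.toAlgebra
  haveI := hflat D hD
  have hv : ∀ i, f ^ N' * u i ∈ 𝒜 D := fun i => by
    rw [hDdef]; exact SetLike.mul_mem_graded (SetLike.pow_mem_graded _ hf) (hu i)
  obtain ⟨vv, hvvdef⟩ : ∃ vv : Fin l → ↥(Submodule.span R (𝒜 D : Set A)),
      vv = fun i => ⟨f ^ N' * u i, Submodule.subset_span (hv i)⟩ := ⟨_, rfl⟩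
  have hrelv : ∑ i, r i • vv i = 0 := by
    apply Subtype.ext
    rw [Submodule.coe_sum, Submodule.coe_zero]
    have : ∀ i, ((r i • vv i : ↥(Submodule.span R (𝒜 D : Set A))) : A) =
        f ^ N' * (ρ (r i) * u i) := fun i => by
      rw [Submodule.coe_smul, hvvdef, Algebra.smul_def, RingHom.algebraMap_toAlgebra]
      ring
    rw [Finset.sum_congr rfl fun i _ => this i, ← Finset.mul_sum, ← hzdef, hN'z]
  obtain ⟨k', a, y, hvy, hra⟩ := Module.Flat.isTrivialRelation_of_sum_smul_eq_zero hrelv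
  have hy : ∀ j', ((y j' : ↥(Submodule.span R (𝒜 D : Set A))) : A) ∈ 𝒜 D := fun j' => by
    have h1 : ((y j' : ↥(Submodule.span R (𝒜 D : Set A))) : A) ∈
        ((Submodule.span R (𝒜 D : Set A) : Submodule R A) : Set A) := (y j').2
    rw [span_eq 𝒜 ρ hρ D] at h1
    exact h1
  refine ⟨k', a, fun j' => Phi 𝒜 𝒜 hf n (N' + K) D hDJ (y j' : A), fun i => ?_, hra⟩
  rw [htu i, Phi_raise 𝒜 𝒜 hf n K J hJ N' (u i) (raise_eq (d := d) n hJ N')]
  have e1 : f ^ N' • u i = ∑ j', ρ (a i j') * ((y j' : ↥(Submodule.span R (𝒜 D : Set A))) : A) := by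
    have h2 : ((vv i : ↥(Submodule.span R (𝒜 D : Set A))) : A) =
        ((∑ j', a i j' • y j' : ↥(Submodule.span R (𝒜 D : Set A))) : A) := congrArg _ (hvy i)
    rw [Submodule.coe_sum] at h2
    rw [hvvdef] at h2
    rw [smul_eq_mul]
    refine h2.trans (Finset.sum_congr rfl fun j' _ => ?_)
    rw [Submodule.coe_smul, Algebra.smul_def, RingHom.algebraMap_toAlgebra]
  rw [Phi_congr' 𝒜 hf n rfl hDdef.symm _ hDJ, e1, ← PhiHom_apply, map_sum]
  refine Finset.sum_congr rfl fun j' _ => ?_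
  rw [PhiHom_apply, ← smul_Phi 𝒜 hf n ρ hρ φ hφ]
  rfl


omit φ hφ in
include hd hf hρ in
/-- variant over an open equal to `D₊(f)`. -/
theorem flat_sections' (d₀ : ℕ)
    (hflat : ∀ i : ℕ, d₀ ≤ i →
      letI := ρ.toAlgebra
      Module.Flat R ↥(Submodule.span R (𝒜 i : Set A)))
    (V : (Proj 𝒜).Opens) (hV : V = Proj.basicOpen 𝒜 f)
    (φ : R →+* Γ(Proj 𝒜, V))
    (hφ : ∀ (r : R) (x : V), (rval 𝒜 (φ r) x).val = Localization.mk (ρ r) 1) :
    letI := Module.compHom (Γ(GrMod.tilde 𝒜 𝒜 n, V)) φ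
    Module.Flat R Γ(GrMod.tilde 𝒜 𝒜 n, V) := by
  subst hV
  exact flat_sections 𝒜 hd hf n ρ hρ φ hφ d₀ hflat

end Groth.Agent.H59.FlatTwistSect
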