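import Mathlib
import Groth.Agent.H41.GradedFT
import Groth.Agent.H41.FundMap
import Groth.Agent.H8.FlatAffine
import Groth.Agent.H59.FlatTwistSect
import Groth.Agent.H27.FlatAway
import Groth.Agent.H41.RelMulUnit
import Groth.Agent.H41.ProjDense

/-!
# helper59: flatness of a relative Proj and of its twisting sheaves, from eventually flat graded
pieces
-/

set_option autoImplicit false
set_option linter.unusedSectionVars false
set_option linter.unusedVariables false
set_option linter.style.haveILetI false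
universe u

open CategoryTheory CategoryTheory.Limits AlgebraicGeometry HomogeneousIdeal TopologicalSpace Opposite
open Groth.Agent.H8 Groth.Agent.H41.GrModQCoh Groth.Agent.H41.GrModMaps
  Groth.Agent.H41.RelTildeMaps Groth.Agent.H41.GradedFT Groth.Agent.H41.FundMap

noncomputable section

namespace Groth.Agent.H59.FlatRelProj

/-- flatness transfers along a bijective semilinear map. -/
theorem flat_of_bijective_semilinear {R S M N : Type u} [CommRing R] [CommRing S]
    [AddCommGroup M] [Module S M] [AddCommGroup N] [Module S N]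
    (l : M →+ N) (hl : Function.Bijective l)
    (hsl : ∀ (r : S) (m : M), l (r • m) = r • l m) (ε : R →+* S)
    (h : letI := Module.compHom N ε
      Module.Flat R N) :
    letI := Module.compHom M ε
    Module.Flat R M := by
  letI mN := Module.compHom N ε
  letI mM := Module.compHom M ε
  haveI : Module.Flat R N := h
  let e : M ≃ₗ[R] N :=
    { toFun := l
      map_add' := map_add l
      map_smul' := fun r m => hsl (ε r) m
      invFun := Function.surjInv hl.2
      left_inv := Function.leftInverse_surjInv hl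
      right_inv := Function.rightInverse_surjInv hl.2 }
  exact Module.Flat.of_linearEquiv e

variable {Y P : Scheme.{u}} (𝒮 : RelProj.QCGrAlg Y) (p : P ⟶ Y)
  (chart : ∀ (U : Y.Opens) (hU : IsAffineOpen U),
    (((p ⁻¹ᵁ U : P.Opens) : Scheme.{u}) ≅ Proj (𝒮.deg U hU)))
  (hP : RelProj.IsRelProj 𝒮 p chart)
  (n : ℤ) (L : P.Modules)
  (lam : ∀ (U : Y.Opens) (hU : IsAffineOpen U),
    L ⟶ (Scheme.Modules.pushforward (RelProj.emb p chart U hU)).obj
      (GrTwist.twist (𝒮.deg U hU) n))
  (hL : RelProj.IsRelTwist 𝒮 p chart n L lam)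

/-- sections of the chartwise twisting sheaf. -/
abbrev CS (U : Y.Opens) (hU : IsAffineOpen U) (W : P.Opens) : Type u :=
  Γ(GrMod.tilde (𝒮.deg U hU) (𝒮.deg U hU) n, RelProj.emb p chart U hU ⁻¹ᵁ W)

/-- the base ring acting on chart sections. -/
abbrev baseHom (U : Y.Opens) (hU : IsAffineOpen U) (W : P.Opens) (hW : W ≤ p ⁻¹ᵁ U) :
    Γ(Y, U) →+* Γ(Proj (𝒮.deg U hU), RelProj.emb p chart U hU ⁻¹ᵁ W) :=
  ((RelProj.emb p chart U hU).app W).hom.comp (p.appLE U W hW).hom

include hL in
/-- Flatness of sections passes from a chart to the relative `Proj`. -/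
theorem flat_sections_of_chart (U : Y.Opens) (hU : IsAffineOpen U) (W : P.Opens)
    (hW : W ≤ p ⁻¹ᵁ U)
    (h : letI := Module.compHom (CS 𝒮 p chart n U hU W) (baseHom 𝒮 p chart U hU W hW)
      Module.Flat Γ(Y, U) (CS 𝒮 p chart n U hU W)) :
    letI := Module.compHom (Γ(L, W)) (p.appLE U W hW).hom
    Module.Flat Γ(Y, U) Γ(L, W) := by
  have hsl : ∀ (r : Γ(P, W)) (m : Γ(L, W)),
      (show Γ(GrMod.tilde (𝒮.deg U hU) (𝒮.deg U hU) n, RelProj.emb p chart U hU ⁻¹ᵁ W) from
        (lam U hU).app W (r • m)) =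
      ((RelProj.emb p chart U hU).app W).hom r •
        (show Γ(GrMod.tilde (𝒮.deg U hU) (𝒮.deg U hU) n, RelProj.emb p chart U hU ⁻¹ᵁ W) from
          (lam U hU).app W m) := by
    intro r m
    have h1 := Scheme.Modules.Hom.app_smul (lam U hU) r m
    refine (congrArg (fun z => (show Γ(GrMod.tilde (𝒮.deg U hU) (𝒮.deg U hU) n,
      RelProj.emb p chart U hU ⁻¹ᵁ W) from z)) h1).trans ?_
    rfl
  letI mN : Module Γ(P, W)
      Γ(GrMod.tilde (𝒮.deg U hU) (𝒮.deg U hU) n, RelProj.emb p chart U hU ⁻¹ᵁ W) :=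
    Module.compHom _ ((RelProj.emb p chart U hU).app W).hom
  exact flat_of_bijective_semilinear (R := Γ(Y, U)) (S := Γ(P, W))
    (N := Γ(GrMod.tilde (𝒮.deg U hU) (𝒮.deg U hU) n, RelProj.emb p chart U hU ⁻¹ᵁ W))
    (show Γ(L, W) →+ Γ(GrMod.tilde (𝒮.deg U hU) (𝒮.deg U hU) n,
      RelProj.emb p chart U hU ⁻¹ᵁ W) from ((lam U hU).app W).hom)
    (hL.bijective U hU W hW) hsl (p.appLE U W hW).hom h


include hP in
/-- the base ring acts on chart sections through `str(r)/1`. -/
theorem val_baseHom (U : Y.Opens) (hU : IsAffineOpen U) (W : P.Opens) (hW : W ≤ p ⁻¹ᵁ U)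
    (r : Γ(Y, U)) (x : (RelProj.emb p chart U hU ⁻¹ᵁ W : (Proj (𝒮.deg U hU)).Opens)) :
    (rval (𝒮.deg U hU) (baseHom 𝒮 p chart U hU W hW r) x).val =
      Localization.mk ((𝒮.str.app (op U)).hom r) 1 := by
  have h1 : baseHom 𝒮 p chart U hU W hW r =
      (RelProj.emb p chart U hU).app W (P.presheaf.map (homOfLE hW).op (p.app U r)) := rfl
  rw [h1, Groth.Agent.H41.RelMulUnit.rval_app_res (𝒮.deg U hU) (RelProj.emb p chart U hU) hW (p.app U r) x]
  exact val_rval_emb_app 𝒮 p chart hP U hU r x.1 (hW x.2)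

include hP hL in
/-- the twisting sheaves of a relative `Proj` with eventually flat graded pieces are flat over
the base. -/
theorem isFlatOver_relTwist (d₀ : ℕ)
    (hflat : ∀ d : ℕ, d₀ ≤ d → ∀ (U : Y.Opens) (hU : IsAffineOpen U),
      letI := (𝒮.str.app (op U)).hom.toAlgebra
      Module.Flat Γ(Y, U)
        ↥(Submodule.span Γ(Y, U) (𝒮.deg U hU d : Set (𝒮.presheaf.obj (op U))))) :
    FlatMod.IsFlatOver p L := by
  haveI hq : L.IsQuasicoherent := isQuasicoherent_relTwist 𝒮 p chart n L lam hL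
  intro y
  obtain ⟨U, hU, hyU, -⟩ := Opens.isBasis_iff_nbhd.mp Y.isBasis_affineOpens
    (show p.base y ∈ (⊤ : Y.Opens) from trivial)
  obtain ⟨y', hy'⟩ : ∃ y', (RelProj.emb p chart U hU).base y' = y := by
    have : y ∈ (RelProj.emb p chart U hU).opensRange := by
      rw [opensRange_emb]; exact hyU
    exact this
  obtain ⟨e, he, t, ht, hty⟩ := Groth.Agent.H41.ProjDense.exists_pos_not_mem (𝒮.deg U hU) y'
  obtain ⟨W, hWdef⟩ : ∃ W : P.Opens,
    W = RelProj.emb p chart U hU ''ᵁ Proj.basicOpen (𝒮.deg U hU) t := ⟨_, rfl⟩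
  have hWaff : IsAffineOpen W := by
    rw [hWdef]
    exact (Proj.isAffineOpen_basicOpen (𝒮.deg U hU) t ht he).image_of_isOpenImmersion
      (RelProj.emb p chart U hU)
  have hWle : W ≤ p ⁻¹ᵁ U := by
    rw [hWdef]
    rintro _ ⟨z, _, rfl⟩
    have : (RelProj.emb p chart U hU).base z ∈ (RelProj.emb p chart U hU).opensRange :=
      ⟨z, rfl⟩
    rwa [opensRange_emb] at this
  have hyW : y ∈ W := by
    rw [hWdef]
    exact ⟨y', (ProjectiveSpectrum.mem_basicOpen (𝒮.deg U hU) t y').mpr hty, hy'⟩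
  refine isFlatOverAt_of_flat_sections p L hWaff hU hWle y hyW ?_
  refine flat_sections_of_chart 𝒮 p chart n L lam hL U hU W hWle ?_
  have hV : RelProj.emb p chart U hU ⁻¹ᵁ W = Proj.basicOpen (𝒮.deg U hU) t := by
    rw [hWdef]
    exact (RelProj.emb p chart U hU).preimage_image_eq _
  exact Groth.Agent.H59.FlatTwistSect.flat_sections' (𝒮.deg U hU) he ht n
    (𝒮.str.app (op U)).hom (𝒮.str_mem U hU) d₀ (fun d hd => hflat d hd U hU)
    (RelProj.emb p chart U hU ⁻¹ᵁ W) hV (baseHom 𝒮 p chart U hU W hWle)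
    (val_baseHom 𝒮 p chart hP U hU W hWle)

include hP in
/-- a relative `Proj` with eventually flat graded pieces is flat over the base. -/
theorem flat_relProj (d₀ : ℕ)
    (hflat : ∀ d : ℕ, d₀ ≤ d → ∀ (U : Y.Opens) (hU : IsAffineOpen U),
      letI := (𝒮.str.app (op U)).hom.toAlgebra
      Module.Flat Γ(Y, U)
        ↥(Submodule.span Γ(Y, U) (𝒮.deg U hU d : Set (𝒮.presheaf.obj (op U))))) :
    Flat p := by
  have key : ∀ y : P, ∃ (T : Scheme.{u}) (j : T ⟶ P) (_ : IsOpenImmersion j),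
      y ∈ j.opensRange ∧ Flat (j ≫ p) := by
    intro y
    obtain ⟨U, hU, hyU, -⟩ := Opens.isBasis_iff_nbhd.mp Y.isBasis_affineOpens
      (show p.base y ∈ (⊤ : Y.Opens) from trivial)
    obtain ⟨y', hy'⟩ : ∃ y', (RelProj.emb p chart U hU).base y' = y := by
      have : y ∈ (RelProj.emb p chart U hU).opensRange := by
        rw [opensRange_emb]; exact hyU
      exact this
    obtain ⟨e, he, b, hb, hby⟩ := Groth.Agent.H41.ProjDense.exists_pos_not_mem (𝒮.deg U hU) y'
    obtain ⟨j', hj'def⟩ : ∃ j' : Spec (.of (HomogeneousLocalization.Away (𝒮.deg U hU) b)) ⟶ P,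
        j' = Proj.awayι (𝒮.deg U hU) b hb he ≫ (chart U hU).inv ≫ (p ⁻¹ᵁ U).ι := ⟨_, rfl⟩
    have hoi : IsOpenImmersion j' := by rw [hj'def]; infer_instance
    have hj'p : j' ≫ p = Spec.map (𝒮.strZero U hU ≫
        CommRingCat.ofHom (HomogeneousLocalization.fromZeroRingHom (𝒮.deg U hU)
          (Submonoid.powers b))) ≫ hU.fromSpec := by
      rw [hj'def]
      simp only [Category.assoc]
      rw [← hP.chart_over U hU, Iso.inv_hom_id_assoc, Proj.awayι_toSpecZero_assoc,
        ← Spec.map_comp_assoc]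
    refine ⟨_, j', hoi, ?_, ?_⟩
    · have hy'b : y' ∈ (Proj.awayι (𝒮.deg U hU) b hb he).opensRange := by
        rw [Proj.opensRange_awayι]; exact (Proj.mem_basicOpen _ _ _).2 hby
      obtain ⟨z, hz⟩ := hy'b
      refine ⟨z, ?_⟩
      rw [hj'def, ← hy', ← hz]
      rfl
    · rw [hj'p]
      have hfl : Flat (Spec.map (𝒮.strZero U hU ≫
          CommRingCat.ofHom (HomogeneousLocalization.fromZeroRingHom (𝒮.deg U hU)
            (Submonoid.powers b)))) := by
        rw [Flat.SpecMap_iff]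
        refine Groth.Agent.H27.FlatAway.flat_away (𝒮.deg U hU) (𝒮.str.app (op U)).hom
          (𝒮.str_mem U hU) d₀ (fun d hd => hflat d hd U hU) he b hb _ ?_
        intro r
        rfl
      infer_instance
  choose T j hj hy hfl using key
  refine IsZariskiLocalAtSource.of_iSup_eq_top (P := @Flat) (fun y => (j y).opensRange) ?_ ?_
  · exact _root_.eq_top_iff.mpr fun y _ => Opens.mem_iSup.mpr ⟨y, hy y⟩
  · intro y
    haveI := hj y
    have hr : Set.range (j y) = Set.range ((j y).opensRange.ι) := by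
      rw [Scheme.Opens.range_ι]; rfl
    rw [← IsOpenImmersion.isoOfRangeEq_inv_fac (j y) (Scheme.Opens.ι _) hr, Category.assoc,
      MorphismProperty.cancel_left_of_respectsIso (P := @Flat)]
    exact hfl y

end Groth.Agent.H59.FlatRelProj
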