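import Mathlib
import Groth.Prelude
import Groth.Agent.H60.GorTransfer

set_option autoImplicit false
universe u
open CategoryTheory CategoryTheory.Limits AlgebraicGeometry

namespace Groth.Agent.H59.GorSch

/-- sections over an affine open of a Gorenstein scheme form a Gorenstein ring -/
theorem gorRing_of_affineOpen {X : Scheme.{u}} (hX : Dual3.IsGorenstein X) (V : X.affineOpens) :
    LocCoh.IsGorensteinRing Γ(X, V.1) := by
  obtain ⟨hn, hg⟩ := hX
  haveI : IsNoetherianRing Γ(X, V.1) := hn.component_noetherian V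
  refine ⟨fun p hp => ?_⟩
  have hU : IsAffineOpen V.1 := V.2
  set y : PrimeSpectrum Γ(X, V.1) := ⟨p, hp⟩ with hy
  have hmem : hU.fromSpec y ∈ V.1 := by
    have : hU.fromSpec y ∈ Set.range hU.fromSpec := ⟨y, rfl⟩
    rw [hU.range_fromSpec] at this
    exact this
  have hloc := hU.isLocalization_stalk' y hmem
  letI : Algebra Γ(X, V.1) (X.presheaf.stalk (hU.fromSpec y)) :=
    TopCat.Presheaf.algebra_section_stalk X.presheaf ⟨hU.fromSpec y, hmem⟩
  haveI : IsLocalization.AtPrime (X.presheaf.stalk (hU.fromSpec y)) p := hloc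
  have e : X.presheaf.stalk (hU.fromSpec y) ≃ₐ[Γ(X, V.1)] Localization.AtPrime p :=
    IsLocalization.algEquiv p.primeCompl _ _
  exact Groth.Agent.H60.GorTransfer.gor_of_ringEquiv e.toRingEquiv (hg _)

/-- a scheme covered by affine opens with Gorenstein coordinate rings is Gorenstein -/
theorem isGorenstein_of_cover {Y : Scheme.{u}}
    (h : ∀ y : Y, ∃ U : Y.affineOpens, y ∈ U.1 ∧ LocCoh.IsGorensteinRing Γ(Y, U.1)) :
    Dual3.IsGorenstein Y := by
  choose U hyU hG using h
  refine ⟨?_, fun y => ?_⟩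
  · refine isLocallyNoetherian_of_affine_cover (S := U) ?_ (fun y => (hG y).toIsNoetherian)
    rw [eq_top_iff]
    intro y _
    exact TopologicalSpace.Opens.mem_iSup.mpr ⟨y, hyU y⟩
  · have hU : IsAffineOpen (U y).1 := (U y).2
    have hloc := hU.isLocalization_stalk ⟨y, hyU y⟩
    haveI := (hU.primeIdealOf ⟨y, hyU y⟩).isPrime
    have hgl := (hG y).isGorensteinLocalRing_localization (hU.primeIdealOf ⟨y, hyU y⟩).asIdeal
    letI : Algebra Γ(Y, (U y).1) (Y.presheaf.stalk y) :=
      TopCat.Presheaf.algebra_section_stalk Y.presheaf ⟨y, hyU y⟩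
    haveI : IsLocalization.AtPrime (Y.presheaf.stalk y) (hU.primeIdealOf ⟨y, hyU y⟩).asIdeal := hloc
    have e : Localization.AtPrime (hU.primeIdealOf ⟨y, hyU y⟩).asIdeal ≃ₐ[Γ(Y, (U y).1)]
        Y.presheaf.stalk y :=
      IsLocalization.algEquiv (hU.primeIdealOf ⟨y, hyU y⟩).asIdeal.primeCompl _ _
    exact Groth.Agent.H60.GorTransfer.gor_of_ringEquiv e.toRingEquiv hgl

end Groth.Agent.H59.GorSch
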