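import Mathlib
import Groth.Agent.H59.Goren4
import Groth.Agent.H59.KoszH1Bridge
import Groth.Agent.S2868

/-!
# Gorenstein rings: local complete intersections over Gorenstein rings
-/

set_option autoImplicit false
set_option linter.style.haveILetI false
set_option linter.unusedSectionVars false
universe u
open IsLocalRing

namespace Groth.Agent.H59.Goren5

open Groth.Agent.H59.Goren1 Groth.Agent.H59.Goren4 Groth.Agent.H60.GorTransfer

/-- `H_1`-regularity passes to localizations. -/
theorem isH1Regular_of_isLocalization {C C' : Type u} [CommRing C] [CommRing C'] [Algebra C C']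
    (M : Submonoid C) [IsLocalization M C'] {n : ℕ} (g : Fin n → C)
    (hg : CAlgX.IsH1Regular g) : CAlgX.IsH1Regular (fun i => algebraMap C C' (g i)) := by
  classical
  intro a' ha'
  obtain ⟨s, hs⟩ := IsLocalization.exist_integer_multiples M (Finset.univ : Finset (Fin n)) a'
  choose a ha using fun i => hs i (Finset.mem_univ i)
  -- `ha i : algebraMap C C' (a i) = s • a' i`
  have h1 : algebraMap C C' (∑ i, a i * g i) = 0 := by
    rw [map_sum]
    have : ∀ i, algebraMap C C' (a i * g i) = (s : C) • (a' i * algebraMap C C' (g i)) := by
      intro i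
      rw [map_mul, ha i, smul_mul_assoc]
    simp_rw [this]
    rw [← Finset.smul_sum, ha', smul_zero]
  obtain ⟨t, ht⟩ := (IsLocalization.map_eq_zero_iff M C' _).mp h1
  have hrel : ∑ i, ((t : C) * a i) * g i = 0 := by
    simp_rw [mul_assoc]
    rw [← Finset.mul_sum]
    exact ht
  have hmem := hg (fun i => (t : C) * a i) hrel
  -- transport the span membership
  have hall : ∀ v ∈ Submodule.span C {v : Fin n → C | ∃ i j : Fin n,
      v = Pi.single i (g j) - Pi.single j (g i)},
      (fun k => algebraMap C C' (v k)) ∈ Submodule.span C' {v : Fin n → C' | ∃ i j : Fin n,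
        v = Pi.single i (algebraMap C C' (g j)) - Pi.single j (algebraMap C C' (g i))} := by
    intro v hv
    induction hv using Submodule.span_induction with
    | mem v hv =>
      obtain ⟨i, j, rfl⟩ := hv
      refine Submodule.subset_span ⟨i, j, ?_⟩
      funext k
      simp only [Pi.sub_apply, Pi.single_apply, map_sub]
      split_ifs <;> simp
    | zero =>
      have : (fun k => algebraMap C C' ((0 : Fin n → C) k)) = 0 := by
        funext k; simp
      rw [this]; exact Submodule.zero_mem _
    | add v w _ _ ihv ihw =>
      have : (fun k => algebraMap C C' ((v + w) k)) =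
          (fun k => algebraMap C C' (v k)) + (fun k => algebraMap C C' (w k)) := by
        funext k; simp
      rw [this]; exact Submodule.add_mem _ ihv ihw
    | smul c v _ ihv =>
      have : (fun k => algebraMap C C' ((c • v) k)) =
          algebraMap C C' c • (fun k => algebraMap C C' (v k)) := by
        funext k; simp
      rw [this]; exact Submodule.smul_mem _ _ ihv
  have h2 := hall _ hmem
  have hu : IsUnit (algebraMap C C' ((t : C) * (s : C))) := by
    rw [map_mul]
    exact (IsLocalization.map_units C' t).mul (IsLocalization.map_units C' s)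
  have h3 : (fun k => algebraMap C C' ((t : C) * a k)) =
      algebraMap C C' ((t : C) * (s : C)) • a' := by
    funext k
    simp only [map_mul, Pi.smul_apply, smul_eq_mul, ha k, Algebra.smul_def]
    ring
  rw [h3] at h2
  have h4 := Submodule.smul_mem _ (↑hu.unit⁻¹ : C') h2
  rwa [smul_smul, IsUnit.val_inv_mul, one_smul] at h4


/-- In a Noetherian local ring, an `H_1`-regular sequence in the maximal ideal is weakly regular. -/
theorem isWeaklyRegular_of_isH1Regular {A : Type u} [CommRing A] [IsNoetherianRing A]
    [IsLocalRing A] {n : ℕ} (f : Fin n → A) (hm : ∀ i, f i ∈ maximalIdeal A)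
    (hf : CAlgX.IsH1Regular f) : RingTheory.Sequence.IsWeaklyRegular A (List.ofFn f) := by
  refine Groth.Agent.S2868.result f (fun i => ?_) A ?_
  · rw [IsLocalRing.jacobson_eq_maximalIdeal ⊥ bot_ne_top]
    exact hm i
  · intro m hm0
    have h1 : ∑ i, m i * f i = 0 := by
      rw [← hm0]
      exact Finset.sum_congr rfl (fun i _ => by rw [smul_eq_mul, mul_comm])
    have h2 := hf m h1
    refine Submodule.span_mono ?_ h2
    rintro v ⟨i, j, rfl⟩
    refine ⟨i, j, 1, ?_⟩
    funext k
    simp only [Pi.sub_apply, Pi.smul_apply, smul_eq_mul, Pi.single_apply]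
    split_ifs <;> ring

/-- A local complete intersection algebra over a Gorenstein ring is Gorenstein. -/
theorem gorRing_of_isLCI (A B : Type u) [CommRing A] [CommRing B] [Algebra A B]
    (hA : LocCoh.IsGorensteinRing A) (h : LCI.IsLCI A B) : LocCoh.IsGorensteinRing B := by
  classical
  obtain ⟨-, n, f, hf, hI⟩ := h
  haveI : Algebra.Smooth A (MvPolynomial (Fin n) A) := ⟨inferInstance, inferInstance⟩
  haveI : LocCoh.IsGorensteinRing (MvPolynomial (Fin n) A) := gorRing_of_smooth A _
  have e : (MvPolynomial (Fin n) A ⧸ RingHom.ker f.toRingHom) ≃+* B :=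
    RingHom.quotientKerEquivOfSurjective hf
  have hG : LocCoh.IsGorensteinRing (MvPolynomial (Fin n) A ⧸ RingHom.ker f.toRingHom) := by
    refine gorRing_quotient_of_locally_regular _ (fun Q _ hIQ => ?_)
    obtain ⟨g, hgQ, l, hl, hIl⟩ := hI ⟨Q, inferInstance⟩ hIQ
    have hle : Submonoid.powers g ≤ Q.primeCompl := Submonoid.powers_le.mpr hgQ
    letI : Algebra (Localization.Away g) (Localization.AtPrime Q) :=
      IsLocalization.localizationAlgebraOfSubmonoidLe (Localization.Away g)
        (Localization.AtPrime Q) (Submonoid.powers g) Q.primeCompl hle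
    haveI : IsScalarTower (MvPolynomial (Fin n) A) (Localization.Away g)
        (Localization.AtPrime Q) :=
      IsLocalization.localization_isScalarTower_of_submonoid_le (Localization.Away g)
        (Localization.AtPrime Q) (Submonoid.powers g) Q.primeCompl hle
    haveI : IsLocalization (Q.primeCompl.map (algebraMap (MvPolynomial (Fin n) A)
        (Localization.Away g))) (Localization.AtPrime Q) :=
      IsLocalization.isLocalization_of_submonoid_le (Localization.Away g)
        (Localization.AtPrime Q) (Submonoid.powers g) Q.primeCompl hle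
    have h1 := Groth.Agent.H59.Kosz.isH1Regular_of_isKoszulRegularSeq l hl
    have h2 := isH1Regular_of_isLocalization (C' := Localization.AtPrime Q)
      (Q.primeCompl.map (algebraMap (MvPolynomial (Fin n) A) (Localization.Away g))) l.get h1
    have hIeq : (RingHom.ker f.toRingHom).map (algebraMap (MvPolynomial (Fin n) A)
        (Localization.AtPrime Q)) = Ideal.ofList (List.ofFn (fun i =>
          algebraMap (Localization.Away g) (Localization.AtPrime Q) (l.get i))) := by
      rw [IsScalarTower.algebraMap_eq (MvPolynomial (Fin n) A) (Localization.Away g)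
        (Localization.AtPrime Q), ← Ideal.map_map, hIl, Ideal.map_span, Ideal.ofList]
      congr 1
      ext x
      simp only [Set.mem_image, Set.mem_ofPred_eq, List.mem_ofFn]
      constructor
      · rintro ⟨y, hy, rfl⟩
        obtain ⟨i, rfl⟩ := List.mem_iff_get.mp hy
        exact ⟨i, rfl⟩
      · rintro ⟨i, rfl⟩
        exact ⟨l.get i, List.get_mem l i, rfl⟩
    have hmem : ∀ i, algebraMap (Localization.Away g) (Localization.AtPrime Q) (l.get i) ∈
        maximalIdeal (Localization.AtPrime Q) := by
      intro i
      have h3 : algebraMap (Localization.Away g) (Localization.AtPrime Q) (l.get i) ∈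
          (RingHom.ker f.toRingHom).map (algebraMap (MvPolynomial (Fin n) A)
            (Localization.AtPrime Q)) := by
        rw [hIeq]
        exact Ideal.subset_span (List.mem_ofFn.mpr ⟨i, rfl⟩)
      have h4 : (RingHom.ker f.toRingHom).map (algebraMap (MvPolynomial (Fin n) A)
          (Localization.AtPrime Q)) ≤ maximalIdeal (Localization.AtPrime Q) := by
        rw [← Localization.AtPrime.map_eq_maximalIdeal]
        exact Ideal.map_mono hIQ
      exact h4 h3
    haveI : IsNoetherianRing (Localization.AtPrime Q) :=
      IsLocalization.isNoetherianRing Q.primeCompl _ inferInstance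
    exact ⟨_, isWeaklyRegular_of_isH1Regular _ hmem h2, hIeq⟩
  exact @gorRing_of_ringEquiv _ _ _ _ e hG

end Groth.Agent.H59.Goren5
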