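import Mathlib
import Groth.Agent.H59.Goren5

/-!
# Gorenstein fibres of flat local complete intersection maps
-/

set_option autoImplicit false
set_option linter.style.haveILetI false
set_option linter.unusedSectionVars false
universe u
open IsLocalRing

namespace Groth.Agent.H59.Goren6

open Groth.Agent.H59.Goren1 Groth.Agent.H59.Goren4 Groth.Agent.H59.Goren5
  Groth.Agent.H60.GorTransfer

/-- Localization commutes with quotients, as a statement about `IsLocalization`. -/
theorem isLocalization_quot_loc {C : Type u} [CommRing C] (I : Ideal C) (Pb : Ideal (C ⧸ I))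
    [Pb.IsPrime] :
    IsLocalization.AtPrime
      (Localization.AtPrime (Pb.comap (Ideal.Quotient.mk I)) ⧸
        I.map (algebraMap C (Localization.AtPrime (Pb.comap (Ideal.Quotient.mk I))))) Pb := by
  set P : Ideal C := Pb.comap (Ideal.Quotient.mk I) with hP
  set J := I.map (algebraMap C (Localization.AtPrime P)) with hJ
  have hloc : IsLocalization (P.primeCompl.map (Ideal.Quotient.mk I))
      (Localization.AtPrime P ⧸ J) := by
    refine IsLocalization.of_surjective (M := P.primeCompl) (S := Localization.AtPrime P)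
      (Ideal.Quotient.mk I) Ideal.Quotient.mk_surjective
      (Ideal.Quotient.mk J) Ideal.Quotient.mk_surjective ?_ ?_
    · ext x
      rfl
    · rw [Ideal.mk_ker, Ideal.mk_ker]
  have hM : P.primeCompl.map (Ideal.Quotient.mk I) = Pb.primeCompl := by
    ext y
    constructor
    · rintro ⟨x, hx, rfl⟩
      exact hx
    · intro hy
      obtain ⟨x, rfl⟩ := Ideal.Quotient.mk_surjective y
      exact ⟨x, hy, rfl⟩
  rw [hM] at hloc
  exact hloc

/-- Images of trivial relations are trivial relations. -/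
theorem map_mem_triv {C C' : Type u} [CommRing C] [CommRing C'] (φ : C →+* C') {n : ℕ}
    (g : Fin n → C) :
    ∀ v ∈ Submodule.span C {v : Fin n → C | ∃ i j : Fin n,
      v = Pi.single i (g j) - Pi.single j (g i)},
      (fun k => φ (v k)) ∈ Submodule.span C' {v : Fin n → C' | ∃ i j : Fin n,
        v = Pi.single i (φ (g j)) - Pi.single j (φ (g i))} := by
  classical
  intro v hv
  induction hv using Submodule.span_induction with
  | mem v hv =>
    obtain ⟨i, j, rfl⟩ := hv
    refine Submodule.subset_span ⟨i, j, ?_⟩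
    funext k
    simp only [Pi.sub_apply, Pi.single_apply, map_sub]
    split_ifs <;> simp
  | zero =>
    have : (fun k => φ ((0 : Fin n → C) k)) = 0 := by
      funext k; simp
    rw [this]; exact Submodule.zero_mem _
  | add v w _ _ ihv ihw =>
    have : (fun k => φ ((v + w) k)) = (fun k => φ (v k)) + (fun k => φ (w k)) := by
      funext k; simp
    rw [this]; exact Submodule.add_mem _ ihv ihw
  | smul c v _ ihv =>
    have : (fun k => φ ((c • v) k)) = φ c • (fun k => φ (v k)) := by
      funext k; simp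
    rw [this]; exact Submodule.smul_mem _ _ ihv

/-- `H_1`-regularity passes to the quotient by an extended ideal when the quotient by the sequence
is flat. -/
theorem isH1Regular_quot_of_flat {A C : Type u} [CommRing A] [CommRing C] [Algebra A C] {n : ℕ}
    (l : Fin n → C) (hl : CAlgX.IsH1Regular l)
    (hflat : Module.Flat A (C ⧸ Ideal.span (Set.range l))) (𝔞 : Ideal A) :
    CAlgX.IsH1Regular (fun i => Ideal.Quotient.mk (𝔞.map (algebraMap A C)) (l i)) := by
  classical
  intro abar habar
  choose a ha using fun i => Ideal.Quotient.mk_surjective (abar i)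
  set J := Ideal.span (Set.range l) with hJ
  set x := ∑ i, a i * l i with hx
  have hx1 : x ∈ J :=
    Ideal.sum_mem _ (fun i _ => Ideal.mul_mem_left _ _ (Ideal.subset_span ⟨i, rfl⟩))
  have hx2 : x ∈ 𝔞.map (algebraMap A C) := by
    rw [← Ideal.Quotient.eq_zero_iff_mem, hx, map_sum, ← habar]
    exact Finset.sum_congr rfl (fun i _ => by rw [map_mul, ha i])
  -- flatness
  let f : C →ₗ[A] C ⧸ J := (Ideal.Quotient.mkₐ A J).toLinearMap
  have hfsurj : Function.Surjective f := Ideal.Quotient.mk_surjective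
  have hF := LinearMap.ker_inf_smul_top_eq_smul_of_flat 𝔞 f hfsurj
  have hxk : x ∈ LinearMap.ker f := by
    rw [LinearMap.mem_ker]
    exact Ideal.Quotient.eq_zero_iff_mem.mpr hx1
  have hxt : x ∈ 𝔞 • (⊤ : Submodule A C) := by
    rw [Ideal.smul_top_eq_map]
    exact hx2
  have hx3 : x ∈ 𝔞 • LinearMap.ker f := hF ▸ ⟨hxk, hxt⟩
  have key : ∀ y ∈ 𝔞 • LinearMap.ker f, ∃ b : Fin n → C,
      (∀ i, b i ∈ 𝔞.map (algebraMap A C)) ∧ y = ∑ i, b i * l i := by
    intro y hy
    refine Submodule.smul_induction_on hy ?_ ?_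
    · intro α hα j hj
      have hjJ : j ∈ J := by
        rw [LinearMap.mem_ker] at hj
        exact Ideal.Quotient.eq_zero_iff_mem.mp hj
      obtain ⟨c, hc⟩ := (Ideal.mem_span_range_iff_exists_fun (R := C)).mp hjJ
      refine ⟨fun i => algebraMap A C α * c i, fun i =>
        Ideal.mul_mem_right _ _ (Ideal.mem_map_of_mem _ hα), ?_⟩
      rw [← hc, Algebra.smul_def, Finset.mul_sum]
      exact Finset.sum_congr rfl (fun i _ => by ring)
    · rintro y z ⟨b, hb, rfl⟩ ⟨b', hb', rfl⟩
      refine ⟨fun i => b i + b' i, fun i => Ideal.add_mem _ (hb i) (hb' i), ?_⟩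
      rw [← Finset.sum_add_distrib]
      exact Finset.sum_congr rfl (fun i _ => by ring)
  obtain ⟨b, hb, hxb⟩ := key x hx3
  have hrel : ∑ i, (a i - b i) * l i = 0 := by
    simp only [sub_mul, Finset.sum_sub_distrib]
    rw [← hxb, hx, sub_self]
  have hmem := hl (fun i => a i - b i) hrel
  have h2 := map_mem_triv (Ideal.Quotient.mk (𝔞.map (algebraMap A C))) l _ hmem
  have h3 : (fun k => Ideal.Quotient.mk (𝔞.map (algebraMap A C)) (a k - b k)) = abar := by
    funext k
    rw [map_sub, ha k, Ideal.Quotient.eq_zero_iff_mem.mpr (hb k), sub_zero]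
  rw [h3] at h2
  exact h2


/-- A Koszul-regular ideal is generated, at each prime containing it, by an `H_1`-regular
sequence. -/
theorem exists_h1_of_koszulRegularIdeal {P : Type u} [CommRing P] (I : Ideal P)
    (hI : LCI.IsKoszulRegularIdeal I) (Q : Ideal P) [Q.IsPrime] (hIQ : I ≤ Q) :
    ∃ (n : ℕ) (l : Fin n → Localization.AtPrime Q), CAlgX.IsH1Regular l ∧
      I.map (algebraMap P (Localization.AtPrime Q)) = Ideal.span (Set.range l) := by
  classical
  obtain ⟨g, hgQ, l, hl, hIl⟩ := hI ⟨Q, inferInstance⟩ hIQ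
  have hle : Submonoid.powers g ≤ Q.primeCompl := Submonoid.powers_le.mpr hgQ
  letI : Algebra (Localization.Away g) (Localization.AtPrime Q) :=
    IsLocalization.localizationAlgebraOfSubmonoidLe (Localization.Away g)
      (Localization.AtPrime Q) (Submonoid.powers g) Q.primeCompl hle
  haveI : IsScalarTower P (Localization.Away g) (Localization.AtPrime Q) :=
    IsLocalization.localization_isScalarTower_of_submonoid_le (Localization.Away g)
      (Localization.AtPrime Q) (Submonoid.powers g) Q.primeCompl hle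
  haveI : IsLocalization (Q.primeCompl.map (algebraMap P (Localization.Away g)))
      (Localization.AtPrime Q) :=
    IsLocalization.isLocalization_of_submonoid_le (Localization.Away g)
      (Localization.AtPrime Q) (Submonoid.powers g) Q.primeCompl hle
  have h1 := Groth.Agent.H59.Kosz.isH1Regular_of_isKoszulRegularSeq l hl
  have h2 := isH1Regular_of_isLocalization (C' := Localization.AtPrime Q)
    (Q.primeCompl.map (algebraMap P (Localization.Away g))) l.get h1
  refine ⟨l.length, fun i => algebraMap (Localization.Away g) (Localization.AtPrime Q) (l.get i),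
    h2, ?_⟩
  rw [IsScalarTower.algebraMap_eq P (Localization.Away g) (Localization.AtPrime Q),
    ← Ideal.map_map, hIl, Ideal.map_span]
  congr 1
  ext x
  simp only [Set.mem_image, Set.mem_ofPred_eq, Set.mem_range]
  constructor
  · rintro ⟨y, hy, rfl⟩
    obtain ⟨i, rfl⟩ := List.mem_iff_get.mp hy
    exact ⟨i, rfl⟩
  · rintro ⟨i, rfl⟩
    exact ⟨l.get i, List.get_mem l i, rfl⟩

/-- Fibre local rings of a flat quotient `P/I`, where `I` is generated at the relevant prime by an
`H_1`-regular sequence, are Gorenstein when those of `P` are. -/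
theorem gor_fibLocRing_quot (A P : Type u) [CommRing A] [CommRing P] [Algebra A P] (I : Ideal P)
    [Module.Flat A (P ⧸ I)] (𝔟 : Ideal (P ⧸ I)) [𝔟.IsPrime]
    (hT : LocCoh.IsGorensteinLocalRing
      (EGA4.FibLocRing A P (𝔟.comap (Ideal.Quotient.mk I))))
    (n : ℕ) (l : Fin n → Localization.AtPrime (𝔟.comap (Ideal.Quotient.mk I)))
    (hl : CAlgX.IsH1Regular l)
    (hIl : I.map (algebraMap P (Localization.AtPrime (𝔟.comap (Ideal.Quotient.mk I)))) =
      Ideal.span (Set.range l)) :
    LocCoh.IsGorensteinLocalRing (EGA4.FibLocRing A (P ⧸ I) 𝔟) := by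
  classical
  set Q : Ideal P := 𝔟.comap (Ideal.Quotient.mk I) with hQ
  set IL : Ideal (Localization.AtPrime Q) := I.map (algebraMap P (Localization.AtPrime Q)) with hIL
  set p' : Ideal A := Q.comap (algebraMap A P) with hp'
  set 𝔭L : Ideal (Localization.AtPrime Q) := p'.map (algebraMap A (Localization.AtPrime Q))
    with h𝔭L
  haveI hlocz : IsLocalization.AtPrime (Localization.AtPrime Q ⧸ IL) 𝔟 :=
    isLocalization_quot_loc I 𝔟
  -- flatness of `L ⧸ IL` over `A`
  haveI : Module.Flat (P ⧸ I) (Localization.AtPrime Q ⧸ IL) :=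
    IsLocalization.flat _ 𝔟.primeCompl
  haveI : IsScalarTower A (P ⧸ I) (Localization.AtPrime Q ⧸ IL) :=
    IsScalarTower.of_algebraMap_eq (fun a => by
      change Ideal.Quotient.mk IL (algebraMap A (Localization.AtPrime Q) a) =
        Ideal.Quotient.mk IL (algebraMap P (Localization.AtPrime Q) (algebraMap A P a))
      rw [← IsScalarTower.algebraMap_apply])
  have hflat : Module.Flat A (Localization.AtPrime Q ⧸ IL) :=
    Module.Flat.trans A (P ⧸ I) (Localization.AtPrime Q ⧸ IL)
  rw [hIl] at hflat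
  have hH1 := isH1Regular_quot_of_flat l hl hflat p'
  -- the local ring `T'`
  haveI : IsNoetherianRing (EGA4.FibLocRing A P Q) := hT.toIsNoetherian
  haveI : IsLocalRing (EGA4.FibLocRing A P Q) := hT.toIsLocalRing
  haveI : IsLocalRing (Localization.AtPrime Q ⧸ 𝔭L) := hT.toIsLocalRing
  haveI : IsLocalHom (Ideal.Quotient.mk 𝔭L) :=
    IsLocalHom.of_surjective _ Ideal.Quotient.mk_surjective
  have hILle : IL ≤ maximalIdeal (Localization.AtPrime Q) := by
    rw [← Localization.AtPrime.map_eq_maximalIdeal]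
    refine Ideal.map_mono ?_
    intro x hx
    rw [hQ, Ideal.mem_comap, Ideal.Quotient.eq_zero_iff_mem.mpr hx]
    exact 𝔟.zero_mem
  have hmem : ∀ i, Ideal.Quotient.mk 𝔭L (l i) ∈ maximalIdeal (Localization.AtPrime Q ⧸ 𝔭L) := by
    intro i
    have h0 : l i ∈ maximalIdeal (Localization.AtPrime Q) :=
      hILle (hIl ▸ Ideal.subset_span ⟨i, rfl⟩)
    rw [mem_maximalIdeal, mem_nonunits_iff] at h0 ⊢
    intro hu
    exact h0 (isUnit_of_map_unit (Ideal.Quotient.mk 𝔭L) (l i) hu)
  have hwr : RingTheory.Sequence.IsWeaklyRegular (Localization.AtPrime Q ⧸ 𝔭L)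
      (List.ofFn (fun i => Ideal.Quotient.mk 𝔭L (l i))) :=
    isWeaklyRegular_of_isH1Regular (A := Localization.AtPrime Q ⧸ 𝔭L) _ hmem hH1
  have hG1 : LocCoh.IsGorensteinLocalRing ((Localization.AtPrime Q ⧸ 𝔭L) ⧸
      Ideal.ofList (List.ofFn (fun i => Ideal.Quotient.mk 𝔭L (l i)))) :=
    gor_quot_of_weaklyRegular _ (Localization.AtPrime Q ⧸ 𝔭L) hT _ rfl
      (fun r hr => by
        obtain ⟨i, rfl⟩ := List.mem_ofFn.mp hr
        exact hmem i) hwr
  -- identify the ideals
  have hI1 : IL.map (Ideal.Quotient.mk 𝔭L) =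
      Ideal.ofList (List.ofFn (fun i => Ideal.Quotient.mk 𝔭L (l i))) := by
    rw [hIl, Ideal.map_span, Ideal.ofList]
    congr 1
    ext x
    simp only [Set.mem_image, Set.mem_ofPred_eq, Set.mem_range, List.mem_ofFn]
    constructor
    · rintro ⟨y, ⟨i, rfl⟩, rfl⟩
      exact ⟨i, rfl⟩
    · rintro ⟨i, rfl⟩
      exact ⟨l i, ⟨i, rfl⟩, rfl⟩
  -- the chain of isomorphisms
  let e₁ : (Localization.AtPrime Q ⧸ IL) ≃ₐ[P ⧸ I] Localization.AtPrime 𝔟 :=
    IsLocalization.algEquiv 𝔟.primeCompl _ _
  have hcomap : 𝔟.comap (algebraMap A (P ⧸ I)) = p' := by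
    rw [hp', hQ, Ideal.comap_comap]
    rfl
  have h𝔞 : (𝔟.comap (algebraMap A (P ⧸ I))).map (algebraMap A (Localization.AtPrime 𝔟)) =
      (𝔭L.map (Ideal.Quotient.mk IL)).map (e₁ : (Localization.AtPrime Q ⧸ IL) →+*
        Localization.AtPrime 𝔟) := by
    rw [hcomap, h𝔭L, Ideal.map_map, Ideal.map_map]
    congr 1
    ext a
    simp only [RingHom.comp_apply]
    have : Ideal.Quotient.mk IL (algebraMap A (Localization.AtPrime Q) a) =
        algebraMap (P ⧸ I) (Localization.AtPrime Q ⧸ IL) (algebraMap A (P ⧸ I) a) := by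
      rw [← IsScalarTower.algebraMap_apply]
      rfl
    rw [this]
    erw [e₁.commutes]
    rw [← IsScalarTower.algebraMap_apply]
  have e₂ : (EGA4.FibLocRing A (P ⧸ I) 𝔟) ≃+*
      ((Localization.AtPrime Q ⧸ IL) ⧸ 𝔭L.map (Ideal.Quotient.mk IL)) :=
    (Ideal.quotientEquiv _ _ e₁.toRingEquiv h𝔞).symm
  have e₃ : ((Localization.AtPrime Q ⧸ IL) ⧸ 𝔭L.map (Ideal.Quotient.mk IL)) ≃+*
      ((Localization.AtPrime Q ⧸ 𝔭L) ⧸ IL.map (Ideal.Quotient.mk 𝔭L)) :=
    DoubleQuot.quotQuotEquivComm IL 𝔭L
  exact gor_of_ringEquiv ((e₂.trans e₃).trans (Ideal.quotEquivOfEq hI1)).symm hG1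

end Groth.Agent.H59.Goren6
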