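import Mathlib
import Groth.Agent.H59.Goren6
import Groth.Agent.H59.Goren3

/-!
# Gorenstein fibres of flat local complete intersection maps: main theorem
-/

set_option autoImplicit false
set_option linter.style.haveILetI false
set_option linter.unusedSectionVars false
universe u
open IsLocalRing TensorProduct

namespace Groth.Agent.H59.Goren7

open Groth.Agent.H59.Goren1 Groth.Agent.H59.Goren3 Groth.Agent.H59.Goren4 Groth.Agent.H59.Goren5
  Groth.Agent.H59.Goren6 Groth.Agent.H60.GorTransfer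

theorem gorRing_fiber_quot (A : Type u) [CommRing A] (n : ℕ)
    (I : Ideal (MvPolynomial (Fin n) A)) [Module.Flat A (MvPolynomial (Fin n) A ⧸ I)]
    (hI : LCI.IsKoszulRegularIdeal I) (p : Ideal A) [p.IsPrime] :
    LocCoh.IsGorensteinRing (p.Fiber (MvPolynomial (Fin n) A ⧸ I)) := by
  haveI : IsNoetherianRing (p.Fiber (MvPolynomial (Fin n) A ⧸ I)) :=
    Algebra.FiniteType.isNoetherianRing p.ResidueField
      (p.ResidueField ⊗[A] (MvPolynomial (Fin n) A ⧸ I))
  refine ⟨fun b' _ => ?_⟩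
  obtain ⟨-, ⟨e'⟩⟩ := Groth.Agent.H15.FibreSk.exists_fiber_equiv A
    (MvPolynomial (Fin n) A ⧸ I) p b'
  refine gor_of_ringEquiv e'.symm ?_
  set b : Ideal (MvPolynomial (Fin n) A ⧸ I) :=
    b'.comap (Algebra.TensorProduct.includeRight :
      (MvPolynomial (Fin n) A ⧸ I) →ₐ[A] p.Fiber (MvPolynomial (Fin n) A ⧸ I)) with hb
  haveI : b.IsPrime := Ideal.comap_isPrime _ _
  haveI : (b.comap (Ideal.Quotient.mk I)).IsPrime := Ideal.comap_isPrime _ _
  have hIQ : I ≤ b.comap (Ideal.Quotient.mk I) := by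
    intro x hx
    rw [Ideal.mem_comap, Ideal.Quotient.eq_zero_iff_mem.mpr hx]
    exact b.zero_mem
  obtain ⟨m, l, hl, hIl⟩ := exists_h1_of_koszulRegularIdeal I hI _ hIQ
  have hT : LocCoh.IsGorensteinLocalRing
      (EGA4.FibLocRing A (MvPolynomial (Fin n) A) (b.comap (Ideal.Quotient.mk I))) := by
    refine gor_fibLocRing_of_fiber A (MvPolynomial (Fin n) A) _ ?_
    haveI : Algebra.Smooth A (MvPolynomial (Fin n) A) := ⟨inferInstance, inferInstance⟩
    haveI := gorRing_field
      ((b.comap (Ideal.Quotient.mk I)).comap (algebraMap A (MvPolynomial (Fin n) A))).ResidueField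
    exact gorRing_of_smooth
      ((b.comap (Ideal.Quotient.mk I)).comap (algebraMap A (MvPolynomial (Fin n) A))).ResidueField _
  exact gor_fibLocRing_quot A (MvPolynomial (Fin n) A) I b hT m l hl hIl

theorem gorRing_fiber_of_flat_isLCI (A B : Type u) [CommRing A] [CommRing B] [Algebra A B]
    [Module.Flat A B] (hl : LCI.IsLCI A B) (p : Ideal A) [p.IsPrime] :
    LocCoh.IsGorensteinRing (B ⊗[A] p.ResidueField) := by
  obtain ⟨-, n, f, hf, hI⟩ := hl
  have e : (MvPolynomial (Fin n) A ⧸ RingHom.ker f.toRingHom) ≃ₐ[A] B :=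
    Ideal.quotientKerAlgEquivOfSurjective hf
  haveI : Module.Flat A (MvPolynomial (Fin n) A ⧸ RingHom.ker f.toRingHom) :=
    Module.Flat.of_linearEquiv e.toLinearEquiv
  have hG := gorRing_fiber_quot A n (RingHom.ker f.toRingHom) hI p
  exact @gorRing_of_ringEquiv _ _ _ _
    ((Algebra.TensorProduct.congr (AlgEquiv.refl : p.ResidueField ≃ₐ[A] p.ResidueField)
      e).toRingEquiv.trans (Algebra.TensorProduct.comm A p.ResidueField B).toRingEquiv) hG

end Groth.Agent.H59.Goren7
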