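import Mathlib
import Groth.Agent.H41.GrModSections

/-!
# Irrelevant-torsion of graded modules (gradings by additive subgroups, generators of arbitrary
positive degrees, condition (TF)): a degree bound
-/

set_option autoImplicit false
universe u

namespace Groth.Agent.H59.SerreGammaG

open DirectSum

section
variable {A σ : Type u} [CommRing A] [SetLike σ A] [AddSubgroupClass σ A] (𝒜 : ℕ → σ)
  [GradedRing 𝒜]
variable {M τ : Type u} [AddCommGroup M] [Module A M] [SetLike τ M] [AddSubgroupClass τ M]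
  (ℳ : ℕ → τ) [DirectSum.Decomposition ℳ] [SetLike.GradedSMul 𝒜 ℳ]

/-- `(c • v)_{j+e} = c_j • v` for `v` homogeneous of degree `e`. -/
theorem coe_decompose_smul_of_right_mem {e : ℕ} {v : M} (hv : v ∈ ℳ e) (c : A) (j : ℕ) :
    (decompose ℳ (c • v) (j + e) : M) = (decompose 𝒜 c j : A) • v := by
  classical
  have hsum : c • v = ∑ l ∈ (decompose 𝒜 c).support, (decompose 𝒜 c l : A) • v := by
    conv_lhs => rw [← DirectSum.sum_support_decompose 𝒜 c, Finset.sum_smul]
  have hmem : ∀ l, (decompose 𝒜 c l : A) • v ∈ ℳ (l + e) := fun l =>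
    SetLike.GradedSMul.smul_mem (i := l) (j := e) (SetLike.coe_mem _) hv
  rw [hsum, DirectSum.decompose_sum, DFinsupp.finsetSum_apply, AddSubmonoidClass.coe_finsetSum]
  rw [Finset.sum_eq_single j]
  · exact DirectSum.decompose_of_mem_same ℳ (hmem j)
  · intro l _ hlj
    exact DirectSum.decompose_of_mem_ne ℳ (hmem l) (by omega)
  · intro hj
    have : decompose 𝒜 c j = 0 := by simpa using hj
    rw [this]
    simp

/-- The saturation of `N` with respect to the elements of `gs`. -/
def sat (gs : Finset A) (N : Submodule A M) : Submodule A M where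
  carrier := {m | ∀ g ∈ gs, ∃ k : ℕ, g ^ k • m ∈ N}
  zero_mem' := fun g _ => ⟨0, by simp⟩
  add_mem' := by
    intro m m' hm hm' g hg
    obtain ⟨k, hk⟩ := hm g hg
    obtain ⟨k', hk'⟩ := hm' g hg
    refine ⟨k + k', ?_⟩
    rw [smul_add]
    refine N.add_mem ?_ ?_
    · rw [pow_add, mul_comm, mul_smul]
      exact N.smul_mem _ hk
    · rw [pow_add, mul_smul]
      exact N.smul_mem _ hk'
  smul_mem' := by
    intro c m hm g hg
    obtain ⟨k, hk⟩ := hm g hg
    refine ⟨k, ?_⟩
    rw [smul_comm]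
    exact N.smul_mem _ hk

/-- The submodule generated by the homogeneous elements of degree `≥ k`. -/
def tfMod (k : ℕ) : Submodule A M := Submodule.span A (⋃ i ∈ Set.Ici k, (ℳ i : Set M))

omit [DirectSum.Decomposition ℳ] [SetLike.GradedSMul 𝒜 ℳ] in
theorem mem_tfMod {k i : ℕ} (hi : k ≤ i) {m : M} (hm : m ∈ ℳ i) : m ∈ tfMod (A := A) ℳ k :=
  Submodule.subset_span (Set.mem_biUnion (Set.mem_Ici.mpr hi) hm)

/-- Powers of the ideal generated by homogeneous generators of `A₊` of degrees `≤ D`. -/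
theorem mem_pow_div (gs : Finset A) (dg : A → ℕ) (hdg : ∀ g ∈ gs, 0 < dg g ∧ g ∈ 𝒜 (dg g))
    (hspan : (HomogeneousIdeal.irrelevant 𝒜).toIdeal = Ideal.span (gs : Set A))
    (D : ℕ) (hD : 0 < D) (hDg : ∀ g ∈ gs, dg g ≤ D) :
    ∀ n, ∀ a ∈ 𝒜 n, a ∈ Ideal.span (gs : Set A) ^ (n / D) := by
  classical
  intro n
  induction n using Nat.strong_induction_on with
  | _ n ih =>
    intro a ha
    by_cases hn : n < D
    · rw [Nat.div_eq_of_lt hn, pow_zero, Ideal.one_eq_top]
      exact Submodule.mem_top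
    · push Not at hn
      have hnpos : 0 < n := lt_of_lt_of_le hD hn
      have haI : a ∈ Ideal.span (gs : Set A) := by
        rw [← hspan]
        exact HomogeneousIdeal.mem_irrelevant_of_mem 𝒜 hnpos ha
      obtain ⟨c, _, hc⟩ := Submodule.mem_span_finset.mp haI
      have h1 : a = ∑ g ∈ gs, (decompose 𝒜 (c g • g) n : A) := by
        conv_lhs => rw [← DirectSum.decompose_of_mem_same 𝒜 ha, ← hc]
        rw [DirectSum.decompose_sum, DFinsupp.finsetSum_apply, AddSubmonoidClass.coe_finsetSum]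
      rw [h1]
      refine Ideal.sum_mem _ fun g hg => ?_
      have hgn : dg g ≤ n := le_trans (hDg g hg) hn
      rw [smul_eq_mul, DirectSum.coe_decompose_mul_of_right_mem_of_le 𝒜 (hdg g hg).2 hgn]
      have h2 : (decompose 𝒜 (c g) (n - dg g) : A) ∈
          Ideal.span (gs : Set A) ^ ((n - dg g) / D) :=
        ih (n - dg g) (by have := (hdg g hg).1; omega) _ (SetLike.coe_mem _)
      have h3 : (decompose 𝒜 (c g) (n - dg g) : A) * g ∈
          Ideal.span (gs : Set A) ^ ((n - dg g) / D + 1) := by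
        rw [pow_succ]
        exact Ideal.mul_mem_mul h2 (Ideal.subset_span hg)
      refine Ideal.pow_le_pow_right ?_ h3
      have h4 : n ≤ (n - dg g) + D := by have := hDg g hg; omega
      calc n / D ≤ ((n - dg g) + D) / D := Nat.div_le_div_right h4
        _ = (n - dg g) / D + 1 := Nat.add_div_right _ hD

/-- Degree bound under (TF): in large degrees, the `gs`-saturation of a submodule `N` coincides
with `N` on homogeneous elements. -/
theorem degree_bound [IsNoetherianRing A] (gs : Finset A) (D : ℕ) (hD : 0 < D)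
    (hpow : ∀ n, ∀ a ∈ 𝒜 n, a ∈ Ideal.span (gs : Set A) ^ (n / D))
    (k : ℕ) (hTF : (tfMod (A := A) ℳ k).FG) (N : Submodule A M) :
    ∃ n1 : ℕ, ∀ n, n1 ≤ n → ∀ m ∈ ℳ n, (∀ g ∈ gs, ∃ j : ℕ, g ^ j • m ∈ N) → m ∈ N := by
  classical
  -- the submodule generated by the saturated homogeneous elements of degree ≥ k
  obtain ⟨G, hG⟩ : ∃ G : Set M, G = {v | v ∈ sat gs N ∧ ∃ i, k ≤ i ∧ v ∈ ℳ i} := ⟨_, rfl⟩
  have hle : Submodule.span A G ≤ tfMod (A := A) ℳ k := by
    rw [Submodule.span_le]
    intro v hv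
    rw [hG] at hv
    obtain ⟨_, i, hi, hvi⟩ := hv
    exact mem_tfMod ℳ hi hvi
  haveI : IsNoetherian A ↥(tfMod (A := A) ℳ k) := isNoetherian_of_fg_of_noetherian _ hTF
  have hfg : (Submodule.span A G).FG := isNoetherian_submodule.mp ‹_› _ hle
  obtain ⟨t, htG, htS⟩ := (Submodule.fg_span_iff_fg_span_finset_subset G).mp hfg
  have htprop : ∀ v ∈ t, v ∈ sat gs N ∧ ∃ i, k ≤ i ∧ v ∈ ℳ i := by
    intro v hv
    have := htG hv
    rwa [hG] at this
  have hte' : ∀ v ∈ t, ∃ i, v ∈ ℳ i := fun v hv => by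
    obtain ⟨_, i, _, hi⟩ := htprop v hv
    exact ⟨i, hi⟩
  choose! e hte using hte'
  -- the colon ideal
  have hrad : Ideal.span (gs : Set A) ≤ (N.colon (Submodule.span A G : Set M)).radical := by
    rw [Ideal.span_le]
    intro g hg
    have hk : ∀ v ∈ t, ∃ j : ℕ, g ^ j • v ∈ N := fun v hv => (htprop v hv).1 g hg
    choose! kk hkk using hk
    refine ⟨t.sup kk, ?_⟩
    rw [Submodule.mem_colon]
    intro p hp
    have hp' : p ∈ Submodule.span A (t : Set M) := by
      rw [← htS]
      exact hp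
    refine Submodule.span_induction ?_ ?_ ?_ ?_ hp'
    · intro v hv
      have hle : kk v ≤ t.sup kk := Finset.le_sup hv
      obtain ⟨r, hr⟩ := Nat.exists_eq_add_of_le hle
      rw [hr, pow_add, mul_comm, mul_smul]
      exact N.smul_mem _ (hkk v hv)
    · simp
    · intro x y _ _ hx hy
      rw [smul_add]
      exact N.add_mem hx hy
    · intro c x _ hx
      rw [smul_comm]
      exact N.smul_mem _ hx
  obtain ⟨k0, hk0⟩ := Ideal.exists_pow_le_of_le_radical_of_fg hrad ⟨gs, rfl⟩
  refine ⟨max k (t.sup e + k0 * D), fun n hn m hm hsat => ?_⟩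
  have hnk : k ≤ n := le_trans (le_max_left _ _) hn
  have hn2 : t.sup e + k0 * D ≤ n := le_trans (le_max_right _ _) hn
  have hmG : m ∈ G := by
    rw [hG]
    exact ⟨hsat, n, hnk, hm⟩
  have hmS : m ∈ Submodule.span A (t : Set M) := by
    rw [← htS]
    exact Submodule.subset_span hmG
  obtain ⟨c, _, hc⟩ := Submodule.mem_span_finset.mp hmS
  have h1 : m = ∑ v ∈ t, (decompose ℳ (c v • v) n : M) := by
    conv_lhs => rw [← DirectSum.decompose_of_mem_same ℳ hm, ← hc]
    rw [DirectSum.decompose_sum, DFinsupp.finsetSum_apply, AddSubmonoidClass.coe_finsetSum]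
  rw [h1]
  refine N.sum_mem fun v hv => ?_
  have hev : e v ≤ t.sup e := Finset.le_sup hv
  have hn' : n = (n - e v) + e v := by omega
  rw [hn', coe_decompose_smul_of_right_mem 𝒜 ℳ (hte v hv)]
  have hmem : (decompose 𝒜 (c v) (n - e v) : A) ∈ N.colon (Submodule.span A G : Set M) := by
    apply hk0
    have h2 := hpow (n - e v) _ (SetLike.coe_mem (decompose 𝒜 (c v) (n - e v)))
    refine Ideal.pow_le_pow_right ?_ h2
    rw [Nat.le_div_iff_mul_le hD]
    omega
  rw [Submodule.mem_colon] at hmem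
  exact hmem v (Submodule.subset_span (htG hv))

/-- Finitely many homogeneous generators of positive degree of the irrelevant ideal. -/
theorem exists_gens [IsNoetherianRing A] :
    ∃ (gs : Finset A) (dg : A → ℕ), (∀ g ∈ gs, 0 < dg g ∧ g ∈ 𝒜 (dg g)) ∧
      (HomogeneousIdeal.irrelevant 𝒜).toIdeal = Ideal.span (gs : Set A) := by
  classical
  obtain ⟨H, hH⟩ : ∃ H : Set A, H = {v | ∃ i, 0 < i ∧ v ∈ 𝒜 i} := ⟨_, rfl⟩
  have hirr : (HomogeneousIdeal.irrelevant 𝒜).toIdeal = Ideal.span H := by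
    apply le_antisymm
    · intro a ha
      have ha0 : (decompose 𝒜 a 0 : A) = 0 := ha
      rw [← DirectSum.sum_support_decompose 𝒜 a]
      refine Ideal.sum_mem _ fun i _ => ?_
      by_cases hi : i = 0
      · rw [hi, ha0]
        exact zero_mem _
      · refine Ideal.subset_span ?_
        rw [hH]
        exact ⟨i, Nat.pos_of_ne_zero hi, SetLike.coe_mem _⟩
    · rw [Ideal.span_le]
      intro v hv
      rw [hH] at hv
      obtain ⟨i, hi, hvi⟩ := hv
      exact HomogeneousIdeal.mem_irrelevant_of_mem 𝒜 hi hvi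
  have hfg : (Ideal.span H).FG := IsNoetherian.noetherian _
  obtain ⟨gs, hsub, hspan⟩ := (Submodule.fg_span_iff_fg_span_finset_subset H).mp hfg
  have hprop : ∀ g ∈ gs, ∃ i, 0 < i ∧ g ∈ 𝒜 i := by
    intro g hg
    have := hsub hg
    rwa [hH] at this
  choose! dg hdg using hprop
  exact ⟨gs, dg, hdg, hirr.trans hspan⟩

end
end Groth.Agent.H59.SerreGammaG
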