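import Mathlib
import Groth.Agent.H59.GrTorsionG

/-!
# Graded prime avoidance and homogeneous regular elements modulo torsion
-/

set_option autoImplicit false
universe u

namespace Groth.Agent.H59.SerreGammaG

open DirectSum

section
variable {A σ : Type u} [CommRing A] [SetLike σ A] [AddSubgroupClass σ A] (𝒜 : ℕ → σ)
  [GradedRing 𝒜]

/-- A homogeneous ideal not contained in `P` has a homogeneous element outside `P`. -/
theorem exists_homogeneous_not_mem {I P : Ideal A} (hI : I.IsHomogeneous 𝒜) (h : ¬ I ≤ P) :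
    ∃ (e : ℕ) (b : A), b ∈ 𝒜 e ∧ b ∈ I ∧ b ∉ P := by
  classical
  by_contra hcon
  push Not at hcon
  apply h
  intro x hx
  rw [← DirectSum.sum_support_decompose 𝒜 x]
  exact P.sum_mem fun i _ => hcon i _ (SetLike.coe_mem _) (hI i hx)

/-- Graded prime avoidance for homogeneous primes. -/
theorem avoid_hom (S : Finset (Ideal A)) :
    (∀ P ∈ S, P.IsPrime ∧ P.IsHomogeneous 𝒜 ∧
      ¬ (HomogeneousIdeal.irrelevant 𝒜).toIdeal ≤ P) →
    ∃ (d : ℕ) (a : A), 0 < d ∧ a ∈ 𝒜 d ∧ ∀ P ∈ S, a ∉ P := by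
  classical
  induction S using Finset.strongInduction with
  | H S ih =>
    intro hS
    rcases S.eq_empty_or_nonempty with rfl | hne
    · exact ⟨1, 0, one_pos, zero_mem _, by simp⟩
    · obtain ⟨P, hPS, hPmin⟩ := S.exists_minimal hne
      obtain ⟨d, a, hd, ha, hav⟩ := ih (S.erase P) (Finset.erase_ssubset hPS)
        (fun Q hQ => hS Q (Finset.mem_of_mem_erase hQ))
      by_cases haP : a ∉ P
      · refine ⟨d, a, hd, ha, fun Q hQ => ?_⟩
        by_cases h : Q = P
        · rw [h]
          exact haP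
        · exact hav Q (Finset.mem_erase.mpr ⟨h, hQ⟩)
      · push Not at haP
        have hQ : ∀ Q ∈ S.erase P, ∃ (e : ℕ) (b : A), b ∈ 𝒜 e ∧ b ∈ Q ∧ b ∉ P := fun Q hQ => by
          have hQS := Finset.mem_of_mem_erase hQ
          refine exists_homogeneous_not_mem 𝒜 (hS Q hQS).2.1 (fun hle => ?_)
          exact Finset.ne_of_mem_erase hQ (le_antisymm hle (hPmin hQS hle))
        choose! eQ bQ hbQ1 hbQ2 hbQ3 using hQ
        obtain ⟨e0, b0, hb01, hb02, hb03⟩ := exists_homogeneous_not_mem 𝒜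
          (HomogeneousIdeal.irrelevant 𝒜).isHomogeneous (hS P hPS).2.2
        obtain ⟨b, hbdef⟩ : ∃ b : A, b = b0 * ∏ Q ∈ S.erase P, bQ Q := ⟨_, rfl⟩
        obtain ⟨e, hedef⟩ : ∃ e : ℕ, e = e0 + ∑ Q ∈ S.erase P, eQ Q := ⟨_, rfl⟩
        have hPprime : P.IsPrime := (hS P hPS).1
        have hb : b ∈ 𝒜 e := by
          rw [hbdef, hedef]
          exact SetLike.mul_mem_graded hb01
            (SetLike.prod_mem_graded 𝒜 eQ bQ (fun Q hQ => hbQ1 Q hQ))
        have hbP : b ∉ P := by
          intro hb'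
          rw [hbdef] at hb'
          rcases hPprime.mem_or_mem hb' with h | h
          · exact hb03 h
          · obtain ⟨Q, hQ, hQP⟩ := (hPprime.prod_mem_iff).mp h
            exact hbQ3 Q hQ hQP
        have hbQ : ∀ Q ∈ S.erase P, b ∈ Q := fun Q hQ => by
          rw [hbdef]
          obtain ⟨c, hc⟩ := Finset.dvd_prod_of_mem bQ hQ
          rw [hc]
          exact Q.mul_mem_left _ (Q.mul_mem_right _ (hbQ2 Q hQ))
        have he : 0 < e := by
          by_contra h0
          have h0' : e = 0 := by omega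
          rw [h0'] at hb
          have hirr : b ∈ (HomogeneousIdeal.irrelevant 𝒜).toIdeal := by
            rw [hbdef]
            exact Ideal.mul_mem_right _ _ hb02
          have h1 : GradedRing.proj 𝒜 0 b = 0 := hirr
          rw [GradedRing.proj_apply, DirectSum.decompose_of_mem_same 𝒜 hb] at h1
          exact hbP (h1 ▸ P.zero_mem)
        have hdeg : d • e = e • d := by simp [mul_comm]
        refine ⟨e • d, a ^ e + b ^ d, Nat.mul_pos he hd,
          add_mem (SetLike.pow_mem_graded e ha) (hdeg ▸ SetLike.pow_mem_graded d hb), ?_⟩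
        intro Q hQ
        by_cases hQP : Q = P
        · rw [hQP]
          intro hc
          have h1 : b ^ d ∈ P :=
            (Ideal.add_mem_iff_right _ (Ideal.pow_mem_of_mem _ haP e he)).mp hc
          exact hbP (hPprime.mem_of_pow_mem _ h1)
        · have hQ' := Finset.mem_erase.mpr ⟨hQP, hQ⟩
          intro hc
          have h1 : a ^ e ∈ Q :=
            (Ideal.add_mem_iff_left _ (Ideal.pow_mem_of_mem _ (hbQ Q hQ') d hd)).mp hc
          exact hav Q hQ' ((hS Q hQ).1.mem_of_pow_mem _ h1)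

/-- Graded prime avoidance: finitely many primes not containing the irrelevant ideal are all
avoided by one homogeneous element of positive degree. -/
theorem avoid (S : Finset (Ideal A))
    (hS : ∀ P ∈ S, P.IsPrime ∧ ¬ (HomogeneousIdeal.irrelevant 𝒜).toIdeal ≤ P) :
    ∃ (d : ℕ) (a : A), 0 < d ∧ a ∈ 𝒜 d ∧ ∀ P ∈ S, a ∉ P := by
  classical
  obtain ⟨d, a, hd, ha, hav⟩ :=
    avoid_hom 𝒜 (S.image fun P => (P.homogeneousCore 𝒜).toIdeal) (by
      intro Q hQ
      obtain ⟨P, hP, rfl⟩ := Finset.mem_image.mp hQ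
      exact ⟨(hS P hP).1.homogeneousCore, (P.homogeneousCore 𝒜).isHomogeneous,
        fun h => (hS P hP).2 (h.trans (Ideal.toIdeal_homogeneousCore_le 𝒜 P))⟩)
  refine ⟨d, a, hd, ha, fun P hP haP => hav _ (Finset.mem_image_of_mem _ hP) ?_⟩
  exact Ideal.mem_homogeneousCore_of_homogeneous_of_mem ⟨d, ha⟩ haP

variable {M : Type u} [AddCommGroup M] [Module A M]

/-- If `T` is a submodule of a finite module over the Noetherian graded ring `A` such that
`gs • m ⊆ T` implies `m ∈ T` (with `gs` in the irrelevant ideal), then some homogeneous element of positive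
degree is a nonzerodivisor modulo `T`. -/
theorem exists_regular_mod [IsNoetherianRing A] [Module.Finite A M] (gs : Finset A)
    (hg1 : ∀ g ∈ gs, g ∈ (HomogeneousIdeal.irrelevant 𝒜).toIdeal) (T : Submodule A M)
    (hT : ∀ m, (∀ g ∈ gs, g • m ∈ T) → m ∈ T) :
    ∃ (d : ℕ) (a : A), 0 < d ∧ a ∈ 𝒜 d ∧ ∀ m, a • m ∈ T → m ∈ T := by
  classical
  have hfin := associatedPrimes.finite A (M ⧸ T)
  obtain ⟨d, a, hd, ha, hav⟩ := avoid 𝒜 hfin.toFinset (by
    intro P hP
    rw [Set.Finite.mem_toFinset] at hP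
    obtain ⟨hprime, x, hx⟩ := (isAssociatedPrime_iff).mp hP
    refine ⟨hprime, fun hle => ?_⟩
    obtain ⟨m, rfl⟩ := T.mkQ_surjective x
    have hmT : m ∈ T := hT m (fun g hg => by
      have h1 : g ∈ P := hle (hg1 g hg)
      rw [hx, Submodule.mem_colon_singleton, Submodule.mem_bot, ← map_smul] at h1
      exact (Submodule.Quotient.mk_eq_zero T).mp h1)
    have h0 : T.mkQ m = 0 := (Submodule.Quotient.mk_eq_zero T).mpr hmT
    apply hprime.ne_top
    rw [hx, h0, Ideal.eq_top_iff_one, Submodule.mem_colon_singleton]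
    simp)
  refine ⟨d, a, hd, ha, fun m hm => ?_⟩
  by_contra hmT
  have hx : T.mkQ m ≠ 0 := fun h => hmT ((Submodule.Quotient.mk_eq_zero T).mp h)
  have hmem : a ∈ ⋃ p ∈ associatedPrimes A (M ⧸ T), (p : Set A) := by
    rw [biUnion_associatedPrimes_eq_zero_divisors]
    refine ⟨T.mkQ m, hx, ?_⟩
    rw [← map_smul]
    exact (Submodule.Quotient.mk_eq_zero T).mpr hm
  obtain ⟨p, hp, hap⟩ := Set.mem_iUnion₂.mp hmem
  exact hav p (hfin.mem_toFinset.mpr hp) hap

end
end Groth.Agent.H59.SerreGammaG
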