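import Mathlib
import Groth.Prelude.Def_CAlgX

/-!
# helper59: basic properties of `H_1`-regular sequences (`CAlgX.IsH1Regular`)

flat base change, faithfully flat descent, local-global principle, minimality, independence of
generators in a local ring.
-/

set_option autoImplicit false
universe u
open TensorProduct

namespace Groth.Agent.H59.H1Reg

variable {R : Type u} [CommRing R] {r : ℕ}

/-- the submodule of trivial (Koszul) relations. -/
def Triv (f : Fin r → R) : Submodule R (Fin r → R) :=
  Submodule.span R {v : Fin r → R | ∃ i j : Fin r, v = Pi.single i (f j) - Pi.single j (f i)}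

lemma isH1Regular_iff (f : Fin r → R) :
    CAlgX.IsH1Regular f ↔ ∀ a : Fin r → R, ∑ i, a i * f i = 0 → a ∈ Triv f := Iff.rfl

/-- the image of the second Koszul differential consists of trivial relations. -/
lemma d2_mem (f : Fin r → R) (p q : Fin r → R) :
    (∑ k, p k * f k) • q - (∑ k, q k * f k) • p ∈ Triv f := by
  classical
  have key : (∑ k, p k * f k) • q - (∑ k, q k * f k) • p =
      ∑ k, ∑ m, (p k * q m) • (Pi.single m (f k) - Pi.single k (f m) : Fin r → R) := by
    funext l
    have e1 : ∀ k m, ((p k * q m) • (Pi.single m (f k) - Pi.single k (f m) : Fin r → R)) l =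
        (if l = m then p k * q m * f k else 0) - (if l = k then p k * q m * f m else 0) := by
      intro k m
      simp only [Pi.smul_apply, Pi.sub_apply, Pi.single_apply, smul_eq_mul, mul_sub, mul_ite,
        mul_zero]
    have e2 : (∑ k, ∑ m, (p k * q m) • (Pi.single m (f k) - Pi.single k (f m) : Fin r → R)) l =
        ∑ k, ∑ m, ((if l = m then p k * q m * f k else 0) -
          (if l = k then p k * q m * f m else 0)) := by
      rw [Finset.sum_apply]
      apply Finset.sum_congr rfl
      intro k _
      rw [Finset.sum_apply]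
      apply Finset.sum_congr rfl
      intro m _
      exact e1 k m
    rw [e2]
    simp only [Finset.sum_sub_distrib]
    have e3 : ∑ k, ∑ m, (if l = m then p k * q m * f k else 0) = (∑ k, p k * f k) * q l := by
      rw [Finset.sum_mul]
      apply Finset.sum_congr rfl
      intro k _
      rw [Finset.sum_ite_eq, if_pos (Finset.mem_univ l)]
      ring
    have e4 : ∑ k, ∑ m, (if l = k then p k * q m * f m else 0) = (∑ m, q m * f m) * p l := by
      have : ∀ k, ∑ m, (if l = k then p k * q m * f m else 0) =
          if l = k then ∑ m, p k * q m * f m else 0 := by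
        intro k
        split_ifs
        · rfl
        · exact Finset.sum_const_zero
      simp only [this]
      rw [Finset.sum_ite_eq, if_pos (Finset.mem_univ l), Finset.sum_mul]
      apply Finset.sum_congr rfl
      intro m _
      ring
    rw [e3, e4]
    simp only [Pi.sub_apply, Pi.smul_apply, smul_eq_mul]
  rw [key]
  apply Submodule.sum_mem
  intro k _
  apply Submodule.sum_mem
  intro m _
  exact Submodule.smul_mem _ _ (Submodule.subset_span ⟨m, k, rfl⟩)

theorem h1_of_span_eq_top (f : Fin r → R) (h : Ideal.span (Set.range f) = ⊤) :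
    CAlgX.IsH1Regular f := by
  classical
  intro a ha
  have h1 : (1 : R) ∈ Ideal.span (Set.range f) := by rw [h]; trivial
  obtain ⟨c, hc⟩ := Ideal.mem_span_range_iff_exists_fun.1 h1
  have h2 := d2_mem f c a
  rw [hc, ha, zero_smul, sub_zero, one_smul] at h2
  exact h2

/-- coefficients of a relation of an `H_1`-regular sequence lie in the ideal. -/
theorem coeff_mem {f : Fin r → R} (hf : CAlgX.IsH1Regular f) (e : Fin r → R)
    (he : ∑ l, e l * f l = 0) (l : Fin r) : e l ∈ Ideal.span (Set.range f) := by
  classical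
  have h1 := hf e he
  revert l
  refine Submodule.span_induction (p := fun v _ => ∀ l, v l ∈ Ideal.span (Set.range f))
    ?_ ?_ ?_ ?_ h1
  · rintro _ ⟨i, j, rfl⟩ l
    simp only [Pi.sub_apply, Pi.single_apply]
    apply Ideal.sub_mem
    · split_ifs
      · exact Ideal.subset_span ⟨j, rfl⟩
      · exact zero_mem _
    · split_ifs
      · exact Ideal.subset_span ⟨i, rfl⟩
      · exact zero_mem _
  · intro l; exact zero_mem _
  · intro x y _ _ hx hy l
    exact Ideal.add_mem _ (hx l) (hy l)
  · intro c x _ hx l
    exact Ideal.mul_mem_left _ _ (hx l)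

/-- the map `R^r → S^r` sends trivial relations to trivial relations. -/
lemma map_mem_triv {S : Type u} [CommRing S] (ψ : R →+* S) (f : Fin r → R) (v : Fin r → R)
    (hv : v ∈ Triv f) : (fun i => ψ (v i)) ∈ Triv (fun i => ψ (f i)) := by
  classical
  refine Submodule.span_induction (p := fun v _ => (fun i => ψ (v i)) ∈ Triv (fun i => ψ (f i)))
    ?_ ?_ ?_ ?_ hv
  · rintro _ ⟨i, j, rfl⟩
    apply Submodule.subset_span
    refine ⟨i, j, ?_⟩
    funext l
    simp only [Pi.sub_apply, Pi.single_apply, map_sub]
    congr 1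
    · split_ifs <;> simp
    · split_ifs <;> simp
  · have : (fun i => ψ ((0 : Fin r → R) i)) = 0 := by funext i; simp
    rw [this]; exact zero_mem _
  · intro x y _ _ hx hy
    have : (fun i => ψ ((x + y) i)) = (fun i => ψ (x i)) + (fun i => ψ (y i)) := by
      funext i; simp
    rw [this]; exact Submodule.add_mem _ hx hy
  · intro c x _ hx
    have : (fun i => ψ ((c • x) i)) = ψ c • (fun i => ψ (x i)) := by
      funext i; simp
    rw [this]; exact Submodule.smul_mem _ _ hx

/-- **flat base change** of `H_1`-regular sequences. -/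
theorem h1_flat {S : Type u} [CommRing S] [Algebra R S] [Module.Flat R S] (f : Fin r → R)
    (hf : CAlgX.IsH1Regular f) : CAlgX.IsH1Regular (fun i => algebraMap R S (f i)) := by
  classical
  intro b hb
  have h0 : ∑ i, f i • b i = 0 := by
    rw [← hb]
    apply Finset.sum_congr rfl
    intro i _
    rw [Algebra.smul_def, mul_comm]
  obtain ⟨k, a, y, hxy, hrel⟩ := Module.Flat.isTrivialRelation_of_sum_smul_eq_zero (R := R) (M := S)
    (f := f) (x := b) h0
  have hb' : b = ∑ j, y j • (fun i => algebraMap R S (a i j)) := by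
    funext i
    rw [hxy i]
    simp only [Finset.sum_apply, Pi.smul_apply, smul_eq_mul]
    apply Finset.sum_congr rfl
    intro j _
    rw [Algebra.smul_def, mul_comm]
  rw [hb']
  apply Submodule.sum_mem
  intro j _
  apply Submodule.smul_mem
  apply map_mem_triv (algebraMap R S) f (fun i => a i j)
  apply hf
  rw [← hrel j]
  apply Finset.sum_congr rfl
  intro i _
  ring

theorem h1_of_isLocalization {S : Type u} [CommRing S] [Algebra R S] (M : Submonoid R)
    [IsLocalization M S] (f : Fin r → R) (hf : CAlgX.IsH1Regular f) :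
    CAlgX.IsH1Regular (fun i => algebraMap R S (f i)) := by
  haveI : Module.Flat R S := IsLocalization.flat S M
  exact h1_flat f hf

theorem h1_ringEquiv {S : Type u} [CommRing S] (e : R ≃+* S) (f : Fin r → R)
    (hf : CAlgX.IsH1Regular f) : CAlgX.IsH1Regular (fun i => e (f i)) := by
  letI : Algebra R S := (e : R →+* S).toAlgebra
  haveI : Module.Flat R S := by
    have : (e : R →+* S).Flat := RingHom.Flat.of_bijective e.bijective
    exact this
  exact h1_flat f hf

/-- key computation: over any `R`-algebra `S`, if the image of `u` is a trivial relation then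
`1 ⊗ [u] = 0` in `S ⊗ (R^r / Triv)`. -/
lemma one_tmul_mk_eq_zero {S : Type u} [CommRing S] [Algebra R S] (f : Fin r → R)
    (u : Fin r → R) (hu : (fun i => algebraMap R S (u i)) ∈ Triv (fun i => algebraMap R S (f i))) :
    (1 : S) ⊗ₜ[R] (Submodule.Quotient.mk u : (Fin r → R) ⧸ Triv f) = 0 := by
  classical
  let Q := (Fin r → R) ⧸ Triv f
  let Φ : (Fin r → S) →ₗ[S] S ⊗[R] Q :=
    ∑ i, (LinearMap.proj i : (Fin r → S) →ₗ[S] S).smulRight
      ((1 : S) ⊗ₜ[R] (Submodule.Quotient.mk (Pi.single i 1) : Q))
  have hΦ : ∀ v : Fin r → S, Φ v = ∑ i, (v i) ⊗ₜ[R] (Submodule.Quotient.mk (Pi.single i 1) : Q) := by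
    intro v
    simp only [Φ, LinearMap.sum_apply, LinearMap.smulRight_apply, LinearMap.proj_apply]
    apply Finset.sum_congr rfl
    intro i _
    rw [TensorProduct.smul_tmul', smul_eq_mul, mul_one]
  have hΦR : ∀ w : Fin r → R, Φ (fun i => algebraMap R S (w i)) =
      (1 : S) ⊗ₜ[R] (Submodule.Quotient.mk w : Q) := by
    intro w
    rw [hΦ]
    have hw : w = ∑ i, w i • (Pi.single i 1 : Fin r → R) := by
      funext l
      simp [Finset.sum_apply, Pi.single_apply]
    have hw' : (Submodule.Quotient.mk w : Q) =
        ∑ i, w i • (Submodule.Quotient.mk (Pi.single i 1) : Q) := by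
      conv_lhs => rw [hw]
      show (Triv f).mkQ (∑ i, w i • (Pi.single i 1 : Fin r → R)) = _
      rw [map_sum]
      apply Finset.sum_congr rfl
      intro i _
      rw [map_smul]
      rfl
    rw [hw', TensorProduct.tmul_sum]
    apply Finset.sum_congr rfl
    intro i _
    rw [← TensorProduct.smul_tmul, Algebra.smul_def, mul_one]
  have hkill : Triv (fun i => algebraMap R S (f i)) ≤ LinearMap.ker Φ := by
    rw [Triv, Submodule.span_le]
    rintro _ ⟨i, j, rfl⟩
    rw [SetLike.mem_coe, LinearMap.mem_ker]
    have : (Pi.single i (algebraMap R S (f j)) - Pi.single j (algebraMap R S (f i)) : Fin r → S) =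
        fun l => algebraMap R S ((Pi.single i (f j) - Pi.single j (f i) : Fin r → R) l) := by
      funext l
      simp only [Pi.sub_apply, Pi.single_apply, map_sub]
      congr 1
      · split_ifs <;> simp
      · split_ifs <;> simp
    rw [this, hΦR]
    have h0 : (Submodule.Quotient.mk (Pi.single i (f j) - Pi.single j (f i) : Fin r → R) : Q) = 0 := by
      rw [Submodule.Quotient.mk_eq_zero]
      exact Submodule.subset_span ⟨i, j, rfl⟩
    rw [h0, TensorProduct.tmul_zero]
  rw [← hΦR]
  exact LinearMap.mem_ker.mp (hkill hu)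

/-- **faithfully flat descent** of `H_1`-regular sequences. -/
theorem h1_of_faithfullyFlat {S : Type u} [CommRing S] [Algebra R S] [Module.FaithfullyFlat R S]
    (f : Fin r → R) (h : CAlgX.IsH1Regular (fun i => algebraMap R S (f i))) :
    CAlgX.IsH1Regular f := by
  intro u hu
  have h1 : (fun i => algebraMap R S (u i)) ∈ Triv (fun i => algebraMap R S (f i)) := by
    apply h
    rw [← map_zero (algebraMap R S), ← hu, map_sum]
    apply Finset.sum_congr rfl
    intro i _
    rw [map_mul]
  have h2 := one_tmul_mk_eq_zero (S := S) f u h1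
  rw [Module.FaithfullyFlat.one_tmul_eq_zero_iff] at h2
  exact (Submodule.Quotient.mk_eq_zero _).mp h2

/-- **local-global principle** for `H_1`-regular sequences. -/
theorem h1_of_forall_maximal (f : Fin r → R)
    (H : ∀ (𝔪 : Ideal R) [𝔪.IsMaximal],
      CAlgX.IsH1Regular (fun i => algebraMap R (Localization.AtPrime 𝔪) (f i))) :
    CAlgX.IsH1Regular f := by
  intro u hu
  let N := Triv f
  by_contra hne
  let 𝔞 : Ideal R := N.colon ({u} : Set (Fin r → R))
  have h𝔞 : ∀ s : R, s ∈ 𝔞 ↔ s • u ∈ N := by
    intro s
    show s ∈ N.colon ({u} : Set (Fin r → R)) ↔ _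
    rw [Submodule.mem_colon_singleton]
  have hne𝔞 : 𝔞 ≠ ⊤ := by
    intro htop
    have h1 : (1 : R) ∈ 𝔞 := by rw [htop]; trivial
    rw [h𝔞, one_smul] at h1
    exact hne h1
  obtain ⟨𝔪, h𝔪, hle⟩ := Ideal.exists_le_maximal 𝔞 hne𝔞
  haveI := h𝔪
  have h1 : (fun i => algebraMap R (Localization.AtPrime 𝔪) (u i)) ∈
      Triv (fun i => algebraMap R (Localization.AtPrime 𝔪) (f i)) := by
    apply H 𝔪
    rw [← map_zero (algebraMap R (Localization.AtPrime 𝔪)), ← hu, map_sum]
    apply Finset.sum_congr rfl
    intro i _
    rw [map_mul]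
  have h2 := one_tmul_mk_eq_zero (S := Localization.AtPrime 𝔪) f u h1
  have h3 : TensorProduct.mk R (Localization.AtPrime 𝔪) ((Fin r → R) ⧸ Triv f) 1
      (Submodule.Quotient.mk u) = 0 := h2
  rw [IsLocalizedModule.eq_zero_iff 𝔪.primeCompl] at h3
  obtain ⟨s, hs⟩ := h3
  have h4 : (s : R) • u ∈ N := by
    rw [← Submodule.Quotient.mk_eq_zero, Submodule.Quotient.mk_smul]
    exact hs
  exact s.2 (hle ((h𝔞 s).mpr h4))

end Groth.Agent.H59.H1Reg
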