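import Mathlib
import Groth.Prelude.Def_CAlgX
import Groth.Agent.H59.H1Reg

/-!
# helper59: `H_1`-regular sequences: minimality and independence of generators (local rings)
-/

set_option autoImplicit false
universe u
open TensorProduct

namespace Groth.Agent.H59.H1Reg

variable {R : Type u} [CommRing R] {r : ℕ}

/-- the relation matrix is the identity modulo the ideal. -/
lemma rel_mem {s : ℕ} (φ : Fin s → R) (hφ : CAlgX.IsH1Regular φ) (a : Fin r → R)
    (c : Fin r → Fin s → R) (hc : ∀ k, ∑ j, c k j * φ j = a k)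
    (dd : Fin s → Fin r → R) (hdd : ∀ j, ∑ k, dd j k * a k = φ j) (j l : Fin s) :
    (∑ k, dd j k * c k l) - (if j = l then 1 else 0) ∈ Ideal.span (Set.range φ) := by
  classical
  set e : Fin s → R := fun l => (∑ k, dd j k * c k l) - (if j = l then 1 else 0) with he
  have hsum : ∑ l, e l * φ l = 0 := by
    simp only [he, sub_mul, Finset.sum_sub_distrib]
    have h1 : ∑ l, (∑ k, dd j k * c k l) * φ l = φ j := by
      simp_rw [Finset.sum_mul]
      rw [Finset.sum_comm]
      rw [← hdd j]
      refine Finset.sum_congr rfl fun k _ => ?_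
      rw [← hc k, Finset.mul_sum]
      refine Finset.sum_congr rfl fun l _ => by ring
    rw [h1]
    simp
  exact coeff_mem hφ e hsum l

/-- An `H_1`-regular sequence of length `s` generating a proper ideal cannot be replaced by fewer
generators. -/
theorem le_of_h1 {s : ℕ} (φ : Fin s → R) (hφ : CAlgX.IsH1Regular φ) (a : Fin r → R)
    (hspan : Ideal.span (Set.range φ) = Ideal.span (Set.range a))
    (hne : Ideal.span (Set.range φ) ≠ ⊤) : s ≤ r := by
  classical
  set J := Ideal.span (Set.range φ) with hJ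
  have ha : ∀ k, ∃ c : Fin s → R, ∑ j, c j * φ j = a k := fun k =>
    Ideal.mem_span_range_iff_exists_fun.1 (hspan ▸ Ideal.subset_span ⟨k, rfl⟩ : a k ∈ J)
  have hφa : ∀ j, ∃ dd : Fin r → R, ∑ k, dd k * a k = φ j := fun j =>
    Ideal.mem_span_range_iff_exists_fun.1 (hspan ▸ Ideal.subset_span ⟨j, rfl⟩)
  choose c hc using ha
  choose dd hdd using hφa
  have hrel := rel_mem φ hφ a c hc dd hdd
  haveI : Nontrivial (R ⧸ J) := Ideal.Quotient.nontrivial_iff.2 hne
  let D : Matrix (Fin s) (Fin r) (R ⧸ J) := fun j k => Ideal.Quotient.mk J (dd j k)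
  let Cm : Matrix (Fin r) (Fin s) (R ⧸ J) := fun k l => Ideal.Quotient.mk J (c k l)
  have hDC : D * Cm = 1 := by
    ext j l
    rw [Matrix.mul_apply, Matrix.one_apply]
    have := hrel j l
    rw [← Ideal.Quotient.eq_zero_iff_mem, map_sub, sub_eq_zero, map_sum] at this
    simp only [map_mul] at this
    rw [this]
    split_ifs <;> simp
  have hsurj : Function.Surjective (Matrix.toLin' D) := by
    intro y
    refine ⟨Matrix.toLin' Cm y, ?_⟩
    rw [← LinearMap.comp_apply, ← Matrix.toLin'_mul, hDC, Matrix.toLin'_one]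
    rfl
  exact le_of_fin_surjective (R ⧸ J) (Matrix.toLin' D) hsurj

/-- **independence of generators**: in a local ring, any generating sequence of the same length
of an ideal generated by an `H_1`-regular sequence is `H_1`-regular. -/
theorem h1_indep [IsLocalRing R] {n : ℕ} (φ a : Fin n → R) (hφ : CAlgX.IsH1Regular φ)
    (hspan : Ideal.span (Set.range a) = Ideal.span (Set.range φ)) : CAlgX.IsH1Regular a := by
  classical
  by_cases htop : Ideal.span (Set.range φ) = ⊤
  · exact h1_of_span_eq_top a (hspan.trans htop)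
  set J := Ideal.span (Set.range φ) with hJ
  have hJm : J ≤ IsLocalRing.maximalIdeal R := IsLocalRing.le_maximalIdeal htop
  have ha : ∀ k, ∃ c : Fin n → R, ∑ j, c j * φ j = a k := fun k =>
    Ideal.mem_span_range_iff_exists_fun.1 (hspan ▸ Ideal.subset_span ⟨k, rfl⟩ : a k ∈ J)
  have hφa : ∀ j, ∃ dd : Fin n → R, ∑ k, dd k * a k = φ j := fun j =>
    Ideal.mem_span_range_iff_exists_fun.1 (hspan.symm ▸ Ideal.subset_span ⟨j, rfl⟩)
  choose c hc using ha
  choose dd hdd using hφa
  have hrel := rel_mem φ hφ a c hc dd hdd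
  let Dm : Matrix (Fin n) (Fin n) R := Matrix.of dd
  let Cm : Matrix (Fin n) (Fin n) R := Matrix.of c
  -- `Dm * Cm` is the identity modulo the maximal ideal, hence invertible
  let π := IsLocalRing.residue R
  have hmap : (Dm * Cm).map π = 1 := by
    ext j l
    rw [Matrix.map_apply, Matrix.mul_apply, Matrix.one_apply]
    have h1 := hJm (hrel j l)
    have h2 : π ((∑ k, dd j k * c k l) - (if j = l then 1 else 0)) = 0 :=
      (IsLocalRing.residue_eq_zero_iff _).mpr h1
    rw [map_sub, sub_eq_zero] at h2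
    have h3 : ∑ k, Dm j k * Cm k l = ∑ k, dd j k * c k l := rfl
    rw [h3, h2]
    split_ifs <;> simp
  have hdet : IsUnit (Dm * Cm).det := by
    have h1 : π (Dm * Cm).det = 1 := by
      rw [RingHom.map_det, RingHom.mapMatrix_apply, hmap, Matrix.det_one]
    by_contra hnu
    have h2 : (Dm * Cm).det ∈ IsLocalRing.maximalIdeal R := (IsLocalRing.mem_maximalIdeal _).mpr hnu
    have h3 : π (Dm * Cm).det = 0 := (IsLocalRing.residue_eq_zero_iff _).mpr h2
    rw [h1] at h3
    exact one_ne_zero h3
  have hdetD : IsUnit Dm.det := by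
    rw [Matrix.det_mul] at hdet
    exact isUnit_of_mul_isUnit_left hdet
  -- `E = Dm⁻¹`
  have hED : Dm⁻¹ * Dm = 1 := Matrix.nonsing_inv_mul Dm hdetD
  have hDE : Dm * Dm⁻¹ = 1 := Matrix.mul_nonsing_inv Dm hdetD
  set E := Dm⁻¹ with hE
  -- `a = E φ`
  have hφD : φ = Dm.mulVec a := by
    funext j
    rw [← hdd j]
    rfl
  have haE : a = E.mulVec φ := by
    rw [hφD, Matrix.mulVec_mulVec, hED, Matrix.one_mulVec]
  intro u hu
  -- `v = u E` is a relation for `φ`
  have hv : ∑ j, (Matrix.vecMul u E) j * φ j = 0 := by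
    have h1 : ∑ j, (Matrix.vecMul u E) j * φ j = Matrix.vecMul u E ⬝ᵥ φ := rfl
    rw [h1, ← Matrix.dotProduct_mulVec, ← haE]
    exact hu
  have hvT := hφ _ hv
  -- `u = v Dm`
  have huv : u = Matrix.vecMul (Matrix.vecMul u E) Dm := by
    rw [Matrix.vecMul_vecMul, hED, Matrix.vecMul_one]
  rw [huv]
  -- the map `w ↦ w Dm` sends trivial relations of `φ` to trivial relations of `a`
  have hle : Triv φ ≤ (Triv a).comap (Matrix.vecMulLinear Dm) := by
    rw [Triv, Submodule.span_le]
    rintro _ ⟨i, j, rfl⟩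
    rw [SetLike.mem_coe, Submodule.mem_comap, Matrix.vecMulLinear_apply, Matrix.sub_vecMul,
      Matrix.single_vecMul, Matrix.single_vecMul]
    have h1 := d2_mem a (Dm j) (Dm i)
    have e1 : ∑ k, Dm j k * a k = φ j := hdd j
    have e2 : ∑ k, Dm i k * a k = φ i := hdd i
    rw [e1, e2] at h1
    exact h1
  exact hle hvT

end Groth.Agent.H59.H1Reg
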