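import Groth.Agent.H59.KEulAlg
import Groth.Agent.H17.KE.Apply
import Mathlib

/-!
# Additivity of the Koszul Euler characteristic in the head element

`chi_mul_head : χ(xy, l; M) = χ(x, l; M) + χ(y, l; M)`.
-/

set_option autoImplicit false
universe u
open CategoryTheory CochainComplex HomologicalComplex Limits
open scoped Pointwise
open Groth.Agent.H59.Kosz Groth.Agent.H17.HS Groth.Agent.H17.KE

namespace Groth.Agent.H59.KEul

section complexes
variable {A : Type u} [CommRing A]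

theorem length_homology_eq_Hm (K : Cx A) (i j k : ℤ) (hij : i + 1 = j) (hjk : j + 1 = k) :
    Module.length A (K.homology j) = Module.length A (Hm (K.d i j).hom (K.d j k).hom) := by
  rw [Groth.Agent.H17.KE.length_homology_eq K i j k hij hjk]
  have h : LinearMap.range ((K.d i j).hom.codRestrict (LinearMap.ker (K.d j k).hom)
      (Groth.Agent.H17.KE.d_mem_ker K i j k)) =
      (LinearMap.range (K.d i j).hom).comap (LinearMap.ker (K.d j k).hom).subtype := by
    ext ⟨y, hy⟩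
    constructor
    · rintro ⟨x, hx⟩; exact ⟨x, congrArg Subtype.val hx⟩
    · rintro ⟨x, hx⟩; exact ⟨x, Subtype.ext hx⟩
  exact (Submodule.quotEquivOfEq _ _ h).length_eq

/-- cone homology length (general indices) -/
theorem length_homology_cone' (K : Cx A) (a : A) (i j k l : ℤ) (hij : i + 1 = j)
    (hjk : j + 1 = k) (hkl : k + 1 = l) :
    Module.length A ((mappingCone (a • 𝟙 K)).homology j) =
      Module.length A (QuotSMulTop a (Hm (K.d i j).hom (K.d j k).hom)) +
      Module.length A (LinearMap.ker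
        (LinearMap.lsmul A (Hm (K.d j k).hom (K.d k l).hom) a)) := by
  rw [length_homology_eq_Hm _ i j k hij hjk]
  rw [← cone_length a (K.d i j).hom (K.d j k).hom (K.d k l).hom]
  refine length_Hm_congr _ _ _ _ (coneEquiv a K j i hij) (coneEquiv a K k j hjk)
    (coneEquiv a K l k hkl) ?_ ?_
  · intro z
    rw [coneEquiv_apply, coneEquiv_apply, coneD_apply]
    refine Prod.ext ?_ ?_
    · exact d_fst_apply a K i j k hij hjk z
    · exact d_snd_apply a K i j hij z
  · intro z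
    rw [coneEquiv_apply, coneEquiv_apply, coneD_apply]
    refine Prod.ext ?_ ?_
    · exact d_fst_apply a K j k l hjk hkl z
    · exact d_snd_apply a K j k hjk z

noncomputable def cq (K : Cx A) (a : A) (n : ℤ) : ℕ∞ :=
  Module.length A (QuotSMulTop a (Hm (K.d (n-1) n).hom (K.d n (n+1)).hom))

noncomputable def ck (K : Cx A) (a : A) (n : ℤ) : ℕ∞ :=
  Module.length A (LinearMap.ker
    (LinearMap.lsmul A (Hm (K.d (n-1) n).hom (K.d n (n+1)).hom) a))

lemma ck_eq (K : Cx A) (a : A) (j k l : ℤ) (hjk : j + 1 = k) (hkl : k + 1 = l) :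
    ck K a k = Module.length A (LinearMap.ker
      (LinearMap.lsmul A (Hm (K.d j k).hom (K.d k l).hom) a)) := by
  obtain rfl : j = k - 1 := by omega
  obtain rfl : l = k + 1 := by omega
  rfl

theorem length_homology_cone (K : Cx A) (a : A) (n : ℤ) :
    Module.length A ((mappingCone (a • 𝟙 K)).homology n) = cq K a n + ck K a (n+1) := by
  rw [length_homology_cone' K a (n-1) n (n+1) (n+1+1) (by omega) rfl rfl,
    ck_eq K a n (n+1) (n+1+1) rfl rfl]
  rfl

lemma subsingleton_Hm {X Y Z : Type u} [AddCommGroup X] [Module A X] [AddCommGroup Y]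
    [Module A Y] [AddCommGroup Z] [Module A Z] (f : X →ₗ[A] Y) (g : Y →ₗ[A] Z)
    [Subsingleton Y] : Subsingleton (Hm f g) := by
  refine ⟨fun p q => ?_⟩
  obtain ⟨⟨p, hp⟩, rfl⟩ := Submodule.Quotient.mk_surjective _ p
  obtain ⟨⟨q, hq⟩, rfl⟩ := Submodule.Quotient.mk_surjective _ q
  congr 1
  exact Subtype.ext (Subsingleton.elim p q)

lemma cq_eq_zero (K : Cx A) (a : A) (n : ℤ) (h : Subsingleton (K.X n)) : cq K a n = 0 := by
  unfold cq
  rw [Module.length_eq_zero_iff]
  have := subsingleton_Hm (K.d (n-1) n).hom (K.d n (n+1)).hom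
  refine ⟨fun p q => ?_⟩
  obtain ⟨p, rfl⟩ := Submodule.Quotient.mk_surjective _ p
  obtain ⟨q, rfl⟩ := Submodule.Quotient.mk_surjective _ q
  rw [Subsingleton.elim p q]

lemma ck_eq_zero (K : Cx A) (a : A) (n : ℤ) (h : Subsingleton (K.X n)) : ck K a n = 0 := by
  unfold ck
  rw [Module.length_eq_zero_iff]
  have := subsingleton_Hm (K.d (n-1) n).hom (K.d n (n+1)).hom
  infer_instance

/-- the sign `(-1)^n` -/
def sg (n : ℤ) : ℤ := ((n.negOnePow : ℤˣ) : ℤ)

lemma sg_succ (n : ℤ) : sg (n+1) = - sg n := by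
  unfold sg; rw [Int.negOnePow_succ]; simp

/-- Euler characteristic of a complex -/
noncomputable def Echi (C : Cx A) : ℤ :=
  ∑ᶠ i : ℤ, ((i.negOnePow : ℤˣ) : ℤ) * ((Module.length A (C.homology i)).toNat : ℤ)

lemma finite_support_of_bdd (f : ℤ → ℤ) (lo hi : ℤ) (h : ∀ n, (n < lo ∨ hi < n) → f n = 0) :
    (Function.support f).Finite := by
  refine Set.Finite.subset (Set.finite_Icc lo hi) ?_
  intro n hn
  rw [Function.mem_support] at hn
  by_contra hc
  apply hn
  apply h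
  rw [Set.mem_Icc] at hc
  omega

theorem echi_cone (K : Cx A) (a : A) (L : ℕ)
    (hzero : ∀ n : ℤ, (n < -(L : ℤ) ∨ 0 < n) → Subsingleton (K.X n))
    (hfin : ∀ n, Module.length A ((mappingCone (a • 𝟙 K)).homology n) ≠ ⊤) :
    (∀ n, cq K a n ≠ ⊤) ∧ (∀ n, ck K a n ≠ ⊤) ∧
    Echi (mappingCone (a • 𝟙 K)) =
      ∑ᶠ n : ℤ, sg n * (((cq K a n).toNat : ℤ) - ((ck K a n).toNat : ℤ)) := by
  have hq : ∀ n, cq K a n ≠ ⊤ := by
    intro n
    have h1 := hfin n
    rw [length_homology_cone] at h1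
    exact (WithTop.add_ne_top.1 h1).1
  have hk : ∀ n, ck K a n ≠ ⊤ := by
    intro n
    have h1 := hfin (n - 1)
    rw [length_homology_cone, sub_add_cancel] at h1
    exact (WithTop.add_ne_top.1 h1).2
  refine ⟨hq, hk, ?_⟩
  have hq0 : ∀ n : ℤ, (n < -(L : ℤ) ∨ 0 < n) → cq K a n = 0 :=
    fun n hn => cq_eq_zero K a n (hzero n hn)
  have hk0 : ∀ n : ℤ, (n < -(L : ℤ) ∨ 0 < n) → ck K a n = 0 :=
    fun n hn => ck_eq_zero K a n (hzero n hn)
  have h1 : Echi (mappingCone (a • 𝟙 K)) =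
      ∑ᶠ n : ℤ, (sg n * ((cq K a n).toNat : ℤ) + sg n * ((ck K a (n+1)).toNat : ℤ)) := by
    unfold Echi
    refine finsum_congr (fun n => ?_)
    rw [length_homology_cone, ENat.toNat_add (hq n) (hk (n+1))]
    push_cast
    unfold sg
    ring
  rw [h1]
  have hs1 : (Function.support fun n : ℤ => sg n * ((cq K a n).toNat : ℤ)).Finite :=
    finite_support_of_bdd _ (-(L:ℤ)) 0 (fun n hn => by simp [hq0 n hn])
  have hs2 : (Function.support fun n : ℤ => sg n * ((ck K a (n+1)).toNat : ℤ)).Finite :=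
    finite_support_of_bdd _ (-(L:ℤ) - 1) 0 (fun n hn => by
      have h2 : ck K a (n+1) = 0 := hk0 (n+1) (by omega)
      simp [h2])
  have hs3 : (Function.support fun n : ℤ => sg n * ((ck K a n).toNat : ℤ)).Finite :=
    finite_support_of_bdd _ (-(L:ℤ)) 0 (fun n hn => by simp [hk0 n hn])
  rw [finsum_add_distrib hs1 hs2]
  have hshift : ∑ᶠ n : ℤ, sg n * ((ck K a (n+1)).toNat : ℤ) =
      - ∑ᶠ n : ℤ, sg n * ((ck K a n).toNat : ℤ) := by
    calc ∑ᶠ n : ℤ, sg n * ((ck K a (n+1)).toNat : ℤ)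
        = ∑ᶠ n : ℤ, (fun m : ℤ => -(sg m * ((ck K a m).toNat : ℤ)))
            ((Equiv.addRight (1:ℤ)) n) := by
          refine finsum_congr (fun n => ?_)
          show sg n * _ = -(sg (n+1) * ((ck K a (n+1)).toNat : ℤ))
          rw [sg_succ]; ring
      _ = ∑ᶠ m : ℤ, (fun m : ℤ => -(sg m * ((ck K a m).toNat : ℤ))) m :=
          finsum_comp_equiv (Equiv.addRight (1:ℤ))
            (f := fun m : ℤ => -(sg m * ((ck K a m).toNat : ℤ)))
      _ = - ∑ᶠ n : ℤ, sg n * ((ck K a n).toNat : ℤ) := finsum_neg_distrib _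
  rw [hshift, ← sub_eq_add_neg, ← finsum_sub_distrib hs1 hs3]
  refine finsum_congr (fun n => ?_)
  ring

theorem euler_mul (K : Cx A) (x y : A) (L : ℕ)
    (hzero : ∀ n : ℤ, (n < -(L : ℤ) ∨ 0 < n) → Subsingleton (K.X n))
    (hx : ∀ n, Module.length A ((mappingCone (x • 𝟙 K)).homology n) ≠ ⊤)
    (hy : ∀ n, Module.length A ((mappingCone (y • 𝟙 K)).homology n) ≠ ⊤) :
    (∀ n, Module.length A ((mappingCone ((x * y) • 𝟙 K)).homology n) ≠ ⊤) ∧
    Echi (mappingCone ((x * y) • 𝟙 K)) =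
      Echi (mappingCone (x • 𝟙 K)) + Echi (mappingCone (y • 𝟙 K)) := by
  obtain ⟨hqx, hkx, hEx⟩ := echi_cone K x L hzero hx
  obtain ⟨hqy, hky, hEy⟩ := echi_cone K y L hzero hy
  have hmul := fun n : ℤ => length_mul (Hm (K.d (n-1) n).hom (K.d n (n+1)).hom) x y
  have hsix : ∀ n, ck K y n + ck K x n + cq K (x*y) n =
      ck K (x*y) n + cq K y n + cq K x n := fun n => (hmul n).1
  have hkxy : ∀ n, ck K (x*y) n ≠ ⊤ := fun n =>
    ne_top_of_le_ne_top (WithTop.add_ne_top.2 ⟨hky n, hkx n⟩) (hmul n).2.1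
  have hqxy : ∀ n, cq K (x*y) n ≠ ⊤ := fun n =>
    ne_top_of_le_ne_top (WithTop.add_ne_top.2 ⟨hqy n, hqx n⟩) (hmul n).2.2
  have hxy : ∀ n, Module.length A ((mappingCone ((x * y) • 𝟙 K)).homology n) ≠ ⊤ := by
    intro n
    rw [length_homology_cone]
    exact WithTop.add_ne_top.2 ⟨hqxy n, hkxy (n+1)⟩
  obtain ⟨-, -, hExy⟩ := echi_cone K (x*y) L hzero hxy
  refine ⟨hxy, ?_⟩
  rw [hExy, hEx, hEy]
  have hq0 : ∀ (a : A) (n : ℤ), (n < -(L : ℤ) ∨ 0 < n) → cq K a n = 0 :=
    fun a n hn => cq_eq_zero K a n (hzero n hn)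
  have hk0 : ∀ (a : A) (n : ℤ), (n < -(L : ℤ) ∨ 0 < n) → ck K a n = 0 :=
    fun a n hn => ck_eq_zero K a n (hzero n hn)
  have hsx : (Function.support fun n : ℤ =>
      sg n * (((cq K x n).toNat : ℤ) - ((ck K x n).toNat : ℤ))).Finite :=
    finite_support_of_bdd _ (-(L:ℤ)) 0 (fun n hn => by simp [hq0 x n hn, hk0 x n hn])
  have hsy : (Function.support fun n : ℤ =>
      sg n * (((cq K y n).toNat : ℤ) - ((ck K y n).toNat : ℤ))).Finite :=
    finite_support_of_bdd _ (-(L:ℤ)) 0 (fun n hn => by simp [hq0 y n hn, hk0 y n hn])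
  rw [← finsum_add_distrib hsx hsy]
  refine finsum_congr (fun n => ?_)
  have key : ((cq K (x*y) n).toNat : ℤ) - ((ck K (x*y) n).toNat : ℤ) =
      (((cq K x n).toNat : ℤ) - ((ck K x n).toNat : ℤ)) +
        (((cq K y n).toNat : ℤ) - ((ck K y n).toNat : ℤ)) := by
    have h6 := hsix n
    have b1 := hky n
    have b2 := hkx n
    have b3 := hqxy n
    have b4 := hkxy n
    have b5 := hqy n
    have b6 := hqx n
    revert h6 b1 b2 b3 b4 b5 b6
    generalize ck K y n = a1
    generalize ck K x n = a2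
    generalize cq K (x*y) n = a3
    generalize ck K (x*y) n = a4
    generalize cq K y n = a5
    generalize cq K x n = a6
    intro h6 b1 b2 b3 b4 b5 b6
    lift a1 to ℕ using b1
    lift a2 to ℕ using b2
    lift a3 to ℕ using b3
    lift a4 to ℕ using b4
    lift a5 to ℕ using b5
    lift a6 to ℕ using b6
    simp only [ENat.toNat_natCast]
    have h7 : a1 + a2 + a3 = a4 + a5 + a6 := by exact_mod_cast h6
    omega
  rw [key]
  ring

end complexes

section chi
variable {A : Type u} [CommRing A] [IsNoetherianRing A]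

theorem length_homology_kz_ne_top (l : List A) (M : Type u) [AddCommGroup M] [Module A M]
    [Module.Finite A M]
    (hfl : IsFiniteLength A (M ⧸ (Ideal.span {z | z ∈ l}) • (⊤ : Submodule A M))) (n : ℤ) :
    Module.length A ((kz (sgl (ModuleCat.of A M)) l).homology n) ≠ ⊤ := by
  classical
  have hfin := colen_pow_ne_top_of_isFiniteLength (Ideal.span {z | z ∈ l}) M hfl
  obtain ⟨a, ha⟩ : ∃ a : Ideal A, a = Ideal.span {x | x ∈ l} := ⟨_, rfl⟩
  obtain ⟨k, hk⟩ : ∃ k : ℕ, k = l.length := ⟨_, rfl⟩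
  rw [← ha] at hfin
  obtain ⟨Kl, hKl⟩ : ∃ Kl : Cx A, Kl = kz (sgl (ModuleCat.of A M)) l := ⟨_, rfl⟩
  have hzero : ∀ n : ℤ, (n < -(k : ℤ) ∨ 0 < n) → Subsingleton (Kl.X n) := by
    intro n hn
    rw [hKl]
    rcases hn with hn | hn
    · exact ModuleCat.subsingleton_of_isZero (isZero_kz_neg _ l n (by rw [← hk]; exact hn))
    · exact ModuleCat.subsingleton_of_isZero (isZero_kz_pos _ l n hn)
  have hfinX : ∀ n : ℤ, Module.Finite A (Kl.X n) := by
    intro n
    rw [hKl]
    exact finite_X M l n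
  have hd : ∀ m n : ℤ, m + 1 = n →
      LinearMap.range (Kl.d m n).hom ≤ a • (⊤ : Submodule A (Kl.X n)) := by
    intro m n hmn
    rw [hKl, ha]
    exact range_d_le M _ l (fun x hx => Ideal.subset_span hx) m n hmn
  have hNH : ∀ y ∈ a, NH Kl y := by
    intro y hy
    rw [hKl]
    rw [ha] at hy
    exact span_le_nhIdeal _ l hy
  have hq : ∀ (j : ℕ) (n : ℤ), qlen (a ^ j) (Kl.X n) = (bin k n : ℕ∞) * qlen (a ^ j) M := by
    intro j n
    rw [hKl, hk]
    exact qlen_X M (a ^ j) l n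
  have hlen : ∀ (n : ℤ) (j : ℕ), colen (a ^ j • (⊤ : Submodule A (Kl.X n))) ≠ ⊤ := by
    intro n j
    obtain ⟨q, hq'⟩ := ENat.ne_top_iff_exists.mp (hfin j)
    have h1 := hq j n
    have h2 : qlen (a ^ j) M = q := hq'.symm
    rw [h2] at h1
    show qlen (a ^ j) (Kl.X n) ≠ ⊤
    rw [h1]
    exact_mod_cast ENat.natCast_ne_top (bin k n * q)
  obtain ⟨hH, -, -⟩ := euler_eq Kl a k hzero hfinX hd hNH hlen
  rw [← hKl]
  exact hH n

theorem chi_eq_echi (l : List A) (M : Type u) [AddCommGroup M] [Module A M] :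
    chi l M = Echi (kz (sgl (ModuleCat.of A M)) l) := by
  unfold chi Echi
  refine finsum_congr (fun i => ?_)
  rw [length_homology_bridge]

theorem chi_mul_head (x y : A) (l : List A) (M : Type u) [AddCommGroup M] [Module A M]
    [Module.Finite A M]
    (hx : IsFiniteLength A (M ⧸ (Ideal.span {z | z ∈ x :: l}) • (⊤ : Submodule A M)))
    (hy : IsFiniteLength A (M ⧸ (Ideal.span {z | z ∈ y :: l}) • (⊤ : Submodule A M))) :
    chi ((x * y) :: l) M = chi (x :: l) M + chi (y :: l) M ∧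
      ∀ n, Module.length A ((kz (sgl (ModuleCat.of A M)) ((x * y) :: l)).homology n) ≠ ⊤ := by
  rw [chi_eq_echi, chi_eq_echi, chi_eq_echi]
  have hzero : ∀ n : ℤ, (n < -(l.length : ℤ) ∨ 0 < n) →
      Subsingleton ((kz (sgl (ModuleCat.of A M)) l).X n) := by
    intro n hn
    rcases hn with hn | hn
    · exact ModuleCat.subsingleton_of_isZero (isZero_kz_neg _ l n hn)
    · exact ModuleCat.subsingleton_of_isZero (isZero_kz_pos _ l n hn)
  obtain ⟨h1, h2⟩ := euler_mul (kz (sgl (ModuleCat.of A M)) l) x y l.length hzero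
    (length_homology_kz_ne_top (x :: l) M hx) (length_homology_kz_ne_top (y :: l) M hy)
  exact ⟨h2, h1⟩

end chi

end Groth.Agent.H59.KEul
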