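import Groth.Agent.H17.Chi
import Mathlib

/-!
# Linear algebra for Koszul Euler characteristics

* `Hm f g`: concrete homology `ker g / im f`.
* `cone_length`: homology of the cone of multiplication by `a` on a complex:
  `ℓ(H(cone)) = ℓ(H^n / a H^n) + ℓ(H^{n+1}[a])`.
* `length_mul`: kernel–cokernel sequence for `x * y`.
-/

set_option autoImplicit false
universe u v
open scoped Pointwise

namespace Groth.Agent.H59.KEul

section linalg
variable {A : Type u} [CommRing A]

/-- concrete homology of a pair of composable linear maps -/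
abbrev Hm {X Y Z : Type v} [AddCommGroup X] [Module A X] [AddCommGroup Y] [Module A Y]
    [AddCommGroup Z] [Module A Z] (f : X →ₗ[A] Y) (g : Y →ₗ[A] Z) : Type v :=
  ↥(LinearMap.ker g) ⧸ (LinearMap.range f).comap (LinearMap.ker g).subtype

theorem length_Hm_congr {X Y Z X' Y' Z' : Type v} [AddCommGroup X] [Module A X] [AddCommGroup Y]
    [Module A Y] [AddCommGroup Z] [Module A Z] [AddCommGroup X'] [Module A X'] [AddCommGroup Y']
    [Module A Y'] [AddCommGroup Z'] [Module A Z']
    (f : X →ₗ[A] Y) (g : Y →ₗ[A] Z)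
    (f' : X' →ₗ[A] Y') (g' : Y' →ₗ[A] Z') (eX : X ≃ₗ[A] X') (eY : Y ≃ₗ[A] Y') (eZ : Z ≃ₗ[A] Z')
    (hf : ∀ x, eY (f x) = f' (eX x)) (hg : ∀ y, eZ (g y) = g' (eY y)) :
    Module.length A (Hm f g) = Module.length A (Hm f' g') := by
  let ψ : ↥(LinearMap.ker g) →ₗ[A] ↥(LinearMap.ker g') :=
    LinearMap.codRestrict _ (eY.toLinearMap.comp (LinearMap.ker g).subtype) (by
      rintro ⟨y, hy⟩
      rw [LinearMap.mem_ker] at hy ⊢
      show g' (eY y) = 0
      rw [← hg, hy, map_zero])
  let φ : ↥(LinearMap.ker g) →ₗ[A] Hm f' g' := (Submodule.mkQ _).comp ψ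
  have hsurj : Function.Surjective φ := by
    intro q
    obtain ⟨⟨y', hy'⟩, rfl⟩ := Submodule.Quotient.mk_surjective _ q
    have hk : eY.symm y' ∈ LinearMap.ker g := by
      rw [LinearMap.mem_ker] at hy' ⊢
      apply eZ.injective
      rw [hg, eY.apply_symm_apply, hy', map_zero]
    refine ⟨⟨eY.symm y', hk⟩, ?_⟩
    show Submodule.Quotient.mk (ψ ⟨eY.symm y', hk⟩) = Submodule.Quotient.mk ⟨y', hy'⟩
    congr 1
    apply Subtype.ext
    show eY (eY.symm y') = y'
    exact eY.apply_symm_apply y'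
  have hker : LinearMap.ker φ = (LinearMap.range f).comap (LinearMap.ker g).subtype := by
    ext ⟨y, hy⟩
    rw [LinearMap.mem_ker]
    show Submodule.Quotient.mk (ψ ⟨y, hy⟩) = 0 ↔ _
    rw [Submodule.Quotient.mk_eq_zero, Submodule.mem_comap, Submodule.mem_comap]
    show eY y ∈ LinearMap.range f' ↔ y ∈ LinearMap.range f
    constructor
    · rintro ⟨x', hx'⟩
      refine ⟨eX.symm x', ?_⟩
      apply eY.injective
      rw [hf, eX.apply_symm_apply, hx']
    · rintro ⟨x, rfl⟩
      exact ⟨eX x, (hf x).symm⟩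
  have e1 := LinearMap.quotKerEquivOfSurjective φ hsurj
  have e2 := Submodule.quotEquivOfEq _ _ hker
  exact (e2.symm.trans e1).length_eq

theorem length_le_of_exact {M1 M2 M3 : Type*} [AddCommGroup M1] [Module A M1] [AddCommGroup M2]
    [Module A M2] [AddCommGroup M3] [Module A M3] (f : M1 →ₗ[A] M2) (g : M2 →ₗ[A] M3)
    (h : Function.Exact f g) : Module.length A M2 ≤ Module.length A M1 + Module.length A M3 := by
  rw [Groth.Agent.H17.Chi.length_eq_ker_add_range g]
  refine add_le_add ?_ ?_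
  · have hk : LinearMap.ker g = LinearMap.range f := (LinearMap.exact_iff.mp h)
    rw [(LinearEquiv.ofEq _ _ hk).length_eq]
    exact Module.length_le_of_surjective f.rangeRestrict f.surjective_rangeRestrict
  · exact Module.length_le_of_injective (LinearMap.range g).subtype (Submodule.injective_subtype _)

section cone
variable {X0 X1 X2 X3 : Type v} [AddCommGroup X0] [Module A X0] [AddCommGroup X1] [Module A X1]
  [AddCommGroup X2] [Module A X2] [AddCommGroup X3] [Module A X3]

/-- differential of the cone of multiplication by `a`: `(u, v) ↦ (-d u, a u + d v)`. -/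
def coneD (a : A) (d1 : X1 →ₗ[A] X2) (d0 : X0 →ₗ[A] X1) : (X1 × X0) →ₗ[A] (X2 × X1) :=
  ((-d1).comp (LinearMap.fst A X1 X0)).prod
    (a • LinearMap.fst A X1 X0 + d0.comp (LinearMap.snd A X1 X0))

@[simp] lemma coneD_apply (a : A) (d1 : X1 →ₗ[A] X2) (d0 : X0 →ₗ[A] X1) (p : X1 × X0) :
    coneD a d1 d0 p = (-d1 p.1, a • p.1 + d0 p.2) := rfl

variable (a : A) (d0 : X0 →ₗ[A] X1) (d1 : X1 →ₗ[A] X2) (d2 : X2 →ₗ[A] X3)

def iZ : ↥(LinearMap.ker d1) →ₗ[A] ↥(LinearMap.ker (coneD a d2 d1)) :=
  LinearMap.codRestrict _ ((LinearMap.inr A X2 X1).comp (LinearMap.ker d1).subtype) (by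
    rintro ⟨v, hv⟩
    rw [LinearMap.mem_ker] at hv ⊢
    simp [hv])

def iMap : Hm d0 d1 →ₗ[A] Hm (coneD a d1 d0) (coneD a d2 d1) :=
  Submodule.mapQ _ _ (iZ a d1 d2) (by
    rintro ⟨v, hv⟩ ⟨w, hw⟩
    have hw' : d0 w = v := hw
    refine ⟨(0, w), ?_⟩
    show coneD a d1 d0 (0, w) = ((0 : X2), v)
    simp [hw'])

def pZ : ↥(LinearMap.ker (coneD a d2 d1)) →ₗ[A] ↥(LinearMap.ker d2) :=
  LinearMap.codRestrict _
    ((LinearMap.fst A X2 X1).comp (LinearMap.ker (coneD a d2 d1)).subtype) (by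
    rintro ⟨⟨u, v⟩, h⟩
    rw [LinearMap.mem_ker] at h ⊢
    have h1 := congrArg Prod.fst h
    simpa using h1)

def pMap : Hm (coneD a d1 d0) (coneD a d2 d1) →ₗ[A] Hm d1 d2 :=
  Submodule.mapQ _ _ (pZ a d1 d2) (by
    rintro ⟨⟨u, v⟩, h⟩ ⟨⟨u', v'⟩, hw⟩
    have h1 : -d1 u' = u := congrArg Prod.fst hw
    exact ⟨-u', by rw [map_neg]; exact h1⟩)

lemma ker_iMap : LinearMap.ker (iMap a d0 d1 d2) = a • (⊤ : Submodule A (Hm d0 d1)) := by
  ext q
  obtain ⟨⟨v, hv⟩, rfl⟩ := Submodule.Quotient.mk_surjective _ q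
  rw [LinearMap.mem_ker, Submodule.mem_smul_pointwise_iff_exists]
  show Submodule.Quotient.mk (iZ a d1 d2 ⟨v, hv⟩) = 0 ↔ _
  rw [Submodule.Quotient.mk_eq_zero]
  constructor
  · rintro ⟨⟨u', v'⟩, hw⟩
    have h1 : -d1 u' = 0 := congrArg Prod.fst hw
    have h2 : a • u' + d0 v' = v := congrArg Prod.snd hw
    have hu' : u' ∈ LinearMap.ker d1 := by
      rw [LinearMap.mem_ker]; simpa using h1
    refine ⟨Submodule.Quotient.mk ⟨u', hu'⟩, Submodule.mem_top, ?_⟩
    rw [← Submodule.Quotient.mk_smul, Submodule.Quotient.eq]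
    refine ⟨-v', ?_⟩
    show d0 (-v') = a • u' - v
    rw [map_neg, ← h2]; abel
  · rintro ⟨q', -, hq'⟩
    obtain ⟨⟨u', hu'⟩, rfl⟩ := Submodule.Quotient.mk_surjective _ q'
    rw [← Submodule.Quotient.mk_smul, Submodule.Quotient.eq] at hq'
    obtain ⟨w, hw⟩ := hq'
    have hw' : d0 w = a • u' - v := hw
    refine ⟨(u', -w), ?_⟩
    show coneD a d1 d0 (u', -w) = ((0 : X2), v)
    rw [coneD_apply]
    rw [LinearMap.mem_ker] at hu'
    refine Prod.ext ?_ ?_
    · show -d1 u' = 0
      rw [hu', neg_zero]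
    · show a • u' + d0 (-w) = v
      rw [map_neg, hw']; abel

lemma ker_pMap : LinearMap.ker (pMap a d0 d1 d2) = LinearMap.range (iMap a d0 d1 d2) := by
  ext q
  obtain ⟨⟨⟨u, v⟩, h⟩, rfl⟩ := Submodule.Quotient.mk_surjective _ q
  have h' := h
  rw [LinearMap.mem_ker] at h'
  have h2 : a • u + d1 v = 0 := congrArg Prod.snd h'
  rw [LinearMap.mem_ker]
  show Submodule.Quotient.mk (pZ a d1 d2 ⟨(u, v), h⟩) = 0 ↔ _
  rw [Submodule.Quotient.mk_eq_zero]
  constructor
  · rintro ⟨w, hw⟩
    have hw' : d1 w = u := hw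
    have hk : v + a • w ∈ LinearMap.ker d1 := by
      rw [LinearMap.mem_ker, map_add, map_smul, hw', add_comm]
      exact h2
    refine ⟨Submodule.Quotient.mk ⟨v + a • w, hk⟩, ?_⟩
    show Submodule.Quotient.mk (iZ a d1 d2 ⟨v + a • w, hk⟩) = Submodule.Quotient.mk _
    rw [Submodule.Quotient.eq]
    refine ⟨(w, 0), ?_⟩
    show coneD a d1 d0 (w, 0) = ((0 : X2), v + a • w) - (u, v)
    rw [coneD_apply]
    refine Prod.ext ?_ ?_
    · show -d1 w = 0 - u
      rw [hw', zero_sub]
    · show a • w + d0 0 = v + a • w - v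
      rw [map_zero]; abel
  · rintro ⟨q', hq'⟩
    obtain ⟨⟨v', hv'⟩, rfl⟩ := Submodule.Quotient.mk_surjective _ q'
    have hq'' : Submodule.Quotient.mk (iZ a d1 d2 ⟨v', hv'⟩) =
        (Submodule.Quotient.mk ⟨(u, v), h⟩ : Hm (coneD a d1 d0) (coneD a d2 d1)) := hq'
    rw [Submodule.Quotient.eq] at hq''
    obtain ⟨⟨u', w'⟩, hw⟩ := hq''
    have hw1 : -d1 u' = 0 - u := congrArg Prod.fst hw
    rw [zero_sub, neg_inj] at hw1
    exact ⟨u', hw1⟩

lemma range_pMap : LinearMap.range (pMap a d0 d1 d2) =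
    LinearMap.ker (LinearMap.lsmul A (Hm d1 d2) a) := by
  ext q
  obtain ⟨⟨u, hu⟩, rfl⟩ := Submodule.Quotient.mk_surjective _ q
  rw [LinearMap.mem_ker, LinearMap.lsmul_apply, ← Submodule.Quotient.mk_smul,
    Submodule.Quotient.mk_eq_zero]
  constructor
  · rintro ⟨q', hq'⟩
    obtain ⟨⟨⟨u', v'⟩, h⟩, rfl⟩ := Submodule.Quotient.mk_surjective _ q'
    have hq'' : Submodule.Quotient.mk (pZ a d1 d2 ⟨(u', v'), h⟩) =
        (Submodule.Quotient.mk ⟨u, hu⟩ : Hm d1 d2) := hq'
    rw [Submodule.Quotient.eq] at hq''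
    obtain ⟨w, hw⟩ := hq''
    have hw' : d1 w = u' - u := hw
    have h' := h
    rw [LinearMap.mem_ker] at h'
    have h2 : a • u' + d1 v' = 0 := congrArg Prod.snd h'
    refine ⟨-v' - a • w, ?_⟩
    show d1 (-v' - a • w) = a • u
    rw [map_sub, map_neg, map_smul, hw', smul_sub]
    have h3 : d1 v' = -(a • u') := by
      rw [eq_neg_iff_add_eq_zero, add_comm]; exact h2
    rw [h3]; abel
  · rintro ⟨w, hw⟩
    have hw' : d1 w = a • u := hw
    have hu' := hu
    rw [LinearMap.mem_ker] at hu'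
    have hk : (u, -w) ∈ LinearMap.ker (coneD a d2 d1) := by
      rw [LinearMap.mem_ker, coneD_apply]
      refine Prod.ext ?_ ?_
      · show -d2 u = 0
        rw [hu', neg_zero]
      · show a • u + d1 (-w) = 0
        rw [map_neg, hw']; abel
    exact ⟨Submodule.Quotient.mk ⟨(u, -w), hk⟩, rfl⟩

theorem cone_length : Module.length A (Hm (coneD a d1 d0) (coneD a d2 d1)) =
    Module.length A (QuotSMulTop a (Hm d0 d1)) +
      Module.length A (LinearMap.ker (LinearMap.lsmul A (Hm d1 d2) a)) := by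
  rw [Groth.Agent.H17.Chi.length_eq_ker_add_range (pMap a d0 d1 d2)]
  congr 1
  · rw [(LinearEquiv.ofEq _ _ (ker_pMap a d0 d1 d2)).length_eq]
    rw [← (LinearMap.quotKerEquivRange (iMap a d0 d1 d2)).length_eq]
    exact (Submodule.quotEquivOfEq _ _ (ker_iMap a d0 d1 d2)).length_eq
  · exact (LinearEquiv.ofEq _ _ (range_pMap a d0 d1 d2)).length_eq

end cone

section six

theorem length_mul (N : Type v) [AddCommGroup N] [Module A N] (x y : A) :
    (Module.length A (LinearMap.ker (LinearMap.lsmul A N y)) +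
      Module.length A (LinearMap.ker (LinearMap.lsmul A N x)) +
      Module.length A (QuotSMulTop (x * y) N) =
    Module.length A (LinearMap.ker (LinearMap.lsmul A N (x * y))) +
      Module.length A (QuotSMulTop y N) + Module.length A (QuotSMulTop x N)) ∧
    Module.length A (LinearMap.ker (LinearMap.lsmul A N (x * y))) ≤
      Module.length A (LinearMap.ker (LinearMap.lsmul A N y)) +
        Module.length A (LinearMap.ker (LinearMap.lsmul A N x)) ∧
    Module.length A (QuotSMulTop (x * y) N) ≤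
      Module.length A (QuotSMulTop y N) + Module.length A (QuotSMulTop x N) := by
  have hle : LinearMap.ker (LinearMap.lsmul A N y) ≤
      LinearMap.ker (LinearMap.lsmul A N (x * y)) := by
    intro n hn
    rw [LinearMap.mem_ker, LinearMap.lsmul_apply] at hn ⊢
    rw [mul_smul, hn, smul_zero]
  let fa := Submodule.inclusion hle
  let fb : ↥(LinearMap.ker (LinearMap.lsmul A N (x * y))) →ₗ[A]
      ↥(LinearMap.ker (LinearMap.lsmul A N x)) :=
    LinearMap.codRestrict _ ((LinearMap.lsmul A N y).comp (Submodule.subtype _)) (by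
      rintro ⟨n, hn⟩
      rw [LinearMap.mem_ker, LinearMap.lsmul_apply] at hn ⊢
      show x • (y • n) = 0
      rw [← mul_smul]; exact hn)
  let fd : ↥(LinearMap.ker (LinearMap.lsmul A N x)) →ₗ[A] QuotSMulTop y N :=
    (Submodule.mkQ _).comp (Submodule.subtype _)
  let fe : QuotSMulTop y N →ₗ[A] QuotSMulTop (x * y) N :=
    Submodule.mapQ _ _ (LinearMap.lsmul A N x) (by
      intro n hn
      rw [Submodule.mem_smul_pointwise_iff_exists] at hn
      obtain ⟨n', -, rfl⟩ := hn
      rw [Submodule.mem_comap, Submodule.mem_smul_pointwise_iff_exists]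
      exact ⟨n', Submodule.mem_top, by rw [LinearMap.lsmul_apply, mul_smul]⟩)
  let ff : QuotSMulTop (x * y) N →ₗ[A] QuotSMulTop x N :=
    Submodule.mapQ _ _ LinearMap.id (by
      intro n hn
      rw [Submodule.mem_smul_pointwise_iff_exists] at hn
      obtain ⟨n', -, rfl⟩ := hn
      rw [Submodule.mem_comap, Submodule.mem_smul_pointwise_iff_exists]
      exact ⟨y • n', Submodule.mem_top, by rw [LinearMap.id_apply, mul_smul]⟩)
  have hab : Function.Exact fa fb := by
    rintro ⟨n, hn⟩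
    constructor
    · intro h
      have h' : y • n = 0 := congrArg Subtype.val h
      exact ⟨⟨n, by rw [LinearMap.mem_ker, LinearMap.lsmul_apply]; exact h'⟩, rfl⟩
    · rintro ⟨⟨n', hn'⟩, h⟩
      have hnn : n' = n := congrArg Subtype.val h
      subst hnn
      apply Subtype.ext
      show y • n' = 0
      rw [LinearMap.mem_ker, LinearMap.lsmul_apply] at hn'
      exact hn'
  have hbd : Function.Exact fb fd := by
    rintro ⟨n, hn⟩
    rw [LinearMap.mem_ker, LinearMap.lsmul_apply] at hn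
    constructor
    · intro h
      have h' : (Submodule.Quotient.mk n : QuotSMulTop y N) = 0 := h
      rw [Submodule.Quotient.mk_eq_zero, Submodule.mem_smul_pointwise_iff_exists] at h'
      obtain ⟨n', -, rfl⟩ := h'
      refine ⟨⟨n', ?_⟩, ?_⟩
      · rw [LinearMap.mem_ker, LinearMap.lsmul_apply, mul_smul]; exact hn
      · exact Subtype.ext rfl
    · rintro ⟨⟨n', hn'⟩, h⟩
      have h1 : y • n' = n := congrArg Subtype.val h
      show (Submodule.Quotient.mk n : QuotSMulTop y N) = 0
      rw [Submodule.Quotient.mk_eq_zero, Submodule.mem_smul_pointwise_iff_exists]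
      exact ⟨n', Submodule.mem_top, h1⟩
  have hde : Function.Exact fd fe := by
    intro q
    obtain ⟨n, rfl⟩ := Submodule.Quotient.mk_surjective _ q
    constructor
    · intro h
      have h' : (Submodule.Quotient.mk (x • n) : QuotSMulTop (x * y) N) = 0 := h
      rw [Submodule.Quotient.mk_eq_zero, Submodule.mem_smul_pointwise_iff_exists] at h'
      obtain ⟨n', -, hn'⟩ := h'
      refine ⟨⟨n - y • n', ?_⟩, ?_⟩
      · rw [LinearMap.mem_ker, LinearMap.lsmul_apply, smul_sub, ← mul_smul, hn', sub_self]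
      · show (Submodule.Quotient.mk (n - y • n') : QuotSMulTop y N) = Submodule.Quotient.mk n
        rw [Submodule.Quotient.eq, Submodule.mem_smul_pointwise_iff_exists]
        exact ⟨-n', Submodule.mem_top, by rw [smul_neg]; abel⟩
    · rintro ⟨⟨n', hn'⟩, h⟩
      rw [LinearMap.mem_ker, LinearMap.lsmul_apply] at hn'
      have h' : (Submodule.Quotient.mk n' : QuotSMulTop y N) = Submodule.Quotient.mk n := h
      rw [Submodule.Quotient.eq, Submodule.mem_smul_pointwise_iff_exists] at h'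
      obtain ⟨m, -, hm⟩ := h'
      show (Submodule.Quotient.mk (x • n) : QuotSMulTop (x * y) N) = 0
      rw [Submodule.Quotient.mk_eq_zero, Submodule.mem_smul_pointwise_iff_exists]
      refine ⟨-m, Submodule.mem_top, ?_⟩
      have hn : n = n' - y • m := by rw [hm]; abel
      rw [hn, smul_sub, hn', zero_sub, smul_neg, mul_smul]
  have hef : Function.Exact fe ff := by
    intro q
    obtain ⟨n, rfl⟩ := Submodule.Quotient.mk_surjective _ q
    constructor
    · intro h
      have h' : (Submodule.Quotient.mk n : QuotSMulTop x N) = 0 := h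
      rw [Submodule.Quotient.mk_eq_zero, Submodule.mem_smul_pointwise_iff_exists] at h'
      obtain ⟨n', -, rfl⟩ := h'
      exact ⟨Submodule.Quotient.mk n', rfl⟩
    · rintro ⟨q', h⟩
      obtain ⟨n', rfl⟩ := Submodule.Quotient.mk_surjective _ q'
      have h' : (Submodule.Quotient.mk (x • n') : QuotSMulTop (x * y) N) =
          Submodule.Quotient.mk n := h
      rw [Submodule.Quotient.eq, Submodule.mem_smul_pointwise_iff_exists] at h'
      obtain ⟨m, -, hm⟩ := h'
      show (Submodule.Quotient.mk n : QuotSMulTop x N) = 0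
      rw [Submodule.Quotient.mk_eq_zero, Submodule.mem_smul_pointwise_iff_exists]
      refine ⟨n' - y • m, Submodule.mem_top, ?_⟩
      rw [smul_sub, ← mul_smul, hm]; abel
  have hf : Function.Surjective ff := by
    intro q
    obtain ⟨n, rfl⟩ := Submodule.Quotient.mk_surjective _ q
    exact ⟨Submodule.Quotient.mk n, rfl⟩
  refine ⟨Groth.Agent.H17.Chi.length_six fa fb fd fe ff (Submodule.inclusion_injective hle)
    hab hbd hde hef hf, length_le_of_exact fa fb hab, length_le_of_exact fe ff hef⟩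

end six

end linalg

end Groth.Agent.H59.KEul
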