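import Groth.Agent.H59.KRegMin

/-!
# Exchange lemma in local rings; Koszul-regular generators at a prime
-/

universe u
open CategoryTheory CochainComplex HomologicalComplex Limits TensorProduct

namespace Groth.Agent.H59.Kosz

lemma span_append_cons {R : Type u} [CommRing R] (s t : List R) (x : R) :
    Ideal.span {y | y ∈ s ++ x :: t} = Ideal.span {x} ⊔ Ideal.span {y | y ∈ s ++ t} := by
  rw [← Ideal.span_union]
  congr 1
  ext y
  simp only [List.mem_append, List.mem_cons, Set.mem_ofPred_eq, Set.mem_union,
    Set.mem_singleton_iff]
  tauto

section exchange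

variable {R : Type u} [CommRing R] [IsLocalRing R]

/-- **Exchange lemma**: in a local ring, if an ideal `J` is generated by a set `S ∋ 0` and by
`s ++ t` with `s ⊆ S`, then it is generated by a list of the same length with entries in `S`. -/
theorem exchange (J : Ideal R) (hJfg : J.FG) (S : Set R) (hS0 : (0 : R) ∈ S)
    (hSJ : Ideal.span S = J) :
    ∀ (t s : List R), (∀ x ∈ s, x ∈ S) → Ideal.span {x | x ∈ s ++ t} = J →
      ∃ a : List R, a.length = s.length + t.length ∧ (∀ x ∈ a, x ∈ S) ∧
        Ideal.span {x | x ∈ a} = J := by
  intro t
  induction t with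
  | nil =>
    intro s hs hspan
    exact ⟨s, by simp, hs, by simpa using hspan⟩
  | cons x t ih =>
    intro s hs hspan
    have hSle : ∀ σ ∈ S, σ ∈ J := fun σ hσ => hSJ ▸ Ideal.subset_span hσ
    have hxJ : x ∈ J := hspan ▸ Ideal.subset_span (by simp)
    have hstJ : Ideal.span {y | y ∈ s ++ t} ≤ J := by
      rw [← hspan]
      apply Ideal.span_mono
      intro y hy
      simp only [List.mem_append, Set.mem_ofPred_eq, List.mem_cons] at hy ⊢
      tauto
    set N : Ideal R := Ideal.span {y | y ∈ s ++ t} ⊔ IsLocalRing.maximalIdeal R • J with hN
    by_cases hx : x ∈ N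
    · -- drop `x`, insert `0`
      have hJ' : J = Ideal.span {x} ⊔ Ideal.span {y | y ∈ s ++ t} := by
        rw [← hspan, span_append_cons]
      have hle : J ≤ Ideal.span {y | y ∈ s ++ t} ⊔ IsLocalRing.maximalIdeal R • J := by
        conv_lhs => rw [hJ']
        refine sup_le ?_ le_sup_left
        rw [Ideal.span_le]
        intro y hy
        rw [Set.mem_singleton_iff.mp hy]
        exact hx
      have hJle : J ≤ Ideal.span {y | y ∈ s ++ t} :=
        Submodule.le_of_le_smul_of_le_jacobson_bot hJfg
          (by rw [IsLocalRing.jacobson_eq_maximalIdeal ⊥ bot_ne_top]) hle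
      have heq : Ideal.span {y | y ∈ (s ++ [0]) ++ t} = J := by
        apply le_antisymm
        · rw [Ideal.span_le]
          intro y hy
          simp only [List.mem_append, Set.mem_ofPred_eq, List.mem_singleton] at hy
          rcases hy with (hy | rfl) | hy
          · exact hstJ (Ideal.subset_span (List.mem_append_left _ hy))
          · exact J.zero_mem
          · exact hstJ (Ideal.subset_span (List.mem_append_right _ hy))
        · refine hJle.trans (Ideal.span_mono ?_)
          intro y hy
          simp only [List.mem_append, Set.mem_ofPred_eq, List.mem_singleton] at hy ⊢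
          tauto
      obtain ⟨a, ha1, ha2, ha3⟩ := ih (s ++ [0]) (by
        intro y hy
        rcases List.mem_append.mp hy with hy | hy
        · exact hs y hy
        · rw [List.mem_singleton.mp hy]; exact hS0) heq
      refine ⟨a, ?_, ha2, ha3⟩
      rw [ha1]; simp only [List.length_append, List.length_cons, List.length_nil]; omega
    · -- exchange `x` with some `σ ∈ S`
      obtain ⟨σ, hσS, hσN⟩ : ∃ σ ∈ S, σ ∉ N := by
        by_contra hcon
        push Not at hcon
        have : J ≤ N := by
          rw [← hSJ, Ideal.span_le]; exact hcon
        exact hx (this hxJ)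
      have hσJ : σ ∈ J := hSle σ hσS
      rw [← hspan, span_append_cons, Ideal.mem_span_singleton_sup] at hσJ
      obtain ⟨c, y, hy, hcy⟩ := hσJ
      have hc : IsUnit c := by
        by_contra hc
        have hcm : c ∈ IsLocalRing.maximalIdeal R := (IsLocalRing.mem_maximalIdeal c).mpr hc
        apply hσN
        rw [← hcy]
        refine N.add_mem (le_sup_right (a := Ideal.span {y | y ∈ s ++ t}) ?_) (le_sup_left (b := IsLocalRing.maximalIdeal R • J) hy)
        exact Submodule.smul_mem_smul hcm hxJ
      have heq : Ideal.span {y | y ∈ (s ++ [σ]) ++ t} = J := by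
        have h1 : Ideal.span {y | y ∈ (s ++ [σ]) ++ t} =
            Ideal.span {σ} ⊔ Ideal.span {y | y ∈ s ++ t} := by
          rw [List.append_assoc, List.singleton_append, span_append_cons]
        rw [h1]
        apply le_antisymm
        · refine sup_le ?_ hstJ
          rw [Ideal.span_le]
          intro z hz
          rw [Set.mem_singleton_iff.mp hz]; exact hSle σ hσS
        · rw [← hspan, span_append_cons]
          refine sup_le ?_ le_sup_right
          rw [Ideal.span_le]
          intro z hz
          rw [Set.mem_singleton_iff.mp hz]
          obtain ⟨v, rfl⟩ := hc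
          have hx' : x = (↑v⁻¹ : R) * σ - (↑v⁻¹ : R) * y := by
            rw [← hcy, mul_add, ← mul_assoc, Units.inv_mul, one_mul]
            ring
          rw [hx']
          refine Ideal.sub_mem _ (Ideal.mul_mem_left _ _ (le_sup_left (b := Ideal.span {y | y ∈ s ++ t})
            (Ideal.subset_span rfl))) (Ideal.mul_mem_left _ _ (le_sup_right (a := Ideal.span {σ}) hy))
      obtain ⟨a, ha1, ha2, ha3⟩ := ih (s ++ [σ]) (by
        intro y hy
        rcases List.mem_append.mp hy with hy | hy
        · exact hs y hy
        · rw [List.mem_singleton.mp hy]; exact hσS) heq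
      refine ⟨a, ?_, ha2, ha3⟩
      rw [ha1]; simp only [List.length_append, List.length_cons, List.length_nil]; omega

end exchange

end Groth.Agent.H59.Kosz
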