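import Groth.Agent.H59.KRegIdeal

/-!
# Koszul-regular sequences modulo a regular first element
-/

universe u
open CategoryTheory CochainComplex HomologicalComplex Limits
open scoped Pointwise

namespace Groth.Agent.H59.Kosz

section sgl

variable {A B : Type u} [CommRing A] [CommRing B] (ρ : A →+* B)
  (M : Type u) [AddCommGroup M] [Module A M] (N : Type u) [AddCommGroup N] [Module B N]
  (θ : M ≃+ N) (hθ : ∀ (a : A) (m : M), θ (a • m) = ρ a • θ m)

/-- degreewise bijection between single complexes -/
noncomputable def sglSLEe (n : ℤ) :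
    (sgl (ModuleCat.of A M)).X n ≃+ (sgl (ModuleCat.of B N)).X n :=
  if h : n = 0 then
    (HomologicalComplex.singleObjXIsoOfEq (ComplexShape.up ℤ) 0 (ModuleCat.of A M) n
        h).toLinearEquiv.toAddEquiv.trans
      (θ.trans (HomologicalComplex.singleObjXIsoOfEq (ComplexShape.up ℤ) 0 (ModuleCat.of B N) n
        h).symm.toLinearEquiv.toAddEquiv)
  else
    haveI : Subsingleton ((sgl (ModuleCat.of A M)).X n) := ModuleCat.subsingleton_of_isZero
      (HomologicalComplex.isZero_single_obj_X (ComplexShape.up ℤ) 0 _ n h)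
    haveI : Subsingleton ((sgl (ModuleCat.of B N)).X n) := ModuleCat.subsingleton_of_isZero
      (HomologicalComplex.isZero_single_obj_X (ComplexShape.up ℤ) 0 _ n h)
    { toFun := fun _ => 0
      invFun := fun _ => 0
      map_add' := fun _ _ => by simp
      left_inv := fun _ => Subsingleton.elim _ _
      right_inv := fun _ => Subsingleton.elim _ _ }

include hθ in
/-- semilinear bijection between single complexes -/
noncomputable def sglSLE : SLE ρ (sgl (ModuleCat.of A M)) (sgl (ModuleCat.of B N)) where
  e n := sglSLEe M N θ n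
  smul n a x := by
    by_cases h : n = 0
    · unfold sglSLEe
      rw [dif_pos h]
      set L1 := (HomologicalComplex.singleObjXIsoOfEq (ComplexShape.up ℤ) 0 (ModuleCat.of A M) n
        h).toLinearEquiv with hL1
      set L2 := (HomologicalComplex.singleObjXIsoOfEq (ComplexShape.up ℤ) 0 (ModuleCat.of B N) n
        h).symm.toLinearEquiv with hL2
      show L2 (θ (L1 (a • x))) = ρ a • L2 (θ (L1 x))
      rw [L1.map_smul, hθ, L2.map_smul]
    · haveI : Subsingleton ((sgl (ModuleCat.of B N)).X n) := ModuleCat.subsingleton_of_isZero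
        (HomologicalComplex.isZero_single_obj_X (ComplexShape.up ℤ) 0 _ n h)
      exact Subsingleton.elim _ _
  comm i j x := by
    rw [HomologicalComplex.single_obj_d, HomologicalComplex.single_obj_d]
    simp

end sgl

/-- Koszul-regular sequences modulo a regular first element. -/
theorem kreg_quotient_of_cons {S : Type u} [CommRing S] (u : S) (hu : IsSMulRegular S u)
    (l : List S) (h : LCI.IsKoszulRegularSeq S (u :: l)) :
    LCI.IsKoszulRegularSeq (S ⧸ Ideal.span {u}) (l.map (Ideal.Quotient.mk (Ideal.span {u}))) := by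
  rw [kreg_iff] at h ⊢
  -- step 1: the quasi-isomorphism cone(u) → kz (S/uS) l
  have hS := regSC_shortExact S u hu l
  have hq := mappingCone.quasiIso_descShortComplex hS
  let d : kz (sgl (ModuleCat.of S S)) (u :: l) ⟶ kz (sgl (ModuleCat.of S (QuotSMulTop u S))) l :=
    mappingCone.descShortComplex (regSC S u l)
  have hd : QuasiIso d := hq
  have h1 : ExBelow (kz (sgl (ModuleCat.of S (QuotSMulTop u S))) l) 0 := by
    intro n hn
    rw [ex_iff]
    exact IsZero.of_iso ((ex_iff _ n).mp (h n hn)) (_root_.isoOfQuasiIsoAt d n).symm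
  -- step 2: restriction of scalars
  have hsub : (u • (⊤ : Submodule S S)) = (Ideal.span {u} : Ideal S) := by
    ext x
    rw [Submodule.mem_smul_pointwise_iff_exists, Ideal.mem_span_singleton']
    constructor
    · rintro ⟨y, -, rfl⟩; exact ⟨y, by rw [smul_eq_mul, mul_comm]⟩
    · rintro ⟨y, rfl⟩; exact ⟨y, Submodule.mem_top, by rw [smul_eq_mul, mul_comm]⟩
  let θ : QuotSMulTop u S ≃ₗ[S] (S ⧸ Ideal.span {u}) := Submodule.quotEquivOfEq _ _ hsub
  have hθ : ∀ (a : S) (m : QuotSMulTop u S), θ.toAddEquiv (a • m) =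
      Ideal.Quotient.mk (Ideal.span {u}) a • θ.toAddEquiv m := by
    intro a m
    show θ (a • m) = _
    rw [map_smul]
    rfl
  have s := (sglSLE (Ideal.Quotient.mk (Ideal.span {u})) (QuotSMulTop u S)
    (S ⧸ Ideal.span {u}) θ.toAddEquiv hθ).kz l
  exact s.exBelow h1

end Groth.Agent.H59.Kosz
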