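import Mathlib
import Groth.Agent.H59.KoszSame
import Groth.Agent.H59.KoszQuot
import Groth.Agent.H59.KoszDepth
import Groth.Agent.H59.KoszFlat
import Groth.Agent.H59.KRegIdeal

/-!
# helper59: a Koszul-regular sequence becomes a regular sequence after a polynomial extension

For a Koszul-regular sequence `l` in a ring `A` there are a finite type `σ` and a weakly regular
sequence `gs` in `MvPolynomial σ A` generating the extension of the ideal of `l`.
-/

set_option autoImplicit false
universe u

namespace Groth.Agent.H59.KRegGeneric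

open Polynomial RingTheory.Sequence CategoryTheory Groth.Agent.H59.Kosz
open scoped Pointwise

variable {A : Type u} [CommRing A]

/-- the generic combination `a₀ + a₁ X + a₂ X² + …` of a list. -/
noncomputable def gen : List A → A[X]
  | [] => 0
  | a :: l => C a + X * gen l

lemma X_mul_eq_zero {p : A[X]} (h : X * p = 0) : p = 0 := by
  ext n
  have := congrArg (fun q => coeff q (n + 1)) h
  simpa using this

lemma smul_gen_eq_zero (c : A) : ∀ l : List A, c • gen l = 0 → ∀ x ∈ l, c * x = 0
  | [], _ => by simp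
  | a :: l, h => by
    have h' : C (c * a) + X * (c • gen l) = 0 := by
      rw [gen, smul_add, smul_C, smul_eq_mul] at h
      rw [mul_smul_comm]
      exact h
    have h0 : c * a = 0 := by
      have := congrArg (fun p => coeff p 0) h'
      simpa using this
    have h1 : c • gen l = 0 := by
      rw [h0, C_0, zero_add] at h'
      exact X_mul_eq_zero h'
    intro x hx
    rcases List.mem_cons.mp hx with rfl | hx
    · exact h0
    · exact smul_gen_eq_zero c l h1 x hx

lemma gen_mem : ∀ l : List A, gen l ∈ Ideal.ofList (l.map C)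
  | [] => by simp [gen]
  | a :: l => by
    rw [gen, List.map_cons, Ideal.ofList_cons]
    exact Ideal.add_mem _ (Ideal.mem_sup_left (Ideal.mem_span_singleton_self _))
      (Ideal.mem_sup_right (Ideal.mul_mem_left _ _ (gen_mem l)))

/-- The annihilator of a nonempty Koszul-regular sequence is zero. -/
lemma eq_zero_of_kreg (l : List A) (hl : LCI.IsKoszulRegularSeq A l) (hne : l ≠ [])
    (c : A) (hc : ∀ x ∈ l, c * x = 0) : c = 0 := by
  by_contra hc0
  have h1 := not_isZero_bottom A l c hc0 (fun x hx => by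
    rw [smul_eq_mul, mul_comm]; exact hc x hx)
  have h2 := (kreg_iff l).mp hl (-(l.length : ℤ)) (by
    have : 0 < l.length := List.length_pos_of_ne_nil hne
    omega)
  exact h1 ((ex_iff _ _).mp h2)

lemma isSMulRegular_gen (l : List A) (hl : LCI.IsKoszulRegularSeq A l) (hne : l ≠ []) :
    IsSMulRegular A[X] (gen l) := by
  have hmem : gen l ∈ nonZeroDivisors A[X] := by
    rw [Polynomial.mem_nonZeroDivisors_iff]
    intro c hc
    exact eq_zero_of_kreg l hl hne c (smul_gen_eq_zero c l hc)
  intro x y hxy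
  have h0 : gen l * (x - y) = 0 := by
    rw [mul_sub]; exact sub_eq_zero.mpr hxy
  have := (mul_left_mem_nonZeroDivisors_eq_zero_iff hmem).mp (by rwa [mul_comm] at h0)
  exact sub_eq_zero.mp this

/-- The key step: modulo the generic combination, the tail stays Koszul-regular. -/
lemma kreg_step (a : A) (l₀ : List A) (hl : LCI.IsKoszulRegularSeq A (a :: l₀)) :
    LCI.IsKoszulRegularSeq (A[X] ⧸ Ideal.span {gen (a :: l₀)})
      ((l₀.map C).map (Ideal.Quotient.mk (Ideal.span {gen (a :: l₀)}))) := by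
  have hreg := isSMulRegular_gen (a :: l₀) hl (List.cons_ne_nil _ _)
  have h1 : LCI.IsKoszulRegularSeq A[X] ((a :: l₀).map (algebraMap A A[X])) :=
    isKoszulRegularSeq_of_flat (a :: l₀) hl
  have h2 : LCI.IsKoszulRegularSeq A[X] (gen (a :: l₀) :: l₀.map C) := by
    refine isKoszulRegularSeq_of_same_length _ _ h1 (by simp) ?_
    intro x hx
    rw [List.map_cons, List.mem_cons] at hx
    have hsp : Ideal.span {y | y ∈ gen (a :: l₀) :: l₀.map C} =
        Ideal.span {gen (a :: l₀)} ⊔ Ideal.ofList (l₀.map C) := Ideal.ofList_cons _ _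
    rw [hsp]
    rcases hx with rfl | hx
    · have : algebraMap A A[X] a = gen (a :: l₀) - X * gen l₀ := by
        rw [gen, ← Polynomial.C_eq_algebraMap]; ring
      rw [this]
      exact Ideal.sub_mem _ (Ideal.mem_sup_left (Ideal.mem_span_singleton_self _))
        (Ideal.mem_sup_right (Ideal.mul_mem_left _ _ (gen_mem l₀)))
    · exact Ideal.mem_sup_right (Ideal.subset_span hx)
  exact kreg_quotient_of_cons _ hreg _ h2


lemma eq_of_map_eq {R S : Type u} [CommRing R] [CommRing S] (π : R →+* S)
    (hπ : Function.Surjective π) (I J : Ideal R) (hI : RingHom.ker π ≤ I) (hJ : RingHom.ker π ≤ J)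
    (h : I.map π = J.map π) : I = J := by
  have h1 := Ideal.comap_map_of_surjective π hπ I
  have h2 := Ideal.comap_map_of_surjective π hπ J
  rw [← RingHom.ker_eq_comap_bot, sup_of_le_left hI] at h1
  rw [← RingHom.ker_eq_comap_bot, sup_of_le_left hJ] at h2
  rw [← h1, ← h2, h]

/-- lifting a weakly regular sequence from `(A₁/g₁)[σ]` to `A₁[σ]`. -/
lemma lift_step (A₁ : Type u) [CommRing A₁] (g₁ : A₁) (hreg : IsSMulRegular A₁ g₁) (σ : Type)
    (gs' : List (MvPolynomial σ A₁))
    (h : IsWeaklyRegular (MvPolynomial σ (A₁ ⧸ Ideal.span {g₁}))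
      (gs'.map (MvPolynomial.map (Ideal.Quotient.mk (Ideal.span {g₁}))))) :
    IsWeaklyRegular (MvPolynomial σ A₁) (MvPolynomial.C g₁ :: gs') := by
  set π : MvPolynomial σ A₁ →+* MvPolynomial σ (A₁ ⧸ Ideal.span {g₁}) :=
    MvPolynomial.map (Ideal.Quotient.mk (Ideal.span {g₁})) with hπdef
  have hπ : Function.Surjective π :=
    MvPolynomial.map_surjective _ Ideal.Quotient.mk_surjective
  have hkerπ : RingHom.ker π = Ideal.span {MvPolynomial.C g₁} := by
    rw [hπdef, MvPolynomial.ker_map, Ideal.mk_ker, Ideal.map_span, Set.image_singleton]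
  have hC : IsSMulRegular (MvPolynomial σ A₁) (MvPolynomial.C g₁ : MvPolynomial σ A₁) := by
    have h1 : IsWeaklyRegular A₁ [g₁] := (isWeaklyRegular_singleton_iff A₁ g₁).mpr hreg
    have h2 := h1.of_flat (S := MvPolynomial σ A₁)
    rw [List.map_singleton, isWeaklyRegular_singleton_iff] at h2
    exact h2
  refine IsWeaklyRegular.cons hC ?_
  letI : Algebra (MvPolynomial σ A₁) (MvPolynomial σ (A₁ ⧸ Ideal.span {g₁})) := π.toAlgebra
  have hker : ((MvPolynomial.C g₁ : MvPolynomial σ A₁) • ⊤ :
      Submodule (MvPolynomial σ A₁) (MvPolynomial σ A₁)) =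
      LinearMap.ker (Algebra.linearMap (MvPolynomial σ A₁)
        (MvPolynomial σ (A₁ ⧸ Ideal.span {g₁}))) := by
    ext x
    rw [Submodule.mem_smul_pointwise_iff_exists, LinearMap.mem_ker, Algebra.linearMap_apply]
    show _ ↔ π x = 0
    rw [← RingHom.mem_ker, hkerπ, Ideal.mem_span_singleton']
    constructor
    · rintro ⟨y, _, rfl⟩; exact ⟨y, by rw [smul_eq_mul, mul_comm]⟩
    · rintro ⟨y, rfl⟩; exact ⟨y, trivial, by rw [smul_eq_mul, mul_comm]⟩
  have hsurj : Function.Surjective (Algebra.linearMap (MvPolynomial σ A₁)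
        (MvPolynomial σ (A₁ ⧸ Ideal.span {g₁}))) := hπ
  let eq : QuotSMulTop (MvPolynomial.C g₁) (MvPolynomial σ A₁) ≃ₗ[MvPolynomial σ A₁]
      MvPolynomial σ (A₁ ⧸ Ideal.span {g₁}) :=
    (Submodule.quotEquivOfEq _ _ hker).trans (LinearMap.quotKerEquivOfSurjective _ hsurj)
  refine (eq.isWeaklyRegular_congr gs').mpr ?_
  exact (isWeaklyRegular_map_algebraMap_iff (R := MvPolynomial σ A₁)
    (S := MvPolynomial σ (A₁ ⧸ Ideal.span {g₁})) (M := MvPolynomial σ (A₁ ⧸ Ideal.span {g₁}))
    gs').mp h


lemma ideal_step (A₁ : Type u) [CommRing A₁] (g₁ a' : A₁) (L₀ : List A₁)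
    (hg : g₁ ∈ Ideal.ofList (a' :: L₀)) (ha : a' - g₁ ∈ Ideal.ofList L₀) (σ : Type)
    (gs' : List (MvPolynomial σ A₁))
    (h : Ideal.ofList (gs'.map (MvPolynomial.map (Ideal.Quotient.mk (Ideal.span {g₁})))) =
      (Ideal.ofList (L₀.map (Ideal.Quotient.mk (Ideal.span {g₁})))).map
        (MvPolynomial.C : (A₁ ⧸ Ideal.span {g₁}) →+* MvPolynomial σ (A₁ ⧸ Ideal.span {g₁}))) :
    Ideal.ofList ((MvPolynomial.C g₁ : MvPolynomial σ A₁) :: gs') =
      (Ideal.ofList (a' :: L₀)).map (MvPolynomial.C : A₁ →+* MvPolynomial σ A₁) := by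
  set π : MvPolynomial σ A₁ →+* MvPolynomial σ (A₁ ⧸ Ideal.span {g₁}) :=
    MvPolynomial.map (Ideal.Quotient.mk (Ideal.span {g₁})) with hπdef
  have hπ : Function.Surjective π :=
    MvPolynomial.map_surjective _ Ideal.Quotient.mk_surjective
  have hkerπ : RingHom.ker π = Ideal.span {(MvPolynomial.C g₁ : MvPolynomial σ A₁)} := by
    rw [hπdef, MvPolynomial.ker_map, Ideal.mk_ker, Ideal.map_span, Set.image_singleton]
  have hmk0 : Ideal.Quotient.mk (Ideal.span {g₁}) g₁ = 0 :=
    Ideal.Quotient.eq_zero_iff_mem.mpr (Ideal.mem_span_singleton_self _)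
  apply eq_of_map_eq π hπ
  · rw [hkerπ, Ideal.ofList_cons]; exact le_sup_left
  · rw [hkerπ, Ideal.span_le, Set.singleton_subset_iff]
    exact Ideal.mem_map_of_mem _ hg
  · have hL : (Ideal.ofList ((MvPolynomial.C g₁ : MvPolynomial σ A₁) :: gs')).map π =
        Ideal.ofList (gs'.map π) := by
      have h1 := span_list_map π ((MvPolynomial.C g₁ : MvPolynomial σ A₁) :: gs')
      have h2 : Ideal.span {x | x ∈ ((MvPolynomial.C g₁ : MvPolynomial σ A₁) :: gs').map π} =
          Ideal.ofList (π (MvPolynomial.C g₁) :: gs'.map π) := by rw [List.map_cons]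
      have h3 : π (MvPolynomial.C g₁) = 0 := by
        rw [hπdef, MvPolynomial.map_C, hmk0, map_zero]
      rw [h1, h2, Ideal.ofList_cons, h3, Ideal.span_singleton_eq_bot.mpr rfl, bot_sup_eq]
    have hcomp : π.comp (MvPolynomial.C : A₁ →+* MvPolynomial σ A₁) =
        (MvPolynomial.C : (A₁ ⧸ Ideal.span {g₁}) →+* MvPolynomial σ (A₁ ⧸ Ideal.span {g₁})).comp
          (Ideal.Quotient.mk (Ideal.span {g₁})) := by
      ext x
      simp [hπdef]
    have hmk : (Ideal.ofList (a' :: L₀)).map (Ideal.Quotient.mk (Ideal.span {g₁})) =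
        Ideal.ofList (L₀.map (Ideal.Quotient.mk (Ideal.span {g₁}))) := by
      have h1 := span_list_map (Ideal.Quotient.mk (Ideal.span {g₁})) (a' :: L₀)
      have h1' := span_list_map (Ideal.Quotient.mk (Ideal.span {g₁})) L₀
      have h2 : Ideal.span {x | x ∈ (a' :: L₀).map (Ideal.Quotient.mk (Ideal.span {g₁}))} =
          Ideal.ofList (Ideal.Quotient.mk (Ideal.span {g₁}) a' ::
            L₀.map (Ideal.Quotient.mk (Ideal.span {g₁}))) := by rw [List.map_cons]
      rw [h1, h2, Ideal.ofList_cons]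
      refine sup_eq_right.mpr ?_
      rw [Ideal.span_le, Set.singleton_subset_iff]
      have h3 : Ideal.Quotient.mk (Ideal.span {g₁}) a' =
          Ideal.Quotient.mk (Ideal.span {g₁}) (a' - g₁) := by
        rw [map_sub, hmk0, sub_zero]
      rw [h3]
      show _ ∈ Ideal.span {x | x ∈ L₀.map (Ideal.Quotient.mk (Ideal.span {g₁}))}
      rw [← h1']
      exact Ideal.mem_map_of_mem _ ha
    rw [hL, h, Ideal.map_map, hcomp, ← Ideal.map_map, hmk]


/-- transport of a weakly regular sequence along a ring isomorphism -/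
lemma isWeaklyRegular_ringEquiv {B B' : Type u} [CommRing B] [CommRing B'] (e : B ≃+* B')
    (gs : List B) (h : IsWeaklyRegular B gs) : IsWeaklyRegular B' (gs.map e) := by
  refine (AddEquiv.isWeaklyRegular_congr (e := e.toAddEquiv) ?_).mp h
  exact List.forall₂_map_right_iff.mpr (List.forall₂_same.mpr (fun r _ x => map_mul e r x))

/-- **Main algebraic statement**: a Koszul-regular sequence generates, after a polynomial
extension, an ideal generated by a (weakly) regular sequence. -/
theorem exists_weaklyRegular_aux : ∀ (r : ℕ) (A : Type u) [CommRing A] (l : List A),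
    l.length = r → LCI.IsKoszulRegularSeq A l →
    ∃ (σ : Type) (_ : Finite σ) (gs : List (MvPolynomial σ A)),
      IsWeaklyRegular (MvPolynomial σ A) gs ∧
        Ideal.ofList gs = (Ideal.ofList l).map (MvPolynomial.C : A →+* MvPolynomial σ A) := by
  intro r
  induction r with
  | zero =>
    intro A _ l hlen _
    obtain rfl : l = [] := List.length_eq_zero_iff.mp hlen
    refine ⟨PEmpty, inferInstance, [], IsWeaklyRegular.nil _ _, ?_⟩
    rw [Ideal.ofList_nil, Ideal.ofList_nil, Ideal.map_bot]
  | succ r ih =>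
    intro A _ l hlen hl
    obtain ⟨a, l₀, rfl⟩ : ∃ a l₀, l = a :: l₀ := by
      cases l with
      | nil => simp at hlen
      | cons a l₀ => exact ⟨a, l₀, rfl⟩
    have hlen₀ : ((l₀.map C).map (Ideal.Quotient.mk (Ideal.span {gen (a :: l₀)}))).length = r := by
      simpa using hlen
    obtain ⟨σ, hσ, gsb, hgsb, hIb⟩ := ih (A[X] ⧸ Ideal.span {gen (a :: l₀)}) _ hlen₀
      (kreg_step a l₀ hl)
    have hπ : Function.Surjective (MvPolynomial.map (σ := σ)
        (Ideal.Quotient.mk (Ideal.span {gen (a :: l₀)}))) :=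
      MvPolynomial.map_surjective _ Ideal.Quotient.mk_surjective
    obtain ⟨gs', rfl⟩ := List.map_surjective_iff.mpr hπ gsb
    have hreg := isSMulRegular_gen (a :: l₀) hl (List.cons_ne_nil _ _)
    have hW := lift_step A[X] (gen (a :: l₀)) hreg σ gs' hgsb
    have hg : gen (a :: l₀) ∈ Ideal.ofList (C a :: l₀.map C) := gen_mem (a :: l₀)
    have ha : C a - gen (a :: l₀) ∈ Ideal.ofList (l₀.map C) := by
      have : C a - gen (a :: l₀) = -(X * gen l₀) := by rw [gen]; ring
      rw [this]
      exact (Ideal.neg_mem_iff _).mpr (Ideal.mul_mem_left _ _ (gen_mem l₀))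
    have hE := ideal_step A[X] (gen (a :: l₀)) (C a) (l₀.map C) hg ha σ gs' hIb
    let e : MvPolynomial σ A[X] ≃+* MvPolynomial (Option σ) A :=
      (MvPolynomial.optionEquivRight A σ).symm.toRingEquiv
    refine ⟨Option σ, inferInstance, ((MvPolynomial.C (gen (a :: l₀)) :: gs').map e),
      isWeaklyRegular_ringEquiv e _ hW, ?_⟩
    have h1 := span_list_map (e : MvPolynomial σ A[X] →+* MvPolynomial (Option σ) A)
      (MvPolynomial.C (gen (a :: l₀)) :: gs')
    have h2 := span_list_map (C : A →+* A[X]) (a :: l₀)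
    have hcomp : ((e : MvPolynomial σ A[X] →+* MvPolynomial (Option σ) A).comp
        (MvPolynomial.C : A[X] →+* MvPolynomial σ A[X])).comp (C : A →+* A[X]) =
        (MvPolynomial.C : A →+* MvPolynomial (Option σ) A) := by
      refine RingHom.ext (fun x => ?_)
      show (MvPolynomial.optionEquivRight A σ).symm (MvPolynomial.C (C x)) = MvPolynomial.C x
      rw [← MvPolynomial.optionEquivRight_C, AlgEquiv.symm_apply_apply]
    show Ideal.span {x | x ∈ (MvPolynomial.C (gen (a :: l₀)) :: gs').map e} = _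
    have h1' : Ideal.span {x | x ∈ (MvPolynomial.C (gen (a :: l₀)) :: gs').map e} =
        Ideal.span {x | x ∈ (MvPolynomial.C (gen (a :: l₀)) :: gs').map
          (e : MvPolynomial σ A[X] →+* MvPolynomial (Option σ) A)} := rfl
    rw [h1', ← h1]
    have hE' : Ideal.span {x | x ∈ (MvPolynomial.C (gen (a :: l₀)) : MvPolynomial σ A[X]) :: gs'} =
      (Ideal.ofList (List.map (⇑C) (a :: l₀))).map
        (MvPolynomial.C : A[X] →+* MvPolynomial σ A[X]) := hE
    rw [hE']
    show ((Ideal.span {x | x ∈ List.map (⇑(C : A →+* A[X])) (a :: l₀)}).map _).map _ = _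
    rw [← h2, Ideal.map_map, Ideal.map_map, hcomp]

theorem exists_weaklyRegular (A : Type u) [CommRing A] (l : List A)
    (hl : LCI.IsKoszulRegularSeq A l) :
    ∃ (σ : Type) (_ : Finite σ) (gs : List (MvPolynomial σ A)),
      IsWeaklyRegular (MvPolynomial σ A) gs ∧
        Ideal.ofList gs = (Ideal.ofList l).map (algebraMap A (MvPolynomial σ A)) :=
  exists_weaklyRegular_aux l.length A l rfl hl

end Groth.Agent.H59.KRegGeneric
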