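import Groth.Agent.H59.KoszQuot

/-!
# Key lemma: dividing a Koszul-regular ideal of `P[X]` by an element with unit derivative
-/

universe u
open CategoryTheory CochainComplex HomologicalComplex Limits Polynomial

namespace Groth.Agent.H59.Kosz

/-- coefficient extraction -/
lemma exists_coeff {T : Type u} [CommRing T] (q : Ideal T) [q.IsPrime] (l : List T) :
    ∀ (w : T), w ∈ Ideal.span {x | x ∈ l} → w ∉ q * Ideal.span {x | x ∈ l} →
    ∃ (x₀ : T) (t : List T), l.Perm (x₀ :: t) ∧ ∃ c : T, c ∉ q ∧
      w - c * x₀ ∈ Ideal.span {x | x ∈ t} := by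
  induction l with
  | nil =>
    intro w hw hw'
    exfalso
    apply hw'
    have : w = 0 := by simpa using hw
    rw [this]; exact Ideal.zero_mem _
  | cons x t ih =>
    intro w hw hw'
    have hsp : Ideal.span {y | y ∈ x :: t} = Ideal.span {x} ⊔ Ideal.span {y | y ∈ t} :=
      Ideal.ofList_cons x t
    rw [hsp, Submodule.mem_sup] at hw
    obtain ⟨a, ha, w', hw'', rfl⟩ := hw
    obtain ⟨c, rfl⟩ := Ideal.mem_span_singleton'.mp ha
    by_cases hc : c ∈ q
    · have h1 : w' ∉ q * Ideal.span {y | y ∈ t} := by
        intro h2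
        apply hw'
        refine Ideal.add_mem _ ?_ ?_
        · exact Ideal.mul_mem_mul hc (Ideal.subset_span (List.mem_cons_self))
        · exact Ideal.mul_mono_right (Ideal.span_mono (fun y hy => List.mem_cons_of_mem _ hy)) h2
      obtain ⟨x₀, t', hperm, c', hc', hmem⟩ := ih w' hw'' h1
      refine ⟨x₀, x :: t', ?_, c', hc', ?_⟩
      · exact (List.Perm.cons x hperm).trans (List.Perm.swap x₀ x t')
      · have : c * x + w' - c' * x₀ = c * x + (w' - c' * x₀) := by ring
        rw [this]
        refine Ideal.add_mem _ ?_ ?_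
        · exact Ideal.mul_mem_left _ _ (Ideal.subset_span (List.mem_cons_self))
        · exact Ideal.span_mono (fun y hy => List.mem_cons_of_mem _ hy) hmem
    · refine ⟨x, t, List.Perm.refl _, c, hc, ?_⟩
      have : c * x + w' - c * x = w' := by ring
      rw [this]; exact hw''

/-- the derivative maps `q * I` into `q` when `I ≤ q` -/
lemma derivative_mem_of_mem_mul {P : Type u} [CommRing P] (q I : Ideal P[X]) (hIq : I ≤ q)
    (z : P[X]) (hz : z ∈ q * I) : derivative z ∈ q := by
  refine Submodule.mul_induction_on hz ?_ ?_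
  · intro m hm n hn
    rw [derivative_mul]
    exact Ideal.add_mem _ (Ideal.mul_mem_left _ _ (hIq hn)) (Ideal.mul_mem_right _ _ hm)
  · intro x y hx hy
    rw [derivative_add]; exact Ideal.add_mem _ hx hy

/-- an element with unit derivative modulo `I ≤ q` is not in `q * I`, even up to multiplication by
elements outside `q` -/
lemma not_mem_mul_of_derivative {P : Type u} [CommRing P] (q I : Ideal P[X]) [q.IsPrime]
    (hIq : I ≤ q) (u v : P[X]) (hu : u ∈ I) (hv : v * derivative u - 1 ∈ I) (s : P[X])
    (hs : s ∉ q) : s * u ∉ q * I := by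
  intro h
  have h1 := derivative_mem_of_mem_mul q I hIq _ h
  rw [derivative_mul] at h1
  have h2 : derivative s * u ∈ q := hIq (Ideal.mul_mem_left _ _ hu)
  have h3 : s * derivative u ∈ q := (Ideal.add_mem_iff_right _ h2).mp h1
  have h4 : derivative u ∈ q := (Ideal.IsPrime.mem_or_mem inferInstance h3).resolve_left hs
  have h5 : (1 : P[X]) ∈ q := by
    have := Ideal.sub_mem _ (Ideal.mul_mem_left _ v h4) (hIq hv)
    simpa using this
  exact (Ideal.IsPrime.ne_top inferInstance) ((Ideal.eq_top_iff_one _).mpr h5)


lemma span_perm {T : Type u} [CommRing T] {l l' : List T} (h : l.Perm l') :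
    Ideal.span {x | x ∈ l} = Ideal.span {x | x ∈ l'} := by
  congr 1
  ext y
  exact h.mem_iff

set_option maxHeartbeats 1600000 in
/-- **Key lemma**, abstract form. -/
theorem kregIdeal_map_of_quot_aux {T R : Type u} [CommRing T] [CommRing R] (I' : Ideal T)
    (hI' : LCI.IsKoszulRegularIdeal I') (u : T) (hu : u ∈ I') (hreg : IsSMulRegular T u)
    (hmin : ∀ (q : Ideal T) [q.IsPrime], I' ≤ q → ∀ s : T, s ∉ q → s * u ∉ q * I')
    (π : T →+* R) (hπ : Function.Surjective π) (hker : RingHom.ker π = Ideal.span {u}) :
    LCI.IsKoszulRegularIdeal (I'.map π) := by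
  classical
  apply kregIdeal_intro
  intro 𝔭 h𝔭
  let 𝔮 : Ideal T := 𝔭.asIdeal.comap π
  haveI h𝔮 : 𝔮.IsPrime := Ideal.comap_isPrime π 𝔭.asIdeal
  have hI𝔮 : I' ≤ 𝔮 := Ideal.map_le_iff_le_comap.mp h𝔭
  obtain ⟨g', hg', l', hl', hspan⟩ := hI' ⟨𝔮, h𝔮⟩ hI𝔮
  let 𝔮' : Ideal (Localization.Away g') := 𝔮.map (algebraMap T (Localization.Away g'))
  have hdisj : Disjoint (Submonoid.powers g' : Set T) (𝔮 : Set T) := by
    rw [Set.disjoint_left]
    rintro x ⟨n, rfl⟩ hx
    exact hg' (Ideal.IsPrime.mem_of_pow_mem h𝔮 n hx)
  haveI h𝔮' : 𝔮'.IsPrime :=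
    IsLocalization.isPrime_of_isPrime_disjoint (Submonoid.powers g') (Localization.Away g') 𝔮
      h𝔮 hdisj
  have hcomap : ∀ x : T, algebraMap T (Localization.Away g') x ∈ 𝔮' → x ∈ 𝔮 := by
    intro x hx
    have := IsLocalization.under_map_of_isPrime_disjoint (Submonoid.powers g')
      (Localization.Away g') h𝔮 hdisj
    rw [← this]
    exact hx
  -- the image of u
  have hw : algebraMap T (Localization.Away g') u ∈ Ideal.span {x | x ∈ l'} := by
    rw [← hspan]; exact Ideal.mem_map_of_mem _ hu
  have hw' : algebraMap T (Localization.Away g') u ∉ 𝔮' * Ideal.span {x | x ∈ l'} := by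
    intro hmem
    rw [← hspan, ← Ideal.map_mul] at hmem
    obtain ⟨⟨⟨a, ha⟩, ⟨s, hs⟩⟩, hsa⟩ :=
      (IsLocalization.mem_map_algebraMap_iff (Submonoid.powers g') (Localization.Away g')).mp hmem
    simp only at hsa
    rw [← map_mul] at hsa
    obtain ⟨⟨c, hc⟩, hc'⟩ :=
      (IsLocalization.eq_iff_exists (Submonoid.powers g') (Localization.Away g')).mp hsa
    simp only at hc'
    have hcs : c * s ∉ 𝔮 := by
      intro h
      rcases Ideal.IsPrime.mem_or_mem h𝔮 h with h | h
      · exact Set.disjoint_left.mp hdisj hc h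
      · exact Set.disjoint_left.mp hdisj hs h
    apply hmin 𝔮 hI𝔮 (c * s) hcs
    have : c * s * u = c * a := by rw [← hc']; ring
    rw [this]
    exact Ideal.mul_mem_left _ _ ha
  obtain ⟨x₀, t, hperm, c, hc, hmem⟩ := exists_coeff 𝔮' l' _ hw hw'
  -- clear the denominator of c
  obtain ⟨N, C₀, hC₀⟩ := IsLocalization.Away.surj (S := Localization.Away g') g' c
  have hC₀𝔮 : C₀ ∉ 𝔮 := by
    intro h
    have h1 : algebraMap T (Localization.Away g') C₀ ∈ 𝔮' := Ideal.mem_map_of_mem _ h
    rw [← hC₀] at h1
    rcases Ideal.IsPrime.mem_or_mem h𝔮' h1 with h2 | h2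
    · exact hc h2
    · have h3 : IsUnit (algebraMap T (Localization.Away g') g' ^ N) :=
        (IsLocalization.Away.algebraMap_isUnit g').pow N
      exact (Ideal.IsPrime.ne_top h𝔮') (Ideal.eq_top_of_isUnit_mem _ h2 h3)
  -- the further localization
  let c₀ : Localization.Away g' := algebraMap T (Localization.Away g') C₀
  let T'' := Localization.Away c₀
  haveI : IsLocalization.Away (g' * C₀) T'' :=
    IsLocalization.Away.mul' (Localization.Away g') T'' g' C₀
  have hgC : g' * C₀ ∉ 𝔮 := fun h =>
    (Ideal.IsPrime.mem_or_mem h𝔮 h).elim hg' hC₀𝔮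
  let al : Localization.Away g' →+* T'' := algebraMap (Localization.Away g') T''
  have hcu : IsUnit (al c) := by
    have h1 : al c * al (algebraMap T (Localization.Away g') g' ^ N) = al c₀ := by
      rw [← map_mul, hC₀]
    have h2 : IsUnit (al c₀) := IsLocalization.Away.algebraMap_isUnit c₀
    rw [← h1] at h2
    exact isUnit_of_mul_isUnit_left h2
  haveI : Module.Flat (Localization.Away g') T'' :=
    IsLocalization.flat T'' (Submonoid.powers c₀)
  haveI : Module.Flat T T'' := IsLocalization.flat T'' (Submonoid.powers (g' * C₀))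
  -- the new sequence
  let u'' : T'' := algebraMap T T'' u
  have hu'' : u'' = al (algebraMap T (Localization.Away g') u) :=
    IsScalarTower.algebraMap_apply T (Localization.Away g') T'' u
  let l'' : List T'' := u'' :: t.map al
  have hk1 : LCI.IsKoszulRegularSeq T'' ((x₀ :: t).map al) :=
    isKoszulRegularSeq_of_flat _ (isKoszulRegularSeq_perm hperm hl')
  have hx₀ : al x₀ ∈ Ideal.span {y | y ∈ l''} := by
    have h1 : al (algebraMap T (Localization.Away g') u - c * x₀) ∈
        Ideal.span {y | y ∈ l''} := by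
      have : al (algebraMap T (Localization.Away g') u - c * x₀) ∈
          (Ideal.span {y | y ∈ t}).map al := Ideal.mem_map_of_mem _ hmem
      rw [span_list_map] at this
      exact Ideal.span_mono (fun y hy => List.mem_cons_of_mem _ hy) this
    rw [map_sub, map_mul, ← hu''] at h1
    have h2 : u'' ∈ Ideal.span {y | y ∈ l''} := Ideal.subset_span (List.mem_cons_self)
    have h3 : al c * al x₀ ∈ Ideal.span {y | y ∈ l''} := by
      have := Ideal.sub_mem _ h2 h1
      simpa using this
    exact (Ideal.unit_mul_mem_iff_mem _ hcu).mp h3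
  have hk2 : LCI.IsKoszulRegularSeq T'' l'' := by
    refine isKoszulRegularSeq_of_same_length _ l'' hk1 (by simp [l'']) ?_
    intro y hy
    rw [List.map_cons, List.mem_cons] at hy
    rcases hy with rfl | hy
    · exact hx₀
    · exact Ideal.subset_span (List.mem_cons_of_mem _ hy)
  have hregu : IsSMulRegular T'' u'' := IsSMulRegular.of_flat hreg
  have hk3 := kreg_quotient_of_cons u'' hregu (t.map al) hk2
  -- the target localization
  refine ⟨π (g' * C₀), hgC, Localization.Away (π (g' * C₀)), inferInstance, inferInstance,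
    inferInstance, ?_⟩
  have hpow : Submonoid.map π (Submonoid.powers (g' * C₀)) = Submonoid.powers (π (g' * C₀)) :=
    Submonoid.map_powers π (g' * C₀)
  haveI : IsLocalization (Submonoid.map π (Submonoid.powers (g' * C₀)))
      (Localization.Away (π (g' * C₀))) := by
    rw [hpow]; infer_instance
  let φ : T'' →+* Localization.Away (π (g' * C₀)) :=
    IsLocalization.map (Localization.Away (π (g' * C₀))) π
      (hpow.symm ▸ (Submonoid.powers (g' * C₀)).le_comap_map)
  have hφs : Function.Surjective φ :=
    IsLocalization.map_surjective_of_surjective (Submonoid.powers (g' * C₀)) T''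
      (Localization.Away (π (g' * C₀))) hπ
  have hφk : RingHom.ker φ = Ideal.span {u''} := by
    have := IsLocalization.ker_map (S := T'') (Localization.Away (π (g' * C₀))) π hpow
    rw [this, hker, Ideal.map_span, Set.image_singleton]
  have hφc : φ.comp (algebraMap T T'') = (algebraMap R (Localization.Away (π (g' * C₀)))).comp π :=
    IsLocalization.map_comp _
  let ψ : (T'' ⧸ Ideal.span {u''}) ≃+* Localization.Away (π (g' * C₀)) :=
    (Ideal.quotEquivOfEq hφk.symm).trans (RingHom.quotientKerEquivOfSurjective hφs)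
  have hψ : ∀ x : T'', ψ (Ideal.Quotient.mk _ x) = φ x := fun x => rfl
  refine ⟨(t.map al).map φ, ?_, ?_⟩
  · have := kreg_ringEquiv ψ _ hk3
    rw [List.map_map] at this
    convert this using 2
    funext x
    exact (hψ x).symm
  · -- generation
    have e1 : I'.map (algebraMap T T'') = Ideal.span {y | y ∈ l''} := by
      have h0 : I'.map (algebraMap T T'') = Ideal.span {y | y ∈ (x₀ :: t).map al} := by
        rw [IsScalarTower.algebraMap_eq T (Localization.Away g') T'', ← Ideal.map_map, hspan,
          span_list_map, span_perm (hperm.map al)]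
      apply le_antisymm
      · rw [h0, Ideal.span_le]
        intro y hy
        rw [Set.mem_ofPred_eq, List.map_cons, List.mem_cons] at hy
        rcases hy with rfl | hy
        · exact hx₀
        · exact Ideal.subset_span (List.mem_cons_of_mem _ hy)
      · rw [Ideal.span_le]
        intro y hy
        rw [Set.mem_ofPred_eq, List.mem_cons] at hy
        rcases hy with rfl | hy
        · exact Ideal.mem_map_of_mem _ hu
        · rw [h0]
          exact Ideal.subset_span (by
            rw [Set.mem_ofPred_eq, List.map_cons]; exact List.mem_cons_of_mem _ hy)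
    rw [Ideal.map_map, ← hφc, ← Ideal.map_map, e1, span_list_map]
    have hφu : φ u'' = 0 := by
      rw [← RingHom.mem_ker, hφk]; exact Ideal.subset_span rfl
    apply le_antisymm
    · rw [Ideal.span_le]
      intro y hy
      rw [Set.mem_ofPred_eq, List.map_cons, List.mem_cons] at hy
      rcases hy with rfl | hy
      · rw [hφu]; exact Ideal.zero_mem _
      · exact Ideal.subset_span hy
    · apply Ideal.span_mono
      intro y hy
      rw [Set.mem_ofPred_eq, List.map_cons]
      exact List.mem_cons_of_mem _ hy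

end Groth.Agent.H59.Kosz
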