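import Groth.Agent.H59.KRegMv

/-!
# Koszul-regular ideals and principal localizations
-/

universe u
open Polynomial

namespace Groth.Agent.H59.Kosz

section awayPoly
variable {P : Type u} [CommRing P] (G : P)

lemma isSMulRegular_C_mul_X_sub_one : IsSMulRegular P[X] (C G * X - 1) := by
  intro f₁ f₂ h
  have h0 : (C G * X - 1) * (f₁ - f₂) = 0 := by
    have : (C G * X - 1) * f₁ = (C G * X - 1) * f₂ := h
    rw [mul_sub, this, sub_self]
  suffices hz : f₁ - f₂ = 0 from sub_eq_zero.mp hz
  set f := f₁ - f₂ with hf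
  have h1 : f = C G * X * f := by
    have : (C G * X - 1) * f = C G * X * f - f := by ring
    rw [this, sub_eq_zero] at h0
    exact h0.symm
  have key : ∀ n, f.coeff n = 0 := by
    intro n
    induction n with
    | zero =>
      rw [h1, mul_assoc, coeff_C_mul, coeff_X_mul_zero, mul_zero]
    | succ n ih =>
      rw [h1, mul_assoc, coeff_C_mul, coeff_X_mul, ih, mul_zero]
  ext n
  rw [key n, coeff_zero]

/-- `P[X] → P_G`, `X ↦ 1/G` -/
noncomputable def piG : P[X] →+* Localization.Away G :=
  ((Localization.awayEquivAdjoin G).symm.toRingEquiv :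
      AdjoinRoot (C G * X - 1) →+* Localization.Away G).comp (AdjoinRoot.mk (C G * X - 1))

lemma piG_surjective : Function.Surjective (piG G) :=
  (Localization.awayEquivAdjoin G).symm.surjective.comp AdjoinRoot.mk_surjective

lemma piG_ker : RingHom.ker (piG G) = Ideal.span {C G * X - 1} := by
  unfold piG
  rw [← RingHom.comap_ker]
  have : RingHom.ker ((Localization.awayEquivAdjoin G).symm.toRingEquiv :
      AdjoinRoot (C G * X - 1) →+* Localization.Away G) = ⊥ :=
    (RingHom.injective_iff_ker_eq_bot _).mp (Localization.awayEquivAdjoin G).symm.injective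
  rw [this, ← RingHom.ker_eq_comap_bot]
  exact Ideal.mk_ker

lemma piG_C (p : P) : piG G (C p) = algebraMap P (Localization.Away G) p := by
  unfold piG
  rw [RingHom.comp_apply, AdjoinRoot.mk_C, ← AdjoinRoot.algebraMap_eq]
  exact (Localization.awayEquivAdjoin G).symm.commutes p

end awayPoly

/-- the ideal of a principal localization: from the kernel of the presentation with one more
variable -/
theorem kregIdeal_map_away {P S : Type u} [CommRing P] [CommRing S] (α : P →+* S)
    (hα : Function.Surjective α) (G : P) (Q : Type u) [CommRing Q] [Algebra S Q]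
    [IsLocalization.Away (α G) Q]
    (ᾱ : Localization.Away G →+* Q)
    (hᾱ : ᾱ = IsLocalization.map Q α
      ((Submonoid.map_powers α G).symm ▸ (Submonoid.powers G).le_comap_map))
    (hK : LCI.IsKoszulRegularIdeal (RingHom.ker (ᾱ.comp (piG G)))) :
    LCI.IsKoszulRegularIdeal ((RingHom.ker α).map (algebraMap P (Localization.Away G))) := by
  have hu : C G * X - 1 ∈ RingHom.ker (ᾱ.comp (piG G)) := by
    rw [RingHom.mem_ker, RingHom.comp_apply]
    have : piG G (C G * X - 1) = 0 := by
      rw [← RingHom.mem_ker, piG_ker]; exact Ideal.subset_span rfl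
    rw [this, map_zero]
  have hv : X * derivative (C G * X - 1) - 1 ∈ RingHom.ker (ᾱ.comp (piG G)) := by
    have : X * derivative (C G * X - 1) - 1 = C G * X - 1 := by
      rw [derivative_sub, derivative_one, sub_zero, derivative_mul, derivative_C, zero_mul,
        zero_add, derivative_X, mul_one, mul_comm]
    rw [this]; exact hu
  have key := kregIdeal_map_of_quot _ hK (C G * X - 1) hu (isSMulRegular_C_mul_X_sub_one G) X hv
    (piG G) (piG_surjective G) (piG_ker G)
  rw [← RingHom.comap_ker, Ideal.map_comap_of_surjective _ (piG_surjective G)] at key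
  have hk : RingHom.ker ᾱ = (RingHom.ker α).map (algebraMap P (Localization.Away G)) := by
    rw [hᾱ]
    exact IsLocalization.ker_map (S := Localization.Away G) Q α (Submonoid.map_powers α G)
  rwa [hk] at key

/-- Koszul-regularity can be checked on a principal open neighbourhood -/
theorem kregIdeal_at_of_away {P : Type u} [CommRing P] (I : Ideal P) (G : P)
    (h : LCI.IsKoszulRegularIdeal (I.map (algebraMap P (Localization.Away G))))
    (𝔭 : PrimeSpectrum P) (hI : I ≤ 𝔭.asIdeal) (hG : G ∉ 𝔭.asIdeal) :
    ∃ (g : P) (_ : g ∉ 𝔭.asIdeal) (S : Type u) (_ : CommRing S) (_ : Algebra P S)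
      (_ : IsLocalization.Away g S) (l : List S),
      LCI.IsKoszulRegularSeq S l ∧ I.map (algebraMap P S) = Ideal.span {x | x ∈ l} := by
  let 𝔭G : Ideal (Localization.Away G) := 𝔭.asIdeal.map (algebraMap P (Localization.Away G))
  have hdisj : Disjoint (Submonoid.powers G : Set P) (𝔭.asIdeal : Set P) := by
    rw [Set.disjoint_left]
    rintro x ⟨n, rfl⟩ hx
    exact hG (Ideal.IsPrime.mem_of_pow_mem 𝔭.isPrime n hx)
  haveI h𝔭G : 𝔭G.IsPrime :=
    IsLocalization.isPrime_of_isPrime_disjoint (Submonoid.powers G) (Localization.Away G) _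
      𝔭.isPrime hdisj
  have hcomap : ∀ x : P, algebraMap P (Localization.Away G) x ∈ 𝔭G → x ∈ 𝔭.asIdeal := by
    intro x hx
    have := IsLocalization.under_map_of_isPrime_disjoint (Submonoid.powers G)
      (Localization.Away G) 𝔭.isPrime hdisj
    rw [← this]
    exact hx
  obtain ⟨g₂, hg₂, l, hl, hspan⟩ := h ⟨𝔭G, h𝔭G⟩ (Ideal.map_mono hI)
  obtain ⟨N, G₂, hG₂⟩ := IsLocalization.Away.surj (S := Localization.Away G) G g₂
  have hunit : IsUnit (algebraMap P (Localization.Away G) G ^ N) :=
    (IsLocalization.Away.algebraMap_isUnit G).pow N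
  have hassoc : Associated g₂ (algebraMap P (Localization.Away G) G₂) :=
    ⟨hunit.unit, by rw [IsUnit.unit_spec]; exact hG₂⟩
  haveI : IsLocalization.Away (algebraMap P (Localization.Away G) G₂) (Localization.Away g₂) :=
    IsLocalization.Away.of_associated hassoc
  haveI : IsLocalization.Away (G * G₂) (Localization.Away g₂) :=
    IsLocalization.Away.mul' (Localization.Away G) (Localization.Away g₂) G G₂
  have hG₂𝔭 : G₂ ∉ 𝔭.asIdeal := by
    intro hmem
    have h1 : algebraMap P (Localization.Away G) G₂ ∈ 𝔭G := Ideal.mem_map_of_mem _ hmem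
    rw [← hG₂] at h1
    rcases Ideal.IsPrime.mem_or_mem h𝔭G h1 with h2 | h2
    · exact hg₂ h2
    · exact (Ideal.IsPrime.ne_top h𝔭G) (Ideal.eq_top_of_isUnit_mem _ h2 hunit)
  refine ⟨G * G₂, fun hm => (Ideal.IsPrime.mem_or_mem 𝔭.isPrime hm).elim hG hG₂𝔭,
    Localization.Away g₂, inferInstance, inferInstance, inferInstance, l, hl, ?_⟩
  rw [IsScalarTower.algebraMap_eq P (Localization.Away G) (Localization.Away g₂), ← Ideal.map_map,
    hspan]

end Groth.Agent.H59.Kosz
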