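import Groth.Agent.H59.KoszSpread
import Groth.Agent.H59.KoszTop

/-!
# Koszul-regular sequences are minimal generating sets; local-global principle
-/

universe u
open CategoryTheory CochainComplex HomologicalComplex Limits TensorProduct

namespace Groth.Agent.H59.Kosz

variable {R : Type u} [CommRing R]

/-- exactness in the top degree forces the unit ideal -/
lemma span_eq_top_of_ex_zero (l : List R)
    (h : Ex (kz (sgl (ModuleCat.of R R)) l) 0) : Ideal.span {x | x ∈ l} = ⊤ := by
  obtain ⟨e⟩ := nonempty_top_iso R l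
  have hz : IsZero ((kz (sgl (ModuleCat.of R R)) l).homology 0) := (ex_iff _ 0).mp h
  have hz' : IsZero (ModuleCat.of R (R ⧸ (Ideal.ofList l • (⊤ : Submodule R R)))) :=
    hz.of_iso e.symm
  have hs : Subsingleton (R ⧸ (Ideal.ofList l • (⊤ : Submodule R R))) :=
    ModuleCat.subsingleton_of_isZero hz'
  rw [Submodule.Quotient.subsingleton_iff] at hs
  have h2 : Ideal.ofList l • (⊤ : Submodule R R) = Ideal.ofList l := by
    rw [smul_eq_mul, Ideal.mul_top]
  rw [h2] at hs
  exact hs

/-- a Koszul-regular sequence containing `0` generates the unit ideal -/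
lemma span_eq_top_of_kreg_zero_cons (l : List R) (h : LCI.IsKoszulRegularSeq R (0 :: l)) :
    Ideal.span {x | x ∈ l} = ⊤ := by
  have h1 : ExBelow (kz (sgl (ModuleCat.of R R)) ((0 : R) :: l)) 0 := (kreg_iff _).mp h
  have h2 : ExBelow (kz (sgl (ModuleCat.of R R)) l) (0 + 1) :=
    exBelow_of_cone (f := (0 : R)) (NH.zero _) h1
  exact span_eq_top_of_ex_zero l (h2 0 (by omega))

/-- **Minimality**: an ideal generated by a Koszul-regular sequence of length `n` and by fewer
than `n` elements is the unit ideal. -/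
theorem span_eq_top_of_kreg_of_length_lt (l a : List R) (hl : LCI.IsKoszulRegularSeq R l)
    (hlen : a.length < l.length) (hsub : ∀ x ∈ l, x ∈ Ideal.span {y | y ∈ a}) :
    Ideal.span {y | y ∈ a} = ⊤ := by
  set k := l.length - a.length - 1 with hk
  have hle : Ideal.span {y | y ∈ List.replicate k (0 : R) ++ a} ≤ Ideal.span {y | y ∈ a} := by
    rw [Ideal.span_le]
    intro y hy
    rcases List.mem_append.mp hy with hy | hy
    · rw [List.eq_of_mem_replicate hy]; exact Ideal.zero_mem _
    · exact Ideal.subset_span hy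
  have hge : Ideal.span {y | y ∈ a} ≤ Ideal.span {y | y ∈ (0 : R) :: (List.replicate k (0 : R) ++ a)} :=
    Ideal.span_mono (fun y hy => List.mem_cons_of_mem _ (List.mem_append_right _ hy))
  have hreg : LCI.IsKoszulRegularSeq R ((0 : R) :: (List.replicate k (0 : R) ++ a)) := by
    refine isKoszulRegularSeq_of_same_length l _ hl ?_ (fun x hx => hge (hsub x hx))
    simp only [List.length_cons, List.length_append, List.length_replicate]
    omega
  have := span_eq_top_of_kreg_zero_cons _ hreg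
  exact top_le_iff.mp (this ▸ hle)

/-- a Koszul complex on a sequence containing a unit is exact everywhere -/
lemma ex_of_isUnit_mem (K : Cx R) (l : List R) (u : R) (hu : IsUnit u) (hul : u ∈ l) (n : ℤ) :
    Ex (kz K l) n := by
  have hnh : NH (kz K l) u := span_le_nhIdeal K l (Ideal.subset_span hul)
  intro i k hi hk x hx
  obtain ⟨w, hw⟩ := hnh.kills n i k hi hk x hx
  obtain ⟨v, rfl⟩ := hu
  refine ⟨(↑v⁻¹ : R) • w, ?_⟩
  rw [map_smul, hw, ← mul_smul, Units.inv_mul, one_smul]

lemma kreg_of_isUnit_mem (l : List R) (u : R) (hu : IsUnit u) (hul : u ∈ l) :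
    LCI.IsKoszulRegularSeq R l :=
  (kreg_iff l).mpr (fun n _ => ex_of_isUnit_mem _ l u hu hul n)

/-- local-global principle for `Phi` -/
lemma phi_powers_of_forall_prime (K : Cx R) (n : ℤ) (g : R)
    (h : ∀ 𝔭 : Ideal R, ∀ _ : 𝔭.IsPrime, g ∉ 𝔭 → Phi 𝔭.primeCompl K n) :
    Phi (Submonoid.powers g) K n := by
  intro i k hi hk z hz
  let 𝔞 : Ideal R :=
    { carrier := {t | ∃ w : K.X i, K.d i n w = t • z}
      add_mem' := by
        rintro s t ⟨w, hw⟩ ⟨w', hw'⟩
        exact ⟨w + w', by rw [map_add, hw, hw', add_smul]⟩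
      zero_mem' := ⟨0, by simp⟩
      smul_mem' := by
        rintro c t ⟨w, hw⟩
        exact ⟨c • w, by rw [map_smul, hw, smul_eq_mul, mul_smul]⟩ }
  by_cases hg : g ∈ 𝔞.radical
  · obtain ⟨m, w, hw⟩ := hg
    exact ⟨g ^ m, ⟨m, rfl⟩, w, hw⟩
  · exfalso
    rw [Ideal.radical_eq_sInf, Ideal.mem_sInf] at hg
    push Not at hg
    obtain ⟨𝔭, ⟨h𝔞, h𝔭⟩, hg𝔭⟩ := hg
    obtain ⟨t, ht, w, hw⟩ := h 𝔭 h𝔭 hg𝔭 i k hi hk z hz
    exact ht (h𝔞 ⟨w, hw⟩)

end Groth.Agent.H59.Kosz
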