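import Groth.Agent.H59.KRegPoly

/-!
# Koszul-regularity of the kernel of a presentation is independent of the presentation
-/

universe u
open MvPolynomial

namespace Groth.Agent.H59.Kosz

variable {A B : Type u} [CommRing A] [CommRing B] [Algebra A B]

/-- the kernel of the presentation given by `b` is Koszul-regular -/
def KR {σ : Type} (b : σ → B) : Prop :=
  LCI.IsKoszulRegularIdeal (RingHom.ker (aeval (R := A) b).toRingHom)

/-- comap along a ring isomorphism preserves Koszul-regular ideals -/
lemma kregIdeal_comap_ringEquiv {R R' : Type u} [CommRing R] [CommRing R'] (e : R ≃+* R')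
    (J : Ideal R') (hJ : LCI.IsKoszulRegularIdeal J) :
    LCI.IsKoszulRegularIdeal (J.comap (e : R →+* R')) := by
  have := kregIdeal_ringEquiv e.symm J hJ
  convert this using 1
  exact (Ideal.map_symm e).symm

lemma kregIdeal_comap_ringEquiv_iff {R R' : Type u} [CommRing R] [CommRing R'] (e : R ≃+* R')
    (J : Ideal R') :
    LCI.IsKoszulRegularIdeal (J.comap (e : R →+* R')) ↔ LCI.IsKoszulRegularIdeal J := by
  refine ⟨fun h => ?_, kregIdeal_comap_ringEquiv e J⟩
  have := kregIdeal_ringEquiv e _ h
  rwa [Ideal.map_comap_of_surjective (e : R →+* R') e.surjective] at this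

/-- reindexing the variables -/
lemma KR_equiv {σ τ : Type} (e : σ ≃ τ) (b : τ → B) : KR (A := A) (b ∘ e) ↔ KR (A := A) b := by
  unfold KR
  have h1 : (aeval (R := A) (b ∘ e)).toRingHom =
      (aeval (R := A) b).toRingHom.comp ((renameEquiv A e).toRingEquiv : _ →+* _) := by
    apply MvPolynomial.ringHom_ext
    · intro a; simp
    · intro i; simp
  rw [h1, ← RingHom.comap_ker]
  exact kregIdeal_comap_ringEquiv_iff _ _

/-- adding / removing one variable -/
lemma KR_option {σ : Type} (b : Option σ → B)
    (hs : Function.Surjective (aeval (R := A) (b ∘ some))) :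
    KR (A := A) b ↔ KR (A := A) (b ∘ some) := by
  obtain ⟨h, hh⟩ := hs (b none)
  unfold KR
  have h1 : (aeval (R := A) b).toRingHom =
      ((aeval (R := A) (b ∘ some)).toRingHom.comp (Polynomial.evalRingHom h)).comp
        ((optionEquivLeft A σ).toRingEquiv : _ →+* _) := by
    apply MvPolynomial.ringHom_ext
    · intro a
      simp
    · intro i
      cases i with
      | none => simp [hh]
      | some i => simp
  rw [h1, ← RingHom.comap_ker, kregIdeal_comap_ringEquiv_iff, ← RingHom.comap_ker]
  exact ⟨kregIdeal_of_comap_evalRingHom _ h, kregIdeal_comap_evalRingHom _ h⟩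

lemma surjective_sumElim_left {σ τ : Type} (bσ : σ → B) (bτ : τ → B)
    (hs : Function.Surjective (aeval (R := A) bσ)) :
    Function.Surjective (aeval (R := A) (Sum.elim bσ bτ)) := by
  intro y
  obtain ⟨p, rfl⟩ := hs y
  refine ⟨rename Sum.inl p, ?_⟩
  rw [aeval_rename]
  rfl

lemma surjective_sumElim_right {σ τ : Type} (bσ : σ → B) (bτ : τ → B)
    (hs : Function.Surjective (aeval (R := A) bτ)) :
    Function.Surjective (aeval (R := A) (Sum.elim bσ bτ)) := by
  intro y
  obtain ⟨p, rfl⟩ := hs y
  refine ⟨rename Sum.inr p, ?_⟩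
  rw [aeval_rename]
  rfl

/-- `σ ⊕ Option α ≃ Option (σ ⊕ α)` -/
def sumOpt (σ α : Type) : σ ⊕ Option α ≃ Option (σ ⊕ α) where
  toFun := Sum.elim (fun s => some (Sum.inl s)) (fun o => o.map Sum.inr)
  invFun := fun o => Option.elim o (Sum.inr none) (Sum.elim Sum.inl (fun a => Sum.inr (some a)))
  left_inv := by
    rintro (s | (_ | a)) <;> rfl
  right_inv := by
    rintro (_ | (s | a)) <;> rfl

/-- `Option α ⊕ τ ≃ Option (α ⊕ τ)` -/
def optSum (α τ : Type) : Option α ⊕ τ ≃ Option (α ⊕ τ) where
  toFun := Sum.elim (fun o => o.map Sum.inl) (fun t => some (Sum.inr t))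
  invFun := fun o => Option.elim o (Sum.inl none) (Sum.elim (fun a => Sum.inl (some a)) Sum.inr)
  left_inv := by
    rintro ((_ | a) | t) <;> rfl
  right_inv := by
    rintro (_ | (a | t)) <;> rfl

/-- adding finitely many variables -/
theorem KR_sum_of_left (τ : Type) [Finite τ] :
    ∀ (σ : Type) (bσ : σ → B) (bτ : τ → B), Function.Surjective (aeval (R := A) bσ) →
      KR (A := A) bσ → KR (A := A) (Sum.elim bσ bτ) := by
  refine Finite.induction_empty_option (P := fun τ => ∀ (σ : Type) (bσ : σ → B) (bτ : τ → B),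
    Function.Surjective (aeval (R := A) bσ) → KR (A := A) bσ → KR (A := A) (Sum.elim bσ bτ))
    ?_ ?_ ?_ τ
  · intro α β a ih σ bσ bβ hs hk
    have := ih σ bσ (bβ ∘ a) hs hk
    rw [← KR_equiv (Equiv.sumCongr (Equiv.refl σ) a)]
    convert this using 2
    funext x
    cases x <;> rfl
  · intro σ bσ bτ hs hk
    rw [← KR_equiv (Equiv.sumEmpty σ PEmpty).symm]
    convert hk using 2
    funext x
    rfl
  · intro α _ ih σ bσ bo hs hk
    have h1 := ih σ bσ (bo ∘ some) hs hk
    let b' : Option (σ ⊕ α) → B := fun o => Option.elim o (bo none) (Sum.elim bσ (bo ∘ some))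
    have h2 : KR (A := A) b' := by
      rw [KR_option b' (surjective_sumElim_left bσ (bo ∘ some) hs)]
      exact h1
    rw [← KR_equiv (sumOpt σ α).symm] 
    convert h2 using 2
    funext x
    rcases x with _ | (s | a) <;> rfl

/-- removing finitely many variables -/
theorem KR_right_of_sum (σ : Type) [Finite σ] :
    ∀ (τ : Type) (bσ : σ → B) (bτ : τ → B), Function.Surjective (aeval (R := A) bτ) →
      KR (A := A) (Sum.elim bσ bτ) → KR (A := A) bτ := by
  refine Finite.induction_empty_option (P := fun σ => ∀ (τ : Type) (bσ : σ → B) (bτ : τ → B),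
    Function.Surjective (aeval (R := A) bτ) → KR (A := A) (Sum.elim bσ bτ) → KR (A := A) bτ)
    ?_ ?_ ?_ σ
  · intro α β a ih τ bβ bτ hs hk
    apply ih τ (bβ ∘ a) bτ hs
    rw [← KR_equiv (Equiv.sumCongr a (Equiv.refl τ))] at hk
    convert hk using 2
    funext x
    cases x <;> rfl
  · intro τ bσ bτ hs hk
    rw [← KR_equiv (Equiv.emptySum PEmpty τ).symm] at hk
    convert hk using 2
    funext x
    rfl
  · intro α _ ih τ bo bτ hs hk
    let b' : Option (α ⊕ τ) → B := fun o => Option.elim o (bo none) (Sum.elim (bo ∘ some) bτ)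
    have h2 : KR (A := A) b' := by
      rw [← KR_equiv (optSum α τ).symm] at hk
      convert hk using 2
      funext x
      rcases x with _ | (a | t) <;> rfl
    rw [KR_option b' (surjective_sumElim_right (bo ∘ some) bτ hs)] at h2
    exact ih τ (bo ∘ some) bτ hs h2

/-- **Independence of the presentation.** -/
theorem kregIdeal_ker_of_other_presentation (n m : ℕ) (α : MvPolynomial (Fin n) A →ₐ[A] B)
    (hα : Function.Surjective α) (β : MvPolynomial (Fin m) A →ₐ[A] B)
    (hβ : Function.Surjective β)
    (h : LCI.IsKoszulRegularIdeal (RingHom.ker α.toRingHom)) :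
    LCI.IsKoszulRegularIdeal (RingHom.ker β.toRingHom) := by
  have eα : α = aeval (fun i => α (X i)) := aeval_unique α
  have eβ : β = aeval (fun i => β (X i)) := aeval_unique β
  have hα' : Function.Surjective (aeval (R := A) (fun i => α (X i))) := by rw [← eα]; exact hα
  have hβ' : Function.Surjective (aeval (R := A) (fun i => β (X i))) := by rw [← eβ]; exact hβ
  have h1 : KR (A := A) (fun i => α (X i)) := by unfold KR; rw [← eα]; exact h
  have h2 := KR_sum_of_left (Fin m) (Fin n) _ (fun i => β (X i)) hα' h1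
  have h3 := KR_right_of_sum (Fin n) (Fin m) _ _ hβ' h2
  unfold KR at h3
  rw [← eβ] at h3
  exact h3

end Groth.Agent.H59.Kosz
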