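import Groth.Agent.H59.KRegKey

/-!
# Koszul-regular ideals and adjoining one variable
-/

universe u
open Polynomial

namespace Groth.Agent.H59.Kosz

/-- **Key lemma**, polynomial form. -/
theorem kregIdeal_map_of_quot {P R : Type u} [CommRing P] [CommRing R] (I' : Ideal P[X])
    (hI' : LCI.IsKoszulRegularIdeal I') (u : P[X]) (hu : u ∈ I') (hreg : IsSMulRegular P[X] u)
    (v : P[X]) (hv : v * derivative u - 1 ∈ I')
    (π : P[X] →+* R) (hπ : Function.Surjective π) (hker : RingHom.ker π = Ideal.span {u}) :
    LCI.IsKoszulRegularIdeal (I'.map π) :=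
  kregIdeal_map_of_quot_aux I' hI' u hu hreg
    (fun q _ hq s hs => not_mem_mul_of_derivative q I' hq u v hu hv s hs) π hπ hker

/-- transport of Koszul-regular ideals along ring isomorphisms -/
theorem kregIdeal_ringEquiv {A A' : Type u} [CommRing A] [CommRing A'] (e : A ≃+* A')
    (I : Ideal A) (hI : LCI.IsKoszulRegularIdeal I) :
    LCI.IsKoszulRegularIdeal (I.map (e : A →+* A')) := by
  apply kregIdeal_intro
  intro 𝔭' h𝔭'
  let 𝔭 : Ideal A := 𝔭'.asIdeal.comap (e : A →+* A')
  haveI h𝔭 : 𝔭.IsPrime := Ideal.comap_isPrime _ _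
  obtain ⟨g, hg, l, hl, hspan⟩ := hI ⟨𝔭, h𝔭⟩ (Ideal.map_le_iff_le_comap.mp h𝔭')
  letI : Algebra A' (Localization.Away g) :=
    ((algebraMap A (Localization.Away g)).comp e.symm.toRingHom).toAlgebra
  have hloc : IsLocalization (Submonoid.map e (Submonoid.powers g)) (Localization.Away g) :=
    IsLocalization.isLocalization_of_base_ringEquiv (Submonoid.powers g) (Localization.Away g) e
  have hpow : Submonoid.map e (Submonoid.powers g) = Submonoid.powers (e g) :=
    Submonoid.map_powers e g
  rw [hpow] at hloc
  refine ⟨e g, hg, Localization.Away g, inferInstance, inferInstance, hloc, l, hl, ?_⟩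
  rw [Ideal.map_map, ← hspan]
  congr 1
  ext a
  show algebraMap A (Localization.Away g) (e.symm (e a)) = _
  rw [e.symm_apply_apply]

section oneVar

variable {P : Type u} [CommRing P]

lemma comap_evalRingHom_eq (I : Ideal P) (h : P) :
    I.comap (evalRingHom h) = I.map C ⊔ Ideal.span {X - C h} := by
  apply le_antisymm
  · intro f hf
    obtain ⟨q, hq⟩ := X_sub_C_dvd_sub_C_eval (a := h) (p := f)
    have : f = C (eval h f) + (X - C h) * q := by rw [← hq]; ring
    rw [this]
    refine Ideal.add_mem _ (Ideal.mem_sup_left (Ideal.mem_map_of_mem _ hf))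
      (Ideal.mem_sup_right (Ideal.mul_mem_right _ _ (Ideal.subset_span rfl)))
  · rw [sup_le_iff]
    constructor
    · rw [Ideal.map_le_iff_le_comap]
      intro a ha
      show eval h (C a) ∈ I
      rw [eval_C]; exact ha
    · rw [Ideal.span_le]
      intro f hf
      rw [Set.mem_singleton_iff] at hf
      subst hf
      show eval h (X - C h) ∈ I
      simp

/-- going down: remove one variable -/
theorem kregIdeal_of_comap_evalRingHom (I : Ideal P) (h : P)
    (hI' : LCI.IsKoszulRegularIdeal (I.comap (evalRingHom h))) : LCI.IsKoszulRegularIdeal I := by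
  have hsurj : Function.Surjective (evalRingHom h) := fun a => ⟨C a, eval_C⟩
  have key := kregIdeal_map_of_quot (I.comap (evalRingHom h)) hI' (X - C h)
    (by show eval h (X - C h) ∈ I; simp)
    ((monic_X_sub_C h).isRegular.left.isSMulRegular) 1
    (by simp) (evalRingHom h) hsurj (ker_evalRingHom h)
  rwa [Ideal.map_comap_of_surjective _ hsurj] at key

attribute [local instance] Polynomial.algebra in
/-- going up: add one variable -/
theorem kregIdeal_comap_evalRingHom (I : Ideal P) (h : P) (hI : LCI.IsKoszulRegularIdeal I) :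
    LCI.IsKoszulRegularIdeal (I.comap (evalRingHom h)) := by
  apply kregIdeal_intro
  intro 𝔮 h𝔮
  let 𝔭 : Ideal P := 𝔮.asIdeal.comap C
  haveI h𝔭 : 𝔭.IsPrime := Ideal.comap_isPrime _ _
  have hI𝔭 : I ≤ 𝔭 := by
    intro a ha
    apply h𝔮
    show eval h (C a) ∈ I
    rw [eval_C]; exact ha
  obtain ⟨g, hg, l, hl, hspan⟩ := hI ⟨𝔭, h𝔭⟩ hI𝔭
  have hloc : IsLocalization (Submonoid.map C (Submonoid.powers g)) (Localization.Away g)[X] :=
    Polynomial.isLocalization (Submonoid.powers g) (Localization.Away g)
  have hpow : Submonoid.map (C : P →+* P[X]) (Submonoid.powers g) = Submonoid.powers (C g) :=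
    Submonoid.map_powers C g
  rw [hpow] at hloc
  let hb : Localization.Away g := algebraMap P (Localization.Away g) h
  refine ⟨C g, hg, (Localization.Away g)[X], inferInstance, inferInstance, hloc,
    (X - C hb) :: l.map C, ?_, ?_⟩
  · -- Koszul-regularity
    have h1 : LCI.IsKoszulRegularSeq (Localization.Away g)[X] (l.map C) :=
      isKoszulRegularSeq_of_flat (A := Localization.Away g) (B := (Localization.Away g)[X]) l hl
    refine isKoszulRegularSeq_cons _ _ h1 ?_
    intro x hx
    have e0 : Ideal.ofList (l.map (C : Localization.Away g →+* _)) =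
        (Ideal.span {y | y ∈ l}).map C := (span_list_map C l).symm
    rw [e0] at hx ⊢
    have e1 : (Ideal.span {y | y ∈ l}).map (C : Localization.Away g →+* _) =
        RingHom.ker (mapRingHom (Ideal.Quotient.mk (Ideal.span {y | y ∈ l}))) := by
      rw [ker_mapRingHom, Ideal.mk_ker]
    rw [e1, RingHom.mem_ker] at hx ⊢
    rw [map_mul, map_sub] at hx
    have e2 : mapRingHom (Ideal.Quotient.mk (Ideal.span {y | y ∈ l})) X = X := by simp
    have e3 : mapRingHom (Ideal.Quotient.mk (Ideal.span {y | y ∈ l})) (C hb) =
        C (Ideal.Quotient.mk _ hb) := by simp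
    rw [e2, e3] at hx
    exact (monic_X_sub_C _).isRegular.left (by
      show (X - C _) * _ = (X - C _) * 0
      rw [hx, mul_zero])
  · -- generation
    rw [comap_evalRingHom_eq, Ideal.map_sup, Ideal.map_span, Set.image_singleton, Ideal.map_map]
    have e1 : (algebraMap P[X] (Localization.Away g)[X]).comp C =
        (C : Localization.Away g →+* _).comp (algebraMap P (Localization.Away g)) := by
      ext a
      simp [Polynomial.algebraMap_def]
    have e2 : algebraMap P[X] (Localization.Away g)[X] (X - C h) = X - C hb := by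
      simp [Polynomial.algebraMap_def, hb]
    rw [e1, ← Ideal.map_map, hspan, span_list_map, e2]
    have := Ideal.ofList_cons (X - C hb) (l.map (C : Localization.Away g →+* _))
    rw [sup_comm]
    exact this.symm

end oneVar

end Groth.Agent.H59.Kosz
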