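import Groth.Agent.H59.KoszSpread

/-!
# Noetherian rings: Koszul-regular ideals can be detected on stalks
-/

universe u

namespace Groth.Agent.H59.Kosz

variable {P : Type u} [CommRing P]

/-- lifting generators from the localization -/
lemma lift_list (𝔭 : Ideal P) [𝔭.IsPrime] (I : Ideal P) (l : List (Localization.AtPrime 𝔭))
    (hl : ∀ x ∈ l, x ∈ I.map (algebraMap P (Localization.AtPrime 𝔭))) :
    ∃ a : List P, a.length = l.length ∧ (∀ y ∈ a, y ∈ I) ∧
      ∀ x ∈ l, x ∈ Ideal.span {z | z ∈ a.map (algebraMap P (Localization.AtPrime 𝔭))} := by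
  induction l with
  | nil => exact ⟨[], rfl, by simp, by simp⟩
  | cons x l ih =>
    obtain ⟨a, hlen, haI, hspan⟩ := ih (fun y hy => hl y (List.mem_cons_of_mem _ hy))
    obtain ⟨⟨⟨a₀, ha₀⟩, ⟨s, hs⟩⟩, hx⟩ :=
      (IsLocalization.mem_map_algebraMap_iff 𝔭.primeCompl (Localization.AtPrime 𝔭)).mp
        (hl x List.mem_cons_self)
    simp only at hx
    refine ⟨a₀ :: a, by simp [hlen], ?_, ?_⟩
    · intro y hy
      rcases List.mem_cons.mp hy with rfl | hy
      · exact ha₀
      · exact haI y hy
    · intro y hy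
      rcases List.mem_cons.mp hy with rfl | hy
      · have hu : IsUnit (algebraMap P (Localization.AtPrime 𝔭) s) :=
          IsLocalization.map_units _ (⟨s, hs⟩ : 𝔭.primeCompl)
        rw [← Ideal.mul_unit_mem_iff_mem _ hu, hx]
        exact Ideal.subset_span (by simp)
      · exact Ideal.span_mono (by
          intro z hz
          simp only [List.map_cons, Set.mem_ofPred_eq, List.mem_cons] at hz ⊢
          exact Or.inr hz) (hspan y hy)

/-- **Noetherian criterion**: an ideal which is generated by a Koszul-regular sequence in the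
localization at every prime containing it is a Koszul-regular ideal. -/
theorem kregIdeal_of_stalks [IsNoetherianRing P] (I : Ideal P)
    (h : ∀ (𝔮 : Ideal P) [𝔮.IsPrime], I ≤ 𝔮 → ∃ l : List (Localization.AtPrime 𝔮),
      LCI.IsKoszulRegularSeq (Localization.AtPrime 𝔮) l ∧
        I.map (algebraMap P (Localization.AtPrime 𝔮)) = Ideal.span {x | x ∈ l}) :
    LCI.IsKoszulRegularIdeal I := by
  classical
  apply kregIdeal_intro
  intro 𝔭 h𝔭
  haveI := 𝔭.isPrime
  obtain ⟨l, hl, hspan⟩ := h 𝔭.asIdeal h𝔭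
  obtain ⟨a, hlen, haI, hla⟩ := lift_list 𝔭.asIdeal I l (by
    intro x hx; rw [hspan]; exact Ideal.subset_span hx)
  -- Koszul-regularity of the lifted sequence in the stalk
  have hk1 : LCI.IsKoszulRegularSeq (Localization.AtPrime 𝔭.asIdeal)
      (a.map (algebraMap P (Localization.AtPrime 𝔭.asIdeal))) :=
    isKoszulRegularSeq_of_same_length l _ hl (by simp [hlen]) hla
  obtain ⟨g₁, hg₁, hk2⟩ := kreg_spread 𝔭.asIdeal a hk1
  -- generation
  have hIa : I.map (algebraMap P (Localization.AtPrime 𝔭.asIdeal)) ≤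
      (Ideal.span {z | z ∈ a}).map (algebraMap P (Localization.AtPrime 𝔭.asIdeal)) := by
    rw [hspan, span_list_map, Ideal.span_le]
    intro x hx
    exact hla x hx
  obtain ⟨F, hF⟩ := (isNoetherianRing_iff_ideal_fg P).mp inferInstance I
  have hb : ∀ b ∈ F, ∃ s : P, s ∉ 𝔭.asIdeal ∧ s * b ∈ Ideal.span {z | z ∈ a} := by
    intro b hbF
    have hbI : b ∈ I := hF ▸ Ideal.subset_span hbF
    have h1 := hIa (Ideal.mem_map_of_mem _ hbI)
    obtain ⟨⟨⟨c, hc⟩, ⟨s, hs⟩⟩, hx⟩ :=
      (IsLocalization.mem_map_algebraMap_iff 𝔭.asIdeal.primeCompl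
        (Localization.AtPrime 𝔭.asIdeal)).mp h1
    simp only at hx
    rw [← map_mul] at hx
    obtain ⟨⟨t, ht⟩, ht'⟩ := (IsLocalization.eq_iff_exists 𝔭.asIdeal.primeCompl
      (Localization.AtPrime 𝔭.asIdeal)).mp hx
    simp only at ht'
    refine ⟨t * s, fun hm => (Ideal.IsPrime.mem_or_mem 𝔭.isPrime hm).elim ht hs, ?_⟩
    have : t * s * b = t * c := by rw [← ht']; ring
    rw [this]
    exact Ideal.mul_mem_left _ _ hc
  choose! ss hss hssb using hb
  set g₂ := ∏ b ∈ F, ss b with hg₂def
  have hg₂ : g₂ ∉ 𝔭.asIdeal := by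
    intro hmem
    obtain ⟨b, hbF, hb⟩ := (Ideal.IsPrime.prod_mem_iff).mp hmem
    exact hss b hbF hb
  have hg₂I : ∀ b ∈ I, g₂ * b ∈ Ideal.span {z | z ∈ a} := by
    intro b hbI
    rw [← hF] at hbI
    refine Submodule.span_induction (p := fun b _ => g₂ * b ∈ Ideal.span {z | z ∈ a})
      ?_ ?_ ?_ ?_ hbI
    · intro b hbF
      obtain ⟨c, hc⟩ := Finset.dvd_prod_of_mem ss hbF
      rw [hg₂def, hc, mul_comm (ss b) c, mul_assoc]
      exact Ideal.mul_mem_left _ _ (hssb b hbF)
    · rw [mul_zero]; exact Ideal.zero_mem _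
    · intro x y _ _ hx hy
      rw [mul_add]; exact Ideal.add_mem _ hx hy
    · intro c x _ hx
      rw [smul_eq_mul, mul_left_comm]; exact Ideal.mul_mem_left _ _ hx
  -- the neighbourhood
  let S' := Localization.Away (algebraMap P (Localization.Away g₁) g₂)
  haveI : IsLocalization.Away (g₁ * g₂) S' :=
    IsLocalization.Away.mul' (Localization.Away g₁) S' g₁ g₂
  refine ⟨g₁ * g₂, fun hm => (Ideal.IsPrime.mem_or_mem 𝔭.isPrime hm).elim hg₁ hg₂, S',
    inferInstance, inferInstance, inferInstance,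
    (a.map (algebraMap P (Localization.Away g₁))).map (algebraMap (Localization.Away g₁) S'),
    ?_, ?_⟩
  · haveI : Module.Flat (Localization.Away g₁) S' :=
      IsLocalization.flat S' (Submonoid.powers (algebraMap P (Localization.Away g₁) g₂))
    exact isKoszulRegularSeq_of_flat _ hk2
  · have hcomp : (algebraMap (Localization.Away g₁) S') ∘ (algebraMap P (Localization.Away g₁)) =
        algebraMap P S' := by
      funext x
      exact (IsScalarTower.algebraMap_apply P (Localization.Away g₁) S' x).symm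
    rw [List.map_map, hcomp, ← span_list_map]
    apply le_antisymm
    · rw [Ideal.map_le_iff_le_comap]
      intro b hbI
      rw [Ideal.mem_comap]
      have hu : IsUnit (algebraMap P S' g₂) := by
        have : IsUnit (algebraMap P S' (g₁ * g₂)) := IsLocalization.Away.algebraMap_isUnit _
        rw [map_mul] at this
        exact isUnit_of_mul_isUnit_right this
      rw [← Ideal.unit_mul_mem_iff_mem _ hu, ← map_mul]
      exact Ideal.mem_map_of_mem _ (hg₂I b hbI)
    · apply Ideal.map_mono
      rw [Ideal.span_le]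
      exact fun y hy => haI y hy

end Groth.Agent.H59.Kosz
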