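import Groth.Agent.H59.KoszH1
import Groth.Agent.H59.KoszHtpy

/-!
# Elementwise exactness for cones of scalar multiplications
-/

universe u
open CategoryTheory CochainComplex HomologicalComplex Limits

namespace Groth.Agent.H59.Kosz

variable {A : Type u} [CommRing A]

/-- elementwise exactness of a complex of modules in degree `j` (flexible indices) -/
def Ex (K : Cx A) (j : ℤ) : Prop :=
  ∀ (i k : ℤ) (_ : i + 1 = j) (_ : j + 1 = k) (x : K.X j), K.d j k x = 0 →
    ∃ w : K.X i, K.d i j w = x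

lemma ex_iff (K : Cx A) (j : ℤ) : Ex K j ↔ IsZero (K.homology j) := by
  rw [← K.exactAt_iff_isZero_homology j]
  constructor
  · intro h
    rw [K.exactAt_iff' (j-1) j (j+1) (by simp) (by simp), ShortComplex.moduleCat_exact_iff]
    intro x hx
    exact h (j-1) (j+1) (by omega) rfl x hx
  · intro h i k hi hk x hx
    obtain rfl : i = j - 1 := by omega
    obtain rfl : k = j + 1 := by omega
    rw [K.exactAt_iff' (j-1) j (j+1) (by simp) (by simp), ShortComplex.moduleCat_exact_iff] at h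
    exact h x hx

/-- `a` kills the cohomology in degree `j`, elementwise -/
def Kills (K : Cx A) (a : A) (j : ℤ) : Prop :=
  ∀ (i k : ℤ) (_ : i + 1 = j) (_ : j + 1 = k) (x : K.X j), K.d j k x = 0 →
    ∃ w : K.X i, K.d i j w = a • x

lemma NH.kills {K : Cx A} {a : A} (h : NH K a) (j : ℤ) : Kills K a j := by
  obtain ⟨z, hz⟩ := h
  intro i k hi hk x hx
  have h1 := NH_flex hz j i k (by omega) (by omega)
  refine ⟨(z.v j i (by omega)) x, ?_⟩
  have h2 := congrArg (fun g => (ConcreteCategory.hom g) x) h1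
  simp only [ModuleCat.hom_add, ModuleCat.hom_comp, LinearMap.add_apply, LinearMap.comp_apply,
    ModuleCat.hom_smul, LinearMap.smul_apply, ModuleCat.hom_id, LinearMap.id_apply] at h2
  rw [hx, map_zero, add_zero] at h2
  exact h2

lemma Ex.kills {K : Cx A} {j : ℤ} (h : Ex K j) (a : A) : Kills K a j := by
  intro i k hi hk x hx
  have hx' : K.d j k (a • x) = 0 := by rw [map_smul, hx, smul_zero]
  exact h i k hi hk (a • x) hx'

section cone
variable (f : A) (K : Cx A)

/-- element of the cone with given coordinates -/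
noncomputable def mkC (m n : ℤ) (h : n + 1 = m) (x : K.X m) (y : K.X n) :
    (mappingCone (f • 𝟙 K)).X n :=
  (coneEquiv f K m n h).symm (x, y)

lemma fst_mkC (m n : ℤ) (h : n + 1 = m) (x : K.X m) (y : K.X n) :
    (mappingCone.fst (f • 𝟙 K)).1.v n m h (mkC f K m n h x y) = x := by
  have := (coneEquiv f K m n h).apply_symm_apply (x, y)
  rw [coneEquiv_apply] at this
  exact congrArg Prod.fst this

lemma snd_mkC (m n : ℤ) (h : n + 1 = m) (x : K.X m) (y : K.X n) :
    (mappingCone.snd (f • 𝟙 K)).v n n (add_zero n) (mkC f K m n h x y) = y := by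
  have := (coneEquiv f K m n h).apply_symm_apply (x, y)
  rw [coneEquiv_apply] at this
  exact congrArg Prod.snd this

lemma ext_elt' {m n : ℤ} (h : n + 1 = m) {z w : (mappingCone (f • 𝟙 K)).X n}
    (h1 : (mappingCone.fst (f • 𝟙 K)).1.v n m h z = (mappingCone.fst (f • 𝟙 K)).1.v n m h w)
    (h2 : (mappingCone.snd (f • 𝟙 K)).v n n (add_zero n) z =
      (mappingCone.snd (f • 𝟙 K)).v n n (add_zero n) w) : z = w := by
  apply (coneEquiv f K m n h).injective
  rw [coneEquiv_apply, coneEquiv_apply, h1, h2]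

/-- coordinates of `d` applied to `mkC` -/
lemma d_mkC (m n p : ℤ) (h : n + 1 = m) (hp : m + 1 = p) (x : K.X m) (y : K.X n) :
    (mappingCone (f • 𝟙 K)).d n m (mkC f K m n h x y) =
      mkC f K p m hp (- K.d m p x) (f • x + K.d n m y) := by
  apply ext_elt' f K hp
  · rw [d_fst_apply f K n m p h hp, fst_mkC, fst_mkC]
  · rw [d_snd_apply f K n m h, fst_mkC, snd_mkC, snd_mkC]

/-- exactness of the cone from exactness of the base in two degrees -/
lemma ex_cone {n : ℤ} (h1 : Ex K n) (h2 : Ex K (n+1)) : Ex (mappingCone (f • 𝟙 K)) n := by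
  intro i k hi hk z hz
  subst hi
  subst hk
  set x := (mappingCone.fst (f • 𝟙 K)).1.v (i+1) (i+1+1) rfl z with hx
  set y := (mappingCone.snd (f • 𝟙 K)).v (i+1) (i+1) (add_zero _) z with hy
  have hdx : K.d (i+1+1) (i+1+1+1) x = 0 := by
    have := d_fst_apply f K (i+1) (i+1+1) (i+1+1+1) rfl rfl z
    rw [hz, map_zero] at this
    rw [hx]
    exact (neg_eq_zero.mp this.symm)
  have hdy : f • x + K.d (i+1) (i+1+1) y = 0 := by
    have := d_snd_apply f K (i+1) (i+1+1) rfl z
    rw [hz, map_zero] at this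
    exact this.symm
  obtain ⟨x', hx'⟩ := h2 (i+1) (i+1+1+1) rfl rfl x hdx
  have hc : K.d (i+1) (i+1+1) (y + f • x') = 0 := by
    rw [map_add, map_smul, hx']; exact (add_comm _ _).trans hdy
  obtain ⟨y'', hy''⟩ := h1 i (i+1+1) rfl rfl (y + f • x') hc
  refine ⟨mkC f K (i+1) i rfl (-x') y'', ?_⟩
  apply ext_elt' f K (rfl : i + 1 + 1 = i + 1 + 1)
  · rw [d_fst_apply f K i (i+1) (i+1+1) rfl rfl, fst_mkC, map_neg, neg_neg, hx']
  · rw [d_snd_apply f K i (i+1) rfl, fst_mkC, snd_mkC, hy'', smul_neg]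
    abel

/-- exactness of the cone when `f` is injective on the next cohomology -/
lemma ex_cone_of_inj {n : ℤ} (h1 : Ex K n)
    (hinj : ∀ x : K.X (n+1), K.d (n+1) (n+1+1) x = 0 → (∃ w : K.X n, K.d n (n+1) w = f • x) →
      ∃ v : K.X n, K.d n (n+1) v = x) : Ex (mappingCone (f • 𝟙 K)) n := by
  intro i k hi hk z hz
  subst hi
  subst hk
  set x := (mappingCone.fst (f • 𝟙 K)).1.v (i+1) (i+1+1) rfl z with hx
  set y := (mappingCone.snd (f • 𝟙 K)).v (i+1) (i+1) (add_zero _) z with hy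
  have hdx : K.d (i+1+1) (i+1+1+1) x = 0 := by
    have := d_fst_apply f K (i+1) (i+1+1) (i+1+1+1) rfl rfl z
    rw [hz, map_zero] at this
    rw [hx]
    exact (neg_eq_zero.mp this.symm)
  have hdy : f • x + K.d (i+1) (i+1+1) y = 0 := by
    have := d_snd_apply f K (i+1) (i+1+1) rfl z
    rw [hz, map_zero] at this
    exact this.symm
  obtain ⟨x', hx'⟩ := hinj x hdx ⟨-y, by rw [map_neg]; exact neg_eq_of_add_eq_zero_left hdy⟩
  have hc : K.d (i+1) (i+1+1) (y + f • x') = 0 := by
    rw [map_add, map_smul, hx']; exact (add_comm _ _).trans hdy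
  obtain ⟨y'', hy''⟩ := h1 i (i+1+1) rfl rfl (y + f • x') hc
  refine ⟨mkC f K (i+1) i rfl (-x') y'', ?_⟩
  apply ext_elt' f K (rfl : i + 1 + 1 = i + 1 + 1)
  · rw [d_fst_apply f K i (i+1) (i+1+1) rfl rfl, fst_mkC, map_neg, neg_neg, hx']
  · rw [d_snd_apply f K i (i+1) rfl, fst_mkC, snd_mkC, hy'', smul_neg]
    abel

/-- exactness of the base from exactness of the cone, same degree -/
lemma ex_of_cone_left {n : ℤ} (hk : Kills K f n) (h : Ex (mappingCone (f • 𝟙 K)) n) : Ex K n := by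
  intro i k hi hk' y hy
  subst hi
  subst hk'
  -- the cycle (0, y)
  have hz : (mappingCone (f • 𝟙 K)).d (i+1) (i+1+1) (mkC f K (i+1+1) (i+1) rfl 0 y) = 0 := by
    rw [d_mkC f K (i+1+1) (i+1) (i+1+1+1) rfl rfl, map_zero, neg_zero, smul_zero, zero_add, hy]
    apply ext_elt' f K (rfl : i+1+1+1 = i+1+1+1)
    · rw [fst_mkC, map_zero]
    · rw [snd_mkC, map_zero]
  obtain ⟨w, hw⟩ := h i (i+1+1) rfl rfl _ hz
  set x' := (mappingCone.fst (f • 𝟙 K)).1.v i (i+1) rfl w with hx'
  set y'' := (mappingCone.snd (f • 𝟙 K)).v i i (add_zero _) w with hy''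
  have e1 : K.d (i+1) (i+1+1) x' = 0 := by
    have := d_fst_apply f K i (i+1) (i+1+1) rfl rfl w
    rw [hw, fst_mkC] at this
    exact neg_eq_zero.mp this.symm
  have e2 : y = f • x' + K.d i (i+1) y'' := by
    have := d_snd_apply f K i (i+1) rfl w
    rw [hw, snd_mkC] at this
    exact this
  obtain ⟨v, hv⟩ := hk i (i+1+1) rfl rfl x' e1
  refine ⟨v + y'', ?_⟩
  rw [map_add, hv, e2]

/-- exactness of the base from exactness of the cone, next degree -/
lemma ex_of_cone_right {n : ℤ} (hk : Kills K f (n+1)) (h : Ex (mappingCone (f • 𝟙 K)) n) :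
    Ex K (n+1) := by
  intro i k hi hk' x hx
  obtain rfl : i = n := by omega
  subst hk'
  obtain ⟨y', hy'⟩ := hk i (i+1+1) rfl rfl x hx
  have hz : (mappingCone (f • 𝟙 K)).d i (i+1) (mkC f K (i+1) i rfl x (-y')) = 0 := by
    rw [d_mkC f K (i+1) i (i+1+1) rfl rfl, hx, neg_zero, map_neg, hy', add_neg_cancel]
    apply ext_elt' f K (rfl : i+1+1 = i+1+1)
    · rw [fst_mkC, map_zero]
    · rw [snd_mkC, map_zero]
  obtain ⟨w, hw⟩ := h (i-1) (i+1) (by omega) rfl _ hz
  refine ⟨- (mappingCone.fst (f • 𝟙 K)).1.v (i-1) i (by omega) w, ?_⟩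
  have := d_fst_apply f K (i-1) i (i+1) (by omega) rfl w
  rw [hw, fst_mkC] at this
  rw [map_neg, ← this]

end cone

end Groth.Agent.H59.Kosz
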