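import Groth.Agent.H59.KoszEx

/-!
# Semilinear degreewise bijections of complexes; permutation invariance of Koszul complexes
-/

universe u
open CategoryTheory CochainComplex HomologicalComplex Limits

namespace Groth.Agent.H59.Kosz

/-- a degreewise semilinear bijection of complexes commuting with the differentials -/
structure SLE {A B : Type u} [CommRing A] [CommRing B] (ρ : A →+* B) (K : Cx A) (L : Cx B) where
  e : ∀ n, K.X n ≃+ L.X n
  smul : ∀ n (a : A) (x : K.X n), e n (a • x) = ρ a • e n x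
  comm : ∀ i j (x : K.X i), e j (K.d i j x) = L.d i j (e i x)

namespace SLE

variable {A B : Type u} [CommRing A] [CommRing B] {ρ : A →+* B} {K : Cx A} {L : Cx B}

lemma ex (s : SLE ρ K L) {n : ℤ} (h : Ex K n) : Ex L n := by
  intro i k hi hk x hx
  have h1 : K.d n k ((s.e n).symm x) = 0 := by
    apply (s.e k).injective
    rw [s.comm, AddEquiv.apply_symm_apply, hx, map_zero]
  obtain ⟨w, hw⟩ := h i k hi hk _ h1
  refine ⟨s.e i w, ?_⟩
  rw [← s.comm, hw, AddEquiv.apply_symm_apply]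

lemma ex_symm (s : SLE ρ K L) {n : ℤ} (h : Ex L n) : Ex K n := by
  intro i k hi hk x hx
  have h1 : L.d n k (s.e n x) = 0 := by rw [← s.comm, hx, map_zero]
  obtain ⟨w, hw⟩ := h i k hi hk _ h1
  refine ⟨(s.e i).symm w, ?_⟩
  apply (s.e n).injective
  rw [s.comm, AddEquiv.apply_symm_apply, hw]

lemma ex_iff (s : SLE ρ K L) (n : ℤ) : Ex K n ↔ Ex L n := ⟨s.ex, s.ex_symm⟩

/-- identity -/
def refl (K : Cx A) : SLE (RingHom.id A) K K where
  e n := AddEquiv.refl _
  smul n a x := rfl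
  comm i j x := rfl

/-- composition with an `A`-linear one -/
def trans' {M : Cx A} (s : SLE (RingHom.id A) K M) (t : SLE ρ M L) : SLE ρ K L where
  e n := (s.e n).trans (t.e n)
  smul n a x := by
    show t.e n (s.e n (a • x)) = _
    rw [s.smul, t.smul]; rfl
  comm i j x := by
    show t.e j (s.e j (K.d i j x)) = _
    rw [s.comm, t.comm]; rfl

/-- inverse of an `A`-linear one -/
def symm' {M : Cx A} (s : SLE (RingHom.id A) K M) : SLE (RingHom.id A) M K where
  e n := (s.e n).symm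
  smul n a x := by
    apply (s.e n).injective
    rw [s.smul, AddEquiv.apply_symm_apply, AddEquiv.apply_symm_apply]
    rfl
  comm i j x := by
    apply (s.e j).injective
    rw [s.comm, AddEquiv.apply_symm_apply, AddEquiv.apply_symm_apply]

end SLE

section cone

variable {A B : Type u} [CommRing A] [CommRing B] {ρ : A →+* B} {K : Cx A} {L : Cx B}

/-- the induced bijection on cones -/
noncomputable def coneSLEe (s : SLE ρ K L) (a : A) (n : ℤ) :
    (mappingCone (a • 𝟙 K)).X n ≃+ (mappingCone (ρ a • 𝟙 L)).X n :=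
  (coneEquiv a K (n+1) n rfl).toAddEquiv.trans
    ((AddEquiv.prodCongr (s.e (n+1)) (s.e n)).trans (coneEquiv (ρ a) L (n+1) n rfl).symm.toAddEquiv)

lemma fst_coneSLEe (s : SLE ρ K L) (a : A) (n m : ℤ) (h : n + 1 = m)
    (z : (mappingCone (a • 𝟙 K)).X n) :
    (mappingCone.fst (ρ a • 𝟙 L)).1.v n m h (coneSLEe s a n z) =
      s.e m ((mappingCone.fst (a • 𝟙 K)).1.v n m h z) := by
  subst h
  have h := (coneEquiv (ρ a) L (n+1) n rfl).apply_symm_apply
    (s.e (n+1) ((mappingCone.fst (a • 𝟙 K)).1.v n (n+1) rfl z),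
      s.e n ((mappingCone.snd (a • 𝟙 K)).v n n (add_zero n) z))
  rw [coneEquiv_apply] at h
  exact congrArg Prod.fst h

lemma snd_coneSLEe (s : SLE ρ K L) (a : A) (n : ℤ)
    (z : (mappingCone (a • 𝟙 K)).X n) :
    (mappingCone.snd (ρ a • 𝟙 L)).v n n (add_zero n) (coneSLEe s a n z) =
      s.e n ((mappingCone.snd (a • 𝟙 K)).v n n (add_zero n) z) := by
  have h := (coneEquiv (ρ a) L (n+1) n rfl).apply_symm_apply
    (s.e (n+1) ((mappingCone.fst (a • 𝟙 K)).1.v n (n+1) rfl z),
      s.e n ((mappingCone.snd (a • 𝟙 K)).v n n (add_zero n) z))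
  rw [coneEquiv_apply] at h
  exact congrArg Prod.snd h

/-- cone of a semilinear bijection -/
noncomputable def SLE.cone (s : SLE ρ K L) (a : A) :
    SLE ρ (mappingCone (a • 𝟙 K)) (mappingCone (ρ a • 𝟙 L)) where
  e n := coneSLEe s a n
  smul n c z := by
    apply ext_elt' (ρ a) L (rfl : n + 1 = n + 1)
    · rw [fst_coneSLEe, map_smul, s.smul, map_smul, fst_coneSLEe]
    · rw [snd_coneSLEe, map_smul, s.smul, map_smul, snd_coneSLEe]
  comm i j z := by
    by_cases hij : i + 1 = j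
    · subst hij
      apply ext_elt' (ρ a) L (rfl : i + 1 + 1 = i + 1 + 1)
      · rw [fst_coneSLEe, d_fst_apply a K i (i+1) (i+1+1) rfl rfl,
          d_fst_apply (ρ a) L i (i+1) (i+1+1) rfl rfl, fst_coneSLEe, map_neg, s.comm]
      · rw [snd_coneSLEe, d_snd_apply a K i (i+1) rfl, d_snd_apply (ρ a) L i (i+1) rfl,
          fst_coneSLEe, snd_coneSLEe, map_add, s.smul, s.comm]
    · rw [HomologicalComplex.shape _ i j hij, HomologicalComplex.shape _ i j hij]
      simp

end cone

section kz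

variable {A B : Type u} [CommRing A] [CommRing B] {ρ : A →+* B} {K : Cx A} {L : Cx B}

/-- iterated cones of a semilinear bijection -/
noncomputable def SLE.kz (s : SLE ρ K L) : ∀ l : List A, SLE ρ (kz K l) (Kosz.kz L (l.map ρ))
  | [] => s
  | a :: l => (SLE.kz s l).cone a

end kz

section swap

variable {A : Type u} [CommRing A] (a b : A) (K : Cx A)

/-- double cone -/
noncomputable abbrev D2 : Cx A := mappingCone (a • 𝟙 (mappingCone (b • 𝟙 K)))

/-- the four coordinates of an element of the double cone -/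
noncomputable def ff (n m p : ℤ) (h : n + 1 = m) (h' : m + 1 = p) (z : (D2 a b K).X n) : K.X p :=
  (mappingCone.fst (b • 𝟙 K)).1.v m p h'
    ((mappingCone.fst (a • 𝟙 (mappingCone (b • 𝟙 K)))).1.v n m h z)

noncomputable def sf (n m : ℤ) (h : n + 1 = m) (z : (D2 a b K).X n) : K.X m :=
  (mappingCone.snd (b • 𝟙 K)).v m m (add_zero m)
    ((mappingCone.fst (a • 𝟙 (mappingCone (b • 𝟙 K)))).1.v n m h z)

noncomputable def fs (n m : ℤ) (h : n + 1 = m) (z : (D2 a b K).X n) : K.X m :=
  (mappingCone.fst (b • 𝟙 K)).1.v n m h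
    ((mappingCone.snd (a • 𝟙 (mappingCone (b • 𝟙 K)))).v n n (add_zero n) z)

noncomputable def ss (n : ℤ) (z : (D2 a b K).X n) : K.X n :=
  (mappingCone.snd (b • 𝟙 K)).v n n (add_zero n)
    ((mappingCone.snd (a • 𝟙 (mappingCone (b • 𝟙 K)))).v n n (add_zero n) z)

lemma ext4 {n m p : ℤ} (h : n + 1 = m) (h' : m + 1 = p) {z w : (D2 a b K).X n}
    (h1 : ff a b K n m p h h' z = ff a b K n m p h h' w)
    (h2 : sf a b K n m h z = sf a b K n m h w)
    (h3 : fs a b K n m h z = fs a b K n m h w)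
    (h4 : ss a b K n z = ss a b K n w) : z = w := by
  apply ext_elt' a (mappingCone (b • 𝟙 K)) h
  · exact ext_elt' b K h' h1 h2
  · exact ext_elt' b K h h3 h4

lemma ff_d (i j k p : ℤ) (hij : i + 1 = j) (hjk : j + 1 = k) (hkp : k + 1 = p)
    (z : (D2 a b K).X i) :
    ff a b K j k p hjk hkp ((D2 a b K).d i j z) = K.d k p (ff a b K i j k hij hjk z) := by
  unfold ff
  rw [d_fst_apply a _ i j k hij hjk, map_neg, d_fst_apply b K j k p hjk hkp, neg_neg]

lemma sf_d (i j k : ℤ) (hij : i + 1 = j) (hjk : j + 1 = k) (z : (D2 a b K).X i) :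
    sf a b K j k hjk ((D2 a b K).d i j z) =
      - (b • ff a b K i j k hij hjk z) - K.d j k (sf a b K i j hij z) := by
  unfold sf ff
  rw [d_fst_apply a _ i j k hij hjk, map_neg, d_snd_apply b K j k hjk]
  abel

lemma fs_d (i j k : ℤ) (hij : i + 1 = j) (hjk : j + 1 = k) (z : (D2 a b K).X i) :
    fs a b K j k hjk ((D2 a b K).d i j z) =
      a • ff a b K i j k hij hjk z - K.d j k (fs a b K i j hij z) := by
  unfold fs ff
  rw [d_snd_apply a _ i j hij, map_add, map_smul, d_fst_apply b K i j k hij hjk]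
  abel

lemma ss_d (i j : ℤ) (hij : i + 1 = j) (z : (D2 a b K).X i) :
    ss a b K j ((D2 a b K).d i j z) =
      a • sf a b K i j hij z + b • fs a b K i j hij z + K.d i j (ss a b K i z) := by
  unfold ss sf fs
  rw [d_snd_apply a _ i j hij, map_add, map_smul, d_snd_apply b K i j hij]
  abel

/-- element of the double cone with given coordinates -/
noncomputable def mk4 (n m p : ℤ) (h : n + 1 = m) (h' : m + 1 = p)
    (x2 : K.X p) (x1 y1 : K.X m) (y0 : K.X n) : (D2 a b K).X n :=
  mkC a (mappingCone (b • 𝟙 K)) m n h (mkC b K p m h' x2 x1) (mkC b K m n h y1 y0)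

lemma ff_mk4 (n m p : ℤ) (h : n + 1 = m) (h' : m + 1 = p)
    (x2 : K.X p) (x1 y1 : K.X m) (y0 : K.X n) :
    ff a b K n m p h h' (mk4 a b K n m p h h' x2 x1 y1 y0) = x2 := by
  unfold ff mk4; rw [fst_mkC, fst_mkC]

lemma sf_mk4 (n m p : ℤ) (h : n + 1 = m) (h' : m + 1 = p)
    (x2 : K.X p) (x1 y1 : K.X m) (y0 : K.X n) :
    sf a b K n m h (mk4 a b K n m p h h' x2 x1 y1 y0) = x1 := by
  unfold sf mk4; rw [fst_mkC, snd_mkC]

lemma fs_mk4 (n m p : ℤ) (h : n + 1 = m) (h' : m + 1 = p)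
    (x2 : K.X p) (x1 y1 : K.X m) (y0 : K.X n) :
    fs a b K n m h (mk4 a b K n m p h h' x2 x1 y1 y0) = y1 := by
  unfold fs mk4; rw [snd_mkC, fst_mkC]

lemma ss_mk4 (n m p : ℤ) (h : n + 1 = m) (h' : m + 1 = p)
    (x2 : K.X p) (x1 y1 : K.X m) (y0 : K.X n) :
    ss a b K n (mk4 a b K n m p h h' x2 x1 y1 y0) = y0 := by
  unfold ss mk4; rw [snd_mkC, snd_mkC]

lemma ff_add (n m p : ℤ) (h : n + 1 = m) (h' : m + 1 = p) (z w : (D2 a b K).X n) :
    ff a b K n m p h h' (z + w) = ff a b K n m p h h' z + ff a b K n m p h h' w := by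
  unfold ff; rw [map_add, map_add]
lemma sf_add (n m : ℤ) (h : n + 1 = m) (z w : (D2 a b K).X n) :
    sf a b K n m h (z + w) = sf a b K n m h z + sf a b K n m h w := by
  unfold sf; rw [map_add, map_add]
lemma fs_add (n m : ℤ) (h : n + 1 = m) (z w : (D2 a b K).X n) :
    fs a b K n m h (z + w) = fs a b K n m h z + fs a b K n m h w := by
  unfold fs; rw [map_add, map_add]
lemma ss_add (n : ℤ) (z w : (D2 a b K).X n) :
    ss a b K n (z + w) = ss a b K n z + ss a b K n w := by
  unfold ss; rw [map_add, map_add]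
lemma ff_smul (n m p : ℤ) (h : n + 1 = m) (h' : m + 1 = p) (c : A) (z : (D2 a b K).X n) :
    ff a b K n m p h h' (c • z) = c • ff a b K n m p h h' z := by
  unfold ff; rw [map_smul, map_smul]
lemma sf_smul (n m : ℤ) (h : n + 1 = m) (c : A) (z : (D2 a b K).X n) :
    sf a b K n m h (c • z) = c • sf a b K n m h z := by
  unfold sf; rw [map_smul, map_smul]
lemma fs_smul (n m : ℤ) (h : n + 1 = m) (c : A) (z : (D2 a b K).X n) :
    fs a b K n m h (c • z) = c • fs a b K n m h z := by
  unfold fs; rw [map_smul, map_smul]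
lemma ss_smul (n : ℤ) (c : A) (z : (D2 a b K).X n) :
    ss a b K n (c • z) = c • ss a b K n z := by
  unfold ss; rw [map_smul, map_smul]

/-- the swap map -/
noncomputable def swapFun (n : ℤ) (z : (D2 a b K).X n) : (D2 b a K).X n :=
  mk4 b a K n (n+1) (n+1+1) rfl rfl (- ff a b K n (n+1) (n+1+1) rfl rfl z)
    (fs a b K n (n+1) rfl z) (sf a b K n (n+1) rfl z) (ss a b K n z)

lemma swapFun_swapFun (n : ℤ) (z : (D2 a b K).X n) :
    swapFun b a K n (swapFun a b K n z) = z := by
  apply ext4 a b K (rfl : n + 1 = n + 1) (rfl : n + 1 + 1 = n + 1 + 1)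
  · unfold swapFun; rw [ff_mk4, ff_mk4, neg_neg]
  · unfold swapFun; rw [sf_mk4, fs_mk4]
  · unfold swapFun; rw [fs_mk4, sf_mk4]
  · unfold swapFun; rw [ss_mk4, ss_mk4]

lemma ff_swapFun (n m p : ℤ) (h : n + 1 = m) (h' : m + 1 = p) (z : (D2 a b K).X n) :
    ff b a K n m p h h' (swapFun a b K n z) = - ff a b K n m p h h' z := by
  subst h; subst h'; unfold swapFun; rw [ff_mk4]
lemma sf_swapFun (n m : ℤ) (h : n + 1 = m) (z : (D2 a b K).X n) :
    sf b a K n m h (swapFun a b K n z) = fs a b K n m h z := by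
  subst h; unfold swapFun; rw [sf_mk4]
lemma fs_swapFun (n m : ℤ) (h : n + 1 = m) (z : (D2 a b K).X n) :
    fs b a K n m h (swapFun a b K n z) = sf a b K n m h z := by
  subst h; unfold swapFun; rw [fs_mk4]
lemma ss_swapFun (n : ℤ) (z : (D2 a b K).X n) :
    ss b a K n (swapFun a b K n z) = ss a b K n z := by
  unfold swapFun; rw [ss_mk4]

/-- the swap of two consecutive cones -/
noncomputable def swapSLE : SLE (RingHom.id A) (D2 a b K) (D2 b a K) where
  e n :=
    { toFun := swapFun a b K n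
      invFun := swapFun b a K n
      left_inv := swapFun_swapFun a b K n
      right_inv := swapFun_swapFun b a K n
      map_add' := fun z w => by
        apply ext4 b a K (rfl : n + 1 = n + 1) (rfl : n + 1 + 1 = n + 1 + 1)
        · rw [ff_add, ff_swapFun, ff_swapFun, ff_swapFun, ff_add, neg_add]
        · rw [sf_add, sf_swapFun, sf_swapFun, sf_swapFun, fs_add]
        · rw [fs_add, fs_swapFun, fs_swapFun, fs_swapFun, sf_add]
        · rw [ss_add, ss_swapFun, ss_swapFun, ss_swapFun, ss_add] }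
  smul n c z := by
    show swapFun a b K n (c • z) = c • swapFun a b K n z
    apply ext4 b a K (rfl : n + 1 = n + 1) (rfl : n + 1 + 1 = n + 1 + 1)
    · rw [ff_smul, ff_swapFun, ff_swapFun, ff_smul, smul_neg]
    · rw [sf_smul, sf_swapFun, sf_swapFun, fs_smul]
    · rw [fs_smul, fs_swapFun, fs_swapFun, sf_smul]
    · rw [ss_smul, ss_swapFun, ss_swapFun, ss_smul]
  comm i j z := by
    show swapFun a b K j ((D2 a b K).d i j z) = (D2 b a K).d i j (swapFun a b K i z)
    by_cases hij : i + 1 = j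
    · subst hij
      apply ext4 b a K (rfl : i + 1 + 1 = i + 1 + 1) (rfl : i + 1 + 1 + 1 = i + 1 + 1 + 1)
      · rw [ff_swapFun, ff_d a b K i (i+1) (i+1+1) (i+1+1+1) rfl rfl rfl,
          ff_d b a K i (i+1) (i+1+1) (i+1+1+1) rfl rfl rfl, ff_swapFun, map_neg]
      · rw [sf_swapFun, fs_d a b K i (i+1) (i+1+1) rfl rfl, sf_d b a K i (i+1) (i+1+1) rfl rfl,
          ff_swapFun, sf_swapFun, smul_neg, neg_neg]
      · rw [fs_swapFun, sf_d a b K i (i+1) (i+1+1) rfl rfl, fs_d b a K i (i+1) (i+1+1) rfl rfl,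
          ff_swapFun, fs_swapFun, smul_neg]
      · rw [ss_swapFun, ss_d a b K i (i+1) rfl, ss_d b a K i (i+1) rfl, sf_swapFun, fs_swapFun,
          ss_swapFun]
        abel
    · rw [HomologicalComplex.shape _ i j hij, HomologicalComplex.shape _ i j hij]
      apply ext4 b a K (rfl : j + 1 = j + 1) (rfl : j + 1 + 1 = j + 1 + 1)
      · rw [ff_swapFun]; simp [ff]
      · rw [sf_swapFun]; simp [sf, fs]
      · rw [fs_swapFun]; simp [sf, fs]
      · rw [ss_swapFun]; simp [ss]

end swap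

section perm

variable {A : Type u} [CommRing A]

/-- permutation invariance of iterated cones -/
theorem kz_perm (K : Cx A) {l₁ l₂ : List A} (h : l₁.Perm l₂) :
    Nonempty (SLE (RingHom.id A) (kz K l₁) (kz K l₂)) := by
  induction h with
  | nil => exact ⟨SLE.refl _⟩
  | cons x _ ih =>
    obtain ⟨s⟩ := ih
    exact ⟨s.cone x⟩
  | swap x y l => exact ⟨swapSLE y x (kz K l)⟩
  | trans _ _ ih1 ih2 =>
    obtain ⟨s⟩ := ih1
    obtain ⟨t⟩ := ih2
    exact ⟨s.trans' t⟩

lemma kz_append (K : Cx A) (l₁ l₂ : List A) : kz K (l₁ ++ l₂) = kz (kz K l₂) l₁ := by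
  induction l₁ with
  | nil => rfl
  | cons a l ih =>
    show mappingCone (a • 𝟙 (kz K (l ++ l₂))) = mappingCone (a • 𝟙 (kz (kz K l₂) l))
    rw [ih]

end perm

end Groth.Agent.H59.Kosz
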