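import Groth.Agent.H59.KoszH1

/-!
# Koszul complex of a scaled sequence `(x f_1, …, x f_n)`
-/

universe u
open CategoryTheory CochainComplex HomologicalComplex Limits
open scoped Pointwise

namespace Groth.Agent.H59.Kosz

variable {A : Type u} [CommRing A]

section coneScale
variable (K' K : Cx A) (x f : A) (φ : ∀ n, K'.X n ≃ₗ[A] K.X n)

/-- the induced termwise equivalence of cones -/
noncomputable def coneScaleEquiv (n : ℤ) :
    (mappingCone ((x * f) • 𝟙 K')).X n ≃ₗ[A] (mappingCone (f • 𝟙 K)).X n :=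
  (coneEquiv (x * f) K' (n+1) n rfl).trans
    (((φ (n+1)).prodCongr (φ n)).trans (coneEquiv f K (n+1) n rfl).symm)

lemma fst_coneScaleEquiv (n : ℤ) (z : (mappingCone ((x * f) • 𝟙 K')).X n) :
    (mappingCone.fst (f • 𝟙 K)).1.v n (n+1) rfl (coneScaleEquiv K' K x f φ n z) =
      φ (n+1) ((mappingCone.fst ((x * f) • 𝟙 K')).1.v n (n+1) rfl z) := by
  have h := (coneEquiv f K (n+1) n rfl).apply_symm_apply
    (((φ (n+1)).prodCongr (φ n)) (coneEquiv (x * f) K' (n+1) n rfl z))
  have h1 := congrArg Prod.fst h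
  rw [coneEquiv_apply] at h1
  exact h1

lemma snd_coneScaleEquiv (n : ℤ) (z : (mappingCone ((x * f) • 𝟙 K')).X n) :
    (mappingCone.snd (f • 𝟙 K)).v n n (add_zero n) (coneScaleEquiv K' K x f φ n z) =
      φ n ((mappingCone.snd ((x * f) • 𝟙 K')).v n n (add_zero n) z) := by
  have h := (coneEquiv f K (n+1) n rfl).apply_symm_apply
    (((φ (n+1)).prodCongr (φ n)) (coneEquiv (x * f) K' (n+1) n rfl z))
  have h1 := congrArg Prod.snd h
  rw [coneEquiv_apply] at h1
  exact h1

lemma coneScaleEquiv_d (hφ : ∀ i j z, φ j (K'.d i j z) = x • K.d i j (φ i z)) (i j : ℤ)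
    (z : (mappingCone ((x * f) • 𝟙 K')).X i) :
    coneScaleEquiv K' K x f φ j ((mappingCone ((x * f) • 𝟙 K')).d i j z) =
      x • (mappingCone (f • 𝟙 K)).d i j (coneScaleEquiv K' K x f φ i z) := by
  by_cases hij : i + 1 = j
  · subst hij
    apply ext_elt
    · rw [fst_coneScaleEquiv, d_fst_apply (x * f) K' i (i+1) (i+1+1) rfl rfl, map_neg, hφ,
        map_smul, d_fst_apply f K i (i+1) (i+1+1) rfl rfl, fst_coneScaleEquiv, smul_neg]
    · rw [snd_coneScaleEquiv, d_snd_apply (x * f) K' i (i+1) rfl, map_add, map_smul, hφ,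
        map_smul, d_snd_apply f K i (i+1) rfl, fst_coneScaleEquiv, snd_coneScaleEquiv, smul_add,
        mul_smul]
  · have h1 : (mappingCone ((x * f) • 𝟙 K')).d i j = 0 :=
      HomologicalComplex.shape _ _ _ hij
    have h2 : (mappingCone (f • 𝟙 K)).d i j = 0 := HomologicalComplex.shape _ _ _ hij
    rw [h1, h2]
    simp

end coneScale

/-- termwise identification of `K(x l)` with `K(l)`, scaling the differential by `x` -/
theorem exists_scaleEquiv (K₀ : Cx A) (h0 : ∀ i j, K₀.d i j = 0) (l : List A) (x : A) :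
    ∃ φ : ∀ n, (kz K₀ (l.map (fun f => x * f))).X n ≃ₗ[A] (kz K₀ l).X n,
      ∀ i j z, φ j ((kz K₀ (l.map (fun f => x * f))).d i j z) = x • (kz K₀ l).d i j (φ i z) := by
  induction l with
  | nil =>
    refine ⟨fun n => LinearEquiv.refl A _, fun i j z => ?_⟩
    have h1 : ∀ w, (K₀.d i j) w = 0 := fun w => by rw [h0]; rfl
    show (K₀.d i j) z = x • (K₀.d i j) z
    rw [h1 z, smul_zero]
  | cons f l ih =>
    obtain ⟨φ, hφ⟩ := ih
    exact ⟨coneScaleEquiv _ _ x f φ, coneScaleEquiv_d _ _ x f φ hφ⟩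

/-- regularity of `x` on the terms of iterated cones -/
theorem isSMulRegular_kz (K₀ : Cx A) (x : A) (h0 : ∀ n, IsSMulRegular (K₀.X n) x) (l : List A) :
    ∀ n, IsSMulRegular ((kz K₀ l).X n) x := by
  induction l with
  | nil => exact h0
  | cons f l ih =>
    intro n (a : (mappingCone (f • 𝟙 (kz K₀ l))).X n) (b : (mappingCone (f • 𝟙 (kz K₀ l))).X n) hab
    have hab' : x • a = x • b := hab
    apply (coneEquiv f (kz K₀ l) (n+1) n rfl).injective
    have h1 := congrArg (coneEquiv f (kz K₀ l) (n+1) n rfl) hab'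
    rw [LinearEquiv.map_smul, LinearEquiv.map_smul] at h1
    refine Prod.ext ?_ ?_
    · exact ih (n+1) (congrArg Prod.fst h1)
    · exact ih n (congrArg Prod.snd h1)

lemma isSMulRegular_sgl (x : A) (hx : x ∈ nonZeroDivisors A) (n : ℤ) :
    IsSMulRegular ((sgl (ModuleCat.of A A)).X n) x := by
  by_cases hn : n = 0
  · subst hn
    intro a b hab
    have hab' : x • a = x • b := hab
    let e := (HomologicalComplex.singleObjXSelf (ComplexShape.up ℤ) 0
      (ModuleCat.of A A)).toLinearEquiv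
    apply e.injective
    have h1 := congrArg e hab'
    rw [map_smul, map_smul] at h1
    have h2 : x * (e a - e b) = 0 := by
      rw [mul_sub]; exact sub_eq_zero.2 h1
    have h3 := (mem_nonZeroDivisors_iff.1 hx).1 _ h2
    exact sub_eq_zero.1 h3
  · have hz : IsZero ((sgl (ModuleCat.of A A)).X n) :=
      HomologicalComplex.isZero_single_obj_X (ComplexShape.up ℤ) 0 (ModuleCat.of A A) n hn
    have := ModuleCat.subsingleton_of_isZero hz
    intro a b _
    exact Subsingleton.elim _ _

/-- homology of a complex whose differential is `x` times that of `K` -/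
theorem homology_scaled (K' K : Cx A) (x : A) (φ : ∀ n, K'.X n ≃ₗ[A] K.X n)
    (hφ : ∀ i j z, φ j (K'.d i j z) = x • K.d i j (φ i z)) (q : ℤ)
    (hreg : IsSMulRegular (K.X (q+1)) x) :
    Nonempty (K'.homology q ≅ ModuleCat.of A (↥(LinearMap.ker (K.d q (q+1)).hom) ⧸
      Submodule.comap (LinearMap.ker (K.d q (q+1)).hom).subtype
        (Ideal.span {x} • LinearMap.range (K.d (q-1) q).hom))) := by
  have hmap : Submodule.map (φ q).toLinearMap (LinearMap.ker (K'.d q (q+1)).hom) =
      LinearMap.ker (K.d q (q+1)).hom := by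
    ext y
    constructor
    · rintro ⟨z, hz, rfl⟩
      have h1 := hφ q (q+1) z
      have hz' : (K'.d q (q+1)) z = 0 := hz
      rw [hz', map_zero] at h1
      show (K.d q (q+1)) (φ q z) = 0
      apply hreg
      show x • _ = x • _
      rw [← h1, smul_zero]
    · intro hy
      have hy' : (K.d q (q+1)) y = 0 := hy
      refine ⟨(φ q).symm y, ?_, (φ q).apply_symm_apply y⟩
      show (K'.d q (q+1)) ((φ q).symm y) = 0
      apply (φ (q+1)).injective
      rw [hφ, LinearEquiv.apply_symm_apply, hy', smul_zero, map_zero]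
  let e := (φ q).ofSubmodules _ _ hmap
  let S := K'.sc' (q-1) q (q+1)
  have hrange : Submodule.map e.toLinearMap (LinearMap.range S.moduleCatToCycles) =
      Submodule.comap (LinearMap.ker (K.d q (q+1)).hom).subtype
        (Ideal.span {x} • LinearMap.range (K.d (q-1) q).hom) := by
    rw [Submodule.ideal_span_singleton_smul]
    ext y
    constructor
    · rintro ⟨_, ⟨w, rfl⟩, rfl⟩
      refine (?_ : (φ q) ((K'.d (q-1) q) w) ∈ x • LinearMap.range (K.d (q-1) q).hom)
      rw [hφ (q-1) q w]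
      exact Submodule.smul_mem_pointwise_smul _ _ _ ⟨_, rfl⟩
    · intro hy
      have hy' : (y : K.X q) ∈ x • LinearMap.range (K.d (q-1) q).hom := hy
      obtain ⟨_, ⟨w, rfl⟩, hw⟩ := (Submodule.mem_smul_pointwise_iff_exists _ _ _).1 hy'
      refine ⟨S.moduleCatToCycles ((φ (q-1)).symm w), ⟨_, rfl⟩, ?_⟩
      apply Subtype.ext
      show (φ q) ((K'.d (q-1) q) ((φ (q-1)).symm w)) = y
      rw [hφ, LinearEquiv.apply_symm_apply]
      exact hw
  exact ⟨K'.homologyIsoSc' (q-1) q (q+1) (by simp) (by simp) ≪≫ S.moduleCatHomologyIso ≪≫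
    (Submodule.Quotient.equiv _ _ e hrange).toModuleIso⟩

/-- `H^q(K(x l)) ≅ Z^q(K(l)) / x B^q(K(l))` for a non-zero-divisor `x` -/
theorem homology_kz_scaled (l : List A) (x : A) (hx : x ∈ nonZeroDivisors A) (q : ℤ) :
    Nonempty ((kz (sgl (ModuleCat.of A A)) (l.map (fun f => x * f))).homology q ≅
      ModuleCat.of A (↥(LinearMap.ker ((kz (sgl (ModuleCat.of A A)) l).d q (q+1)).hom) ⧸
        Submodule.comap (LinearMap.ker ((kz (sgl (ModuleCat.of A A)) l).d q (q+1)).hom).subtype
          (Ideal.span {x} • LinearMap.range ((kz (sgl (ModuleCat.of A A)) l).d (q-1) q).hom))) := by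
  obtain ⟨φ, hφ⟩ := exists_scaleEquiv (sgl (ModuleCat.of A A))
    (fun i j => HomologicalComplex.single_obj_d _ _ _ _ _) l x
  exact homology_scaled _ _ x φ hφ q
    (isSMulRegular_kz _ x (isSMulRegular_sgl x hx) l (q+1))

end Groth.Agent.H59.Kosz
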