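import Groth.Agent.H59.KRegLCI
import Groth.Agent.H59.KoszDepth

/-!
# Spreading out Koszul-regularity from a stalk (Noetherian case)
-/

universe u
open CategoryTheory CochainComplex HomologicalComplex Limits TensorProduct

namespace Groth.Agent.H59.Kosz

section phi

variable {P : Type u} [CommRing P]

/-- every cycle in degree `n` becomes a boundary after multiplication by an element of `S` -/
def Phi (S : Submonoid P) (K : Cx P) (n : ℤ) : Prop :=
  ∀ (i k : ℤ) (_ : i + 1 = n) (_ : n + 1 = k) (z : K.X n), K.d n k z = 0 →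
    ∃ t ∈ S, ∃ w : K.X i, K.d i n w = t • z

variable {T : Type u} [CommRing T] [Algebra P T] (S : Submonoid P) [IsLocalization S T]
  {K : Cx P} {L : Cx T} (s : BC K L)

include S in
lemma frac (n : ℤ) (y : L.X n) : ∃ (k : K.X n) (t : P), t ∈ S ∧
    algebraMap P T t • y = s.e n (1 ⊗ₜ[P] k) := by
  haveI : IsLocalizedModule S (TensorProduct.mk P T (K.X n) 1) :=
    (isLocalizedModule_iff_isBaseChange S T _).mpr (TensorProduct.isBaseChange P (K.X n) T)
  obtain ⟨⟨k, t⟩, ht⟩ := IsLocalizedModule.surj S (TensorProduct.mk P T (K.X n) 1)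
    ((s.e n).symm y)
  refine ⟨k, t.1, t.2, ?_⟩
  have h1 : (t : P) • (s.e n).symm y = (1 : T) ⊗ₜ[P] k := ht
  have h2 := congrArg (s.e n) h1
  rw [← algebraMap_smul T (t : P) ((s.e n).symm y), map_smul, LinearEquiv.apply_symm_apply] at h2
  exact h2

include S in
lemma eq_zero_of_e (n : ℤ) (k : K.X n) (h : s.e n (1 ⊗ₜ[P] k) = 0) : ∃ t ∈ S, t • k = 0 := by
  haveI : IsLocalizedModule S (TensorProduct.mk P T (K.X n) 1) :=
    (isLocalizedModule_iff_isBaseChange S T _).mpr (TensorProduct.isBaseChange P (K.X n) T)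
  have h1 : (1 : T) ⊗ₜ[P] k = 0 := by
    apply (s.e n).injective; rw [h, map_zero]
  obtain ⟨t, ht⟩ := (IsLocalizedModule.eq_zero_iff S (TensorProduct.mk P T (K.X n) 1)).mp h1
  exact ⟨t.1, t.2, ht⟩

lemma e_smul (n : ℤ) (t : P) (k : K.X n) :
    s.e n (1 ⊗ₜ[P] (t • k)) = algebraMap P T t • s.e n (1 ⊗ₜ[P] k) := by
  rw [← map_smul, TensorProduct.tmul_smul, algebraMap_smul]

include S s in
/-- exactness of the localized complex gives `Phi` -/
lemma phi_of_ex {n : ℤ} (h : Ex L n) : Phi S K n := by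
  intro i k hi hk z hz
  have hy : L.d n k (s.e n (1 ⊗ₜ[P] z)) = 0 := by
    rw [← s.comm, hz, tmul_zero, map_zero]
  obtain ⟨w', hw'⟩ := h i k hi hk _ hy
  obtain ⟨k₀, t, ht, hk₀⟩ := frac S s i w'
  have h1 : s.e n (1 ⊗ₜ[P] (K.d i n k₀ - t • z)) = 0 := by
    rw [tmul_sub, map_sub, s.comm, ← hk₀, map_smul, hw', e_smul, sub_self]
  obtain ⟨t', ht', h2⟩ := eq_zero_of_e S s n _ h1
  refine ⟨t' * t, S.mul_mem ht' ht, t' • k₀, ?_⟩
  rw [map_smul, mul_smul]
  rw [smul_sub, sub_eq_zero] at h2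
  exact h2

include S s in
/-- `Phi` gives exactness of the localized complex -/
lemma ex_of_phi {n : ℤ} (h : Phi S K n) : Ex L n := by
  intro i k hi hk w hw
  obtain ⟨k₀, t, ht, hk₀⟩ := frac S s n w
  have h1 : s.e k (1 ⊗ₜ[P] (K.d n k k₀)) = 0 := by
    rw [s.comm, ← hk₀, map_smul, hw, smul_zero]
  obtain ⟨t', ht', h2⟩ := eq_zero_of_e S s k _ h1
  have h3 : K.d n k (t' • k₀) = 0 := by rw [map_smul, h2]
  obtain ⟨t'', ht'', k'', hk''⟩ := h i k hi hk _ h3
  -- the unit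
  have hu : IsUnit (algebraMap P T (t'' * t' * t)) :=
    IsLocalization.map_units T ⟨t'' * t' * t, S.mul_mem (S.mul_mem ht'' ht') ht⟩
  obtain ⟨c, hc⟩ := hu
  refine ⟨(↑c⁻¹ : T) • s.e i (1 ⊗ₜ[P] k''), ?_⟩
  rw [map_smul, ← s.comm, hk'', ← mul_smul, e_smul, ← hk₀, ← mul_smul, ← mul_smul, mul_assoc,
    ← map_mul, ← hc, Units.inv_mul, one_smul]

lemma Phi.mono {S : Submonoid P} {K : Cx P} {n : ℤ} {g₁ : P} (g₂ : P)
    (h : Phi (Submonoid.powers g₁) K n) : Phi (Submonoid.powers (g₁ * g₂)) K n := by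
  intro i k hi hk z hz
  obtain ⟨t, ⟨m, rfl⟩, w, hw⟩ := h i k hi hk z hz
  refine ⟨(g₁ * g₂) ^ m, ⟨m, rfl⟩, g₂ ^ m • w, ?_⟩
  rw [map_smul, hw, ← mul_smul, mul_pow, mul_comm]

lemma Phi.mono' {K : Cx P} {n : ℤ} {g₁ : P} (g₂ : P)
    (h : Phi (Submonoid.powers g₁) K n) : Phi (Submonoid.powers (g₂ * g₁)) K n := by
  rw [mul_comm]; exact Phi.mono (S := ⊤) g₂ h

/-- Noetherian spreading in one degree -/
lemma phi_spread [IsNoetherianRing P] (𝔮 : Ideal P) [𝔮.IsPrime] (K : Cx P) (n : ℤ)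
    [Module.Finite P (K.X n)] (h : Phi 𝔮.primeCompl K n) :
    ∃ g ∉ 𝔮, Phi (Submonoid.powers g) K n := by
  classical
  have hfg : (LinearMap.ker (K.d n (n+1)).hom).FG := IsNoetherian.noetherian _
  obtain ⟨F, hF⟩ := hfg
  have hz : ∀ z ∈ F, ∃ t : P, t ∉ 𝔮 ∧ ∃ w : K.X (n-1), K.d (n-1) n w = t • z := by
    intro z hzF
    have hzk : z ∈ LinearMap.ker (K.d n (n+1)).hom := hF ▸ Submodule.subset_span hzF
    obtain ⟨t, ht, w, hw⟩ := h (n-1) (n+1) (by omega) rfl z hzk
    exact ⟨t, ht, w, hw⟩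
  choose! tt htt ww hww using hz
  refine ⟨∏ z ∈ F, tt z, ?_, ?_⟩
  · intro hmem
    obtain ⟨z, hzF, hz⟩ := (Ideal.IsPrime.prod_mem_iff).mp hmem
    exact htt z hzF hz
  · intro i k hi hk z hz
    obtain rfl : i = n - 1 := by omega
    obtain rfl : k = n + 1 := by omega
    refine ⟨∏ z ∈ F, tt z, Submonoid.mem_powers _, ?_⟩
    have hzk : z ∈ Submodule.span P (F : Set (K.X n)) := by rw [hF]; exact hz
    refine Submodule.span_induction (p := fun z _ => ∃ w : K.X (n-1),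
      K.d (n-1) n w = (∏ z ∈ F, tt z) • z) ?_ ?_ ?_ ?_ hzk
    · intro z hzF
      obtain ⟨c, hc⟩ := Finset.dvd_prod_of_mem tt hzF
      refine ⟨c • ww z, ?_⟩
      rw [map_smul, hww z hzF, ← mul_smul, hc, mul_comm]
    · exact ⟨0, by simp⟩
    · rintro x y _ _ ⟨wx, hwx⟩ ⟨wy, hwy⟩
      exact ⟨wx + wy, by rw [map_add, hwx, hwy, smul_add]⟩
    · rintro c x _ ⟨wx, hwx⟩
      exact ⟨c • wx, by rw [map_smul, hwx, smul_comm]⟩

end phi

section finite

variable {P : Type u} [CommRing P]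

lemma finite_kz (l : List P) : ∀ n : ℤ, Module.Finite P ((kz (sgl (ModuleCat.of P P)) l).X n) := by
  induction l with
  | nil =>
    intro n
    by_cases hn : n = 0
    · subst hn
      exact Module.Finite.equiv (HomologicalComplex.singleObjXSelf (ComplexShape.up ℤ) 0
        (ModuleCat.of P P)).toLinearEquiv.symm
    · haveI : Subsingleton ((sgl (ModuleCat.of P P)).X n) := ModuleCat.subsingleton_of_isZero
        (HomologicalComplex.isZero_single_obj_X (ComplexShape.up ℤ) 0 _ n hn)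
      exact (inferInstance : Module.Finite P ((sgl (ModuleCat.of P P)).X n))
  | cons f l ih =>
    intro n
    haveI := ih (n+1)
    haveI := ih n
    exact Module.Finite.equiv (coneEquiv f (kz (sgl (ModuleCat.of P P)) l) (n+1) n rfl).symm

end finite

/-- **Spreading out** Koszul-regularity from the localization at a prime. -/
theorem kreg_spread {P : Type u} [CommRing P] [IsNoetherianRing P] (𝔮 : Ideal P) [𝔮.IsPrime]
    (a : List P)
    (h : LCI.IsKoszulRegularSeq (Localization.AtPrime 𝔮)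
      (a.map (algebraMap P (Localization.AtPrime 𝔮)))) :
    ∃ g ∉ 𝔮, LCI.IsKoszulRegularSeq (Localization.Away g)
      (a.map (algebraMap P (Localization.Away g))) := by
  classical
  rw [kreg_iff] at h
  set K := kz (sgl (ModuleCat.of P P)) a with hK
  have hphi : ∀ n : ℤ, n < 0 → Phi 𝔮.primeCompl K n := fun n hn =>
    phi_of_ex 𝔮.primeCompl ((sglBC P (Localization.AtPrime 𝔮)).kz a) (h n hn)
  -- finitely many degrees
  have key : ∀ N : ℕ, ∃ g ∉ 𝔮, ∀ n : ℤ, n < 0 → -(N : ℤ) ≤ n → Phi (Submonoid.powers g) K n := by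
    intro N
    induction N with
    | zero => exact ⟨1, fun h1 => (Ideal.IsPrime.ne_top inferInstance)
        ((Ideal.eq_top_iff_one _).mpr h1), fun n hn hn' => by simp at hn'; omega⟩
    | succ N ih =>
      obtain ⟨g₁, hg₁, hN⟩ := ih
      haveI := finite_kz a (-((N : ℤ) + 1))
      obtain ⟨g₂, hg₂, hg₂'⟩ := phi_spread 𝔮 K (-((N : ℤ) + 1)) (hphi _ (by omega))
      refine ⟨g₁ * g₂, fun hm => (Ideal.IsPrime.mem_or_mem inferInstance hm).elim hg₁ hg₂, ?_⟩
      intro n hn hn'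
      by_cases hcase : -(N : ℤ) ≤ n
      · exact Phi.mono (S := ⊤) g₂ (hN n hn hcase)
      · obtain rfl : n = -((N : ℤ) + 1) := by push_cast at hn'; omega
        exact Phi.mono' g₁ hg₂'
  obtain ⟨g, hg, hgN⟩ := key a.length
  refine ⟨g, hg, ?_⟩
  rw [kreg_iff]
  intro n hn
  by_cases hcase : -(a.length : ℤ) ≤ n
  · exact ex_of_phi (Submonoid.powers g) ((sglBC P (Localization.Away g)).kz a) (hgN n hn hcase)
  · intro i k hi hk x hx
    haveI : Subsingleton ((kz (sgl (ModuleCat.of (Localization.Away g) (Localization.Away g)))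
        (a.map (algebraMap P (Localization.Away g)))).X n) :=
      ModuleCat.subsingleton_of_isZero (isZero_kz_neg _ _ n (by
        rw [List.length_map]; omega))
    exact ⟨0, Subsingleton.elim _ _⟩

end Groth.Agent.H59.Kosz
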