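import Groth.Agent.H59.LCIDesc

/-!
# Descent of LCI algebras along a finite jointly surjective flat family: main ring theorem
-/

universe u
open TensorProduct CategoryTheory AlgebraicGeometry

namespace Groth.Agent.H59.Kosz

/-- points of the fibre product of spectra -/
lemma mem_range_comap_includeRight {A A' P : Type u} [CommRing A] [CommRing A'] [CommRing P]
    [Algebra A A'] [Algebra A P] (𝔮 : PrimeSpectrum P)
    (h : PrimeSpectrum.comap (algebraMap A P) 𝔮 ∈
      Set.range (PrimeSpectrum.comap (algebraMap A A'))) :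
    𝔮 ∈ Set.range (PrimeSpectrum.comap
      (Algebra.TensorProduct.includeRight : P →ₐ[A] A' ⊗[A] P).toRingHom) := by
  obtain ⟨x, hx⟩ := h
  obtain ⟨z, hz1, hz2⟩ := Scheme.Pullback.exists_preimage_pullback
    (f := Spec.map (CommRingCat.ofHom (algebraMap A A')))
    (g := Spec.map (CommRingCat.ofHom (algebraMap A P))) x 𝔮 hx
  refine ⟨(pullbackSpecIso A A' P).hom.base z, ?_⟩
  have := pullbackSpecIso_hom_snd A A' P
  have h2 := congrArg (fun φ => φ.base z) this
  simp only [Scheme.Hom.comp_base, TopCat.comp_app] at h2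
  rw [hz2] at h2
  exact h2

attribute [local instance] Algebra.TensorProduct.rightAlgebra in
/-- **Descent of LCI algebras** along a finite family of flat algebras which is jointly
surjective on spectra. -/
theorem isLCI_of_flat_family (A B : Type u) [CommRing A] [CommRing B] [Algebra A B]
    [hft : Algebra.FiniteType A B] (m : ℕ) (A' : Fin m → Type u) [∀ j, CommRing (A' j)]
    [∀ j, Algebra A (A' j)] [∀ j, Module.Flat A (A' j)]
    (hsurj : ∀ p : PrimeSpectrum A, ∃ j,
      p ∈ Set.range (PrimeSpectrum.comap (algebraMap A (A' j))))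
    (h : ∀ j, LCI.IsLCI (A' j) (A' j ⊗[A] B)) : LCI.IsLCI A B := by
  obtain ⟨n, α, hα⟩ := Algebra.FiniteType.iff_quotient_mvPolynomial''.mp hft
  refine ⟨hft, n, α, hα, ?_⟩
  haveI : ∀ j, Module.Flat (MvPolynomial (Fin n) A) (A' j ⊗[A] MvPolynomial (Fin n) A) :=
    fun j => Module.Flat.of_linearEquiv
      (Algebra.TensorProduct.commRight A (MvPolynomial (Fin n) A) (A' j)).symm.toLinearEquiv
  have hK : ∀ j, LCI.IsKoszulRegularIdeal ((RingHom.ker α.toRingHom).map
      (algebraMap (MvPolynomial (Fin n) A) (A' j ⊗[A] MvPolynomial (Fin n) A))) :=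
    fun j => kregIdeal_map_includeRight_of_isLCI A (A' j) B n α hα (h j)
  have hs : ∀ 𝔮 : PrimeSpectrum (MvPolynomial (Fin n) A), ∃ j, 𝔮 ∈ Set.range
      (PrimeSpectrum.comap (algebraMap (MvPolynomial (Fin n) A)
        (A' j ⊗[A] MvPolynomial (Fin n) A))) := by
    intro 𝔮
    obtain ⟨j, hj⟩ := hsurj (PrimeSpectrum.comap (algebraMap A (MvPolynomial (Fin n) A)) 𝔮)
    exact ⟨j, mem_range_comap_includeRight 𝔮 hj⟩
  haveI : Module.FaithfullyFlat (MvPolynomial (Fin n) A)
      (∀ j, A' j ⊗[A] MvPolynomial (Fin n) A) :=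
    faithfullyFlat_pi (fun j => A' j ⊗[A] MvPolynomial (Fin n) A) hs
  exact kregIdeal_of_faithfullyFlat (B := ∀ j, A' j ⊗[A] MvPolynomial (Fin n) A) _
    (kregIdeal_map_pi (fun j => A' j ⊗[A] MvPolynomial (Fin n) A) _ hK)

end Groth.Agent.H59.Kosz
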