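import Mathlib
import Groth.Agent.S9254
import Groth.Agent.H59.KRegLCI
import Groth.Agent.H56.LciComp
import Groth.Agent.H66.RelCI4

/-!
# Syntomic implies local complete intersection
-/

universe u

namespace Groth.Agent.H59.SyntLCI

open Groth.Agent.H59.Kosz

/-- an ideal generated by a Koszul-regular sequence is a Koszul-regular ideal -/
theorem kregIdeal_of_kreg {A : Type u} [CommRing A] (l : List A)
    (h : LCI.IsKoszulRegularSeq A l) : LCI.IsKoszulRegularIdeal (Ideal.span {x | x ∈ l}) := by
  apply kregIdeal_intro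
  intro 𝔭 _
  haveI : IsLocalization.Away (1 : A) A :=
    IsLocalization.away_of_isUnit_of_bijective A isUnit_one Function.bijective_id
  refine ⟨1, fun h1 => 𝔭.isPrime.ne_top ((Ideal.eq_top_iff_one _).mpr h1), A, inferInstance,
    inferInstance, inferInstance, l, h, ?_⟩
  rw [Algebra.algebraMap_self, Ideal.map_id]

/-- a relative global complete intersection is a local complete intersection -/
theorem isLCI_relGCIRing (R : Type u) [CommRing R] (n c : ℕ)
    (F : Fin c → MvPolynomial (Fin n) R) (h : Synt.IsRelGCI R n c F) :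
    LCI.IsLCI R (Synt.RelGCIRing R n c F) := by
  have hsurj : Function.Surjective (Ideal.Quotient.mkₐ R (Ideal.span (Set.range F))) :=
    Ideal.Quotient.mkₐ_surjective R _
  refine ⟨Algebra.FiniteType.of_surjective _ hsurj, n,
    Ideal.Quotient.mkₐ R (Ideal.span (Set.range F)), hsurj, ?_⟩
  have hk : RingHom.ker (Ideal.Quotient.mkₐ R (Ideal.span (Set.range F))).toRingHom =
      Ideal.span {x | x ∈ List.ofFn F} := by
    have : (Ideal.Quotient.mkₐ R (Ideal.span (Set.range F))).toRingHom =
        Ideal.Quotient.mk (Ideal.span (Set.range F)) := rfl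
    rw [this, Ideal.mk_ker]
    congr 1
    ext x
    simp [List.mem_ofFn]
  rw [hk]
  exact kregIdeal_of_kreg _ (Groth.Agent.S9254.aux R n c F h)

/-- **Syntomic implies lci.** -/
theorem isLCI_of_isSyntomic (R S : Type u) [CommRing R] [CommRing S] [Algebra R S]
    (h : Synt.IsSyntomic R S) : LCI.IsLCI R S := by
  classical
  have key : ∀ q : PrimeSpectrum S, ∃ g : S, g ∉ q.asIdeal ∧ LCI.IsLCI R (Localization.Away g) := by
    intro q
    obtain ⟨g, hg, n, c, F, hF, ⟨e⟩⟩ := Groth.Agent.H66.RelCI.exists_relGCI_of_isSyntomic h q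
    exact ⟨g, hg, Groth.Agent.H56.LciComp.isLCI_of_algEquiv R _ _ e.symm
      (isLCI_relGCIRing R n c F hF)⟩
  choose g hg hlci using key
  have htop : Ideal.span (Set.range g) = ⊤ := by
    by_contra hne
    obtain ⟨M, hM, hle⟩ := Ideal.exists_le_maximal _ hne
    exact hg ⟨M, hM.isPrime⟩ (hle (Ideal.subset_span ⟨_, rfl⟩))
  obtain ⟨s, hs, hstop⟩ := (Ideal.span_eq_top_iff_finite _).mp htop
  let g' : Fin s.card → S := fun j => (s.equivFin.symm j : S)
  have hrange : Set.range g' = (s : Set S) := by
    ext x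
    constructor
    · rintro ⟨j, rfl⟩
      exact (s.equivFin.symm j).2
    · intro hx
      exact ⟨s.equivFin ⟨x, hx⟩, by simp [g']⟩
  refine isLCI_of_localization_span R S s.card g' (by rw [hrange]; exact hstop) ?_
  intro j
  obtain ⟨q, hq⟩ := hs (s.equivFin.symm j).2
  have : g' j = g q := hq.symm
  rw [this]
  exact hlci q

end Groth.Agent.H59.SyntLCI
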