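import Mathlib
import Groth.Agent.H59.FibKAt
import Groth.Agent.H59.KRegLoc
import Groth.Agent.H59.SyntLCI
import Groth.Agent.H56.LciSmooth
import Groth.Agent.H56.LciBasic
import Groth.Agent.H56.LciComp

/-!
# Pointwise LCI and pointwise Koszul-regularity of the kernel of a presentation (helper59)

`A → P` smooth, `φ : P → B` a surjection of `A`-algebras, `q` a prime of `B`.  Then `A → B_s` is a
local complete intersection map for some `s ∉ q` iff `ker φ` is generated by a Koszul-regular
sequence on a basic open neighbourhood of `φ⁻¹ q`.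
-/

set_option autoImplicit false
set_option linter.unusedVariables false
set_option linter.style.haveILetI false
set_option linter.unusedSectionVars false

universe u

namespace Groth.Agent.H59.LciAtKAt

open Groth.Agent.H59.Kosz Groth.Agent.H59.FibKAt Groth.Agent.H56.LciBasic
  Groth.Agent.H56.LciComp Groth.Agent.H56.LciSmooth

/-- `A → B` is LCI on a basic open neighbourhood of `q` -/
def LciAt (A : Type u) {B : Type u} [CommRing A] [CommRing B] [Algebra A B] (q : Ideal B) : Prop :=
  ∃ s : B, s ∉ q ∧ LCI.IsLCI A (Localization.Away s)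

section

variable {A P B : Type u} [CommRing A] [CommRing P] [CommRing B] [Algebra A P] [Algebra A B]
  [Algebra.Smooth A P] (φ : P →ₐ[A] B) (hφ : Function.Surjective φ) (q : Ideal B) [q.IsPrime]

/-- kernel of the localised presentation -/
lemma ker_mapₐ (g : P) (S : Type u) [CommRing S] [Algebra P S] [Algebra A S] [IsScalarTower A P S]
    [IsLocalization.Away g S] :
    RingHom.ker (IsLocalization.Away.mapₐ S (Localization.Away (φ g)) φ g).toRingHom =
      (RingHom.ker φ.toRingHom).map (algebraMap P S) := by
  have h := IsLocalization.ker_map (S := S) (Localization.Away (φ g)) φ.toRingHom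
    (M := Submonoid.powers g) (T := Submonoid.powers (φ g)) (Submonoid.map_powers φ.toRingHom g)
  rw [← h]
  rfl

include hφ in
theorem kAt_of_lciAt (h : LciAt A q) : KAt (RingHom.ker φ.toRingHom) (q.comap φ.toRingHom) := by
  obtain ⟨s, hs, hlci⟩ := h
  obtain ⟨G, rfl⟩ := hφ s
  let ᾱ : Localization.Away G →ₐ[A] Localization.Away (φ G) :=
    IsLocalization.Away.mapₐ (Localization.Away G) (Localization.Away (φ G)) φ G
  have hᾱ : Function.Surjective ᾱ := IsLocalization.Away.mapₐ_surjective_of_surjective G hφ
  letI : Algebra (Localization.Away G) (Localization.Away (φ G)) := ᾱ.toRingHom.toAlgebra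
  haveI : IsScalarTower A (Localization.Away G) (Localization.Away (φ G)) :=
    IsScalarTower.of_algebraMap_eq (fun r => (ᾱ.commutes r).symm)
  haveI : Algebra.Smooth P (Localization.Away G) := Algebra.Smooth.of_isLocalization_Away G
  haveI : Algebra.Smooth A (Localization.Away G) := Algebra.Smooth.comp A P (Localization.Away G)
  have hk := kreg_ker_of_smooth A (Localization.Away G) (Localization.Away (φ G)) hᾱ hlci
  have hker : RingHom.ker (algebraMap (Localization.Away G) (Localization.Away (φ G))) =
      (RingHom.ker φ.toRingHom).map (algebraMap P (Localization.Away G)) :=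
    ker_mapₐ φ G (Localization.Away G)
  rw [hker] at hk
  have hle : RingHom.ker φ.toRingHom ≤ q.comap φ.toRingHom := fun x hx => by
    rw [Ideal.mem_comap, RingHom.mem_ker.mp hx]; exact zero_mem _
  exact kregIdeal_at_of_away _ G hk ⟨q.comap φ.toRingHom, inferInstance⟩ hle hs

include hφ in
theorem lciAt_of_kAt (h : KAt (RingHom.ker φ.toRingHom) (q.comap φ.toRingHom)) : LciAt A q := by
  obtain ⟨g, hg, S, _, _, _, l, hl, hspan⟩ := h
  refine ⟨φ g, hg, ?_⟩
  letI : Algebra A S := ((algebraMap P S).comp (algebraMap A P)).toAlgebra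
  haveI : IsScalarTower A P S := IsScalarTower.of_algebraMap_eq' rfl
  let ᾱ : S →ₐ[A] Localization.Away (φ g) :=
    IsLocalization.Away.mapₐ S (Localization.Away (φ g)) φ g
  have hᾱ : Function.Surjective ᾱ := IsLocalization.Away.mapₐ_surjective_of_surjective g hφ
  letI : Algebra S (Localization.Away (φ g)) := ᾱ.toRingHom.toAlgebra
  haveI : IsScalarTower A S (Localization.Away (φ g)) :=
    IsScalarTower.of_algebraMap_eq (fun r => (ᾱ.commutes r).symm)
  haveI : Algebra.Smooth P S := Algebra.Smooth.of_isLocalization_Away g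
  haveI : Algebra.Smooth A S := Algebra.Smooth.comp A P S
  have hker : RingHom.ker (algebraMap S (Localization.Away (φ g))) =
      (RingHom.ker φ.toRingHom).map (algebraMap P S) := ker_mapₐ φ g S
  have hk : LCI.IsKoszulRegularIdeal (RingHom.ker (algebraMap S (Localization.Away (φ g)))) := by
    rw [hker, hspan]
    exact Groth.Agent.H59.SyntLCI.kregIdeal_of_kreg l hl
  exact isLCI_comp A S (Localization.Away (φ g)) (isLCI_of_smooth A S)
    (isLCI_of_surjective S (Localization.Away (φ g)) hᾱ hk)

include hφ in
theorem lciAt_iff_kAt : LciAt A q ↔ KAt (RingHom.ker φ.toRingHom) (q.comap φ.toRingHom) :=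
  ⟨kAt_of_lciAt φ hφ q, lciAt_of_kAt φ hφ q⟩

end

end Groth.Agent.H59.LciAtKAt
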