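import Mathlib
import Groth.Agent.H59.LciAtKAt
import Groth.Agent.H59.FibRegBC
import Groth.Agent.H79.FibreBridge

/-!
# The pointwise LCI locus commutes with base change, ring level (helper59)

`R → A → B` with `A`, `B` flat of finite presentation over `R`, `R → R'` arbitrary,
`A' = A ⊗_R R'`, `B' = B ⊗_R R'`, `q'` a prime of `B'` and `q` its preimage in `B`.  Then `A' → B'`
is LCI on a basic open neighbourhood of `q'` iff `A → B` is LCI on a basic open neighbourhood of
`q`.
-/

set_option autoImplicit false
set_option linter.unusedVariables false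
set_option linter.style.haveILetI false
set_option linter.unusedSectionVars false

universe u

open TensorProduct

namespace Groth.Agent.H59.LciAtBC

open Groth.Agent.H59.FibKAt Groth.Agent.H59.LciAtKAt Groth.Agent.H59.FibRegBC

section Pushout

variable (R A R' A' : Type u) [CommRing R] [CommRing A] [CommRing R'] [CommRing A']
  [Algebra R R'] [Algebra R A] [Algebra R' A'] [Algebra A A'] [Algebra R A']
  [IsScalarTower R R' A'] [IsScalarTower R A A'] [Algebra.IsPushout R A R' A']

lemma flat_of_isPushout [Module.Flat R A] : Module.Flat R' A' := by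
  have h : Algebra.IsPushout R R' A A' := Algebra.IsPushout.symm inferInstance
  exact Module.Flat.isBaseChange R R' A A' h.out

lemma fp_of_isPushout [Algebra.FinitePresentation R A] : Algebra.FinitePresentation R' A' := by
  have h : Algebra.IsPushout R R' A A' := Algebra.IsPushout.symm inferInstance
  exact Algebra.FinitePresentation.equiv (Algebra.IsPushout.equiv R R' A A')

end Pushout

section Right

lemma isPushout_right (R R' A A' B B' : Type u) [CommRing R] [CommRing R'] [CommRing A]
    [CommRing A'] [CommRing B] [CommRing B']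
    [Algebra R R'] [Algebra R A] [Algebra R B] [Algebra A B] [IsScalarTower R A B]
    [Algebra R' A'] [Algebra R' B'] [Algebra A' B'] [IsScalarTower R' A' B']
    [Algebra A A'] [Algebra B B'] [Algebra R A'] [Algebra R B'] [Algebra A B']
    [IsScalarTower R A A'] [IsScalarTower R R' A'] [IsScalarTower R B B'] [IsScalarTower R R' B']
    [IsScalarTower A B B'] [IsScalarTower A A' B']
    [Algebra.IsPushout R A R' A'] [Algebra.IsPushout R B R' B'] :
    Algebra.IsPushout A B A' B' := by
  haveI : IsScalarTower R A' B' := IsScalarTower.of_algebraMap_eq (fun r => by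
    rw [IsScalarTower.algebraMap_apply R R' B', IsScalarTower.algebraMap_apply R' A' B',
      ← IsScalarTower.algebraMap_apply R R' A'])
  exact (Algebra.IsPushout.comp_iff R A R' A').mp inferInstance

end Right

section Main

set_option synthInstance.maxHeartbeats 4000000

attribute [local instance] MvPolynomial.algebraMvPolynomial

open MvPolynomial in
set_option maxHeartbeats 3200000 in
theorem main (R R' A A' B B' : Type u) [CommRing R] [CommRing R'] [CommRing A]
    [CommRing A'] [CommRing B] [CommRing B']
    [Algebra R R'] [Algebra R A] [Algebra R B] [Algebra A B] [IsScalarTower R A B]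
    [Algebra R' A'] [Algebra R' B'] [Algebra A' B'] [IsScalarTower R' A' B']
    [Algebra A A'] [Algebra B B'] [Algebra R A'] [Algebra R B'] [Algebra A B']
    [IsScalarTower R A A'] [IsScalarTower R R' A'] [IsScalarTower R B B'] [IsScalarTower R R' B']
    [IsScalarTower A B B'] [IsScalarTower A A' B']
    [Algebra.IsPushout R A R' A'] [Algebra.IsPushout R B R' B']
    [Module.Flat R A] [Algebra.FinitePresentation R A] [Module.Flat R B]
    [Algebra.FinitePresentation R B]
    (n : ℕ) (φ : MvPolynomial (Fin n) A →ₐ[A] B) (hφ : Function.Surjective φ)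
    (q' : Ideal B') [q'.IsPrime] :
    LciAt A' q' ↔ LciAt A (q'.comap (algebraMap B B')) := by
  classical
  haveI hAB : Algebra.IsPushout A B A' B' := isPushout_right R R' A A' B B'
  haveI : Module.Flat R' A' := flat_of_isPushout R A R' A'
  haveI : Module.Flat R' B' := flat_of_isPushout R B R' B'
  haveI : Algebra.FinitePresentation R' A' := fp_of_isPushout R A R' A'
  haveI : Algebra.FinitePresentation R' B' := fp_of_isPushout R B R' B'
  -- the base-changed presentation
  let φ' : MvPolynomial (Fin n) A' →ₐ[A'] B' := aeval (fun i => algebraMap B B' (φ (X i)))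
  have hcompat : ∀ x : MvPolynomial (Fin n) A,
      φ' (algebraMap (MvPolynomial (Fin n) A) (MvPolynomial (Fin n) A') x) =
        algebraMap B B' (φ x) := by
    have : φ'.toRingHom.comp (algebraMap (MvPolynomial (Fin n) A) (MvPolynomial (Fin n) A')) =
        (algebraMap B B').comp φ.toRingHom := by
      apply MvPolynomial.ringHom_ext
      · intro a
        simp only [RingHom.comp_apply, MvPolynomial.algebraMap_def, map_C]
        show φ' (C (algebraMap A A' a)) = algebraMap B B' (φ (C a))
        have h1 : φ' (C (algebraMap A A' a)) = algebraMap A' B' (algebraMap A A' a) :=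
          φ'.commutes _
        have h2 : φ (C a) = algebraMap A B a := φ.commutes _
        rw [h1, h2, ← IsScalarTower.algebraMap_apply A A' B',
          ← IsScalarTower.algebraMap_apply A B B']
      · intro i
        simp only [RingHom.comp_apply, MvPolynomial.algebraMap_def, map_X]
        show φ' (X i) = algebraMap B B' (φ (X i))
        exact aeval_X _ i
    intro x
    exact congrArg (fun f => f x) this
  -- algebra structures for the right-hand pushout square
  letI aPB : Algebra (MvPolynomial (Fin n) A) B := φ.toRingHom.toAlgebra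
  letI aP'B' : Algebra (MvPolynomial (Fin n) A') B' := φ'.toRingHom.toAlgebra
  letI aPB' : Algebra (MvPolynomial (Fin n) A) B' :=
    ((algebraMap B B').comp φ.toRingHom).toAlgebra
  haveI t1 : IsScalarTower A (MvPolynomial (Fin n) A) B :=
    IsScalarTower.of_algebraMap_eq (fun r => (φ.commutes r).symm)
  haveI t2 : IsScalarTower (MvPolynomial (Fin n) A) B B' := IsScalarTower.of_algebraMap_eq' rfl
  haveI t3 : IsScalarTower (MvPolynomial (Fin n) A) (MvPolynomial (Fin n) A') B' :=
    IsScalarTower.of_algebraMap_eq (fun x => (hcompat x).symm)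
  haveI t4 : IsScalarTower A' (MvPolynomial (Fin n) A') B' :=
    IsScalarTower.of_algebraMap_eq (fun r => (φ'.commutes r).symm)
  haveI t5 : IsScalarTower A (MvPolynomial (Fin n) A') B' :=
    IsScalarTower.of_algebraMap_eq (fun r => by
      rw [IsScalarTower.algebraMap_apply A A' B',
        IsScalarTower.algebraMap_apply A A' (MvPolynomial (Fin n) A')]
      exact (φ'.commutes _).symm)
  haveI hPB : Algebra.IsPushout (MvPolynomial (Fin n) A) B (MvPolynomial (Fin n) A') B' :=
    (Algebra.IsPushout.comp_iff A (MvPolynomial (Fin n) A) A' (MvPolynomial (Fin n) A')).mp hAB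
  have hcat := CommRingCat.isPushout_of_isPushout (MvPolynomial (Fin n) A) B
    (MvPolynomial (Fin n) A') B'
  have hker : RingHom.ker φ'.toRingHom = (RingHom.ker φ.toRingHom).map
      (algebraMap (MvPolynomial (Fin n) A) (MvPolynomial (Fin n) A')) :=
    Groth.Agent.H79.FibreBridge.ker_of_isPushout hcat hφ
  have hφ' : Function.Surjective φ' := by
    have hcl := CommRingCat.closure_range_union_range_eq_top_of_isPushout hcat
    have hsub : Set.range (algebraMap B B') ∪ Set.range φ' ⊆ (φ'.toRingHom.range : Set B') := by
      rintro y (⟨b, rfl⟩ | ⟨x, rfl⟩)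
      · obtain ⟨x, rfl⟩ := hφ b
        exact ⟨algebraMap _ _ x, hcompat x⟩
      · exact ⟨x, rfl⟩
    have h2 : (⊤ : Subring B') ≤ φ'.toRingHom.range := by
      rw [← hcl]
      exact Subring.closure_le.mpr hsub
    intro y
    obtain ⟨x, hx⟩ := h2 (Subring.mem_top y)
    exact ⟨x, hx⟩
  -- the structure over `R`, `R'`
  haveI t6 : IsScalarTower R (MvPolynomial (Fin n) A) (MvPolynomial (Fin n) A') :=
    IsScalarTower.of_algebraMap_eq (fun r => by
      rw [IsScalarTower.algebraMap_apply R A (MvPolynomial (Fin n) A),
        IsScalarTower.algebraMap_apply R A' (MvPolynomial (Fin n) A'),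
        IsScalarTower.algebraMap_apply R A A', MvPolynomial.algebraMap_eq,
        MvPolynomial.algebraMap_eq]
      show C _ = MvPolynomial.map (algebraMap A A') (C _)
      rw [MvPolynomial.map_C])
  haveI hRP : Algebra.IsPushout R (MvPolynomial (Fin n) A) R' (MvPolynomial (Fin n) A') :=
    (Algebra.IsPushout.comp_iff R A R' A').mpr inferInstance
  haveI : Module.Flat R (MvPolynomial (Fin n) A) := Module.Flat.trans R A _
  haveI : Module.Flat R' (MvPolynomial (Fin n) A') := Module.Flat.trans R' A' _
  haveI : Algebra.FinitePresentation R (MvPolynomial (Fin n) A) :=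
    Algebra.FinitePresentation.trans R A _
  haveI : Algebra.FinitePresentation R' (MvPolynomial (Fin n) A') :=
    Algebra.FinitePresentation.trans R' A' _
  have hfg : (RingHom.ker (φ.restrictScalars R).toRingHom).FG :=
    Algebra.FinitePresentation.ker_fG_of_surjective (φ.restrictScalars R) hφ
  have hfg' : (RingHom.ker (φ'.restrictScalars R').toRingHom).FG :=
    Algebra.FinitePresentation.ker_fG_of_surjective (φ'.restrictScalars R') hφ'
  -- primes
  have hq : (q'.comap (algebraMap B B')).comap φ.toRingHom =
      (q'.comap φ'.toRingHom).comap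
        (algebraMap (MvPolynomial (Fin n) A) (MvPolynomial (Fin n) A')) := by
    ext x
    simp only [Ideal.mem_comap]
    show algebraMap B B' (φ x) ∈ q' ↔ φ' (algebraMap _ _ x) ∈ q'
    rw [hcompat]
  haveI : Algebra.Smooth A (MvPolynomial (Fin n) A) := {}
  haveI : Algebra.Smooth A' (MvPolynomial (Fin n) A') := {}
  rw [lciAt_iff_kAt φ' hφ' q', lciAt_iff_kAt φ hφ (q'.comap (algebraMap B B'))]
  have h1 := kAt_iff_fibReg (R := R') (φ'.restrictScalars R') hφ' hfg' q'
  have h2 := kAt_iff_fibReg (R := R) (φ.restrictScalars R) hφ hfg (q'.comap (algebraMap B B'))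
  have h3 := fibReg_baseChange_iff (R := R) (R' := R')
    ((q'.comap (algebraMap B B')).comap φ.toRingHom) (q'.comap φ'.toRingHom) hq
    (RingHom.ker φ.toRingHom)
  rw [← hker] at h3
  exact h1.trans (h3.trans h2.symm)

/-- **Ring-level main theorem**: the pointwise LCI locus of `A → B` (both flat of finite
presentation over `R`) commutes with arbitrary base change `R → R'`. -/
theorem lciAt_baseChange_iff (R R' A A' B B' : Type u) [CommRing R] [CommRing R'] [CommRing A]
    [CommRing A'] [CommRing B] [CommRing B']
    [Algebra R R'] [Algebra R A] [Algebra R B] [Algebra A B] [IsScalarTower R A B]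
    [Algebra R' A'] [Algebra R' B'] [Algebra A' B'] [IsScalarTower R' A' B']
    [Algebra A A'] [Algebra B B'] [Algebra R A'] [Algebra R B'] [Algebra A B']
    [IsScalarTower R A A'] [IsScalarTower R R' A'] [IsScalarTower R B B'] [IsScalarTower R R' B']
    [IsScalarTower A B B'] [IsScalarTower A A' B']
    [Algebra.IsPushout R A R' A'] [Algebra.IsPushout R B R' B']
    [Module.Flat R A] [Algebra.FinitePresentation R A] [Module.Flat R B]
    [Algebra.FinitePresentation R B] (q' : Ideal B') [q'.IsPrime] :
    LciAt A' q' ↔ LciAt A (q'.comap (algebraMap B B')) := by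
  have hft : Algebra.FiniteType A B := Algebra.FiniteType.of_restrictScalars_finiteType R A B
  obtain ⟨n, φ, hφ⟩ := Algebra.FiniteType.iff_quotient_mvPolynomial''.mp hft
  exact main R R' A A' B B' n φ hφ q'

end Main

end Groth.Agent.H59.LciAtBC
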