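import Mathlib
import Groth.Agent.H59.LciAtBC
import Groth.Agent.H56.LciSch
import Groth.Agent.H56.LciSch2
import Groth.Agent.H79.QRegSpreadSch

/-!
# The Koszul (LCI) locus of a morphism and base change (helper59)
-/

set_option autoImplicit false
set_option linter.unusedVariables false
set_option linter.style.haveILetI false
set_option linter.unusedSectionVars false

universe u

open CategoryTheory CategoryTheory.Limits AlgebraicGeometry TopologicalSpace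

namespace Groth.Agent.H59.LciAtSch

open Groth.Agent.H56.LciComp Groth.Agent.H56.LciMor Groth.Agent.H56.LciBasic
  Groth.Agent.H56.LciSch Groth.Agent.H59.LciAtKAt

/-- the set of points at which `f` is Koszul (affine-local LCI form) -/
def KSet {X Y : Scheme.{u}} (f : X ⟶ Y) : Set X :=
  {x | ∃ (U : X.Opens) (V : Y.Opens) (hU : IsAffineOpen U) (hV : IsAffineOpen V)
      (hUV : U ≤ f ⁻¹ᵁ V), x ∈ U ∧
        letI := (f.appLE V U hUV).hom.toAlgebra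
        LCI.IsLCI Γ(Y, V) Γ(X, U)}

theorem isOpen_KSet {X Y : Scheme.{u}} (f : X ⟶ Y) : IsOpen (KSet f) := by
  rw [isOpen_iff_forall_mem_open]
  rintro x ⟨U, V, hU, hV, hUV, hxU, hlci⟩
  exact ⟨U, fun y hy => ⟨U, V, hU, hV, hUV, hy, hlci⟩, U.isOpen, hxU⟩

/-- converse of `isLCI_away_of_basicOpen` -/
lemma isLCI_basicOpen_of_away {X Y : Scheme.{u}} (f : X ⟶ Y) {U : X.Opens} {V : Y.Opens}
    (hU : IsAffineOpen U) (hUV : U ≤ f ⁻¹ᵁ V) (s : Γ(X, U)) (hsV : X.basicOpen s ≤ f ⁻¹ᵁ V)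
    (h : letI := (f.appLE V U hUV).hom.toAlgebra
      LCI.IsLCI Γ(Y, V) (Localization.Away s)) :
    letI := (f.appLE V (X.basicOpen s) hsV).hom.toAlgebra
    LCI.IsLCI Γ(Y, V) Γ(X, X.basicOpen s) := by
  letI a0 : Algebra Γ(Y, V) Γ(X, U) := (f.appLE V U hUV).hom.toAlgebra
  letI a3 : Algebra Γ(Y, V) Γ(X, X.basicOpen s) :=
    (f.appLE V (X.basicOpen s) hsV).hom.toAlgebra
  haveI : IsLocalization.Away s Γ(X, X.basicOpen s) := hU.isLocalization_basicOpen s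
  haveI : IsScalarTower Γ(Y, V) Γ(X, U) Γ(X, X.basicOpen s) :=
    IsScalarTower.of_algebraMap_eq' (by
      show (f.appLE V (X.basicOpen s) hsV).hom =
        (X.presheaf.map (homOfLE (X.basicOpen_le s)).op).hom.comp (f.appLE V U hUV).hom
      rw [← CommRingCat.hom_comp, Scheme.Hom.appLE_map])
  let e : Γ(X, X.basicOpen s) ≃ₐ[Γ(X, U)] Localization.Away s :=
    IsLocalization.algEquiv (Submonoid.powers s) _ _
  exact isLCI_of_algEquiv _ _ _ (e.restrictScalars Γ(Y, V)).symm h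

/-- **Chart criterion** for membership in the Koszul locus. -/
theorem mem_KSet_iff {X Y : Scheme.{u}} (f : X ⟶ Y) (x : X) {U : X.Opens} {V : Y.Opens}
    (hU : IsAffineOpen U) (hV : IsAffineOpen V) (hUV : U ≤ f ⁻¹ᵁ V) (hxU : x ∈ U) :
    x ∈ KSet f ↔
      (letI := (f.appLE V U hUV).hom.toAlgebra
       LciAt Γ(Y, V) (hU.primeIdealOf ⟨x, hxU⟩).asIdeal) := by
  letI a0 : Algebra Γ(Y, V) Γ(X, U) := (f.appLE V U hUV).hom.toAlgebra
  constructor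
  · rintro ⟨U₀, V₀, hU₀, hV₀, hUV₀, hxU₀, hlci₀⟩
    have hK : Synt.IsKoszulAt f x := isKoszulAt_of_isLCI f x hU₀ hV₀ hUV₀ hxU₀ hlci₀
    obtain ⟨Ux, P, i, π, hxUx, -, hreg, hsm, hfac⟩ := hK
    haveI := hsm
    have h1 : IsLCIMor (Ux.ι ≫ f) := by
      rw [← hfac]
      exact lci_comp hloc i π (isLCIMor_of_regularImmersion i hreg) (isLCIMor_of_smooth π)
    let x' : Ux := ⟨x, hxUx⟩
    have hx' : (x' : Ux.toScheme) ∈ Ux.ι ⁻¹ᵁ U := hxU
    obtain ⟨U', hU', hxU', hU'U⟩ := exists_isAffineOpen_mem_and_subset hx'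
    have hD : IsAffineOpen (Ux.ι ''ᵁ U') := hU'.image_of_isOpenImmersion Ux.ι
    have hDU : Ux.ι ''ᵁ U' ≤ U := by
      rintro _ ⟨y, hy, rfl⟩
      exact hU'U hy
    have hDV : Ux.ι ''ᵁ U' ≤ f ⁻¹ᵁ V := hDU.trans hUV
    have hU'V : U' ≤ (Ux.ι ≫ f) ⁻¹ᵁ V := by
      intro y hy
      show (Ux.ι ≫ f) y ∈ V
      rw [Scheme.Hom.comp_apply]
      exact hDV ⟨y, hy, rfl⟩
    have hxD : x ∈ Ux.ι ''ᵁ U' := ⟨x', hxU', rfl⟩
    have hlci : (letI := (f.appLE V (Ux.ι ''ᵁ U') hDV).hom.toAlgebra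
        LCI.IsLCI Γ(Y, V) Γ(X, Ux.ι ''ᵁ U')) :=
      isLCI_of_hom_eq _ _ (appLE_ι_comp f Ux U' V hU'V hDV) (h1 U' V hU' hV hU'V)
    obtain ⟨D, hD, hDV, hxD, hlci⟩ : ∃ (D : X.Opens) (_ : IsAffineOpen D) (hDV : D ≤ f ⁻¹ᵁ V),
        x ∈ D ∧ (letI := (f.appLE V D hDV).hom.toAlgebra
          LCI.IsLCI Γ(Y, V) Γ(X, D)) := ⟨Ux.ι ''ᵁ U', hD, hDV, hxD, hlci⟩
    obtain ⟨s, t, hst, hxs⟩ := exists_basicOpen_le_affine_inter hU hD x ⟨hxU, hxD⟩
    refine ⟨s, (Groth.Agent.H79.QRegSpreadSch.mem_basicOpen_iff hU x hxU s).mp hxs, ?_⟩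
    have hsD : X.basicOpen s ≤ D := by rw [hst]; exact X.basicOpen_le t
    have hsV : X.basicOpen s ≤ f ⁻¹ᵁ V := hsD.trans hDV
    apply isLCI_away_of_basicOpen f hU hUV s hsV
    letI a1 : Algebra Γ(Y, V) Γ(X, D) := (f.appLE V D hDV).hom.toAlgebra
    letI a2 : Algebra Γ(X, D) Γ(X, X.basicOpen s) :=
      (X.presheaf.map (homOfLE hsD).op).hom.toAlgebra
    letI a3 : Algebra Γ(Y, V) Γ(X, X.basicOpen s) :=
      (f.appLE V (X.basicOpen s) hsV).hom.toAlgebra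
    haveI : IsScalarTower Γ(Y, V) Γ(X, D) Γ(X, X.basicOpen s) :=
      IsScalarTower.of_algebraMap_eq' (by
        show (f.appLE V (X.basicOpen s) hsV).hom =
          (X.presheaf.map (homOfLE hsD).op).hom.comp (f.appLE V D hDV).hom
        rw [← CommRingCat.hom_comp, Scheme.Hom.appLE_map])
    haveI : IsLocalization.Away t Γ(X, X.basicOpen s) :=
      hD.isLocalization_of_eq_basicOpen t (homOfLE hsD) hst
    exact isLCI_localization Γ(Y, V) Γ(X, D) Γ(X, X.basicOpen s) t hlci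
  · rintro ⟨s, hs, hlci⟩
    have hsV : X.basicOpen s ≤ f ⁻¹ᵁ V := (X.basicOpen_le s).trans hUV
    exact ⟨X.basicOpen s, V, hU.basicOpen s, hV, hsV,
      (Groth.Agent.H79.QRegSpreadSch.mem_basicOpen_iff hU x hxU s).mpr hs,
      isLCI_basicOpen_of_away f hU hUV s hsV hlci⟩

set_option maxHeartbeats 3200000 in
/-- **The Koszul locus commutes with base change** (for `X`, `Y` flat and locally of finite
presentation over `S`). -/
theorem kSet_baseChange {X Y S : Scheme.{u}} (f : X ⟶ Y) (g : Y ⟶ S)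
    [Flat (f ≫ g)] [LocallyOfFinitePresentation (f ≫ g)] [Flat g] [LocallyOfFinitePresentation g]
    {X' Y' S' : Scheme.{u}} (h : S' ⟶ S) (gY : Y' ⟶ Y) (g' : Y' ⟶ S')
    (hY : IsPullback gY g' g h) (gX : X' ⟶ X) (f' : X' ⟶ Y')
    (hX : IsPullback gX (f' ≫ g') (f ≫ g) h) (w : gX ≫ f = f' ≫ gY) :
    KSet f' = gX ⁻¹' KSet f := by
  ext x'
  show x' ∈ KSet f' ↔ gX x' ∈ KSet f
  -- charts
  obtain ⟨W, hW, hsW, -⟩ := exists_isAffineOpen_mem_and_subset (x := (f ≫ g) (gX x'))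
    (U := (⊤ : S.Opens)) trivial
  have hs : h ((f' ≫ g') x') = (f ≫ g) (gX x') := by
    rw [← Scheme.Hom.comp_apply, ← Scheme.Hom.comp_apply, hX.w]
  have hs' : (f' ≫ g') x' ∈ h ⁻¹ᵁ W := by
    show h ((f' ≫ g') x') ∈ W
    rw [hs]; exact hsW
  obtain ⟨W', hW', hsW', hW'W⟩ := exists_isAffineOpen_mem_and_subset (x := (f' ≫ g') x')
    (U := h ⁻¹ᵁ W) hs'
  have hy : f (gX x') ∈ g ⁻¹ᵁ W := by
    show g (f (gX x')) ∈ W
    rw [← Scheme.Hom.comp_apply]; exact hsW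
  obtain ⟨V, hV, hyV, hVW⟩ := exists_isAffineOpen_mem_and_subset (x := f (gX x'))
    (U := g ⁻¹ᵁ W) hy
  have hx : gX x' ∈ f ⁻¹ᵁ V := hyV
  obtain ⟨U, hU, hxU, hUV⟩ := exists_isAffineOpen_mem_and_subset (x := gX x')
    (U := f ⁻¹ᵁ V) hx
  have hUW : U ≤ (f ≫ g) ⁻¹ᵁ W := by
    intro y hy
    show (f ≫ g) y ∈ W
    rw [Scheme.Hom.comp_apply]
    exact hVW (hUV hy)
  obtain ⟨V', hV'def⟩ : ∃ V' : Y'.Opens, V' = gY ⁻¹ᵁ V ⊓ g' ⁻¹ᵁ W' := ⟨_, rfl⟩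
  obtain ⟨U', hU'def⟩ : ∃ U' : X'.Opens, U' = gX ⁻¹ᵁ U ⊓ (f' ≫ g') ⁻¹ᵁ W' := ⟨_, rfl⟩
  -- pushouts
  have hisoY := isIso_pushoutSection_of_isAffineOpen hY hW'W hVW hV'def hW hW' hV
  have hpoY := (isIso_pushoutSection_iff hY hW'W hVW hV'def).mp hisoY
  have hisoX := isIso_pushoutSection_of_isAffineOpen hX hW'W hUW hU'def hW hW' hU
  have hpoX := (isIso_pushoutSection_iff hX hW'W hUW hU'def).mp hisoX
  have hV'aff : IsAffineOpen V' := by
    have : IsAffine _ := hW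
    have : IsAffine _ := hW'
    have : IsAffine _ := hV
    exact .of_isIso (Scheme.Hom.isPullback_resLE hY hW'W hVW hV'def).isoPullback.hom
  have hU'aff : IsAffineOpen U' := by
    have : IsAffine _ := hW
    have : IsAffine _ := hW'
    have : IsAffine _ := hU
    exact .of_isIso (Scheme.Hom.isPullback_resLE hX hW'W hUW hU'def).isoPullback.hom
  have hV'V : V' ≤ gY ⁻¹ᵁ V := hV'def ▸ inf_le_left
  have hV'W' : V' ≤ g' ⁻¹ᵁ W' := hV'def ▸ inf_le_right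
  have hU'U : U' ≤ gX ⁻¹ᵁ U := hU'def ▸ inf_le_left
  have hU'W' : U' ≤ (f' ≫ g') ⁻¹ᵁ W' := hU'def ▸ inf_le_right
  have hU'V' : U' ≤ f' ⁻¹ᵁ V' := by
    intro y hy
    show f' y ∈ V'
    rw [hV'def]
    refine ⟨?_, ?_⟩
    · show gY (f' y) ∈ V
      rw [← Scheme.Hom.comp_apply, ← w, Scheme.Hom.comp_apply]
      exact hUV (hU'U hy)
    · show g' (f' y) ∈ W'
      rw [← Scheme.Hom.comp_apply]
      exact hU'W' hy
  have hx'U' : x' ∈ U' := by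
    rw [hU'def]
    exact ⟨hxU, hsW'⟩
  rw [mem_KSet_iff f' x' hU'aff hV'aff hU'V' hx'U', mem_KSet_iff f (gX x') hU hV hUV hxU]
  -- algebra structures
  letI aRR' : Algebra Γ(S, W) Γ(S', W') := (h.appLE W W' hW'W).hom.toAlgebra
  letI aRA : Algebra Γ(S, W) Γ(Y, V) := (g.appLE W V hVW).hom.toAlgebra
  letI aRB : Algebra Γ(S, W) Γ(X, U) := ((f ≫ g).appLE W U hUW).hom.toAlgebra
  letI aAB : Algebra Γ(Y, V) Γ(X, U) := (f.appLE V U hUV).hom.toAlgebra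
  letI aR'A' : Algebra Γ(S', W') Γ(Y', V') := (g'.appLE W' V' hV'W').hom.toAlgebra
  letI aR'B' : Algebra Γ(S', W') Γ(X', U') := ((f' ≫ g').appLE W' U' hU'W').hom.toAlgebra
  letI aA'B' : Algebra Γ(Y', V') Γ(X', U') := (f'.appLE V' U' hU'V').hom.toAlgebra
  letI aAA' : Algebra Γ(Y, V) Γ(Y', V') := (gY.appLE V V' hV'V).hom.toAlgebra
  letI aBB' : Algebra Γ(X, U) Γ(X', U') := (gX.appLE U U' hU'U).hom.toAlgebra
  letI aRA' : Algebra Γ(S, W) Γ(Y', V') :=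
    ((g.appLE W V hVW) ≫ (gY.appLE V V' hV'V)).hom.toAlgebra
  letI aRB' : Algebra Γ(S, W) Γ(X', U') :=
    (((f ≫ g).appLE W U hUW) ≫ (gX.appLE U U' hU'U)).hom.toAlgebra
  letI aAB' : Algebra Γ(Y, V) Γ(X', U') :=
    ((f.appLE V U hUV) ≫ (gX.appLE U U' hU'U)).hom.toAlgebra
  -- towers
  haveI t1 : IsScalarTower Γ(S, W) Γ(Y, V) Γ(X, U) := .of_algebraMap_eq' (by
    show ((f ≫ g).appLE W U hUW).hom = (f.appLE V U hUV).hom.comp (g.appLE W V hVW).hom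
    rw [← CommRingCat.hom_comp, Scheme.Hom.appLE_comp_appLE])
  haveI t2 : IsScalarTower Γ(S', W') Γ(Y', V') Γ(X', U') := .of_algebraMap_eq' (by
    show ((f' ≫ g').appLE W' U' hU'W').hom =
      (f'.appLE V' U' hU'V').hom.comp (g'.appLE W' V' hV'W').hom
    rw [← CommRingCat.hom_comp, Scheme.Hom.appLE_comp_appLE])
  haveI t3 : IsScalarTower Γ(S, W) Γ(Y, V) Γ(Y', V') := .of_algebraMap_eq' rfl
  haveI t4 : IsScalarTower Γ(S, W) Γ(S', W') Γ(Y', V') := .of_algebraMap_eq' (by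
    show ((g.appLE W V hVW) ≫ (gY.appLE V V' hV'V)).hom =
      ((h.appLE W W' hW'W) ≫ (g'.appLE W' V' hV'W')).hom
    rw [hpoY.w])
  haveI t5 : IsScalarTower Γ(S, W) Γ(X, U) Γ(X', U') := .of_algebraMap_eq' rfl
  haveI t6 : IsScalarTower Γ(S, W) Γ(S', W') Γ(X', U') := .of_algebraMap_eq' (by
    show (((f ≫ g).appLE W U hUW) ≫ (gX.appLE U U' hU'U)).hom =
      ((h.appLE W W' hW'W) ≫ ((f' ≫ g').appLE W' U' hU'W')).hom
    rw [hpoX.w])
  haveI t7 : IsScalarTower Γ(Y, V) Γ(X, U) Γ(X', U') := .of_algebraMap_eq' rfl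
  haveI t8 : IsScalarTower Γ(Y, V) Γ(Y', V') Γ(X', U') := .of_algebraMap_eq' (by
    show ((f.appLE V U hUV) ≫ (gX.appLE U U' hU'U)).hom =
      ((gY.appLE V V' hV'V) ≫ (f'.appLE V' U' hU'V')).hom
    simp only [Scheme.Hom.appLE_comp_appLE, w])
  -- pushouts, flatness, finite presentation
  haveI hPA : Algebra.IsPushout Γ(S, W) Γ(Y, V) Γ(S', W') Γ(Y', V') :=
    CommRingCat.isPushout_iff_isPushout.mp hpoY
  haveI hPB : Algebra.IsPushout Γ(S, W) Γ(X, U) Γ(S', W') Γ(X', U') :=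
    CommRingCat.isPushout_iff_isPushout.mp hpoX
  haveI : Module.Flat Γ(S, W) Γ(Y, V) := Scheme.Hom.flat_appLE g hW hV hVW
  haveI : Module.Flat Γ(S, W) Γ(X, U) := Scheme.Hom.flat_appLE (f ≫ g) hW hU hUW
  haveI : Algebra.FinitePresentation Γ(S, W) Γ(Y, V) := g.finitePresentation_appLE hW hV hVW
  haveI : Algebra.FinitePresentation Γ(S, W) Γ(X, U) :=
    (f ≫ g).finitePresentation_appLE hW hU hUW
  have key := Groth.Agent.H59.LciAtBC.lciAt_baseChange_iff Γ(S, W) Γ(S', W') Γ(Y, V) Γ(Y', V')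
    Γ(X, U) Γ(X', U') (hU'aff.primeIdealOf ⟨x', hx'U'⟩).asIdeal
  have hprime : (hU'aff.primeIdealOf ⟨x', hx'U'⟩).asIdeal.comap
      (algebraMap Γ(X, U) Γ(X', U')) = (hU.primeIdealOf ⟨gX x', hxU⟩).asIdeal :=
    congrArg PrimeSpectrum.asIdeal
      (IsAffineOpen.comap_primeIdealOf_appLE U hU U' hU'aff hU'U hx'U')
  rw [hprime] at key
  exact key

end Groth.Agent.H59.LciAtSch
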