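import Mathlib
import Groth.Agent.H17.HS.PolyInt

/-!
# helper59 (squad piece (INT) for helper13, S8159): a function on `ℕ^n` all of whose forward
differences are polynomial on `i ≥ m` is polynomial on `i ≥ m`.
-/

set_option autoImplicit false
universe u

namespace Groth.Agent.H59.MHS_INT

open Polynomial

variable {n : ℕ}

/-- univariate indefinite sum of a monomial. -/
theorem exists_fwdDiff_pow (a : ℕ) :
    ∃ R : ℚ[X], ∀ x : ℚ, R.eval (x + 1) - R.eval x = x ^ a := by
  obtain ⟨R, -, hR⟩ := Groth.Agent.H17.HS.exists_fwdDiff_eq (a + 1) ((Polynomial.X : ℚ[X]) ^ a)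
    (fun k hk => by
      rw [Polynomial.coeff_X_pow, if_neg]
      omega)
  refine ⟨R, fun x => ?_⟩
  have := congrArg (Polynomial.eval x) hR
  simpa [Polynomial.eval_comp] using this

/-- multivariate indefinite sum in the direction `j`. -/
theorem exists_indef_sum (j : Fin n) (Q : MvPolynomial (Fin n) ℚ) :
    ∃ S : MvPolynomial (Fin n) ℚ, ∀ x : Fin n → ℚ,
      MvPolynomial.eval (Function.update x j (x j + 1)) S - MvPolynomial.eval x S =
        MvPolynomial.eval x Q := by
  classical
  induction Q using MvPolynomial.induction_on' with
  | add p q hp hq =>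
    obtain ⟨Sp, hSp⟩ := hp
    obtain ⟨Sq, hSq⟩ := hq
    refine ⟨Sp + Sq, fun x => ?_⟩
    rw [map_add, map_add, map_add, ← hSp x, ← hSq x]
    ring
  | monomial e c =>
    obtain ⟨R, hR⟩ := exists_fwdDiff_pow (e j)
    refine ⟨MvPolynomial.C c * (∏ l ∈ Finset.univ.erase j, MvPolynomial.X l ^ e l) *
      Polynomial.aeval (MvPolynomial.X j : MvPolynomial (Fin n) ℚ) R, fun x => ?_⟩
    have hev : ∀ y : Fin n → ℚ, MvPolynomial.eval y
        (Polynomial.aeval (MvPolynomial.X j : MvPolynomial (Fin n) ℚ) R) = R.eval (y j) := by
      intro y
      have h1 := Polynomial.aeval_algHom_apply (MvPolynomial.aeval y : MvPolynomial (Fin n) ℚ →ₐ[ℚ] ℚ)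
        (MvPolynomial.X j) R
      rw [MvPolynomial.aeval_X] at h1
      rw [← MvPolynomial.coe_aeval_eq_eval]
      show (MvPolynomial.aeval y) ((Polynomial.aeval (MvPolynomial.X j)) R) = _
      rw [← h1, Polynomial.coe_aeval_eq_eval]
    have hprod : ∀ y : Fin n → ℚ, MvPolynomial.eval y
        (∏ l ∈ Finset.univ.erase j, (MvPolynomial.X l : MvPolynomial (Fin n) ℚ) ^ e l) =
        ∏ l ∈ Finset.univ.erase j, y l ^ e l := by
      intro y
      rw [map_prod]
      exact Finset.prod_congr rfl fun l _ => by rw [map_pow, MvPolynomial.eval_X]
    have hupd : ∏ l ∈ Finset.univ.erase j, (Function.update x j (x j + 1)) l ^ e l =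
        ∏ l ∈ Finset.univ.erase j, x l ^ e l :=
      Finset.prod_congr rfl fun l hl => by
        rw [Function.update_of_ne (Finset.ne_of_mem_erase hl)]
    rw [map_mul, map_mul, map_mul, map_mul, hev, hev, hprod, hprod, hupd, MvPolynomial.eval_C,
      MvPolynomial.eval_C, Function.update_self, MvPolynomial.eval_monomial,
      Finsupp.prod_fintype _ _ (fun i => pow_zero _),
      ← Finset.mul_prod_erase Finset.univ (fun l => x l ^ e l) (Finset.mem_univ j), ← hR (x j)]
    ring

/-- substitution `X_j := c`. -/
theorem exists_subst (j : Fin n) (c : ℚ) (P : MvPolynomial (Fin n) ℚ) :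
    ∃ P' : MvPolynomial (Fin n) ℚ, ∀ x : Fin n → ℚ,
      MvPolynomial.eval x P' = MvPolynomial.eval (Function.update x j c) P := by
  classical
  refine ⟨MvPolynomial.bind₁ (fun l => if l = j then MvPolynomial.C c else MvPolynomial.X l) P,
    fun x => ?_⟩
  have h := MvPolynomial.eval₂Hom_bind₁ (RingHom.id ℚ) x
    (fun l => if l = j then (MvPolynomial.C c : MvPolynomial (Fin n) ℚ) else MvPolynomial.X l) P
  have h2 : (fun i => (MvPolynomial.eval₂Hom (RingHom.id ℚ) x)
      (if i = j then (MvPolynomial.C c : MvPolynomial (Fin n) ℚ) else MvPolynomial.X i)) =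
      Function.update x j c := by
    funext i
    by_cases hi : i = j
    · subst hi; simp
    · simp [hi, Function.update_of_ne hi]
  rw [h2] at h
  exact h

/-- cast of a multi-index. -/
def cst (i : Fin n → ℕ) : Fin n → ℚ := fun l => (i l : ℚ)

theorem cst_update (i : Fin n → ℕ) (j : Fin n) (a : ℕ) [DecidableEq (Fin n)] :
    cst (Function.update i j a) = Function.update (cst i) j (a : ℚ) := by
  funext l
  by_cases hl : l = j
  · subst hl; simp [cst]
  · simp [cst, Function.update_of_ne hl]

/-- (INT) a function on `ℕ^n` all of whose forward differences are polynomial on `i ≥ m`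
is polynomial on `i ≥ m`. -/
theorem exists_mvPoly_of_fwdDiff {n : ℕ} (h : (Fin n → ℕ) → ℚ) (m : Fin n → ℕ)
    (Q : Fin n → MvPolynomial (Fin n) ℚ)
    (hQ : ∀ j i, m ≤ i →
      h (i + Pi.single j 1) - h i = MvPolynomial.eval (fun l => (i l : ℚ)) (Q j)) :
    ∃ P : MvPolynomial (Fin n) ℚ, ∀ i, m ≤ i →
      h i = MvPolynomial.eval (fun l => (i l : ℚ)) P := by
  classical
  have claim : ∀ k : ℕ, k ≤ n → ∃ P : MvPolynomial (Fin n) ℚ, ∀ i, m ≤ i →
      (∀ l : Fin n, k ≤ l.val → i l = m l) → h i = MvPolynomial.eval (cst i) P := by
    intro k
    induction k with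
    | zero =>
      intro _
      refine ⟨MvPolynomial.C (h m), fun i _ hi => ?_⟩
      have : i = m := funext fun l => hi l (Nat.zero_le _)
      rw [this, MvPolynomial.eval_C]
    | succ k ih =>
      intro hk
      obtain ⟨Pk, hPk⟩ := ih (Nat.le_of_succ_le hk)
      set j : Fin n := ⟨k, hk⟩ with hj
      obtain ⟨S, hS⟩ := exists_indef_sum j (Q j)
      obtain ⟨Pk', hPk'⟩ := exists_subst j (m j : ℚ) Pk
      obtain ⟨S', hS'⟩ := exists_subst j (m j : ℚ) S
      refine ⟨Pk' + S - S', fun i hmi hi => ?_⟩
      -- the base point
      have hi₀m : m ≤ Function.update i j (m j) := by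
        intro l
        by_cases hl : l = j
        · subst hl; simp
        · rw [Function.update_of_ne hl]; exact hmi l
      have hi₀ : ∀ l : Fin n, k ≤ l.val → (Function.update i j (m j)) l = m l := by
        intro l hl
        by_cases hlj : l = j
        · subst hlj; simp
        · rw [Function.update_of_ne hlj]
          refine hi l ?_
          rcases Nat.lt_or_ge k l.val with h1 | h1
          · exact h1
          · exact absurd (Fin.ext (le_antisymm h1 hl)) hlj
      have hbase := hPk _ hi₀m hi₀
      -- telescoping
      have htel : ∀ s : ℕ, h (Function.update i j (m j + s)) - h (Function.update i j (m j)) =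
          MvPolynomial.eval (cst (Function.update i j (m j + s))) S -
            MvPolynomial.eval (cst (Function.update i j (m j))) S := by
        intro s
        induction s with
        | zero => simp
        | succ s ihs =>
          have hge : m ≤ Function.update i j (m j + s) := by
            intro l
            by_cases hl : l = j
            · subst hl; simp
            · rw [Function.update_of_ne hl]; exact hmi l
          have hstep : Function.update i j (m j + (s + 1)) =
              Function.update i j (m j + s) + Pi.single j 1 := by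
            funext l
            by_cases hl : l = j
            · subst hl; simp [add_assoc]
            · simp [Function.update_of_ne hl, Pi.single_eq_of_ne hl]
          have h1 := hQ j _ hge
          have h2 := hS (cst (Function.update i j (m j + s)))
          have h3 : Function.update (cst (Function.update i j (m j + s))) j
              (cst (Function.update i j (m j + s)) j + 1) =
              cst (Function.update i j (m j + (s + 1))) := by
            rw [cst_update, cst_update]
            simp [cst, add_assoc]
          rw [h3] at h2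
          rw [← hstep] at h1
          have h1' : h (Function.update i j (m j + (s + 1))) - h (Function.update i j (m j + s)) =
              MvPolynomial.eval (cst (Function.update i j (m j + s))) (Q j) := h1
          linarith
      have hij : Function.update i j (m j + (i j - m j)) = i := by
        rw [Nat.add_sub_cancel' (hmi j)]
        exact Function.update_eq_self j i
      have ht := htel (i j - m j)
      rw [hij] at ht
      rw [map_sub, map_add, hPk', hS', ← cst_update, ← hbase]
      linarith
  obtain ⟨P, hP⟩ := claim n le_rfl
  exact ⟨P, fun i hi => hP i hi (fun l hl => absurd l.2 (not_lt.mpr hl))⟩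

end Groth.Agent.H59.MHS_INT
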