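import Mathlib
import Groth.Agent.H35.TorBridge
import Groth.Agent.H35.Devissage

/-!
# Tor amplitude `[-1, 0]` of a two-term complex with flat target forces a flat source (helper59)

For `d : M ⟶ F` with `F` flat: if the complex `[M → F]` (degrees `-1, 0`) has tor amplitude in
`[-1, 0]` then `M` is flat.
-/

set_option autoImplicit false
universe u
open CategoryTheory CategoryTheory.Limits Pretriangulated MonoidalCategory
attribute [local instance] HasDerivedCategory.standard

namespace Groth.Agent.H59.NLFlat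

open DRing DerivedCategory Groth.Agent.H35.TorAmp

variable {R : Type u} [CommRing R]

/-- shrink the upper bound of the tor amplitude using boundedness of cohomology -/
lemma hasTorAmplitudeIn_shrink {a b b' : ℤ} {K : Dual.D R} (h : HasTorAmplitudeIn R a b K)
    [K.IsLE b'] : HasTorAmplitudeIn R a b' K := by
  rw [hasTorAmplitudeIn_iff] at h ⊢
  obtain ⟨hH, P, c, hP, fl, ⟨e⟩, hT⟩ := h
  obtain ⟨F, hF, hfree, ⟨eF⟩⟩ := exists_free_model_of_isLE K b'
  have hflF := free_flat F hfree
  have hTF : TorVanish a b F := torVanish_of_iso c b' hP hF fl hflF (e ≪≫ eF.symm) hT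
  refine ⟨fun i hi => ?_, F, b', hF, hflF, ⟨eF⟩, fun N i hi => ?_⟩
  · rcases hi with hi | hi
    · exact hH i (Or.inl hi)
    · exact isZero_of_isLE K b' i hi
  · rcases hi with hi | hi
    · exact hTF N i (Or.inl hi)
    · exact ShortComplex.exact_of_isZero_X₂ _ ((tensorRight N).map_isZero (hF i hi))

theorem flat_of_hasTorAmplitudeIn_double {M F : ModuleCat.{u} R} (d : M ⟶ F)
    (hF : Module.Flat R F)
    (h : HasTorAmplitudeIn R (-1) 0 (toD (HomologicalComplex.double d
      (show (ComplexShape.up ℤ).Rel (-1) 0 by simp)))) :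
    Module.Flat R M := by
  have hrel : (ComplexShape.up ℤ).Rel (-1) 0 := by simp
  set E : Cx R := HomologicalComplex.double d hrel with hE
  have hz1 : IsZero (E.X (0 + 1)) :=
    HomologicalComplex.isZero_double_X d hrel (0 + 1) (by decide) (by decide)
  obtain ⟨E', g, p, w, hS, hE'0, hiso⟩ := Groth.Agent.H35.Devissage.exists_top_cell_ses E 0 hz1
  have hT := DerivedCategory.triangleOfSES_distinguished hS
  have h₁ : HasTorAmplitudeIn R (-1 + 1) (0 + 1) (triangleOfSES hS).obj₁ := by
    refine ⟨(HomologicalComplex.single (ModuleCat.{u} R) (ComplexShape.up ℤ) 0).obj (E.X 0), ?_, ?_,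
      ⟨Iso.refl _⟩⟩
    · intro i hi
      exact HomologicalComplex.isZero_single_obj_X (ComplexShape.up ℤ) 0 _ i (by omega)
    · intro i
      by_cases hi : i = 0
      · subst hi
        have e1 := (HomologicalComplex.singleObjXSelf (ComplexShape.up ℤ) 0 (E.X 0)).toLinearEquiv
        have e2 := (HomologicalComplex.doubleXIso₁ d hrel (by decide)).toLinearEquiv
        exact Module.Flat.of_linearEquiv (e1 ≪≫ₗ e2)
      · have hz := HomologicalComplex.isZero_single_obj_X (ComplexShape.up ℤ) 0 (E.X 0) i hi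
        have : Subsingleton (((HomologicalComplex.single (ModuleCat.{u} R) (ComplexShape.up ℤ) 0).obj
          (E.X 0)).X i) := ModuleCat.subsingleton_of_isZero hz
        infer_instance
  have h₃ : HasTorAmplitudeIn R (-1) 0 (toD E') :=
    hasTorAmplitudeIn_obj₃ _ hT (-1) 0 h₁ h
  have hE'z : ∀ i : ℤ, i ≠ -1 → IsZero (E'.X i) := by
    intro i hi
    by_cases h0 : i = 0
    · subst h0; exact hE'0
    · have := hiso i h0
      exact IsZero.of_iso (HomologicalComplex.isZero_double_X d hrel i hi h0) (asIso (p.f i)).symm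
  have h1 : E'.IsStrictlyGE (-1) := by
    rw [CochainComplex.isStrictlyGE_iff]
    intro i hi
    exact hE'z i (by omega)
  have h2 : E'.IsStrictlyLE (-1) := by
    rw [CochainComplex.isStrictlyLE_iff]
    intro i hi
    exact hE'z i (by omega)
  obtain ⟨A, ⟨eA⟩⟩ := E'.exists_iso_single (-1)
  have eX1 : E'.X (-1) ≅
      ((HomologicalComplex.single (ModuleCat.{u} R) (ComplexShape.up ℤ) (-1)).obj A).X (-1) :=
    (HomologicalComplex.eval (ModuleCat.{u} R) (ComplexShape.up ℤ) (-1)).mapIso eA
  have eX : E'.X (-1) ≅ A :=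
    eX1 ≪≫ HomologicalComplex.singleObjXSelf (ComplexShape.up ℤ) (-1) A
  have := hiso (-1) (by decide)
  have eM : M ≅ A := (HomologicalComplex.doubleXIso₀ d hrel).symm ≪≫ asIso (p.f (-1)) ≪≫ eX
  have e' : toD E' ≅ (singleFunctor (ModuleCat.{u} R) (-1)).obj A :=
    Q.mapIso eA ≪≫ ((singleFunctorIsoCompQ (ModuleCat.{u} R) (-1)).app A).symm
  have h4 : HasTorAmplitudeIn R (-1) 0 ((singleFunctor (ModuleCat.{u} R) (-1)).obj A) :=
    hasTorAmplitudeIn_of_iso e' h₃
  have : ((singleFunctor (ModuleCat.{u} R) (-1)).obj A).IsLE (-1) := inferInstance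
  have h5 : HasTorAmplitudeIn R (-1) (-1) ((singleFunctor (ModuleCat.{u} R) (-1)).obj A) :=
    hasTorAmplitudeIn_shrink h4
  have h6 := hasTorAmplitudeIn_shift h5 (-1) 0 0 (by omega) (by omega)
  have h7 : HasTorAmplitudeIn R 0 0 ((singleFunctor (ModuleCat.{u} R) 0).obj A) :=
    hasTorAmplitudeIn_of_iso
      (((singleFunctors (ModuleCat.{u} R)).shiftIso (-1) 0 (-1) (by omega)).app A) h6
  have h8 : HasTorDimLE R 0 A := (hasTorDimLE_iff A 0).2 (by simpa using h7)
  have h9 : Module.Flat R A := (hasTorDimLE_zero_iff_flat A).1 h8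
  exact Module.Flat.of_linearEquiv eM.toLinearEquiv

end Groth.Agent.H59.NLFlat
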