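import Mathlib
import Groth.Agent.H59.NLFlat
import Groth.Agent.H59.CotLocFree
import Groth.Agent.H59.FibPCS
import Groth.Agent.H59.KRegIdeal
import Groth.Agent.H61.NLInv

/-!
# Tor amplitude `[-1, 0]` of the naive cotangent complex of a flat finitely presented algebra
implies local complete intersection (helper59)
-/

set_option autoImplicit false
set_option linter.unusedVariables false
set_option linter.style.haveILetI false
set_option linter.unusedSectionVars false

universe u

open CategoryTheory Algebra

attribute [local instance] HasDerivedCategory.standard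

namespace Groth.Agent.H59.NLLci

open Groth.Agent.H61.NLInv Groth.Agent.H59.FibKAt Groth.Agent.H59.Kosz

section Coords

variable {A B : Type u} [CommRing A] [CommRing B] [Algebra A B] {n : ℕ}
  (f : MvPolynomial (Fin n) A →ₐ[A] B) (hf : Function.Surjective f)

/-- the generators attached to a presentation -/
noncomputable abbrev gens : Generators A B (Fin n) := Generators.ofAlgHom f hf

lemma algebraMap_gens (x : MvPolynomial (Fin n) A) :
    algebraMap (gens f hf).toExtension.Ring B x = f x := by
  show MvPolynomial.aeval (gens f hf).val x = f x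
  have : (MvPolynomial.aeval (gens f hf).val : MvPolynomial (Fin n) A →ₐ[A] B) = f := by
    ext i
    simp [Generators.ofAlgHom]
  rw [this]

lemma ker_gens : (gens f hf).toExtension.ker = RingHom.ker f.toRingHom := by
  ext x
  simp only [Extension.ker, RingHom.mem_ker]
  rw [algebraMap_gens]
  rfl

end Coords

section Main

variable {A B : Type u} [CommRing A] [CommRing B] [Algebra A B]

/-- flatness and finiteness of the conormal module give Koszul-regularity of the kernel -/
theorem kreg_of_flat_cotangent [Module.Flat A B] (E : Extension.{u} A B)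
    [Algebra.Smooth A E.Ring] (hfg : E.ker.FG) (hflat : Module.Flat B E.Cotangent) :
    LCI.IsKoszulRegularIdeal E.ker := by
  classical
  let φ : E.Ring →ₐ[A] B := IsScalarTower.toAlgHom A E.Ring B
  have hφ : Function.Surjective φ := E.algebraMap_surjective
  have hφa : ∀ x : E.Ring, φ x = algebraMap E.Ring B x := fun x => rfl
  have hker : RingHom.ker φ.toRingHom = E.ker := rfl
  -- finiteness of the cotangent module
  haveI : Module.Finite E.Ring E.ker := Module.Finite.iff_fg.mpr hfg
  haveI : Module.Finite E.Ring E.Cotangent :=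
    Module.Finite.of_surjective Extension.Cotangent.mk Extension.Cotangent.mk_surjective
  haveI : Module.Finite B E.Cotangent := Module.Finite.of_restrictScalars_finite E.Ring B _
  apply kregIdeal_intro
  intro 𝔮 h𝔮
  -- the prime of `B`
  have hkerle : RingHom.ker φ.toRingHom ≤ 𝔮.asIdeal := h𝔮
  haveI hqB : (𝔮.asIdeal.map φ.toRingHom).IsPrime :=
    Ideal.map_isPrime_of_surjective (f := φ.toRingHom) hφ hkerle
  set qB : Ideal B := 𝔮.asIdeal.map φ.toRingHom with hqBdef
  have hcomap : qB.comap φ.toRingHom = 𝔮.asIdeal := by
    rw [hqBdef, Ideal.comap_map_of_surjective φ.toRingHom hφ]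
    exact sup_eq_left.mpr (by rw [← RingHom.ker_eq_comap_bot]; exact hkerle)
  -- local coordinates
  obtain ⟨k, m, hm1, hm2⟩ := Groth.Agent.H59.CotLocFree.exists_local_coords E.Cotangent qB
  choose y hy using fun i => Extension.Cotangent.mk_surjective (m i)
  have hsm : ∀ (a : E.Ring) (x : E.Cotangent), φ a • x = a • x := fun a x =>
    algebraMap_smul B a x
  have hmk : ∀ (z : E.ker) (s : E.Ring) (a : Fin k → E.Ring),
      (φ s • Extension.Cotangent.mk z = ∑ i, φ (a i) • m i) ↔
        s * (z : E.Ring) - ∑ i, a i * ((y i : E.ker) : E.Ring) ∈ E.ker ^ 2 := by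
    intro z s a
    have e1 : φ s • Extension.Cotangent.mk z - ∑ i, φ (a i) • m i =
        Extension.Cotangent.mk (s • z - ∑ i, a i • y i) := by
      rw [map_sub, map_smul, map_sum, hsm]
      congr 1
      refine Finset.sum_congr rfl (fun i _ => ?_)
      rw [map_smul, hy i, hsm]
    rw [← sub_eq_zero, e1, Extension.Cotangent.mk_eq_zero_iff]
    have e2 : ((s • z - ∑ i, a i • y i : E.ker) : E.Ring) =
        s * (z : E.Ring) - ∑ i, a i * ((y i : E.ker) : E.Ring) := by
      rw [Submodule.coe_sub, Submodule.coe_sum]
      simp only [Submodule.coe_smul, smul_eq_mul]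
    rw [e2]
  have hfr : FibReg A (RingHom.ker φ.toRingHom) (qB.comap φ.toRingHom) := by
    refine Groth.Agent.H59.FibPCS.fibReg_of_coords φ hφ qB k
      (fun i => ((y i : E.ker) : E.Ring)) (fun i => (y i).2) ?_ ?_
    · intro z hz
      obtain ⟨t, ht, c, hc⟩ := hm1 (Extension.Cotangent.mk ⟨z, hz⟩)
      obtain ⟨s, rfl⟩ := hφ t
      choose a ha using fun i => hφ (c i)
      refine ⟨s, fun hs => ht hs, a, ?_⟩
      exact (hmk ⟨z, hz⟩ s a).mp (by
        rw [hc]
        refine Finset.sum_congr rfl (fun i _ => ?_)
        rw [ha i])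
    · intro a ha
      have h0 : ∑ i, φ (a i) • m i = 0 := by
        have := (hmk 0 0 a).mpr (by
          simp only [ZeroMemClass.coe_zero, mul_zero, zero_sub]
          exact (Ideal.neg_mem_iff _).mpr ha)
        rw [map_zero, zero_smul] at this
        exact this.symm
      obtain ⟨t, ht, htc⟩ := hm2 (fun i => φ (a i)) h0
      obtain ⟨s, rfl⟩ := hφ t
      refine ⟨s, fun hs => ht hs, fun i => ?_⟩
      rw [RingHom.mem_ker]
      show φ (s * a i) = 0
      rw [map_mul]
      exact htc i
  have hfgφ : (RingHom.ker φ.toRingHom).FG := hfg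
  have hkat := kAt_of_fibReg φ hφ hfgφ qB hfr
  rw [hcomap] at hkat
  exact hkat

/-- **tor amplitude in `[-1, 0]` of `NL` implies lci** for flat finitely presented algebras. -/
theorem isLCI_of_hasTorAmplitudeIn [Module.Flat A B] [Algebra.FinitePresentation A B]
    (h : DRing.HasTorAmplitudeIn B (-1) 0 (LCI.NL A B)) : LCI.IsLCI A B := by
  obtain ⟨n, f, hf, hfg⟩ := Algebra.FinitePresentation.out (R := A) (A := B)
  refine ⟨inferInstance, n, f, hf, ?_⟩
  obtain ⟨e⟩ := nonempty_NL_iso (gens f hf).toExtension
    (Generators.defaultHom (gens f hf) (Generators.self A B)).toExtensionHom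
  have h' : DRing.HasTorAmplitudeIn B (-1) 0 (DRing.toD (nl (gens f hf).toExtension)) :=
    Groth.Agent.H35.TorAmp.hasTorAmplitudeIn_of_iso e.symm h
  haveI : Module.Free B (gens f hf).toExtension.CotangentSpace :=
    Module.Free.of_basis (gens f hf).cotangentSpaceBasis
  have hflat : Module.Flat B (gens f hf).toExtension.Cotangent :=
    Groth.Agent.H59.NLFlat.flat_of_hasTorAmplitudeIn_double
      (ModuleCat.ofHom (gens f hf).toExtension.cotangentComplex)
      (inferInstance : Module.Flat B (gens f hf).toExtension.CotangentSpace) h'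
  haveI : Algebra.Smooth A (gens f hf).toExtension.Ring :=
    (show Algebra.Smooth A (MvPolynomial (Fin n) A) from ⟨inferInstance, inferInstance⟩)
  have hfg' : (gens f hf).toExtension.ker.FG := by
    rw [ker_gens]; exact hfg
  have := kreg_of_flat_cotangent (gens f hf).toExtension hfg' hflat
  rw [ker_gens] at this
  exact this

end Main

end Groth.Agent.H59.NLLci
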