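import Mathlib
import Groth.Agent.H59.NLLci
import Groth.Agent.H59.LCIReg
import Groth.Agent.H56.Cancel
import Groth.Agent.H56.KoszPerf
import Groth.Agent.S7067
import Groth.Agent.H72.PdLocal
import Groth.Agent.H71.Vasconcelos
import Groth.Agent.H35.TorBridge

/-!
# Perfect ring maps with `NL` of tor amplitude `[-1, 0]` are lci (helper59)

`A` Noetherian, `B` of finite type and of finite tor dimension over `A`.  If `NL_{B/A}` has tor
amplitude in `[-1, 0]`, then `A → B` is a local complete intersection.
-/

set_option autoImplicit false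
set_option linter.unusedVariables false
set_option linter.style.haveILetI false
set_option linter.unusedSectionVars false

universe u

open CategoryTheory Algebra

attribute [local instance] HasDerivedCategory.standard

namespace Groth.Agent.H59.NLPerfLci

open Groth.Agent.H61.NLInv Groth.Agent.H59.Kosz Groth.Agent.H59.NLLci
  Groth.Agent.H35.TorAmp Groth.Agent.H72.PdLocal

section Pd

variable {R : Type u} [CommRing R] [IsNoetherianRing R]

/-- finite modules of finite tor dimension over a Noetherian ring have finite projective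
dimension -/
theorem pdLT_of_hasTorDimLE : ∀ (n : ℕ) (M : Type u) [AddCommGroup M] [Module R M]
    [Module.Finite R M], DRing.HasTorDimLE R n M → PdLT R M (n + 1) := by
  intro n
  induction n with
  | zero =>
    intro M _ _ _ h
    haveI : Module.Flat R M := (hasTorDimLE_zero_iff_flat M).1 h
    haveI : Module.FinitePresentation R M := Module.finitePresentation_of_finite R M
    haveI : Module.Projective R M := Module.Flat.projective_of_finitePresentation
    exact (pdLT_one_iff M).2 inferInstance
  | succ n ih =>
    intro M _ _ _ h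
    obtain ⟨k, g, hg⟩ := Module.Finite.exists_fin' R M
    have hfg : Function.Exact (LinearMap.ker g).subtype g := LinearMap.exact_subtype_ker_map g
    have hinj : Function.Injective (LinearMap.ker g).subtype := Submodule.subtype_injective _
    have hS : (ModuleCat.shortComplexOfCompEqZero (LinearMap.ker g).subtype g
        hfg.linearMap_comp_eq_zero).ShortExact :=
      ModuleCat.shortComplex_shortExact _ hfg hinj hg
    have h₂ : DRing.HasTorAmplitudeIn R (-((n + 1 : ℕ) : ℤ) + 1) (0 + 1) hS.singleTriangle.obj₂ := by
      have h0 : DRing.HasTorAmplitudeIn R (-((0 : ℕ) : ℤ)) 0 (Dual.inD R (Fin k → R)) :=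
        (hasTorDimLE_iff (Fin k → R) 0).1 ((hasTorDimLE_zero_iff_flat (Fin k → R)).2 inferInstance)
      exact hasTorAmplitudeIn_mono (by push_cast; omega) (by omega) h0
    have h₃ : DRing.HasTorAmplitudeIn R (-((n + 1 : ℕ) : ℤ)) 0 hS.singleTriangle.obj₃ :=
      (hasTorDimLE_iff M (n + 1)).1 h
    have h₁ := hasTorAmplitudeIn_obj₁ hS.singleTriangle hS.singleTriangle_distinguished _ _ h₂ h₃
    have h₁' : DRing.HasTorAmplitudeIn R (-((n + 1 : ℕ) : ℤ) + 1) (0 + 1)
        (Dual.inD R (LinearMap.ker g)) := h₁
    haveI : (Dual.inD R (LinearMap.ker g)).IsLE 0 := inferInstance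
    have h₁'' : DRing.HasTorAmplitudeIn R (-((n + 1 : ℕ) : ℤ) + 1) 0
        (Dual.inD R (LinearMap.ker g)) :=
      Groth.Agent.H59.NLFlat.hasTorAmplitudeIn_shrink h₁'
    have hK : DRing.HasTorDimLE R n (LinearMap.ker g) := by
      rw [hasTorDimLE_iff]
      have e : (-((n + 1 : ℕ) : ℤ) + 1) = -(n : ℤ) := by push_cast; ring
      rw [e] at h₁''
      exact h₁''
    have := ih (LinearMap.ker g) hK
    exact (pdLT_succ_iff_of_exact (LinearMap.ker g).subtype g hinj hfg hg n).2 this

end Pd

section Main

variable {A B : Type u} [CommRing A] [CommRing B] [Algebra A B]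

/-- tor amplitude `[-1, 0]` of `NL` gives a flat conormal module for every finite presentation -/
theorem flat_cotangent_of_hasTorAmplitudeIn {n : ℕ} (f : MvPolynomial (Fin n) A →ₐ[A] B)
    (hf : Function.Surjective f) (h : DRing.HasTorAmplitudeIn B (-1) 0 (LCI.NL A B)) :
    Module.Flat B (gens f hf).toExtension.Cotangent := by
  obtain ⟨e⟩ := nonempty_NL_iso (gens f hf).toExtension
    (Generators.defaultHom (gens f hf) (Generators.self A B)).toExtensionHom
  have h' : DRing.HasTorAmplitudeIn B (-1) 0 (DRing.toD (nl (gens f hf).toExtension)) :=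
    hasTorAmplitudeIn_of_iso e.symm h
  haveI : Module.Free B (gens f hf).toExtension.CotangentSpace :=
    Module.Free.of_basis (gens f hf).cotangentSpaceBasis
  exact Groth.Agent.H59.NLFlat.flat_of_hasTorAmplitudeIn_double
    (ModuleCat.ofHom (gens f hf).toExtension.cotangentComplex)
    (inferInstance : Module.Flat B (gens f hf).toExtension.CotangentSpace) h'

/-- the conormal module as a module over the quotient ring is projective as soon as it is so over
the target of the extension -/
theorem projective_cotangent_quotient (E : Extension.{u} A B)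
    [Module.Projective B E.Cotangent] : Module.Projective (E.Ring ⧸ E.ker) E.ker.Cotangent := by
  let e : E.Ring ⧸ E.ker ≃+* B := RingHom.quotientKerEquivOfSurjective E.algebraMap_surjective
  haveI : RingHomInvPair (e.symm : B →+* E.Ring ⧸ E.ker) (e : E.Ring ⧸ E.ker →+* B) :=
    RingHomInvPair.of_ringEquiv e.symm
  haveI : RingHomInvPair (e : E.Ring ⧸ E.ker →+* B) (e.symm : B →+* E.Ring ⧸ E.ker) :=
    RingHomInvPair.of_ringEquiv e
  have hes : ∀ b : B, e.symm b = Ideal.Quotient.mk E.ker (E.σ b) := by
    intro b
    rw [RingEquiv.symm_apply_eq]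
    have : e (Ideal.Quotient.mk E.ker (E.σ b)) = algebraMap E.Ring B (E.σ b) := rfl
    rw [this, E.algebraMap_σ]
  let e₂ : E.Cotangent ≃ₛₗ[(e.symm : B →+* E.Ring ⧸ E.ker)] E.ker.Cotangent :=
    { toFun := Extension.Cotangent.val
      invFun := Extension.Cotangent.of
      map_add' := fun x y => rfl
      map_smul' := fun b x => by
        show (b • x).val = (e.symm b) • x.val
        rw [Extension.Cotangent.val_smul, hes]
        exact (algebraMap_smul (E.Ring ⧸ E.ker) (E.σ b) x.val).symm
      left_inv := fun x => rfl
      right_inv := fun x => rfl }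
  exact Module.Projective.of_equiv e₂

/-- Vasconcelos for extensions with Noetherian source -/
theorem kreg_of_flat_cotangent_of_pdLT (E : Extension.{u} A B) [IsNoetherianRing E.Ring]
    (hflat : Module.Flat B E.Cotangent) (m : ℕ)
    (hpd : HasProjectiveDimensionLT (ModuleCat.of E.Ring E.ker) m) :
    LCI.IsKoszulRegularIdeal E.ker := by
  haveI : IsNoetherianRing B :=
    isNoetherianRing_of_surjective E.Ring B (algebraMap E.Ring B) E.algebraMap_surjective
  haveI : Module.Finite E.Ring E.ker := Module.Finite.iff_fg.mpr (IsNoetherian.noetherian _)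
  haveI : Module.Finite E.Ring E.Cotangent :=
    Module.Finite.of_surjective Extension.Cotangent.mk Extension.Cotangent.mk_surjective
  haveI : Module.Finite B E.Cotangent := Module.Finite.of_restrictScalars_finite E.Ring B _
  haveI : Module.FinitePresentation B E.Cotangent := Module.finitePresentation_of_finite B _
  haveI : Module.Projective B E.Cotangent := Module.Flat.projective_of_finitePresentation
  haveI : Module.Projective (E.Ring ⧸ E.ker) E.ker.Cotangent := projective_cotangent_quotient E
  apply kregIdeal_intro
  intro 𝔮 h𝔮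
  obtain ⟨g, hg, rs, hrs, hof⟩ := Groth.Agent.H71.VAS.vasconcelos E.ker m hpd 𝔮.asIdeal h𝔮
  exact ⟨g, hg, Localization.Away g, inferInstance, inferInstance, inferInstance, rs,
    kreg_of_isWeaklyRegular rs hrs.toIsWeaklyRegular, hof.symm⟩

/-- Vasconcelos for extensions with Noetherian source, finite tor dimension form -/
theorem kreg_of_flat_cotangent_of_ft (E : Extension.{u} A B) [IsNoetherianRing E.Ring]
    (hflat : Module.Flat B E.Cotangent) (hFT : DRing.HasFiniteTorDim E.Ring B) :
    LCI.IsKoszulRegularIdeal E.ker := by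
  obtain ⟨d, hd⟩ := hFT
  haveI : Module.Finite E.Ring B :=
    Module.Finite.of_surjective (Algebra.linearMap E.Ring B) E.algebraMap_surjective
  have hpdB : PdLT E.Ring B (d + 1) := pdLT_of_hasTorDimLE d B hd
  have hpdK : PdLT E.Ring E.ker (d + 1) := by
    have hex : Function.Exact E.ker.subtype (Algebra.linearMap E.Ring B) := by
      intro x
      constructor
      · intro hx
        exact ⟨⟨x, hx⟩, rfl⟩
      · rintro ⟨y, rfl⟩
        exact y.2
    haveI : HasProjectiveDimensionLT (ModuleCat.of E.Ring B) (d + 1) := hpdB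
    have h2 : PdLT E.Ring B (d + 1 + 1) :=
      hasProjectiveDimensionLT_of_ge (ModuleCat.of E.Ring B) (d + 1) (d + 1 + 1) (by omega)
    exact (pdLT_succ_iff_of_exact E.ker.subtype (Algebra.linearMap E.Ring B)
      (Submodule.subtype_injective _) hex E.algebraMap_surjective d).1 h2
  exact kreg_of_flat_cotangent_of_pdLT E hflat (d + 1) hpdK

/-- **perfect + `NL` of tor amplitude `[-1, 0]` ⟹ lci** (Noetherian base). -/
theorem isLCI_of_hasTorAmplitudeIn_of_hasFiniteTorDim [IsNoetherianRing A]
    [Algebra.FiniteType A B] (hB : DRing.HasFiniteTorDim A B)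
    (h : DRing.HasTorAmplitudeIn B (-1) 0 (LCI.NL A B)) : LCI.IsLCI A B := by
  obtain ⟨n, f, hf⟩ := Algebra.FiniteType.iff_quotient_mvPolynomial''.mp
    (inferInstance : Algebra.FiniteType A B)
  refine ⟨inferInstance, n, f, hf, ?_⟩
  have hflat := flat_cotangent_of_hasTorAmplitudeIn f hf h
  haveI : IsNoetherianRing (gens f hf).toExtension.Ring :=
    (show IsNoetherianRing (MvPolynomial (Fin n) A) from inferInstance)
  -- finite tor dimension over the polynomial ring
  have hqp : Groth.Agent.H56.PcMor.QP (algebraMap A B) :=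
    Groth.Agent.H56.PcMor.qp_algebraMap_iff.2 ⟨Groth.Agent.S7067.result A B, hB⟩
  have hcomp : (f : MvPolynomial (Fin n) A →+* B).comp MvPolynomial.C = algebraMap A B := by
    ext a
    simp
  have hqpf : Groth.Agent.H56.PcMor.QP (f : MvPolynomial (Fin n) A →+* B) :=
    Groth.Agent.H56.PcMor.qp_of_comp_C n _ (by rw [hcomp]; exact hqp)
  have hψ : (f : MvPolynomial (Fin n) A →+* B) = algebraMap (gens f hf).toExtension.Ring B :=
    RingHom.ext (fun x => (algebraMap_gens f hf x).symm)
  have hqp' : Groth.Agent.H56.PcMor.QP (algebraMap (gens f hf).toExtension.Ring B) := by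
    rw [← hψ]; exact hqpf
  have hFT : DRing.HasFiniteTorDim (gens f hf).toExtension.Ring B :=
    Groth.Agent.H56.PcMor.ft_algebraMap_iff.1 ((Groth.Agent.H56.PcMor.qp_iff _).1 hqp').2
  have := kreg_of_flat_cotangent_of_ft (gens f hf).toExtension hflat hFT
  rw [ker_gens] at this
  exact this

end Main

end Groth.Agent.H59.NLPerfLci
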