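import Mathlib
import Groth.Agent.H59.RegColim
import Groth.Agent.Lead.ColimDescent

/-!
# Noetherian colimits of regular rings: version without functorial transition maps,
and base change of a colimit system of algebras.
-/

set_option autoImplicit false
universe u

open IsLocalRing RingTheory.Sequence TensorProduct

namespace Groth.Agent.H59.RegColim

section ColimS

variable {ι : Type*} {A : Type u} [CommRing A] {G : ι → Type u} [∀ i, CommRing (G i)]
  (g : ∀ i, G i →+* A)

/-- `A` with the maps `g i` is a filtered colimit of the `G i`, in elementwise form and without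
chosen transition maps. -/
structure IsColimS : Prop where
  ne : Nonempty ι
  surj : ∀ a : A, ∃ i, ∃ x : G i, g i x = a
  dir : ∀ i i', ∃ j, ∃ φ : G i →+* G j, ∃ φ' : G i' →+* G j,
    (g j).comp φ = g i ∧ (g j).comp φ' = g i'
  ker : ∀ i (x : G i), g i x = 0 → ∃ j, ∃ φ : G i →+* G j, (g j).comp φ = g i ∧ φ x = 0

variable {g}

theorem IsColimS.exists_lift_finset (hc : IsColimS g) {σ : Type*} (z : σ → A) (s : Finset σ) :
    ∃ i, ∀ t ∈ s, ∃ w : G i, g i w = z t := by
  classical
  induction s using Finset.induction_on with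
  | empty => obtain ⟨i⟩ := hc.ne; exact ⟨i, by simp⟩
  | insert a s ha ih =>
    obtain ⟨i₁, h₁⟩ := ih
    obtain ⟨i₂, w₂, h₂⟩ := hc.surj (z a)
    obtain ⟨j, φ₁, φ₂, c₁, c₂⟩ := hc.dir i₁ i₂
    refine ⟨j, fun t ht => ?_⟩
    rcases Finset.mem_insert.1 ht with rfl | ht
    · exact ⟨φ₂ w₂, by rw [← RingHom.comp_apply, c₂, h₂]⟩
    · obtain ⟨w, hw⟩ := h₁ t ht
      exact ⟨φ₁ w, by rw [← RingHom.comp_apply, c₁, hw]⟩

theorem IsColimS.exists_lift (hc : IsColimS g) {σ : Type*} [Finite σ] (z : σ → A) :
    ∃ i, ∃ z' : σ → G i, ∀ s, g i (z' s) = z s := by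
  classical
  cases nonempty_fintype σ
  obtain ⟨i, hi⟩ := hc.exists_lift_finset z Finset.univ
  choose w hw using fun t => hi t (Finset.mem_univ t)
  exact ⟨i, w, hw⟩

theorem IsColimS.qReg (hc : IsColimS g) (p : Ideal A) [p.IsPrime] {d : ℕ} (a : Fin d → A)
    (h : ∀ i (b : Fin d → G i), (∀ j, g i (b j) = a j) → QReg (p.comap (g i)) b) : QReg p a := by
  intro k hk α τ hτ hmem
  obtain ⟨c, hcs⟩ := Ideal.mem_span_range_iff_exists_fun.mp hmem
  obtain ⟨i1, z', hz'⟩ := hc.exists_lift
    (Sum.elim (Sum.elim a c) ![α, τ] : (Fin d ⊕ Fin k) ⊕ Fin 2 → A)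
  set b' : Fin d → G i1 := fun j => z' (Sum.inl (Sum.inl j)) with hb'
  set c' : Fin k → G i1 := fun j => z' (Sum.inl (Sum.inr j)) with hc'
  set α' : G i1 := z' (Sum.inr 0) with hα'
  set τ' : G i1 := z' (Sum.inr 1) with hτ'
  have hgb : ∀ j, g i1 (b' j) = a j := fun j => hz' _
  have hgc : ∀ j, g i1 (c' j) = c j := fun j => hz' _
  have hgα : g i1 α' = α := hz' (Sum.inr 0)
  have hgτ : g i1 τ' = τ := hz' (Sum.inr 1)
  have he : g i1 (b' ⟨k, hk⟩ * α' * τ' - ∑ j, c' j * b' (Fin.castLE hk.le j)) = 0 := by
    rw [map_sub, map_mul, map_mul, map_sum, hgb, hgα, hgτ, sub_eq_zero, ← hcs]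
    refine Finset.sum_congr rfl fun j _ => ?_
    rw [map_mul, hgc, hgb]
  obtain ⟨i, φ, hφ, hfe⟩ := hc.ker _ _ he
  have hcomp : ∀ x, g i (φ x) = g i1 x := fun x => by rw [← RingHom.comp_apply, hφ]
  rw [map_sub, map_mul, map_mul, map_sum, sub_eq_zero] at hfe
  set b : Fin d → G i := fun j => φ (b' j) with hb
  have hgb2 : ∀ j, g i (b j) = a j := fun j => by rw [hb]; simp only; rw [hcomp, hgb]
  have hq := h i b hgb2 k hk (φ α') (φ τ')
    (by rw [Ideal.mem_comap, hcomp, hgτ]; exact hτ)
    (by
      rw [Ideal.mem_span_range_iff_exists_fun]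
      refine ⟨fun j => φ (c' j), ?_⟩
      rw [hfe]
      refine Finset.sum_congr rfl fun j _ => ?_
      rw [map_mul])
  obtain ⟨υ', hυ', hmem'⟩ := hq
  refine ⟨g i υ', hυ', ?_⟩
  have h1 := Ideal.mem_map_of_mem (g i) hmem'
  rw [map_span_range, map_mul, hcomp, hgα] at h1
  have h2 : (fun j : Fin k => g i (b (Fin.castLE hk.le j))) =
      fun j : Fin k => a (Fin.castLE hk.le j) := funext fun j => hgb2 _
  rwa [h2] at h1

theorem IsColimS.isRegularLocalRing_localization (hc : IsColimS g) [IsNoetherianRing A]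
    (hreg : ∀ i, IsRegularRing (G i)) (p : Ideal A) [p.IsPrime] :
    IsRegularLocalRing (Localization.AtPrime p) := by
  classical
  have hfg : (maximalIdeal (Localization.AtPrime p)).FG :=
    IsNoetherian.noetherian _
  obtain ⟨s, hs_card, hs_span⟩ := Submodule.FG.exists_span_finset_card_eq_spanFinrank hfg
  set d := (maximalIdeal (Localization.AtPrime p)).spanFinrank with hd
  let e : s ≃ Fin d := s.equivFinOfCardEq hs_card
  let x : Fin d → Localization.AtPrime p := fun j => (e.symm j : Localization.AtPrime p)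
  have hxr : Set.range x = (s : Set (Localization.AtPrime p)) := by
    ext z; constructor
    · rintro ⟨j, rfl⟩; exact (e.symm j).2
    · intro hz; exact ⟨e ⟨z, hz⟩, by simp [x]⟩
  have hxs : Ideal.span (Set.range x) = maximalIdeal (Localization.AtPrime p) := by
    rw [hxr]; exact hs_span
  choose a t hat using fun j => IsLocalization.exists_mk'_eq p.primeCompl (x j)
  have hxa : ∀ j, x j * algebraMap A (Localization.AtPrime p) (t j) =
      algebraMap A (Localization.AtPrime p) (a j) := fun j => by
    rw [← hat j]; exact IsLocalization.mk'_spec _ _ _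
  have hut : ∀ j, IsUnit (algebraMap A (Localization.AtPrime p) (t j)) := fun j =>
    IsLocalization.map_units (Localization.AtPrime p) (t j)
  have hx's : Ideal.span (Set.range fun j => algebraMap A (Localization.AtPrime p) (a j)) =
      maximalIdeal (Localization.AtPrime p) := by
    rw [← hxs]
    apply le_antisymm
    · rw [Ideal.span_le]
      rintro _ ⟨j, rfl⟩
      simp only
      rw [← hxa j]
      exact Ideal.mul_mem_right _ _ (Ideal.subset_span ⟨j, rfl⟩)
    · rw [Ideal.span_le]
      rintro _ ⟨j, rfl⟩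
      have : x j = algebraMap A (Localization.AtPrime p) (a j) * ↑((hut j).unit⁻¹) := by
        rw [Units.eq_mul_inv_iff_mul_eq]; exact hxa j
      rw [this]
      exact Ideal.mul_mem_right _ _ (Ideal.subset_span ⟨j, rfl⟩)
  have hap : ∀ j, a j ∈ p := fun j => by
    have h1 : algebraMap A (Localization.AtPrime p) (a j) ∈
        maximalIdeal (Localization.AtPrime p) := hx's ▸ Ideal.subset_span ⟨j, rfl⟩
    exact (IsLocalization.AtPrime.to_map_mem_maximal_iff _ p _).mp h1
  have hind : Indep (Localization.AtPrime p)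
      (fun j => algebraMap A (Localization.AtPrime p) (a j)) :=
    indep_of_span_eq hd.symm _ hx's
  have hq : QReg p a := by
    apply hc.qReg
    intro i b hb
    haveI : (p.comap (g i)).IsPrime := Ideal.comap_isPrime _ _
    haveI := hreg i
    rw [← isWeaklyRegular_iff_qReg]
    apply isWeaklyRegular_of_indep
    · intro j
      rw [IsLocalization.AtPrime.to_map_mem_maximal_iff _ (p.comap (g i)), Ideal.mem_comap, hb]
      exact hap j
    · apply Indep.of_localHom (Localization.localRingHom (p.comap (g i)) p (g i) rfl)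
      have : (Localization.localRingHom (p.comap (g i)) p (g i) rfl) ∘
          (fun j => algebraMap (G i) (Localization.AtPrime (p.comap (g i))) (b j)) =
          fun j => algebraMap A (Localization.AtPrime p) (a j) := by
        funext j
        simp only [Function.comp_apply]
        rw [Localization.localRingHom_to_map, hb]
      rw [this]
      exact hind
  exact isRegularLocalRing_of_isWeaklyRegular hd.symm _ hx's
    ((isWeaklyRegular_iff_qReg p a).mpr hq)

/-- **A Noetherian filtered colimit of regular rings is regular** (no chosen transition maps). -/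
theorem IsColimS.isRegularRing (hc : IsColimS g) [IsNoetherianRing A]
    (hreg : ∀ i, IsRegularRing (G i)) : IsRegularRing A :=
  isRegularRing_iff.mpr fun p _ => hc.isRegularLocalRing_localization hreg p

end ColimS

section BaseChange

open Groth.Agent.Lead.ColimDescent

variable {ι : Type u} {A₀ : Type u} [CommRing A₀] {G : ι → Type u} [∀ i, CommRing (G i)]
  [∀ i, Algebra A₀ (G i)] {A : Type u} [CommRing A] [Algebra A₀ A] {g : ∀ i, G i →ₐ[A₀] A}

/-- base change of a colimit system of algebras is a colimit system of rings -/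
theorem isColimS_baseChange (H : Sys A₀ G A g) (K : Type u) [CommRing K] [Algebra A₀ K] :
    IsColimS (G := fun i => K ⊗[A₀] G i) (A := K ⊗[A₀] A)
      (fun i => (Bm K (g i)).toRingHom) := by
  refine ⟨H.ne, fun a => ?_, fun i i' => ?_, fun i x hx => ?_⟩
  · obtain ⟨i, b', hb'⟩ := H.t1B K a
    exact ⟨i, b', hb'⟩
  · obtain ⟨j, φ, φ', c, c'⟩ := H.dir i i'
    refine ⟨j, (Bm K φ).toRingHom, (Bm K φ').toRingHom, ?_, ?_⟩
    · exact RingHom.ext fun z => Bm_compat K φ c z
    · exact RingHom.ext fun z => Bm_compat K φ' c' z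
  · obtain ⟨j, φ, c, hk⟩ := H.t2B K i x hx
    exact ⟨j, (Bm K φ).toRingHom, RingHom.ext fun z => Bm_compat K φ c z, hk⟩

end BaseChange

end Groth.Agent.H59.RegColim
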