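import Mathlib
import Groth.Agent.H59.RegColim2
import Groth.Agent.H63.SmoothRegular2
import Groth.Prelude.Def_Found

/-!
# A filtered colimit of smooth algebras with Noetherian fibres is a regular ring map
-/

set_option autoImplicit false
set_option linter.style.haveILetI false
universe u

open TensorProduct

namespace Groth.Agent.H59.RegColim

open Groth.Agent.Lead.ColimDescent

variable {ι : Type u} {A₀ : Type u} [CommRing A₀] {G : ι → Type u} [∀ i, CommRing (G i)]
  [∀ i, Algebra A₀ (G i)] {A : Type u} [CommRing A] [Algebra A₀ A] {g : ∀ i, G i →ₐ[A₀] A}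

/-- a filtered colimit of flat algebras is flat -/
theorem sys_flat (H : Sys A₀ G A g) (hfl : ∀ i, Module.Flat A₀ (G i)) : Module.Flat A₀ A := by
  rw [Module.Flat.iff_rTensor_injective']
  intro I
  rw [injective_iff_map_eq_zero]
  intro z hz
  obtain ⟨i, z', rfl⟩ := H.t1 I z
  have h1 : T A₀ (g i) (LinearMap.rTensor (G i) I.subtype z') = 0 := by
    rw [T_rTensor]; exact hz
  obtain ⟨j, ψ, hψ, hk⟩ := H.t2_flat A₀ i _ h1
  rw [T_rTensor] at hk
  have h2 : T I ψ z' = 0 := by
    have := (Module.Flat.iff_rTensor_injective'.mp (hfl j)) I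
    exact (injective_iff_map_eq_zero _).mp this _ hk
  rw [← T_compat I ψ hψ, h2, map_zero]

/-- base change to a field of a filtered colimit of smooth algebras is regular when Noetherian -/
theorem sys_isRegularRing_baseChange (H : Sys A₀ G A g) (hs : ∀ i, Algebra.Smooth A₀ (G i))
    (K : Type u) [Field K] [Algebra A₀ K] [IsNoetherianRing (K ⊗[A₀] A)] :
    IsRegularRing (K ⊗[A₀] A) := by
  refine (isColimS_baseChange H K).isRegularRing fun i => ?_
  haveI := hs i
  exact Groth.Agent.H63.SmoothRegular.isRegularRing_of_smooth K (K ⊗[A₀] G i)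

/-- a filtered colimit of smooth algebras with Noetherian fibres is a regular ring map -/
theorem sys_isRegularHom (H : Sys A₀ G A g) (hs : ∀ i, Algebra.Smooth A₀ (G i))
    (hN : ∀ (p : Ideal A₀) [p.IsPrime], IsNoetherianRing (p.Fiber A)) :
    CAlg.IsRegularHom A₀ A := by
  refine ⟨sys_flat H fun i => ?_, fun p _ => ⟨hN p, ?_⟩⟩
  · haveI := hs i
    infer_instance
  intro k' _ _ hfin
  haveI := hfin
  haveI := hN p
  letI algk : Algebra A₀ k' :=
    ((algebraMap p.ResidueField k').comp (algebraMap A₀ p.ResidueField)).toAlgebra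
  haveI : IsScalarTower A₀ p.ResidueField k' := IsScalarTower.of_algebraMap_eq fun _ => rfl
  haveI hN' : IsNoetherianRing ((p.Fiber A) ⊗[p.ResidueField] k') :=
    IsNoetherianRing.of_finite (p.Fiber A) _
  haveI hN2 : IsNoetherianRing (k' ⊗[p.ResidueField] (p.Fiber A)) :=
    isNoetherianRing_of_ringEquiv _
      (Algebra.TensorProduct.comm p.ResidueField (p.Fiber A) k').toRingEquiv
  let e : k' ⊗[p.ResidueField] (p.Fiber A) ≃+* k' ⊗[A₀] A :=
    (Algebra.TensorProduct.cancelBaseChange A₀ p.ResidueField p.ResidueField k' A).toRingEquiv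
  haveI hN3 : IsNoetherianRing (k' ⊗[A₀] A) := isNoetherianRing_of_ringEquiv _ e
  haveI := sys_isRegularRing_baseChange H hs k'
  exact IsRegularRing.of_ringEquiv e.symm

end Groth.Agent.H59.RegColim
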