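import Mathlib
import Groth.Agent.H59.RegImmDesc
import Groth.Agent.H59.SeqFam

/-!
# helper59: fpqc descent of regular immersions of a general kind (scheme-level plumbing)

Generic in a family `F : SeqFam` of sequence predicates stable under isomorphisms and
localization, for which ideals locally generated by `F`-sequences descend along faithfully flat
ring maps.
-/

set_option autoImplicit false
set_option linter.style.haveILetI false
universe u
open CategoryTheory AlgebraicGeometry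

namespace Groth.Agent.H59.RegImmDescGen

open Groth.Agent.H59.Kosz Groth.Agent.H56.RegImmComp Groth.Agent.H59.RegImmDesc
open Groth.Agent.H59.SeqFam

variable (F : SeqFam.{u})

lemma Q_cast {R : Type u} [CommRing R] {m n : ℕ} (h : m = n) (φ : Fin n → R) :
    F.Q R m (fun i => φ (Fin.cast h i)) ↔ F.Q R n φ := by
  subst h
  rfl

lemma Q_ofFn {R : Type u} [CommRing R] {n : ℕ} (φ : Fin n → R) :
    F.Q R (List.ofFn φ).length (List.ofFn φ).get ↔ F.Q R n φ := by
  have h : (List.ofFn φ).length = n := List.length_ofFn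
  have e : (List.ofFn φ).get = fun i => φ (Fin.cast h i) := by
    funext i
    simp
    rfl
  rw [e]
  exact Q_cast F h φ

lemma ofList_eq_span_range_get {R : Type u} [CommRing R] (rs : List R) :
    Ideal.ofList rs = Ideal.span (Set.range rs.get) := by
  rw [Set.range_list_get]

lemma ofList_ofFn {R : Type u} [CommRing R] {n : ℕ} (φ : Fin n → R) :
    Ideal.ofList (List.ofFn φ) = Ideal.span (Set.range φ) := by
  show Ideal.span {x | x ∈ List.ofFn φ} = _
  rw [setOf_mem_ofFn]

variable {F}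

/-- (G1) to check `F.Loc`, any localization away from `g` may be used. -/
theorem loc_intro (hF : F.IsStable) {A : Type u} [CommRing A] (I : Ideal A)
    (h : ∀ (P : Ideal A) [P.IsPrime], I ≤ P → ∃ g : A, g ∉ P ∧
      ∃ (S : Type u) (_ : CommRing S) (_ : Algebra A S) (_ : IsLocalization.Away g S)
        (r : ℕ) (f : Fin r → S), F.Q S r f ∧
          Ideal.span (Set.range f) = I.map (algebraMap A S)) : F.Loc I := by
  intro P hP hIP
  obtain ⟨g, hg, S, _, _, _, r, f, hf, hspan⟩ := h P hIP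
  let ε : S ≃ₐ[A] Localization.Away g := IsLocalization.algEquiv (Submonoid.powers g) _ _
  refine ⟨g, hg, r, fun i => ε.toRingEquiv (f i), hF.equiv ε.toRingEquiv f hf, ?_⟩
  have h1 : Ideal.span (Set.range fun i => ε.toRingEquiv (f i)) =
      (Ideal.span (Set.range f)).map (ε.toRingEquiv : S →+* Localization.Away g) :=
    span_range_comp (ε.toRingEquiv : S →+* Localization.Away g) f
  rw [h1, hspan, Ideal.map_map]
  congr 1
  ext a
  exact ε.commutes a

variable {X Z : Scheme.{u}}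

/-- (G2) for a regular immersion of kind `k`, the kernel on any affine open over which it is a
closed immersion is locally generated by `F`-sequences. -/
theorem loc_ker_of_regImm (hF : F.IsStable) (k : RegImm.Kind)
    (hk : ∀ (R : Type u) [CommRing R] (rs : List R), k.Seq R rs ↔ F.Q R rs.length rs.get)
    (i : Z ⟶ X) (hi : RegImm.IsRegularImmersion k i)
    {V : X.Opens} (hV : IsAffineOpen V) (hcl : IsClosedImmersion (i ∣_ V)) :
    F.Loc (RingHom.ker (i.app V).hom) := by
  apply loc_intro hF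
  intro P hP hle
  let 𝔮 : PrimeSpectrum Γ(X, V) := ⟨P, hP⟩
  obtain ⟨z, hz⟩ := exists_preimage_of_ker_le i hV hcl 𝔮 hle
  have hxV : hV.fromSpec 𝔮 ∈ V := by
    have : hV.fromSpec 𝔮 ∈ Set.range hV.fromSpec := ⟨𝔮, rfl⟩
    rw [hV.range_fromSpec] at this
    exact this
  obtain ⟨U', hzU', hclU', rs, hrs, hker⟩ := hi.2 z
  rw [hz] at hzU'
  obtain ⟨b', c, hbc, hxb⟩ := exists_basicOpen_le_affine_inter U'.2 hV (hV.fromSpec 𝔮)
    ⟨hzU', hxV⟩
  have key : ∃ (n : ℕ) (φ : Fin n → Γ(X, X.basicOpen c)), F.Q Γ(X, X.basicOpen c) n φ ∧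
      RingHom.ker (i.app (X.basicOpen c)).hom = Ideal.span (Set.range φ) := by
    rw [← hbc]
    haveI : IsLocalization.Away b' Γ(X, X.basicOpen b') := U'.2.isLocalization_basicOpen b'
    refine ⟨rs.length, fun j => algebraMap Γ(X, U'.1) Γ(X, X.basicOpen b') (rs.get j),
      hF.loc (Submonoid.powers b') rs.get ((hk _ rs).mp hrs), ?_⟩
    rw [ker_basicOpen i U'.2 hclU' b', hker, ofList_eq_span_range_get, span_range_comp]
  obtain ⟨n, φ, hφ, hkerφ⟩ := key
  have hc : c ∉ P := by
    rw [hbc] at hxb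
    have : 𝔮 ∈ (hV.fromSpec ⁻¹ᵁ X.basicOpen c : (Spec Γ(X, V)).Opens) := hxb
    rw [hV.fromSpec_preimage_basicOpen] at this
    exact this
  refine ⟨c, hc, Γ(X, X.basicOpen c), inferInstance, inferInstance,
    hV.isLocalization_basicOpen c, n, φ, hφ, ?_⟩
  rw [← hkerφ, ker_basicOpen i hV hcl c]

section pi

variable {P : Type u} [CommRing P] {m : ℕ} (Q : Fin m → Type u) [∀ j, CommRing (Q j)]
  [∀ j, Algebra P (Q j)]

/-- (G3) `F.Loc` for an extended ideal in a finite product, factor by factor. -/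
theorem loc_map_pi (hF : F.IsStable) (I : Ideal P)
    (h : ∀ j, F.Loc (I.map (algebraMap P (Q j)))) :
    F.Loc (I.map (algebraMap P (∀ j, Q j))) := by
  classical
  apply loc_intro hF
  intro 𝔮 h𝔮prime h𝔮
  obtain ⟨j, hj⟩ : ∃ j, (Pi.single j (1 : Q j) : ∀ j, Q j) ∉ 𝔮 := by
    by_contra hcon
    push Not at hcon
    have h1 : (∑ j, (Pi.single j (1 : Q j) : ∀ j, Q j)) ∈ 𝔮 :=
      Ideal.sum_mem _ (fun j _ => hcon j)
    rw [Finset.univ_sum_single] at h1
    exact h𝔮prime.ne_top ((Ideal.eq_top_iff_one _).mpr h1)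
  letI : Algebra (∀ j, Q j) (Q j) := (Pi.evalRingHom Q j).toAlgebra
  haveI : IsLocalization.Away (Pi.single j (1 : Q j) : ∀ j, Q j) (Q j) :=
    isLocalization_away_single Q j
  have hdisj : Disjoint (Submonoid.powers (Pi.single j (1 : Q j) : ∀ j, Q j) : Set (∀ j, Q j))
      (𝔮 : Set (∀ j, Q j)) := by
    exact (Ideal.disjoint_powers_iff_notMem_of_isPrime _).mpr hj
  haveI h𝔮j : (𝔮.map (algebraMap (∀ j, Q j) (Q j))).IsPrime :=
    IsLocalization.isPrime_of_isPrime_disjoint
      (Submonoid.powers (Pi.single j (1 : Q j) : ∀ j, Q j)) (Q j) 𝔮 h𝔮prime hdisj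
  have hcomap : (𝔮.map (algebraMap (∀ j, Q j) (Q j))).comap (algebraMap (∀ j, Q j) (Q j)) = 𝔮 :=
    IsLocalization.comap_map_of_isPrime_disjoint
      (Submonoid.powers (Pi.single j (1 : Q j) : ∀ j, Q j)) (Q j) h𝔮prime hdisj
  have hmapeq : I.map (algebraMap P (Q j)) =
      (I.map (algebraMap P (∀ j, Q j))).map (algebraMap (∀ j, Q j) (Q j)) := by
    rw [Ideal.map_map]
    rfl
  have hJj : I.map (algebraMap P (Q j)) ≤ 𝔮.map (algebraMap (∀ j, Q j) (Q j)) := by
    rw [hmapeq]
    exact Ideal.map_mono h𝔮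
  obtain ⟨gj, hgj, r, f, hf, hspan⟩ := h j (𝔮.map (algebraMap (∀ j, Q j) (Q j))) hJj
  set g : ∀ j, Q j := Pi.single j gj with hg
  have hgeval : algebraMap (∀ j, Q j) (Q j) g = gj := by
    show (Pi.single j gj : ∀ j, Q j) j = gj
    exact Pi.single_eq_same j gj
  have hg𝔮 : g ∉ 𝔮 := by
    intro hmem
    apply hgj
    rw [← hgeval]
    exact Ideal.mem_map_of_mem _ hmem
  letI : Algebra (∀ j, Q j) (Localization.Away gj) :=
    ((algebraMap (Q j) (Localization.Away gj)).comp (algebraMap (∀ j, Q j) (Q j))).toAlgebra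
  haveI : @IsScalarTower (∀ j, Q j) (Q j) (Localization.Away gj) Algebra.toSMul Algebra.toSMul
      Algebra.toSMul := IsScalarTower.of_algebraMap_eq (fun _ => rfl)
  haveI : IsLocalization.Away (algebraMap (∀ j, Q j) (Q j) g) (Localization.Away gj) := by
    rw [hgeval]
    infer_instance
  have hmul : (Pi.single j (1 : Q j) : ∀ j, Q j) * g = g := by
    funext l
    by_cases hl : l = j
    · subst hl
      simp [hg]
    · simp [hg, Pi.single_eq_of_ne hl]
  haveI hAway : IsLocalization.Away g (Localization.Away gj) := by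
    have := IsLocalization.Away.mul' (Q j) (Localization.Away gj)
      (Pi.single j (1 : Q j) : ∀ j, Q j) g
    rwa [hmul] at this
  refine ⟨g, hg𝔮, Localization.Away gj, inferInstance, inferInstance, hAway, r, f, hf, ?_⟩
  rw [hspan, hmapeq, Ideal.map_map]
  rfl

/-- (G4) descent along a finite jointly surjective flat family. -/
theorem loc_of_flat_family (hF : F.IsStable)
    (hdesc : ∀ {A B : Type u} [CommRing A] [CommRing B] [Algebra A B]
      [Module.FaithfullyFlat A B] (I : Ideal A), F.Loc (I.map (algebraMap A B)) → F.Loc I)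
    [∀ j, Module.Flat P (Q j)] (I : Ideal P)
    (hsurj : ∀ p : PrimeSpectrum P, ∃ j,
      p ∈ Set.range (PrimeSpectrum.comap (algebraMap P (Q j))))
    (h : ∀ j, F.Loc (I.map (algebraMap P (Q j)))) : F.Loc I := by
  haveI := faithfullyFlat_pi Q hsurj
  exact hdesc (B := ∀ j, Q j) I (loc_map_pi Q hF I h)

end pi

/-- **fpqc descent of regular immersions of kind `k`** (for a kind whose sequences are given by
a family `F` with descent). -/
theorem regImm_descent_gen (hF : F.IsStable)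
    (hdesc : ∀ {A B : Type u} [CommRing A] [CommRing B] [Algebra A B]
      [Module.FaithfullyFlat A B] (I : Ideal A), F.Loc (I.map (algebraMap A B)) → F.Loc I)
    (k : RegImm.Kind)
    (hk : ∀ (R : Type u) [CommRing R] (rs : List R), k.Seq R rs ↔ F.Q R rs.length rs.get)
    {X Y X' Y' : Scheme.{u}} (i : Y ⟶ X) [IsImmersion i]
    (g : X' ⟶ X) [Flat g] [Surjective g] [QuasiCompact g]
    (i' : Y' ⟶ X') (g' : Y' ⟶ Y) (hsq : IsPullback g' i' i g)
    (hi' : RegImm.IsRegularImmersion k i') : RegImm.IsRegularImmersion k i := by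
  refine ⟨inferInstance, fun z => ?_⟩
  obtain ⟨U₀, hU₀, hzU₀, hcl⟩ :=
    Groth.Agent.H9.exists_affine_isClosedImmersion_restrict i z
  have hK : F.Loc (RingHom.ker (i.app U₀).hom) := by
    obtain ⟨m, e, hle, hsurj⟩ := exists_finite_affine_cover_preimage g hU₀
    letI : ∀ j, Algebra Γ(X, U₀) Γ(X', (e j).1) :=
      fun j => (g.appLE U₀ (e j).1 (hle j)).hom.toAlgebra
    haveI : ∀ j, Module.Flat Γ(X, U₀) Γ(X', (e j).1) := fun j => g.flat_appLE hU₀ (e j).2 _
    apply loc_of_flat_family (fun j => Γ(X', (e j).1)) hF hdesc _ hsurj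
    intro j
    obtain ⟨hcl', hker'⟩ :=
      closedImm_and_ker_of_isPullback i g i' g' hsq hU₀ hcl (e j).2 (hle j)
    show F.Loc ((RingHom.ker (i.app U₀).hom).map (g.appLE U₀ (e j).1 (hle j)).hom)
    rw [← hker']
    exact loc_ker_of_regImm hF k hk i' hi' (e j).2 hcl'
  -- the prime of the point
  set 𝔭 := hU₀.primeIdealOf ⟨i z, hzU₀⟩ with h𝔭
  have hfs : hU₀.fromSpec 𝔭 = i z := hU₀.fromSpec_primeIdealOf ⟨i z, hzU₀⟩
  have hmem : ∀ a : Γ(X, U₀), a ∉ 𝔭.asIdeal ↔ i z ∈ X.basicOpen a := by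
    intro a
    rw [← hfs]
    have : (hU₀.fromSpec ⁻¹ᵁ X.basicOpen a : (Spec Γ(X, U₀)).Opens) =
        PrimeSpectrum.basicOpen a := hU₀.fromSpec_preimage_basicOpen a
    constructor
    · intro ha
      show 𝔭 ∈ (hU₀.fromSpec ⁻¹ᵁ X.basicOpen a : (Spec Γ(X, U₀)).Opens)
      rw [this]; exact ha
    · intro ha
      have h2 : 𝔭 ∈ (hU₀.fromSpec ⁻¹ᵁ X.basicOpen a : (Spec Γ(X, U₀)).Opens) := ha
      rw [this] at h2; exact h2
  have h𝔭le : RingHom.ker (i.app U₀).hom ≤ 𝔭.asIdeal := by
    intro a ha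
    by_contra hna
    have h1 : i z ∈ X.basicOpen a := (hmem a).mp hna
    have h2 : z ∈ i ⁻¹ᵁ X.basicOpen a := h1
    rw [Scheme.preimage_basicOpen, RingHom.mem_ker.mp ha, Scheme.basicOpen_zero] at h2
    exact h2
  obtain ⟨b, hb, r, f, hf, hspan⟩ := hK 𝔭.asIdeal h𝔭le
  refine ⟨⟨X.basicOpen b, hU₀.basicOpen b⟩, (hmem b).mp hb, closedImm_basicOpen i hcl b, ?_⟩
  haveI : IsLocalization.Away b Γ(X, X.basicOpen b) := hU₀.isLocalization_basicOpen b
  let ε : Localization.Away b ≃ₐ[Γ(X, U₀)] Γ(X, X.basicOpen b) :=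
    IsLocalization.algEquiv (Submonoid.powers b) _ _
  refine ⟨List.ofFn (fun j => ε.toRingEquiv (f j)), ?_, ?_⟩
  · exact (hk _ _).mpr ((Q_ofFn F _).mpr (hF.equiv ε.toRingEquiv f hf))
  · show RingHom.ker (i.app (X.basicOpen b)).hom = _
    rw [ker_basicOpen i hU₀ hcl b, ofList_ofFn]
    have h3 : algebraMap Γ(X, U₀) Γ(X, X.basicOpen b) =
        (ε.toRingEquiv : _ →+* _).comp (algebraMap Γ(X, U₀) (Localization.Away b)) := by
      ext a
      exact (ε.commutes a).symm
    rw [h3, ← Ideal.map_map, ← hspan, Ideal.map_span, ← Set.range_comp]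
    rfl

end Groth.Agent.H59.RegImmDescGen
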