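import Mathlib
import Groth.Agent.H59.KRegLoc
import Groth.Agent.H56.RegImmComp

/-!
# Presenting a principal localization of a quotient by a regular sequence
-/

universe u
open Polynomial RingTheory.Sequence Pointwise

namespace Groth.Agent.H59.RegPres

open Groth.Agent.H59.Kosz

/-- transport of regular sequences along ring isomorphisms -/
theorem isRegular_map_ringEquiv {R R' : Type u} [CommRing R] [CommRing R'] (e : R ≃+* R')
    (rs : List R) (h : IsRegular R rs) : IsRegular R' (rs.map e) := by
  haveI := RingHomInvPair.of_ringEquiv e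
  haveI := RingHomInvPair.symm (↑e : R →+* R') (e.symm : R' →+* R)
  exact (e.toSemilinearEquiv.isRegular_congr' rs).mp h

/-- a regular element followed by a lift of a regular sequence of the quotient -/
theorem isRegular_cons_of_quot {R R' : Type u} [CommRing R] [CommRing R'] (π : R →+* R')
    (hπ : Function.Surjective π) (u : R) (hu : IsSMulRegular R u)
    (hker : RingHom.ker π = Ideal.span {u}) (Fs : List R) (h : IsRegular R' (Fs.map π)) :
    IsRegular R (u :: Fs) := by
  rw [isRegular_cons_iff]
  refine ⟨hu, ?_⟩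
  have heq : (u • ⊤ : Submodule R R) = Ideal.span {u} := by
    rw [← Submodule.ideal_span_singleton_smul, smul_eq_mul, Ideal.mul_top]
  let e : QuotSMulTop u R ≃+ R' :=
    (Submodule.quotEquivOfEq _ _ heq).toAddEquiv.trans
      ((Ideal.quotEquivOfEq hker.symm).trans
        (RingHom.quotientKerEquivOfSurjective hπ)).toAddEquiv
  have he : ∀ y : R, e (Submodule.Quotient.mk y) = π y := fun y => rfl
  refine (AddEquiv.isRegular_congr (e := e) (as := Fs) (bs := Fs.map π) ?_).mpr h
  refine List.forall₂_map_right_iff.mpr (List.forall₂_same.mpr fun r _ x => ?_)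
  obtain ⟨y, rfl⟩ := Submodule.Quotient.mk_surjective _ x
  rw [← Submodule.Quotient.mk_smul, he, he, smul_eq_mul, map_mul, smul_eq_mul]


section assembly
variable {A : Type u} [CommRing A] {P : Type u} [CommRing P] [Algebra A P]

/-- the localized quotient map -/
noncomputable def rho (I : Ideal P) (G : P) :
    Localization.Away G →+* Localization.Away (Ideal.Quotient.mk I G) :=
  IsLocalization.Away.map (Localization.Away G) (Localization.Away (Ideal.Quotient.mk I G))
    (Ideal.Quotient.mk I) G

lemma rho_algebraMap (I : Ideal P) (G : P) (p : P) :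
    rho I G (algebraMap P (Localization.Away G) p) =
      algebraMap (P ⧸ I) (Localization.Away (Ideal.Quotient.mk I G)) (Ideal.Quotient.mk I p) := by
  unfold rho IsLocalization.Away.map
  rw [IsLocalization.map_eq]

lemma rho_surjective (I : Ideal P) (G : P) : Function.Surjective (rho I G) := by
  intro y
  obtain ⟨x, ⟨_, k, rfl⟩, rfl⟩ :=
    IsLocalization.exists_mk'_eq (Submonoid.powers (Ideal.Quotient.mk I G)) y
  obtain ⟨p, rfl⟩ := Ideal.Quotient.mk_surjective x
  refine ⟨IsLocalization.mk' (Localization.Away G) p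
    (⟨G ^ k, k, rfl⟩ : Submonoid.powers G), ?_⟩
  unfold rho IsLocalization.Away.map
  rw [IsLocalization.map_mk']
  congr 1

lemma rho_ker (I : Ideal P) (G : P) :
    RingHom.ker (rho I G) = I.map (algebraMap P (Localization.Away G)) := by
  have h := Groth.Agent.H56.RegImmComp.ker_loc (A := P) (B := P ⧸ I)
    (A' := Localization.Away G) (B' := Localization.Away (Ideal.Quotient.mk I G))
    (Ideal.Quotient.mk I) (rho I G) G (by
      ext p
      exact rho_algebraMap I G p)
  rw [h, Ideal.mk_ker]

theorem exists_pres_polynomial (I : Ideal P) (G : P) (rs : List (Localization.Away G))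
    (hreg : IsRegular (Localization.Away G) rs)
    (hI : I.map (algebraMap P (Localization.Away G)) = Ideal.ofList rs) :
    ∃ L : List P[X], IsRegular P[X] L ∧
      Nonempty ((P[X] ⧸ Ideal.ofList L) ≃ₐ[A] Localization.Away (Ideal.Quotient.mk I G)) := by
  obtain ⟨Fs, hFs⟩ : ∃ Fs : List P[X], Fs.map (piG G) = rs :=
    (List.map_surjective_iff.mpr (piG_surjective G)) rs
  refine ⟨(C G * X - 1) :: Fs, ?_, ?_⟩
  · exact isRegular_cons_of_quot (piG G) (piG_surjective G) _ (isSMulRegular_C_mul_X_sub_one G)
      (piG_ker G) Fs (hFs ▸ hreg)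
  · let Ψ₀ : P[X] →+* Localization.Away (Ideal.Quotient.mk I G) := (rho I G).comp (piG G)
    have hΨ₀surj : Function.Surjective Ψ₀ := (rho_surjective I G).comp (piG_surjective G)
    have hker : RingHom.ker Ψ₀ = Ideal.ofList ((C G * X - 1) :: Fs) := by
      show RingHom.ker ((rho I G).comp (piG G)) = _
      rw [← RingHom.comap_ker, rho_ker, hI, ← hFs, ← Ideal.map_ofList,
        Ideal.comap_map_of_surjective _ (piG_surjective G), ← RingHom.ker_eq_comap_bot, piG_ker,
        Ideal.ofList_cons, sup_comm]
    let Ψ : P[X] →ₐ[A] Localization.Away (Ideal.Quotient.mk I G) :=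
      { Ψ₀ with
        commutes' := by
          intro a
          show rho I G (piG G (algebraMap A P[X] a)) = _
          rw [Polynomial.algebraMap_apply, piG_C, rho_algebraMap,
            IsScalarTower.algebraMap_apply A (P ⧸ I) (Localization.Away (Ideal.Quotient.mk I G)),
            IsScalarTower.algebraMap_apply A P (P ⧸ I)]
          rfl }
    have hΨsurj : Function.Surjective Ψ := hΨ₀surj
    have hkerΨ : RingHom.ker Ψ.toRingHom = Ideal.ofList ((C G * X - 1) :: Fs) := hker
    exact ⟨(Ideal.quotientEquivAlgOfEq A hkerΨ.symm).trans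
      (Ideal.quotientKerAlgEquivOfSurjective hΨsurj)⟩

end assembly

theorem exists_pres_mv {A : Type u} [CommRing A] (n : ℕ) (I : Ideal (MvPolynomial (Fin n) A))
    (G : MvPolynomial (Fin n) A) (rs : List (Localization.Away G))
    (hreg : IsRegular (Localization.Away G) rs)
    (hI : I.map (algebraMap (MvPolynomial (Fin n) A) (Localization.Away G)) = Ideal.ofList rs) :
    ∃ (d : ℕ) (Pf : Fin d → MvPolynomial (Fin (n + 1)) A),
      IsRegular (MvPolynomial (Fin (n + 1)) A) (List.ofFn Pf) ∧
      Nonempty (Localization.Away (Ideal.Quotient.mk I G) ≃ₐ[A]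
        (MvPolynomial (Fin (n + 1)) A ⧸ Ideal.ofList (List.ofFn Pf))) := by
  obtain ⟨L, hL, ⟨e⟩⟩ := exists_pres_polynomial (A := A) I G rs hreg hI
  let φ : (MvPolynomial (Fin n) A)[X] ≃ₐ[A] MvPolynomial (Fin (n + 1)) A :=
    (MvPolynomial.finSuccEquiv A n).symm
  have hL' : IsRegular (MvPolynomial (Fin (n + 1)) A) (L.map φ) :=
    isRegular_map_ringEquiv φ.toRingEquiv L hL
  refine ⟨(L.map φ).length, (L.map φ).get, ?_, ?_⟩
  · rw [List.ofFn_get]; exact hL'
  · rw [List.ofFn_get]
    have hmap : Ideal.ofList (L.map φ) = (Ideal.ofList L).map (φ : _ →+* _) := by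
      rw [Ideal.map_ofList]; rfl
    exact ⟨e.symm.trans (Ideal.quotientEquivAlg _ _ φ hmap)⟩

end Groth.Agent.H59.RegPres
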