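import Mathlib
import Groth.Agent.H59.SeqFam
import Groth.Agent.H59.H1Indep
import Groth.Agent.H46.QRDesc2

/-!
# helper59: the families of `H_1`-regular and quasi-regular sequences satisfy the descent axioms
-/

set_option autoImplicit false
universe u

namespace Groth.Agent.H59

/-- the family of `H_1`-regular sequences. -/
def h1Fam : SeqFam.{u} := ⟨fun _ _ _ f => CAlgX.IsH1Regular f⟩

/-- the family of quasi-regular sequences. -/
def qrFam : SeqFam.{u} := ⟨fun _ _ _ f => CAlgX.IsQuasiRegular f⟩

theorem h1Fam_isGood : h1Fam.{u}.IsGood where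
  equiv := fun e _ f hf => H1Reg.h1_ringEquiv e f hf
  loc := fun M _ _ f hf => H1Reg.h1_of_isLocalization M f hf
  top := fun f h => H1Reg.h1_of_span_eq_top f h
  ff := fun f h => H1Reg.h1_of_faithfullyFlat f h
  locGlob := fun f H => H1Reg.h1_of_forall_maximal f H
  minimal := fun φ hφ a hspan hne => H1Reg.le_of_h1 φ hφ a hspan hne
  indep := fun φ a hφ hspan => H1Reg.h1_indep φ a hφ hspan

theorem qrFam_isStable : qrFam.{u}.IsStable where
  equiv := fun e _ f hf => Groth.Agent.H87.QRegLoc.isQuasiRegular_of_ringEquiv e f hf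
  loc := fun M _ _ f hf => Groth.Agent.H87.QRegLoc.isQuasiRegular_of_isLocalization M f hf

theorem h1Fam_desc {A B : Type u} [CommRing A] [CommRing B] [Algebra A B]
    [Module.FaithfullyFlat A B] (I : Ideal A) (h : h1Fam.Loc (I.map (algebraMap A B))) :
    h1Fam.Loc I := SeqFam.loc_of_faithfullyFlat h1Fam_isGood I h

theorem qrFam_desc {A B : Type u} [CommRing A] [CommRing B] [Algebra A B]
    [Module.FaithfullyFlat A B] (I : Ideal A) (h : qrFam.Loc (I.map (algebraMap A B))) :
    qrFam.Loc I := Groth.Agent.H46.QRDesc.locallyQR_of_faithfullyFlat I h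

end Groth.Agent.H59
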