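import Mathlib
import Groth.Agent.H59.GrAvoidG
import Groth.Agent.H41.GrModSections

/-!
# `M_n → Γ(Proj A, M(n)~)` is bijective in large degrees: general gradings, generators of
arbitrary positive degrees, condition (TF)
-/

set_option autoImplicit false
universe u

namespace Groth.Agent.H59.SerreGammaG

open DirectSum AlgebraicGeometry TopologicalSpace Opposite CategoryTheory

section
variable {A σ : Type u} [CommRing A] [SetLike σ A] [AddSubgroupClass σ A] (𝒜 : ℕ → σ)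
  [GradedRing 𝒜]
variable {M τ : Type u} [AddCommGroup M] [Module A M] [SetLike τ M] [AddSubgroupClass τ M]
  (ℳ : ℕ → τ) [DirectSum.Decomposition ℳ] [SetLike.GradedSMul 𝒜 ℳ]

/-- The submodule `a M`. -/
def smulRange (a : A) : Submodule A M := LinearMap.range (LinearMap.lsmul A M a)

theorem mem_smulRange {a : A} {m : M} : m ∈ smulRange (M := M) a ↔ ∃ m' : M, m = a • m' := by
  unfold smulRange
  rw [LinearMap.mem_range]
  constructor
  · rintro ⟨y, hy⟩
    exact ⟨y, hy.symm⟩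
  · rintro ⟨y, hy⟩
    exact ⟨y, hy.symm⟩

/-- The algebraic descent. -/
theorem descent (gs : Finset A) {d : ℕ} {a : A} (ha : a ∈ 𝒜 d)
    (hreg : ∀ m : M, (∀ g ∈ gs, ∃ k : ℕ, g ^ k • (a • m) = 0) → ∀ g ∈ gs, ∃ k : ℕ, g ^ k • m = 0)
    (n1 : ℕ) (hn1 : ∀ n, n1 ≤ n → ∀ m ∈ ℳ n,
      (∀ g ∈ gs, ∃ k : ℕ, ∃ m' : M, g ^ k • m = a • m') → ∃ m' : M, m = a • m')
    (n : ℕ) (hn : n1 ≤ n) (kg : A → ℕ) (mg : A → M) (j : ℕ) :
    ∀ (μ : M), μ ∈ ℳ (j * d + n) →
      (∀ g ∈ gs, ∃ N : ℕ, g ^ N • (g ^ kg g • μ - a ^ j • mg g) = 0) →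
      ∃ μ0 ∈ ℳ n, ∀ g ∈ gs, ∃ N : ℕ, g ^ N • (g ^ kg g • μ0 - mg g) = 0 := by
  induction j with
  | zero =>
    intro μ hμ h
    refine ⟨μ, by simpa using hμ, fun g hg => ?_⟩
    obtain ⟨N, hN⟩ := h g hg
    exact ⟨N, by simpa using hN⟩
  | succ j ih =>
    intro μ hμ h
    have hdiv : ∃ m' : M, μ = a • m' := by
      refine hn1 _ (by omega) μ hμ (fun g hg => ?_)
      obtain ⟨N, hN⟩ := h g hg
      refine ⟨N + kg g, a ^ j • g ^ N • mg g, ?_⟩
      rw [smul_sub, sub_eq_zero] at hN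
      rw [pow_add, mul_smul, hN, ← mul_smul, ← mul_smul, ← mul_smul]
      congr 1
      ring
    obtain ⟨m', hm'⟩ := hdiv
    have hidx : d + (j * d + n) = (j + 1) * d + n := by ring
    have hν : μ = a • (decompose ℳ m' (j * d + n) : M) := by
      rw [← Groth.Agent.H41.GrModSections.coe_decompose_smul_of_mem 𝒜 ℳ ha, ← hm', hidx,
        DirectSum.decompose_of_mem_same ℳ hμ]
    refine ih (decompose ℳ m' (j * d + n) : M) (SetLike.coe_mem _) (fun g hg => ?_)
    obtain ⟨N, hN⟩ := h g hg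
    obtain ⟨ν, hνdef⟩ : ∃ ν : M, ν = (decompose ℳ m' (j * d + n) : M) := ⟨_, rfl⟩
    rw [← hνdef] at hν ⊢
    have h0 : a • (g ^ N • (g ^ kg g • ν - a ^ j • mg g)) = 0 := by
      rw [← hN, hν]
      simp only [smul_sub, ← mul_smul]
      congr 2 <;> ring
    obtain ⟨k, hk⟩ := hreg _ (fun g' _ => ⟨0, by rw [h0, smul_zero]⟩) g hg
    refine ⟨k + N, ?_⟩
    rw [pow_add, mul_smul]
    exact hk

/-- A global section of `M(n)~` is a single fraction `m / f^k` over `D₊(f)`. -/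
theorem global_frac (n : ℤ) (σ : GrMod.sect 𝒜 ℳ n (op ⊤)) {d : ℕ} (hd : 0 < d) {f : A}
    (hf : f ∈ 𝒜 d) :
    ∃ (k i : ℕ) (m : M), m ∈ ℳ i ∧ (i : ℤ) = k * d + n ∧
      ∀ (x : ProjectiveSpectrum 𝒜) (hx : f ∉ x.asHomogeneousIdeal),
        ((σ.1 ⟨x, trivial⟩ : GrMod.tildeAt 𝒜 ℳ n x) : GrMod.LocMod 𝒜 (M := M) x) =
          (LocalizedModule.mk m ⟨f ^ k, fun h => hx (x.isPrime.mem_of_pow_mem k h)⟩ :
            GrMod.LocMod 𝒜 (M := M) x) := by
  obtain ⟨k, i, m, hi, hval⟩ := Groth.Agent.H41.GrModSections.sections_eq_fraction 𝒜 ℳ n hd hf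
    (GrMod.res 𝒜 ℳ n (homOfLE (le_top : ProjectiveSpectrum.basicOpen 𝒜 f ≤ ⊤)).op σ)
  refine ⟨k, i, m.1, m.2, hi, fun x hx => ?_⟩
  exact hval ⟨x, (ProjectiveSpectrum.mem_basicOpen 𝒜 f x).mpr hx⟩

omit [Module A M] [SetLike τ M] [AddSubgroupClass τ M] in
/-- The basic opens of generators of the irrelevant ideal cover `Proj`. -/
theorem cover (gs : Finset A)
    (hspan : (HomogeneousIdeal.irrelevant 𝒜).toIdeal = Ideal.span (gs : Set A))
    (x : ProjectiveSpectrum 𝒜) : ∃ g ∈ gs, g ∉ x.asHomogeneousIdeal := by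
  classical
  by_contra hcon
  push Not at hcon
  apply x.not_irrelevant_le
  have hle : Ideal.span (gs : Set A) ≤ x.asHomogeneousIdeal.toIdeal :=
    Ideal.span_le.mpr fun g hg => hcon g hg
  intro a ha
  have : a ∈ (HomogeneousIdeal.irrelevant 𝒜).toIdeal := ha
  rw [hspan] at this
  exact hle this

/-- **Core theorem** (general form). -/
theorem core [IsNoetherianRing A] (k : ℕ) (hTF : (tfMod (A := A) ℳ k).FG) :
    ∃ N : ℕ,
      (∀ n, N ≤ n → ∀ m ∈ ℳ n, (∀ x : ProjectiveSpectrum 𝒜,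
        (LocalizedModule.mk m 1 : GrMod.LocMod 𝒜 (M := M) x) = 0) → m = 0) ∧
      (∀ (n : ℤ) (n' : ℕ), n = n' → N ≤ n' → ∀ σ : GrMod.sect 𝒜 ℳ n (op ⊤),
        ∃ m ∈ ℳ n', ∀ x : ProjectiveSpectrum 𝒜,
          ((σ.1 ⟨x, trivial⟩ : GrMod.tildeAt 𝒜 ℳ n x) : GrMod.LocMod 𝒜 (M := M) x) =
            LocalizedModule.mk m 1) := by
  classical
  obtain ⟨gs, dg, hdg, hspan⟩ := exists_gens 𝒜
  have hcov := cover 𝒜 gs hspan
  obtain ⟨D, hDdef⟩ : ∃ D : ℕ, D = gs.sup dg + 1 := ⟨_, rfl⟩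
  have hD : 0 < D := by omega
  have hDg : ∀ g ∈ gs, dg g ≤ D := fun g hg => by
    have : dg g ≤ gs.sup dg := Finset.le_sup hg
    omega
  have hpow := mem_pow_div 𝒜 gs dg hdg hspan D hD hDg
  have hgirr : ∀ g ∈ gs, g ∈ (HomogeneousIdeal.irrelevant 𝒜).toIdeal := fun g hg => by
    rw [hspan]
    exact Ideal.subset_span hg
  -- the torsion submodule and its homogeneity
  obtain ⟨T, hTdef⟩ : ∃ T : Submodule A M, T = sat gs (⊥ : Submodule A M) := ⟨_, rfl⟩
  have hTmem : ∀ m : M, m ∈ T ↔ ∀ g ∈ gs, ∃ j : ℕ, g ^ j • m = 0 := by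
    intro m
    rw [hTdef]
    constructor
    · intro h g hg
      obtain ⟨j, hj⟩ := h g hg
      exact ⟨j, by rwa [Submodule.mem_bot] at hj⟩
    · intro h g hg
      obtain ⟨j, hj⟩ := h g hg
      exact ⟨j, by rw [Submodule.mem_bot]; exact hj⟩
  have hThom : ∀ t ∈ T, ∀ i, (decompose ℳ t i : M) ∈ T := by
    intro t ht i
    rw [hTmem] at ht ⊢
    intro g hg
    obtain ⟨j, hj⟩ := ht g hg
    refine ⟨j, ?_⟩
    have h1 : g ^ j ∈ 𝒜 (j • dg g) := SetLike.pow_mem_graded j (hdg g hg).2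
    rw [← Groth.Agent.H41.GrModSections.coe_decompose_smul_of_mem 𝒜 ℳ h1 t i, hj,
      DirectSum.decompose_zero]
    rfl
  -- regular element on the (TF) part
  haveI : Module.Finite A ↥(tfMod (A := A) ℳ k) := Module.Finite.iff_fg.mpr hTF
  obtain ⟨d, a, hd, ha, hregP⟩ := exists_regular_mod 𝒜 gs hgirr
    (T.comap (tfMod (A := A) ℳ k).subtype) (by
      intro m hm
      rw [Submodule.mem_comap, hTmem]
      intro g hg
      have h1 := hm g hg
      rw [Submodule.mem_comap, map_smul, hTmem] at h1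
      obtain ⟨j, hj⟩ := h1 g hg
      refine ⟨j + 1, ?_⟩
      rw [pow_succ, mul_smul]
      exact hj)
  have hreg : ∀ m : M, a • m ∈ T → m ∈ T := by
    intro m hm
    -- components
    have hcomp : ∀ i, (decompose ℳ m i : M) ∈ T := by
      intro i
      have h1 : a • (decompose ℳ m i : M) ∈ T := by
        rw [← Groth.Agent.H41.GrModSections.coe_decompose_smul_of_mem 𝒜 ℳ ha m i]
        exact hThom _ hm _
      rw [hTmem]
      intro g hg
      have hgk : g ^ k ∈ 𝒜 (k • dg g) := SetLike.pow_mem_graded k (hdg g hg).2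
      have hy : g ^ k • (decompose ℳ m i : M) ∈ ℳ (k • dg g + i) :=
        SetLike.GradedSMul.smul_mem (i := k • dg g) (j := i) hgk (SetLike.coe_mem _)
      have hyk : k ≤ k • dg g + i := by
        have := (hdg g hg).1
        rw [smul_eq_mul]
        nlinarith
      have hyP : g ^ k • (decompose ℳ m i : M) ∈ tfMod (A := A) ℳ k := mem_tfMod ℳ hyk hy
      have h2 := hregP ⟨_, hyP⟩ (by
        rw [Submodule.mem_comap, map_smul]
        show a • g ^ k • (decompose ℳ m i : M) ∈ T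
        rw [smul_comm]
        exact T.smul_mem _ h1)
      rw [Submodule.mem_comap] at h2
      have h3 : g ^ k • (decompose ℳ m i : M) ∈ T := h2
      rw [hTmem] at h3
      obtain ⟨j, hj⟩ := h3 g hg
      refine ⟨j + k, ?_⟩
      rw [pow_add, mul_smul]
      exact hj
    rw [← DirectSum.sum_support_decompose ℳ m]
    exact T.sum_mem fun i _ => hcomp i
  have hreg' : ∀ m : M, (∀ g ∈ gs, ∃ j : ℕ, g ^ j • (a • m) = 0) →
      ∀ g ∈ gs, ∃ j : ℕ, g ^ j • m = 0 := by
    intro m hm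
    exact (hTmem m).mp (hreg m ((hTmem _).mpr hm))
  obtain ⟨n0, hn0⟩ := degree_bound 𝒜 ℳ gs D hD hpow k hTF (⊥ : Submodule A M)
  obtain ⟨n1, hn1⟩ := degree_bound 𝒜 ℳ gs D hD hpow k hTF (smulRange (M := M) a)
  have hn1' : ∀ n, n1 ≤ n → ∀ m ∈ ℳ n,
      (∀ g ∈ gs, ∃ j : ℕ, ∃ m' : M, g ^ j • m = a • m') → ∃ m' : M, m = a • m' := by
    intro n hn m hm h
    refine mem_smulRange.mp (hn1 n hn m hm (fun g hg => ?_))
    obtain ⟨j, m', hj⟩ := h g hg
    exact ⟨j, mem_smulRange.mpr ⟨m', hj⟩⟩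
  refine ⟨max n0 n1, ?_, ?_⟩
  · -- injectivity
    intro n hn m hm hzero
    have h1 : m ∈ (⊥ : Submodule A M) := by
      refine hn0 n (le_trans (le_max_left _ _) hn) m hm (fun g hg => ?_)
      obtain ⟨N, hN⟩ :=
        Groth.Agent.H41.GrModSections.exists_pow_smul_eq_zero_of_forall_localized_eq_zero 𝒜 ℳ
          (hdg g hg).1 (hdg g hg).2 hm (fun x _ => by
            have h2 := hzero x
            rw [← LocalizedModule.zero_mk (1 : x.asHomogeneousIdeal.toIdeal.primeCompl),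
              LocalizedModule.mk_eq] at h2
            obtain ⟨u, hu⟩ := h2
            refine ⟨u.1, u.2, ?_⟩
            simpa [Submonoid.smul_def] using hu)
      exact ⟨N, by rw [Submodule.mem_bot]; exact hN⟩
    rwa [Submodule.mem_bot] at h1
  · -- surjectivity
    intro nz n hnz hn σ
    subst hnz
    have hfrac : ∀ g ∈ gs, ∃ (kk : ℕ) (m : M), m ∈ ℳ (kk * dg g + n) ∧
        ∀ (x : ProjectiveSpectrum 𝒜) (hx : g ∉ x.asHomogeneousIdeal),
          ((σ.1 ⟨x, trivial⟩ : GrMod.tildeAt 𝒜 ℳ (n : ℤ) x) : GrMod.LocMod 𝒜 (M := M) x) =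
            (LocalizedModule.mk m ⟨g ^ kk, fun h => hx (x.isPrime.mem_of_pow_mem kk h)⟩ :
              GrMod.LocMod 𝒜 (M := M) x) := by
      intro g hg
      obtain ⟨kk, i, m, hm, hi, hval⟩ := global_frac 𝒜 ℳ (n : ℤ) σ (hdg g hg).1 (hdg g hg).2
      have hi' : i = kk * dg g + n := by
        have : (i : ℤ) = ((kk * dg g + n : ℕ) : ℤ) := by
          rw [hi]
          push_cast
          ring
        exact_mod_cast this
      exact ⟨kk, m, hi' ▸ hm, hval⟩
    choose! kg mg hmg hvalg using hfrac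
    obtain ⟨K, ia, ma, hma, hia, hvala⟩ := global_frac 𝒜 ℳ (n : ℤ) σ hd ha
    have hia' : ia = K * d + n := by
      have : (ia : ℤ) = ((K * d + n : ℕ) : ℤ) := by
        rw [hia]
        push_cast
        ring
      exact_mod_cast this
    subst hia'
    -- overlaps
    have hover : ∀ g ∈ gs, ∃ N : ℕ, (a * g) ^ N • (g ^ kg g • ma - a ^ K • mg g) = 0 := by
      intro g hg
      have hmem : g ^ kg g • ma - a ^ K • mg g ∈ ℳ (kg g * dg g + (K * d + n)) := by
        refine sub_mem ?_ ?_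
        · have h1 : g ^ kg g ∈ 𝒜 (kg g • dg g) := SetLike.pow_mem_graded _ (hdg g hg).2
          have h2 : g ^ kg g • ma ∈ ℳ (kg g • dg g + (K * d + n)) :=
            SetLike.GradedSMul.smul_mem h1 hma
          have e : kg g • dg g + (K * d + n) = kg g * dg g + (K * d + n) := by simp
          exact e ▸ h2
        · have h1 : a ^ K ∈ 𝒜 (K • d) := SetLike.pow_mem_graded _ ha
          have h2 : a ^ K • mg g ∈ ℳ (K • d + (kg g * dg g + n)) :=
            SetLike.GradedSMul.smul_mem h1 (hmg g hg)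
          have e : K • d + (kg g * dg g + n) = kg g * dg g + (K * d + n) := by
            simp only [smul_eq_mul]
            ring
          exact e ▸ h2
      refine Groth.Agent.H41.GrModSections.exists_pow_smul_eq_zero_of_forall_localized_eq_zero
        𝒜 ℳ (Nat.add_pos_left hd (dg g)) (SetLike.mul_mem_graded ha (hdg g hg).2) hmem
        (fun x hx => ?_)
      have hxa : a ∉ x.asHomogeneousIdeal := fun h => hx (Ideal.mul_mem_right _ _ h)
      have hxg : g ∉ x.asHomogeneousIdeal := fun h => hx (Ideal.mul_mem_left _ _ h)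
      have h1 := (hvala x hxa).symm.trans (hvalg g hg x hxg)
      rw [LocalizedModule.mk_eq] at h1
      obtain ⟨u, hu⟩ := h1
      refine ⟨u.1, u.2, ?_⟩
      rw [smul_sub, sub_eq_zero]
      simpa [Submonoid.smul_def] using hu
    choose! Ng hNg using hover
    obtain ⟨N, hNdef⟩ : ∃ N : ℕ, N = gs.sup Ng := ⟨_, rfl⟩
    have hN : ∀ g ∈ gs, (a * g) ^ N • (g ^ kg g • ma - a ^ K • mg g) = 0 := by
      intro g hg
      have hle : Ng g ≤ N := hNdef ▸ Finset.le_sup hg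
      obtain ⟨r, hr⟩ := Nat.exists_eq_add_of_le hle
      rw [hr, pow_add, mul_comm, mul_smul, hNg g hg, smul_zero]
    -- the descent
    have hμmem : a ^ N • ma ∈ ℳ ((N + K) * d + n) := by
      have h1 : a ^ N ∈ 𝒜 (N • d) := SetLike.pow_mem_graded _ ha
      have h2 : a ^ N • ma ∈ ℳ (N • d + (K * d + n)) :=
        SetLike.GradedSMul.smul_mem h1 hma
      have e : N • d + (K * d + n) = (N + K) * d + n := by
        simp only [smul_eq_mul]
        ring
      exact e ▸ h2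
    obtain ⟨μ0, hμ0, hμ0eq⟩ := descent 𝒜 ℳ gs ha hreg' n1 hn1' n
      (le_trans (le_max_right _ _) hn) kg mg (N + K) (a ^ N • ma) hμmem (fun g hg => by
        refine ⟨N, ?_⟩
        rw [← hN g hg]
        simp only [smul_sub, ← mul_smul]
        congr 2 <;> ring)
    refine ⟨μ0, hμ0, fun x => ?_⟩
    obtain ⟨g, hg, hgx⟩ := hcov x
    obtain ⟨N', hN'⟩ := hμ0eq g hg
    rw [hvalg g hg x hgx, LocalizedModule.mk_eq]
    refine ⟨⟨g ^ N', fun h => hgx (x.isPrime.mem_of_pow_mem _ h)⟩, ?_⟩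
    rw [smul_sub, sub_eq_zero] at hN'
    simpa [Submonoid.smul_def] using hN'.symm

end
end Groth.Agent.H59.SerreGammaG
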