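import Mathlib
import Groth.Agent.H59.SerreGammaG

/-!
# helper59: elementary (Čech style) form of injectivity / surjectivity of `M_n → Γ(Proj A, M(n)~)`

For a finite family `g : ι → A` of homogeneous generators (of positive degrees `dg`) of the
irrelevant ideal:
* `EInj ℳ g n`: an element of `M_n` killed by powers of all `g i` is zero;
* `ESurj ℳ g dg n`: a compatible family of fractions `m_i / (g i)^(k_i)` of degree `n` comes from
  one element of `M_n` (up to `g`-power torsion).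
`α_n` is injective iff `EInj`, surjective iff `ESurj`.
-/

set_option autoImplicit false
universe u

namespace Groth.Agent.H59.SerreGammaE

open DirectSum AlgebraicGeometry TopologicalSpace Opposite CategoryTheory
open Groth.Agent.H59.SerreGammaG

section
variable {A σ : Type u} [CommRing A] [SetLike σ A] [AddSubgroupClass σ A] (𝒜 : ℕ → σ)
  [GradedRing 𝒜]
variable {M τ : Type u} [AddCommGroup M] [Module A M] [SetLike τ M] [AddSubgroupClass τ M]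
  (ℳ : ℕ → τ) [DirectSum.Decomposition ℳ] [SetLike.GradedSMul 𝒜 ℳ]
variable {ι : Type} [Finite ι]

/-- elementary injectivity in degree `n`. -/
def EInj (g : ι → A) (n : ℕ) : Prop :=
  ∀ m ∈ ℳ n, (∀ i, ∃ j : ℕ, g i ^ j • m = 0) → m = 0

/-- elementary surjectivity in degree `n`. -/
def ESurj (g : ι → A) (dg : ι → ℕ) (n : ℕ) : Prop :=
  ∀ (kg : ι → ℕ) (mg : ι → M), (∀ i, mg i ∈ ℳ (kg i * dg i + n)) →
    (∀ i i', ∃ N : ℕ,
      (g i * g i') ^ N • (g i' ^ kg i' • mg i - g i ^ kg i • mg i') = 0) →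
    ∃ m ∈ ℳ n, ∀ i, ∃ j : ℕ, g i ^ j • (g i ^ kg i • m - mg i) = 0

variable {ℳ}

omit [AddSubgroupClass τ M] [Decomposition ℳ] in
theorem pow_smul_mem {d : ℕ} {a : A} (ha : a ∈ 𝒜 d) (k : ℕ) {i : ℕ} {m : M} (hm : m ∈ ℳ i) :
    a ^ k • m ∈ ℳ (k * d + i) := by
  have h1 : a ^ k ∈ 𝒜 (k • d) := SetLike.pow_mem_graded k ha
  have h2 : a ^ k • m ∈ ℳ (k • d + i) := SetLike.GradedSMul.smul_mem h1 hm
  have e : k • d + i = k * d + i := by simp
  exact e ▸ h2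

omit [Finite ι] in
/-- The basic opens of generators of the irrelevant ideal cover `Proj` (indexed form). -/
theorem cover' (g : ι → A)
    (hspan : (HomogeneousIdeal.irrelevant 𝒜).toIdeal ≤ Ideal.span (Set.range g))
    (x : ProjectiveSpectrum 𝒜) : ∃ i, g i ∉ x.asHomogeneousIdeal := by
  classical
  by_contra hcon
  push Not at hcon
  apply x.not_irrelevant_le
  have hle : Ideal.span (Set.range g) ≤ x.asHomogeneousIdeal.toIdeal :=
    Ideal.span_le.mpr (by rintro _ ⟨i, rfl⟩; exact hcon i)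
  intro a ha
  exact hle (hspan ha)

variable (ℳ)

omit [Decomposition ℳ] [Finite ι] in
/-- `α_n` injective ⟹ `EInj`. -/
theorem einj_of_injective (g : ι → A)
    (hspan : (HomogeneousIdeal.irrelevant 𝒜).toIdeal ≤ Ideal.span (Set.range g)) (n : ℕ)
    (h : Function.Injective (GrMod.alpha 𝒜 ℳ n)) : EInj ℳ g n := by
  intro m hm hkill
  have h0 : GrMod.alpha 𝒜 ℳ n ⟨m, hm⟩ = GrMod.alpha 𝒜 ℳ n 0 := by
    rw [map_zero]
    refine Subtype.ext (funext fun x => Subtype.ext ?_)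
    show (LocalizedModule.mk m 1 : GrMod.LocMod 𝒜 (M := M) x.1) = 0
    obtain ⟨i, hgx⟩ := cover' 𝒜 g hspan x.1
    obtain ⟨j, hj⟩ := hkill i
    rw [← LocalizedModule.zero_mk (1 : x.1.asHomogeneousIdeal.toIdeal.primeCompl),
      LocalizedModule.mk_eq]
    refine ⟨⟨g i ^ j, fun hmem => hgx (x.1.isPrime.mem_of_pow_mem j hmem)⟩, ?_⟩
    simp only [Submonoid.smul_def, one_smul, smul_zero]
    exact hj
  have := h h0
  exact congrArg Subtype.val this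

omit [Finite ι] in
/-- `EInj` ⟹ `α_n` injective. -/
theorem injective_of_einj (g : ι → A) (dg : ι → ℕ)
    (hdg : ∀ i, 0 < dg i ∧ g i ∈ 𝒜 (dg i)) (n : ℕ)
    (h : EInj ℳ g n) : Function.Injective (GrMod.alpha 𝒜 ℳ n) := by
  rw [injective_iff_map_eq_zero]
  intro m hm
  have h0 : (m : M) = 0 := by
    refine h m m.2 (fun i => ?_)
    refine Groth.Agent.H41.GrModSections.exists_pow_smul_eq_zero_of_forall_localized_eq_zero 𝒜 ℳ
      (hdg i).1 (hdg i).2 m.2 (fun x _ => ?_)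
    have h1 : GrMod.globalOf 𝒜 ℳ m = (0 : GrMod.sect 𝒜 ℳ (n : ℤ) (op ⊤)) := hm
    have h2 := congrArg (fun s : GrMod.sect 𝒜 ℳ (n : ℤ) (op ⊤) =>
      ((s.1 ⟨x, trivial⟩ : GrMod.tildeAt 𝒜 ℳ (n : ℤ) x) : GrMod.LocMod 𝒜 (M := M) x)) h1
    have h3 : (LocalizedModule.mk (m : M) 1 : GrMod.LocMod 𝒜 (M := M) x) = 0 := h2
    rw [← LocalizedModule.zero_mk (1 : x.asHomogeneousIdeal.toIdeal.primeCompl),
      LocalizedModule.mk_eq] at h3
    obtain ⟨u, hu⟩ := h3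
    refine ⟨u.1, u.2, ?_⟩
    simpa [Submonoid.smul_def] using hu
  exact Subtype.ext h0

omit [Finite ι] in
/-- `ESurj` ⟹ `α_n` surjective. -/
theorem surjective_of_esurj (g : ι → A) (dg : ι → ℕ)
    (hdg : ∀ i, 0 < dg i ∧ g i ∈ 𝒜 (dg i))
    (hspan : (HomogeneousIdeal.irrelevant 𝒜).toIdeal ≤ Ideal.span (Set.range g)) (n : ℕ)
    (h : ESurj ℳ g dg n) : Function.Surjective (GrMod.alpha 𝒜 ℳ n) := by
  classical
  intro σ'
  obtain ⟨σ, hσ⟩ : ∃ σ : GrMod.sect 𝒜 ℳ (n : ℤ) (op ⊤), σ = σ' := ⟨σ', rfl⟩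
  have hfrac : ∀ i, ∃ (kk : ℕ) (m : M), m ∈ ℳ (kk * dg i + n) ∧
      ∀ (x : ProjectiveSpectrum 𝒜) (hx : g i ∉ x.asHomogeneousIdeal),
        ((σ.1 ⟨x, trivial⟩ : GrMod.tildeAt 𝒜 ℳ (n : ℤ) x) : GrMod.LocMod 𝒜 (M := M) x) =
          (LocalizedModule.mk m ⟨g i ^ kk, fun h => hx (x.isPrime.mem_of_pow_mem kk h)⟩ :
            GrMod.LocMod 𝒜 (M := M) x) := by
    intro i
    obtain ⟨kk, i', m, hm, hi, hval⟩ := global_frac 𝒜 ℳ (n : ℤ) σ (hdg i).1 (hdg i).2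
    have hi' : i' = kk * dg i + n := by
      have : (i' : ℤ) = ((kk * dg i + n : ℕ) : ℤ) := by
        rw [hi]
        push_cast
        ring
      exact_mod_cast this
    exact ⟨kk, m, hi' ▸ hm, hval⟩
  choose kg mg hmg hvalg using hfrac
  have hover : ∀ i i', ∃ N : ℕ,
      (g i * g i') ^ N • (g i' ^ kg i' • mg i - g i ^ kg i • mg i') = 0 := by
    intro i i'
    have hmem : g i' ^ kg i' • mg i - g i ^ kg i • mg i' ∈
        ℳ (kg i' * dg i' + (kg i * dg i + n)) := by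
      refine sub_mem (pow_smul_mem 𝒜 (hdg i').2 _ (hmg i)) ?_
      have h2 := pow_smul_mem 𝒜 (ℳ := ℳ) (hdg i).2 (kg i) (hmg i')
      have e : kg i * dg i + (kg i' * dg i' + n) = kg i' * dg i' + (kg i * dg i + n) := by ring
      exact e ▸ h2
    refine Groth.Agent.H41.GrModSections.exists_pow_smul_eq_zero_of_forall_localized_eq_zero
      𝒜 ℳ (Nat.add_pos_left (hdg i).1 (dg i')) (SetLike.mul_mem_graded (hdg i).2 (hdg i').2)
      hmem (fun x hx => ?_)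
    have hxg : g i ∉ x.asHomogeneousIdeal := fun h => hx (Ideal.mul_mem_right _ _ h)
    have hxg' : g i' ∉ x.asHomogeneousIdeal := fun h => hx (Ideal.mul_mem_left _ _ h)
    have h1 := (hvalg i x hxg).symm.trans (hvalg i' x hxg')
    rw [LocalizedModule.mk_eq] at h1
    obtain ⟨u, hu⟩ := h1
    refine ⟨u.1, u.2, ?_⟩
    rw [smul_sub, sub_eq_zero]
    simpa [Submonoid.smul_def] using hu
  obtain ⟨m, hm, hmeq⟩ := h kg mg hmg hover
  refine ⟨⟨m, hm⟩, ?_⟩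
  rw [← hσ]
  show GrMod.globalOf 𝒜 ℳ ⟨m, hm⟩ = σ
  refine Subtype.ext (funext fun x => Subtype.ext ?_)
  obtain ⟨i, hgx⟩ := cover' 𝒜 g hspan x.1
  obtain ⟨N', hN'⟩ := hmeq i
  show (LocalizedModule.mk m 1 : GrMod.LocMod 𝒜 (M := M) x.1) = _
  rw [hvalg i x.1 hgx, LocalizedModule.mk_eq]
  refine ⟨⟨g i ^ N', fun h => hgx (x.1.isPrime.mem_of_pow_mem _ h)⟩, ?_⟩
  rw [smul_sub, sub_eq_zero] at hN'
  simpa [Submonoid.smul_def] using hN'

omit [Decomposition ℳ] [Finite ι] in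
/-- gluing: a compatible family of fractions defines a global section of `M(n)~`. -/
theorem exists_section_of_family (g : ι → A) (dg : ι → ℕ)
    (hdg : ∀ i, 0 < dg i ∧ g i ∈ 𝒜 (dg i))
    (hspan : (HomogeneousIdeal.irrelevant 𝒜).toIdeal ≤ Ideal.span (Set.range g)) (n : ℕ)
    (kg : ι → ℕ) (mg : ι → M) (hmg : ∀ i, mg i ∈ ℳ (kg i * dg i + n))
    (hcompat : ∀ i i', ∃ N : ℕ,
      (g i * g i') ^ N • (g i' ^ kg i' • mg i - g i ^ kg i • mg i') = 0) :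
    ∃ σ : GrMod.sect 𝒜 ℳ (n : ℤ) (op ⊤), ∀ i, ∀ (x : ProjectiveSpectrum 𝒜)
      (hx : g i ∉ x.asHomogeneousIdeal),
        ((σ.1 ⟨x, trivial⟩ : GrMod.tildeAt 𝒜 ℳ (n : ℤ) x) : GrMod.LocMod 𝒜 (M := M) x) =
          (LocalizedModule.mk (mg i) ⟨g i ^ kg i, fun h => hx (x.isPrime.mem_of_pow_mem _ h)⟩ :
            GrMod.LocMod 𝒜 (M := M) x) := by
  classical
  have hcov := cover' 𝒜 g hspan
  choose ix hixn using hcov
  -- independence of the chosen generator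
  have hind : ∀ i i', ∀ (x : ProjectiveSpectrum 𝒜) (hx : g i ∉ x.asHomogeneousIdeal)
      (hx' : g i' ∉ x.asHomogeneousIdeal),
      (LocalizedModule.mk (mg i) ⟨g i ^ kg i, fun h => hx (x.isPrime.mem_of_pow_mem _ h)⟩ :
        GrMod.LocMod 𝒜 (M := M) x) =
      (LocalizedModule.mk (mg i') ⟨g i' ^ kg i', fun h => hx' (x.isPrime.mem_of_pow_mem _ h)⟩ :
        GrMod.LocMod 𝒜 (M := M) x) := by
    intro i i' x hx hx'
    obtain ⟨N, hN⟩ := hcompat i i'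
    rw [LocalizedModule.mk_eq]
    refine ⟨⟨(g i * g i') ^ N, fun h => ?_⟩, ?_⟩
    · rcases x.isPrime.mem_or_mem (x.isPrime.mem_of_pow_mem _ h) with h' | h'
      · exact hx h'
      · exact hx' h'
    · rw [smul_sub, sub_eq_zero] at hN
      simpa [Submonoid.smul_def] using hN
  have hmemT : ∀ i, ∀ (x : ProjectiveSpectrum 𝒜) (hx : g i ∉ x.asHomogeneousIdeal),
      (LocalizedModule.mk (mg i) ⟨g i ^ kg i, fun h => hx (x.isPrime.mem_of_pow_mem _ h)⟩ :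
        GrMod.LocMod 𝒜 (M := M) x) ∈ GrMod.tildeAt 𝒜 ℳ (n : ℤ) x := by
    intro i x hx
    have h1 : g i ^ kg i ∈ 𝒜 (kg i * dg i) := by
      have := SetLike.pow_mem_graded (kg i) (hdg i).2
      simpa [smul_eq_mul] using this
    exact Submodule.subset_span ⟨kg i * dg i + n, kg i * dg i, ⟨mg i, hmg i⟩, ⟨g i ^ kg i, h1⟩,
      fun h => hx (x.isPrime.mem_of_pow_mem _ h), by push_cast; ring, rfl⟩
  let f : ∀ x : (⊤ : Opens (ProjectiveSpectrum.top 𝒜)), GrMod.tildeAt 𝒜 ℳ (n : ℤ) x.1 :=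
    fun x => ⟨_, hmemT (ix x.1) x.1 (hixn x.1)⟩
  have hf : (GrMod.isLocFrac 𝒜 ℳ (n : ℤ)).pred f := by
    intro x
    refine ⟨ProjectiveSpectrum.basicOpen 𝒜 (g (ix x.1)),
      (ProjectiveSpectrum.mem_basicOpen 𝒜 _ _).mpr (hixn x.1), homOfLE le_top, ?_⟩
    have h1 : (g (ix x.1)) ^ kg (ix x.1) ∈ 𝒜 (kg (ix x.1) * dg (ix x.1)) := by
      have := SetLike.pow_mem_graded (kg (ix x.1)) (hdg (ix x.1)).2
      simpa [smul_eq_mul] using this
    refine ⟨kg (ix x.1) * dg (ix x.1) + n, kg (ix x.1) * dg (ix x.1),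
      ⟨mg (ix x.1), hmg _⟩, ⟨(g (ix x.1)) ^ kg (ix x.1), h1⟩, ?_,
      Or.inl (by push_cast; ring), ?_⟩
    · intro y h
      exact ((ProjectiveSpectrum.mem_basicOpen 𝒜 _ _).mp y.2) (y.1.isPrime.mem_of_pow_mem _ h)
    · intro y
      have hy : g (ix x.1) ∉ y.1.asHomogeneousIdeal :=
        (ProjectiveSpectrum.mem_basicOpen 𝒜 _ _).mp y.2
      exact hind (ix y.1) (ix x.1) y.1 (hixn y.1) hy
  refine ⟨⟨f, hf⟩, ?_⟩
  intro i x hx
  exact hind (ix x) i x (hixn x) hx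

omit [Finite ι] in
/-- `α_n` surjective ⟹ `ESurj`. -/
theorem esurj_of_surjective (g : ι → A) (dg : ι → ℕ)
    (hdg : ∀ i, 0 < dg i ∧ g i ∈ 𝒜 (dg i))
    (hspan : (HomogeneousIdeal.irrelevant 𝒜).toIdeal ≤ Ideal.span (Set.range g)) (n : ℕ)
    (h : Function.Surjective (GrMod.alpha 𝒜 ℳ n)) : ESurj ℳ g dg n := by
  intro kg mg hmg hcompat
  obtain ⟨σ, hσ⟩ := exists_section_of_family 𝒜 ℳ g dg hdg hspan n kg mg hmg hcompat
  obtain ⟨m, hm⟩ := h σ
  refine ⟨m.1, m.2, fun i => ?_⟩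
  have hmem : g i ^ kg i • (m : M) - mg i ∈ ℳ (kg i * dg i + n) :=
    sub_mem (pow_smul_mem 𝒜 (hdg i).2 _ m.2) (hmg i)
  refine Groth.Agent.H41.GrModSections.exists_pow_smul_eq_zero_of_forall_localized_eq_zero 𝒜 ℳ
    (hdg i).1 (hdg i).2 hmem (fun x hx => ?_)
  have h1 : GrMod.globalOf 𝒜 ℳ m = σ := hm
  have h2 := congrArg (fun s : GrMod.sect 𝒜 ℳ (n : ℤ) (op ⊤) =>
    ((s.1 ⟨x, trivial⟩ : GrMod.tildeAt 𝒜 ℳ (n : ℤ) x) : GrMod.LocMod 𝒜 (M := M) x)) h1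
  have h3 : (LocalizedModule.mk (m : M) 1 : GrMod.LocMod 𝒜 (M := M) x) =
      (LocalizedModule.mk (mg i) ⟨g i ^ kg i, fun h => hx (x.isPrime.mem_of_pow_mem _ h)⟩ :
        GrMod.LocMod 𝒜 (M := M) x) :=
    h2.trans (hσ i x hx)
  rw [LocalizedModule.mk_eq] at h3
  obtain ⟨u, hu⟩ := h3
  refine ⟨u.1, u.2, ?_⟩
  rw [smul_sub, sub_eq_zero]
  simpa [Submonoid.smul_def] using hu

end
end Groth.Agent.H59.SerreGammaE
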