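import Mathlib
import Groth.Agent.H59.SerreGammaG

/-!
# `GrMod.alpha` is bijective in large degrees under (TF)
-/

set_option autoImplicit false
universe u

namespace Groth.Agent.H59.SerreGammaG

open DirectSum AlgebraicGeometry TopologicalSpace Opposite CategoryTheory

theorem bijective_alpha {A σ : Type u} [CommRing A] [IsNoetherianRing A]
    [SetLike σ A] [AddSubgroupClass σ A] (𝒜 : ℕ → σ) [GradedRing 𝒜]
    {M τ : Type u} [AddCommGroup M] [Module A M] [SetLike τ M] [AddSubgroupClass τ M] (ℳ : ℕ → τ)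
    [SetLike.GradedSMul 𝒜 ℳ] [DirectSum.Decomposition ℳ]
    (hTF : ∃ k : ℕ, (Submodule.span A (⋃ i ∈ Set.Ici k, (ℳ i : Set M))).FG) :
    ∃ N : ℕ, ∀ n : ℕ, N ≤ n → Function.Bijective (GrMod.alpha 𝒜 ℳ n) := by
  obtain ⟨k, hk⟩ := hTF
  obtain ⟨N, hinj, hsurj⟩ := core 𝒜 ℳ k hk
  refine ⟨N, fun n hn => ⟨?_, ?_⟩⟩
  · rw [injective_iff_map_eq_zero]
    intro m hm
    have h0 : (m : M) = 0 := by
      refine hinj n hn m m.2 (fun x => ?_)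
      have h1 : GrMod.globalOf 𝒜 ℳ m = (0 : GrMod.sect 𝒜 ℳ (n : ℤ) (op ⊤)) := hm
      have h2 := congrArg (fun s : GrMod.sect 𝒜 ℳ (n : ℤ) (op ⊤) =>
        ((s.1 ⟨x, trivial⟩ : GrMod.tildeAt 𝒜 ℳ (n : ℤ) x) : GrMod.LocMod 𝒜 (M := M) x)) h1
      exact h2
    exact Subtype.ext h0
  · intro σ
    obtain ⟨m, hm, hval⟩ := hsurj (n : ℤ) n rfl hn (σ : GrMod.sect 𝒜 ℳ (n : ℤ) (op ⊤))
    refine ⟨⟨m, hm⟩, ?_⟩
    show GrMod.globalOf 𝒜 ℳ ⟨m, hm⟩ = (σ : GrMod.sect 𝒜 ℳ (n : ℤ) (op ⊤))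
    refine Subtype.ext (funext fun x => Subtype.ext ?_)
    exact (hval x.1).symm

end Groth.Agent.H59.SerreGammaG
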