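import Mathlib
import Groth.Agent.H59.SerreGammaG

/-!
# Eventual generation of the graded module of sections `n ↦ Γ(Proj A, M(n)~)`
-/

set_option autoImplicit false
universe u

namespace Groth.Agent.H59.SerreGammaG

open DirectSum AlgebraicGeometry TopologicalSpace Opposite CategoryTheory

section
variable {A σ : Type u} [CommRing A] [SetLike σ A] [AddSubgroupClass σ A] (𝒜 : ℕ → σ)
  [GradedRing 𝒜]

/-- Products of an element of degree `p` and an element of degree `e`. -/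
def mulSet (p e : ℕ) : Set A := {c | ∃ b ∈ 𝒜 p, ∃ a ∈ 𝒜 e, c = b * a}

theorem gen_one (hgen : (HomogeneousIdeal.irrelevant 𝒜).toIdeal = Ideal.span (𝒜 1 : Set A))
    (q : ℕ) : ∀ c ∈ 𝒜 (q + 1), c ∈ AddSubgroup.closure (mulSet 𝒜 q 1) := by
  classical
  intro c hc
  have hcI : c ∈ Ideal.span (𝒜 1 : Set A) := by
    rw [← hgen]
    exact HomogeneousIdeal.mem_irrelevant_of_mem 𝒜 (Nat.succ_pos q) hc
  have key : ∀ r : A, (decompose 𝒜 (r * c) (q + 1) : A) ∈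
      AddSubgroup.closure (mulSet 𝒜 q 1) := by
    refine Submodule.span_induction ?_ ?_ ?_ ?_ hcI
    · intro s hs r
      rw [DirectSum.coe_decompose_mul_add_of_right_mem 𝒜 hs]
      exact AddSubgroup.subset_closure ⟨_, SetLike.coe_mem _, s, hs, rfl⟩
    · intro r
      rw [mul_zero, DirectSum.decompose_zero]
      exact zero_mem _
    · intro x y _ _ hx hy r
      rw [mul_add, DirectSum.decompose_add, DirectSum.add_apply, AddMemClass.coe_add]
      exact add_mem (hx r) (hy r)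
    · intro r' x _ hx r
      rw [smul_eq_mul, ← mul_assoc]
      exact hx (r * r')
  have h1 := key 1
  rwa [one_mul, DirectSum.decompose_of_mem_same 𝒜 hc] at h1

theorem gen_e (hgen : (HomogeneousIdeal.irrelevant 𝒜).toIdeal = Ideal.span (𝒜 1 : Set A))
    (e : ℕ) : ∀ p : ℕ, ∀ c ∈ 𝒜 (p + e), c ∈ AddSubgroup.closure (mulSet 𝒜 p e) := by
  induction e with
  | zero =>
    intro p c hc
    exact AddSubgroup.subset_closure ⟨c, hc, 1, SetLike.GradedOne.one_mem, (mul_one c).symm⟩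
  | succ e ih =>
    intro p c hc
    have hc' : c ∈ 𝒜 ((p + e) + 1) := hc
    have h1 := gen_one 𝒜 hgen (p + e) c hc'
    refine (AddSubgroup.closure_le _).mpr ?_ h1
    rintro _ ⟨b', hb', s, hs, rfl⟩
    have h2 := ih p b' hb'
    have h3 : (AddMonoidHom.mulRight s) b' ∈
        (AddSubgroup.closure (mulSet 𝒜 p e)).map (AddMonoidHom.mulRight s) :=
      AddSubgroup.mem_map_of_mem _ h2
    rw [AddMonoidHom.map_closure] at h3
    refine (AddSubgroup.closure_le _).mpr ?_ h3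
    rintro _ ⟨_, ⟨b, hb, a, ha, rfl⟩, rfl⟩
    refine AddSubgroup.subset_closure ⟨b, hb, a * s, SetLike.mul_mem_graded ha hs, ?_⟩
    simp [mul_assoc]

variable {M τ : Type u} [AddCommGroup M] [Module A M] [SetLike τ M] [AddSubgroupClass τ M]
  (ℳ : ℕ → τ) [DirectSum.Decomposition ℳ] [SetLike.GradedSMul 𝒜 ℳ]

/-- Products `a • m'` with `a ∈ 𝒜 e`, `m' ∈ ℳ n`. -/
def smulSet (e n : ℕ) : Set M := {x | ∃ a ∈ 𝒜 e, ∃ m' ∈ ℳ n, x = a • m'}

theorem mod_gen (hgen : (HomogeneousIdeal.irrelevant 𝒜).toIdeal = Ideal.span (𝒜 1 : Set A))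
    (k0 : ℕ) (hTF : (tfMod (A := A) ℳ k0).FG) :
    ∃ K : ℕ, ∀ n, K ≤ n → ∀ e : ℕ, ∀ m ∈ ℳ (n + e),
      m ∈ AddSubgroup.closure (smulSet 𝒜 ℳ e n) := by
  classical
  obtain ⟨t, htsub, htspan⟩ :=
    (Submodule.fg_span_iff_fg_span_finset_subset (⋃ i ∈ Set.Ici k0, (ℳ i : Set M))).mp hTF
  have hprop : ∀ v ∈ t, ∃ i, k0 ≤ i ∧ v ∈ ℳ i := by
    intro v hv
    obtain ⟨i, hi, hvi⟩ := Set.mem_iUnion₂.mp (htsub hv)
    exact ⟨i, hi, hvi⟩
  choose! ev hev using hprop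
  refine ⟨max k0 (t.sup ev), fun n hn e m hm => ?_⟩
  have hnk : k0 ≤ n + e := le_trans (le_trans (le_max_left _ _) hn) (Nat.le_add_right _ _)
  have hmS : m ∈ Submodule.span A (t : Set M) := by
    rw [← htspan]
    exact mem_tfMod ℳ hnk hm
  obtain ⟨c, _, hc⟩ := Submodule.mem_span_finset.mp hmS
  have h1 : m = ∑ v ∈ t, (decompose ℳ (c v • v) (n + e) : M) := by
    conv_lhs => rw [← DirectSum.decompose_of_mem_same ℳ hm, ← hc]
    rw [DirectSum.decompose_sum, DFinsupp.finsetSum_apply, AddSubmonoidClass.coe_finsetSum]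
  rw [h1]
  refine sum_mem fun v hv => ?_
  have hevn : ev v ≤ n :=
    le_trans (Finset.le_sup hv) (le_trans (le_max_right _ _) hn)
  have hidx : n + e = ((n - ev v) + e) + ev v := by omega
  rw [hidx, coe_decompose_smul_of_right_mem 𝒜 ℳ (hev v hv).2]
  have h2 := gen_e 𝒜 hgen e (n - ev v) _
    (SetLike.coe_mem (decompose 𝒜 (c v) ((n - ev v) + e)))
  have h3 : ((smulAddHom A M).flip v) (decompose 𝒜 (c v) ((n - ev v) + e) : A) ∈
      (AddSubgroup.closure (mulSet 𝒜 (n - ev v) e)).map ((smulAddHom A M).flip v) :=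
    AddSubgroup.mem_map_of_mem _ h2
  rw [AddMonoidHom.map_closure] at h3
  refine (AddSubgroup.closure_le _).mpr ?_ h3
  rintro _ ⟨_, ⟨b, hb, a, ha, rfl⟩, rfl⟩
  refine AddSubgroup.subset_closure ⟨a, ha, b • v, ?_, ?_⟩
  · have h4 : b • v ∈ ℳ ((n - ev v) + ev v) :=
      SetLike.GradedSMul.smul_mem (i := n - ev v) (j := ev v) hb (hev v hv).2
    have e' : (n - ev v) + ev v = n := by omega
    exact e' ▸ h4
  · show (b * a) • v = a • b • v
    rw [mul_comm, mul_smul]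

/-- Eventual generation of `n ↦ Γ(Proj, M(n)~)` in degree-one generated case. -/
theorem sect_gen [IsNoetherianRing A]
    (hgen : (HomogeneousIdeal.irrelevant 𝒜).toIdeal = Ideal.span (𝒜 1 : Set A))
    (hTF : ∃ k : ℕ, (Submodule.span A (⋃ i ∈ Set.Ici k, (ℳ i : Set M))).FG) :
    ∃ k : ℕ, ∀ e : ℕ,
      (⨆ a : 𝒜 e, (GrMod.smulSect 𝒜 ℳ a (k : ℤ)
        (op (⊤ : Opens (ProjectiveSpectrum.top 𝒜)))).range) = ⊤ := by
  classical
  obtain ⟨k0, hk0⟩ := hTF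
  obtain ⟨N, _, hsurj⟩ := core 𝒜 ℳ k0 hk0
  obtain ⟨K, hK⟩ := mod_gen 𝒜 ℳ hgen k0 hk0
  refine ⟨max N K, fun e => ?_⟩
  obtain ⟨k, hkdef⟩ : ∃ k : ℕ, k = max N K := ⟨_, rfl⟩
  rw [← hkdef]
  have hkN : N ≤ k := hkdef ▸ le_max_left _ _
  have hkK : K ≤ k := hkdef ▸ le_max_right _ _
  rw [eq_top_iff]
  intro σ _
  obtain ⟨m, hm, hval⟩ := hsurj ((k : ℤ) + (e : ℕ)) (k + e) (by push_cast; ring)
    (le_trans hkN (Nat.le_add_right _ _)) σ
  have hmC := hK k hkK e m hm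
  have hQ' : ∀ y : M, y ∈ AddSubgroup.closure (smulSet 𝒜 ℳ e k) →
      ∃ σ' : GrMod.sect 𝒜 ℳ ((k : ℤ) + (e : ℕ)) (op ⊤),
      σ' ∈ (⨆ a : 𝒜 e, (GrMod.smulSect 𝒜 ℳ a (k : ℤ)
        (op (⊤ : Opens (ProjectiveSpectrum.top 𝒜)))).range) ∧
      ∀ x : ProjectiveSpectrum 𝒜,
        ((σ'.1 ⟨x, trivial⟩ : GrMod.tildeAt 𝒜 ℳ ((k : ℤ) + (e : ℕ)) x) :
          GrMod.LocMod 𝒜 (M := M) x) = LocalizedModule.mk y 1 := by
    intro y hy
    induction hy using AddSubgroup.closure_induction with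
    | mem x hx =>
      obtain ⟨a, ha, m', hm', rfl⟩ := hx
      refine ⟨GrMod.smulSect 𝒜 ℳ (⟨a, ha⟩ : 𝒜 e) (k : ℤ) (op ⊤)
        (GrMod.globalOf 𝒜 ℳ (⟨m', hm'⟩ : ℳ k)), ?_, fun x => ?_⟩
      · exact AddSubgroup.mem_iSup_of_mem (⟨a, ha⟩ : 𝒜 e) ⟨_, rfl⟩
      · rw [GrMod.smulSect_apply_coe]
        show (Localization.mk a (1 : x.asHomogeneousIdeal.toIdeal.primeCompl) :
          GrTwist.Loc 𝒜 x) • (LocalizedModule.mk m' 1 : GrMod.LocMod 𝒜 (M := M) x) = _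
        rw [LocalizedModule.mk_smul_mk, one_mul]
    | zero =>
      refine ⟨0, zero_mem _, fun x => ?_⟩
      rw [LocalizedModule.zero_mk]
      rfl
    | add x y _ _ hx hy =>
      obtain ⟨σ1, h1, hv1⟩ := hx
      obtain ⟨σ2, h2, hv2⟩ := hy
      refine ⟨σ1 + σ2, add_mem h1 h2, fun z => ?_⟩
      have : (LocalizedModule.mk (x + y) 1 : GrMod.LocMod 𝒜 (M := M) z) =
          LocalizedModule.mk x 1 + LocalizedModule.mk y 1 :=
        (LocalizedModule.mkLinearMap _ M).map_add x y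
      rw [this, ← hv1 z, ← hv2 z]
      rfl
    | neg x _ hx =>
      obtain ⟨σ1, h1, hv1⟩ := hx
      refine ⟨-σ1, neg_mem h1, fun z => ?_⟩
      have : (LocalizedModule.mk (-x) 1 : GrMod.LocMod 𝒜 (M := M) z) =
          - LocalizedModule.mk x 1 :=
        (LocalizedModule.mkLinearMap _ M).map_neg x
      rw [this, ← hv1 z]
      rfl
  obtain ⟨σ', hσ'mem, hσ'val⟩ := hQ' m hmC
  have hσ : σ = σ' :=
    Subtype.ext (funext fun x => Subtype.ext ((hval x.1).trans (hσ'val x.1).symm))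
  rw [hσ]
  exact hσ'mem

end
end Groth.Agent.H59.SerreGammaG
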