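import Mathlib
import Groth.Agent.H59.SerreGammaE

/-!
# helper59: gluing the elementary conditions `EInj` / `ESurj` along a degree-zero partition of unity
-/

set_option autoImplicit false
set_option linter.unusedSectionVars false
set_option linter.unusedVariables false
universe u

namespace Groth.Agent.H59.SerreGammaGlue

open DirectSum Groth.Agent.H59.SerreGammaE

/-- a common exponent. -/
theorem exists_common_pow {κ : Type} [Finite κ] (Q : κ → ℕ → Prop)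
    (hQ : ∀ c t t', t ≤ t' → Q c t → Q c t') (hex : ∀ c, ∃ t, Q c t) : ∃ T, ∀ c, Q c T := by
  classical
  have := Fintype.ofFinite κ
  choose t ht using hex
  exact ⟨∑ c, t c, fun c => hQ c _ _ (Finset.single_le_sum (fun _ _ => Nat.zero_le _)
    (Finset.mem_univ c)) (ht c)⟩

variable {A σ : Type u} [CommRing A] [SetLike σ A] [AddSubgroupClass σ A] (𝒜 : ℕ → σ)
  [GradedRing 𝒜]
variable {M τ : Type u} [AddCommGroup M] [Module A M] [SetLike τ M] [AddSubgroupClass τ M]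
  (ℳ : ℕ → τ) [DirectSum.Decomposition ℳ] [SetLike.GradedSMul 𝒜 ℳ]
variable {ι : Type} [Finite ι] {κ : Type} [Fintype κ]

theorem pow_mem_zero {a : A} (ha : a ∈ 𝒜 0) (k : ℕ) : a ^ k ∈ 𝒜 0 := by
  have := SetLike.pow_mem_graded k ha
  simpa using this

variable {ℳ} in
theorem smul_mem_zero {a : A} (ha : a ∈ 𝒜 0) {n : ℕ} {m : M} (hm : m ∈ ℳ n) : a • m ∈ ℳ n := by
  have := SetLike.GradedSMul.smul_mem ha hm
  simpa using this

theorem einj_of_local (g : ι → A) (n : ℕ) (f : κ → A)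
    (hpu : ∀ T : ℕ, ∃ c : κ → A, (∀ l, c l ∈ 𝒜 0) ∧ ∑ l, c l * f l ^ T = 1)
    (hloc : ∀ l, ∀ m ∈ ℳ n, (∀ i, ∃ j : ℕ, g i ^ j • m = 0) → ∃ t : ℕ, f l ^ t • m = 0) :
    EInj ℳ g n := by
  intro m hm hkill
  have h1 : ∀ l, ∃ t, f l ^ t • m = 0 := fun l => hloc l m hm hkill
  obtain ⟨T, hT⟩ := exists_common_pow (fun l t => f l ^ t • m = 0)
    (fun l t t' htt' ht => by
      obtain ⟨r, rfl⟩ := Nat.exists_eq_add_of_le htt'
      rw [pow_add, mul_comm, mul_smul, ht, smul_zero]) h1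
  obtain ⟨c, hc0, hc⟩ := hpu T
  calc m = (1 : A) • m := (one_smul _ _).symm
    _ = (∑ l, c l * f l ^ T) • m := by rw [hc]
    _ = ∑ l, c l • f l ^ T • m := by
        rw [Finset.sum_smul]
        exact Finset.sum_congr rfl fun l _ => mul_smul _ _ _
    _ = 0 := Finset.sum_eq_zero fun l _ => by rw [hT l, smul_zero]

theorem esurj_of_local (g : ι → A) (dg : ι → ℕ) (n : ℕ) (f : κ → A) (hf : ∀ l, f l ∈ 𝒜 0)
    (hpu : ∀ T : ℕ, ∃ c : κ → A, (∀ l, c l ∈ 𝒜 0) ∧ ∑ l, c l * f l ^ T = 1)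
    (hinj : EInj ℳ g n)
    (hloc : ∀ l, ∀ (kg : ι → ℕ) (mg : ι → M), (∀ i, mg i ∈ ℳ (kg i * dg i + n)) →
      (∀ i i', ∃ N : ℕ, (g i * g i') ^ N • (g i' ^ kg i' • mg i - g i ^ kg i • mg i') = 0) →
      ∃ t : ℕ, ∃ m ∈ ℳ n, ∀ i, ∃ j : ℕ, g i ^ j • (g i ^ kg i • m - f l ^ t • mg i) = 0) :
    ESurj ℳ g dg n := by
  intro kg mg hmg hcompat
  have h1 : ∀ l, ∃ t : ℕ, ∃ m ∈ ℳ n, ∀ i, ∃ j : ℕ,
      g i ^ j • (g i ^ kg i • m - f l ^ t • mg i) = 0 := fun l => hloc l kg mg hmg hcompat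
  obtain ⟨T, hT⟩ := exists_common_pow (fun l t => ∃ m ∈ ℳ n, ∀ i, ∃ j : ℕ,
      g i ^ j • (g i ^ kg i • m - f l ^ t • mg i) = 0)
    (fun l t t' htt' ⟨m, hm, hmE⟩ => by
      obtain ⟨r, rfl⟩ := Nat.exists_eq_add_of_le htt'
      refine ⟨f l ^ r • m, smul_mem_zero 𝒜 (pow_mem_zero 𝒜 (hf l) r) hm, fun i => ?_⟩
      obtain ⟨j, hj⟩ := hmE i
      refine ⟨j, ?_⟩
      have e : f l ^ (t + r) • mg i = f l ^ r • (f l ^ t • mg i) := by
        rw [pow_add, mul_comm, mul_smul]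
      rw [e, smul_comm (g i ^ kg i) (f l ^ r), ← smul_sub, smul_comm, hj, smul_zero]) h1
  choose ml hml hmlE using hT
  -- exact agreement
  have hagree : ∀ l l', f l' ^ T • ml l = f l ^ T • ml l' := by
    intro l l'
    have h2 : f l' ^ T • ml l - f l ^ T • ml l' = 0 := by
      refine hinj _ (sub_mem (smul_mem_zero 𝒜 (pow_mem_zero 𝒜 (hf l') T) (hml l))
        (smul_mem_zero 𝒜 (pow_mem_zero 𝒜 (hf l) T) (hml l'))) (fun i => ?_)
      obtain ⟨j, hj⟩ := hmlE l i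
      obtain ⟨j', hj'⟩ := hmlE l' i
      refine ⟨j + j' + kg i, ?_⟩
      have e1 : g i ^ (j + j' + kg i) • (f l' ^ T • ml l - f l ^ T • ml l') =
          f l' ^ T • g i ^ j' • (g i ^ j • (g i ^ kg i • ml l - f l ^ T • mg i)) -
          f l ^ T • g i ^ j • (g i ^ j' • (g i ^ kg i • ml l' - f l' ^ T • mg i)) := by
        simp only [smul_sub, smul_smul]
        have e2 : f l' ^ T * (g i ^ j' * (g i ^ j * f l ^ T)) =
            f l ^ T * (g i ^ j * (g i ^ j' * f l' ^ T)) := by ring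
        have e3 : g i ^ (j + j' + kg i) * f l' ^ T = f l' ^ T * (g i ^ j' * (g i ^ j * g i ^ kg i)) := by
          ring
        have e4 : g i ^ (j + j' + kg i) * f l ^ T = f l ^ T * (g i ^ j * (g i ^ j' * g i ^ kg i)) := by
          ring
        rw [e2, e3, e4]
        abel
      rw [e1, hj, hj', smul_zero, smul_zero, smul_zero, smul_zero, sub_zero]
    exact sub_eq_zero.mp h2
  obtain ⟨c, hc0, hc⟩ := hpu T
  have hkey : ∀ l', f l' ^ T • (∑ l, c l • ml l) = ml l' := by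
    intro l'
    rw [Finset.smul_sum]
    calc ∑ l, f l' ^ T • c l • ml l = ∑ l, (c l * f l ^ T) • ml l' := by
          refine Finset.sum_congr rfl fun l _ => ?_
          rw [smul_comm, hagree l l', mul_smul]
      _ = (∑ l, c l * f l ^ T) • ml l' := by rw [Finset.sum_smul]
      _ = ml l' := by rw [hc, one_smul]
  refine ⟨∑ l, c l • ml l, sum_mem (fun l _ => smul_mem_zero 𝒜 (hc0 l) (hml l)), fun i => ?_⟩
  have h2 : ∀ l', ∃ j : ℕ,
      g i ^ j • (f l' ^ T • (g i ^ kg i • (∑ l, c l • ml l) - mg i)) = 0 := by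
    intro l'
    obtain ⟨j, hj⟩ := hmlE l' i
    refine ⟨j, ?_⟩
    rw [smul_sub, smul_comm (f l' ^ T) (g i ^ kg i), hkey]
    exact hj
  obtain ⟨J, hJ⟩ := exists_common_pow (fun l' j =>
      g i ^ j • (f l' ^ T • (g i ^ kg i • (∑ l, c l • ml l) - mg i)) = 0)
    (fun l t t' htt' ht => by
      obtain ⟨r, rfl⟩ := Nat.exists_eq_add_of_le htt'
      rw [pow_add, mul_comm, mul_smul, ht, smul_zero]) h2
  refine ⟨J, ?_⟩
  obtain ⟨e, he⟩ : ∃ e : M, e = g i ^ kg i • (∑ l, c l • ml l) - mg i := ⟨_, rfl⟩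
  rw [← he] at hJ ⊢
  calc g i ^ J • e = (∑ l, c l * f l ^ T) • (g i ^ J • e) := by rw [hc, one_smul]
    _ = ∑ l, c l • (g i ^ J • (f l ^ T • e)) := by
        rw [Finset.sum_smul]
        refine Finset.sum_congr rfl fun l _ => ?_
        rw [mul_smul, smul_comm (f l ^ T) (g i ^ J)]
    _ = 0 := Finset.sum_eq_zero fun l _ => by rw [hJ l, smul_zero]

end Groth.Agent.H59.SerreGammaGlue
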