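import Mathlib
import Groth.Agent.H59.SerreGammaE

/-!
# helper59: the elementary conditions `EInj` / `ESurj` under localisation at a degree-zero element

`LocData`: a graded ring map `φ : A → B` and a `φ`-semilinear graded map `ψ : M → P` which are
localisations at `f ∈ A_0` (elementwise form).  Then `EInj` and `ESurj` pass from `(A, M)` to
`(B, P)`, and conversely hold "`f`-locally" on `(A, M)` if they hold on `(B, P)`.
-/

set_option autoImplicit false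
set_option linter.unusedSectionVars false
set_option linter.unusedVariables false
set_option linter.deprecated false
universe u

namespace Groth.Agent.H59.SerreGammaLoc

open DirectSum Groth.Agent.H59.SerreGammaE

section Decomp

variable {M τ P τ' : Type*} [AddCommGroup M] [SetLike τ M] [AddSubgroupClass τ M] (ℳ : ℕ → τ)
  [Decomposition ℳ] [AddCommGroup P] [SetLike τ' P] [AddSubgroupClass τ' P] (𝒩 : ℕ → τ')
  [Decomposition 𝒩]

/-- a degree preserving additive map commutes with taking homogeneous components. -/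
theorem decompose_map (ψ : M →+ P) (hψ : ∀ d m, m ∈ ℳ d → ψ m ∈ 𝒩 d) (m : M) (i : ℕ) :
    (decompose 𝒩 (ψ m) i : P) = ψ (decompose ℳ m i) := by
  classical
  conv_lhs => rw [← DirectSum.sum_support_decompose ℳ m, map_sum, DirectSum.decompose_sum,
    DFinsupp.finset_sum_apply, AddSubmonoidClass.coe_finset_sum]
  by_cases hi : i ∈ (decompose ℳ m).support
  · rw [Finset.sum_eq_single_of_mem i hi]
    · rw [DirectSum.decompose_of_mem_same 𝒩 (hψ i _ (SetLike.coe_mem _))]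
    · intro j _ hji
      rw [DirectSum.decompose_of_mem_ne 𝒩 (hψ j _ (SetLike.coe_mem _)) hji]
  · rw [Finset.sum_eq_zero]
    · rw [DFinsupp.notMem_support_iff] at hi
      rw [hi]; simp
    · intro j hj
      have hji : j ≠ i := fun h => hi (h ▸ hj)
      rw [DirectSum.decompose_of_mem_ne 𝒩 (hψ j _ (SetLike.coe_mem _)) hji]

end Decomp

section
variable {A σ : Type u} [CommRing A] [SetLike σ A] [AddSubgroupClass σ A] (𝒜 : ℕ → σ)
  [GradedRing 𝒜]
variable {M τ : Type u} [AddCommGroup M] [Module A M] [SetLike τ M] [AddSubgroupClass τ M]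
  (ℳ : ℕ → τ) [DirectSum.Decomposition ℳ] [SetLike.GradedSMul 𝒜 ℳ]
variable {B σ' : Type u} [CommRing B] [SetLike σ' B] [AddSubgroupClass σ' B] (ℬ : ℕ → σ')
  [GradedRing ℬ]
variable {P τ' : Type u} [AddCommGroup P] [Module B P] [SetLike τ' P] [AddSubgroupClass τ' P]
  (𝒩 : ℕ → τ') [DirectSum.Decomposition 𝒩] [SetLike.GradedSMul ℬ 𝒩]

/-- `(B, P)` is the localisation of `(A, M)` at the degree zero element `f`, compatibly with the
gradings (elementwise form). -/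
structure LocData (φ : A →+* B) (ψ : M →+ P) (f : A) : Prop where
  map_mem : ∀ d a, a ∈ 𝒜 d → φ a ∈ ℬ d
  map_mem' : ∀ d m, m ∈ ℳ d → ψ m ∈ 𝒩 d
  map_smul : ∀ (a : A) (m : M), ψ (a • m) = φ a • ψ m
  f_mem : f ∈ 𝒜 0
  unit : IsUnit (φ f)
  surjB : ∀ b : B, ∃ (k : ℕ) (a : A), φ f ^ k * b = φ a
  surjP : ∀ p : P, ∃ (k : ℕ) (m : M), φ f ^ k • p = ψ m
  injP : ∀ m : M, ψ m = 0 → ∃ k : ℕ, f ^ k • m = 0

variable {𝒜 ℳ ℬ 𝒩} {φ : A →+* B} {ψ : M →+ P} {f : A}

namespace LocData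

variable (h : LocData 𝒜 ℳ ℬ 𝒩 φ ψ f)
include h

theorem pow_mem (k : ℕ) : f ^ k ∈ 𝒜 0 := by
  have := SetLike.pow_mem_graded k h.f_mem
  simpa using this

theorem φpow_mem (k : ℕ) : φ f ^ k ∈ ℬ 0 := by
  have := SetLike.pow_mem_graded k (h.map_mem 0 f h.f_mem)
  simpa using this

theorem fsmul_mem (k : ℕ) {n : ℕ} {m : M} (hm : m ∈ ℳ n) : f ^ k • m ∈ ℳ n := by
  have := SetLike.GradedSMul.smul_mem (h.pow_mem k) hm
  simpa using this

theorem φsmul_mem (k : ℕ) {n : ℕ} {p : P} (hp : p ∈ 𝒩 n) : φ f ^ k • p ∈ 𝒩 n := by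
  have := SetLike.GradedSMul.smul_mem (h.φpow_mem k) hp
  simpa using this

theorem map_pow_smul (a : A) (k : ℕ) (m : M) : ψ (a ^ k • m) = φ a ^ k • ψ m := by
  rw [h.map_smul, map_pow]

theorem smul_eq_zero_of_unit (k : ℕ) (p : P) (hp : φ f ^ k • p = 0) : p = 0 := by
  obtain ⟨u, hu⟩ := h.unit.pow k
  rw [← hu] at hp
  have := congrArg (fun q => (↑u⁻¹ : B) • q) hp
  simpa [smul_smul] using this

/-- graded form of `surjP`. -/
theorem surjP_graded {n : ℕ} {p : P} (hp : p ∈ 𝒩 n) :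
    ∃ (k : ℕ) (m : M), m ∈ ℳ n ∧ φ f ^ k • p = ψ m := by
  obtain ⟨k, m, hm⟩ := h.surjP p
  refine ⟨k, (decompose ℳ m n : M), SetLike.coe_mem _, ?_⟩
  rw [← decompose_map ℳ 𝒩 ψ h.map_mem' m n, ← hm,
    DirectSum.decompose_of_mem_same 𝒩 (h.φsmul_mem k hp)]

/-- graded form of `surjB`. -/
theorem surjB_graded {d : ℕ} {b : B} (hb : b ∈ ℬ d) :
    ∃ (k : ℕ) (a : A), a ∈ 𝒜 d ∧ φ f ^ k * b = φ a := by
  obtain ⟨k, a, ha⟩ := h.surjB b
  refine ⟨k, (decompose 𝒜 a d : A), SetLike.coe_mem _, ?_⟩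
  have h1 := decompose_map 𝒜 ℬ φ.toAddMonoidHom h.map_mem a d
  have h2 : φ f ^ k * b ∈ ℬ d := by
    have := SetLike.mul_mem_graded (h.φpow_mem k) hb
    simpa using this
  have h3 : (decompose ℬ (φ a) d : B) = φ (decompose 𝒜 a d) := h1
  rw [← h3, ← ha, DirectSum.decompose_of_mem_same ℬ h2]

/-- a preimage of a prescribed "denominator". -/
theorem exists_div {n : ℕ} {m : M} (hm : m ∈ ℳ n) (s : ℕ) :
    ∃ p : P, p ∈ 𝒩 n ∧ φ f ^ s • p = ψ m := by
  obtain ⟨u, hu⟩ := h.unit.pow s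
  refine ⟨(decompose 𝒩 ((↑u⁻¹ : B) • ψ m) n : P), SetLike.coe_mem _, ?_⟩
  have h1 := Groth.Agent.H41.GrModSections.coe_decompose_smul_of_mem ℬ 𝒩 (h.φpow_mem s)
    ((↑u⁻¹ : B) • ψ m) n
  have h2 : φ f ^ s • ((↑u⁻¹ : B) • ψ m) = ψ m := by
    rw [smul_smul, ← hu, Units.mul_inv, one_smul]
  rw [← h1, h2, zero_add, DirectSum.decompose_of_mem_same 𝒩 (h.map_mem' n m hm)]

variable {ι : Type} [Finite ι]

omit [Finite ι] in
/-- generators of the irrelevant ideal are mapped to generators. -/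
theorem span_le (g : ι → A)
    (hspan : (HomogeneousIdeal.irrelevant 𝒜).toIdeal ≤ Ideal.span (Set.range g)) :
    (HomogeneousIdeal.irrelevant ℬ).toIdeal ≤ Ideal.span (Set.range (fun i => φ (g i))) := by
  classical
  intro b hb
  have hb0 : (decompose ℬ b 0 : B) = 0 := (HomogeneousIdeal.mem_irrelevant_iff ℬ b).mp hb
  rw [← DirectSum.sum_support_decompose ℬ b]
  refine Ideal.sum_mem _ (fun d _ => ?_)
  by_cases hd : d = 0
  · rw [hd, hb0]; exact Ideal.zero_mem _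
  · obtain ⟨k, a, ha, hka⟩ := h.surjB_graded (SetLike.coe_mem (decompose ℬ b d))
    have haI : a ∈ Ideal.span (Set.range g) :=
      hspan (HomogeneousIdeal.mem_irrelevant_of_mem 𝒜 (Nat.pos_of_ne_zero hd) ha)
    have hφa : φ a ∈ Ideal.span (Set.range (fun i => φ (g i))) := by
      have := Ideal.mem_map_of_mem φ haI
      rw [Ideal.map_span] at this
      convert this using 2
      ext x
      simp [Set.mem_image]
    obtain ⟨u, hu⟩ := h.unit.pow k
    have : (decompose ℬ b d : B) = (↑u⁻¹ : B) * φ a := by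
      rw [← hka, ← hu, ← mul_assoc, Units.inv_mul, one_mul]
    rw [this]
    exact Ideal.mul_mem_left _ _ hφa

/-- a common exponent. -/
theorem exists_common_pow {κ : Type} [Finite κ] (Q : κ → ℕ → Prop)
    (hQ : ∀ c t t', t ≤ t' → Q c t → Q c t') (hex : ∀ c, ∃ t, Q c t) : ∃ T, ∀ c, Q c T := by
  classical
  haveI := Fintype.ofFinite κ
  choose t ht using hex
  exact ⟨∑ c, t c, fun c => hQ c _ _ (Finset.single_le_sum (fun _ _ => Nat.zero_le _)
    (Finset.mem_univ c)) (ht c)⟩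

/-- `EInj` passes to the localisation. -/
theorem einj (g : ι → A) (n : ℕ) (hE : EInj ℳ g n) : EInj 𝒩 (fun i => φ (g i)) n := by
  intro p hp hkill
  obtain ⟨k, m, hm, hkm⟩ := h.surjP_graded hp
  have h1 : ∀ i, ∃ t : ℕ, ∃ j : ℕ, g i ^ j • (f ^ t • m) = 0 := by
    intro i
    obtain ⟨j, hj⟩ := hkill i
    have h2 : ψ (g i ^ j • m) = 0 := by
      rw [h.map_pow_smul, ← hkm, smul_comm, hj, smul_zero]
    obtain ⟨t, ht⟩ := h.injP _ h2
    exact ⟨t, j, by rw [smul_comm]; exact ht⟩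
  obtain ⟨T, hT⟩ := h.exists_common_pow (fun i t => ∃ j : ℕ, g i ^ j • (f ^ t • m) = 0)
    (fun i t t' htt' ⟨j, hj⟩ => ⟨j, by
      obtain ⟨r, rfl⟩ := Nat.exists_eq_add_of_le htt'
      rw [pow_add, mul_comm, mul_smul, smul_comm, hj, smul_zero]⟩) h1
  have h3 : f ^ T • m = 0 := hE _ (h.fsmul_mem T hm) hT
  have h4 : φ f ^ (T + k) • p = 0 := by
    rw [pow_add, mul_smul, hkm, ← h.map_pow_smul, h3, map_zero]
  exact h.smul_eq_zero_of_unit _ p h4

/-- `ESurj` passes to the localisation. -/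
theorem esurj (g : ι → A) (dg : ι → ℕ) (hdg : ∀ i, 0 < dg i ∧ g i ∈ 𝒜 (dg i)) (n : ℕ)
    (hE : ESurj ℳ g dg n) : ESurj 𝒩 (fun i => φ (g i)) dg n := by
  intro kg pg hpg hcompat
  -- lift the family with a uniform denominator
  have h1 : ∀ i, ∃ k : ℕ, ∃ m : M, m ∈ ℳ (kg i * dg i + n) ∧ φ f ^ k • pg i = ψ m := by
    intro i
    obtain ⟨k, m, hm, hkm⟩ := h.surjP_graded (hpg i)
    exact ⟨k, m, hm, hkm⟩
  obtain ⟨K, hK⟩ := h.exists_common_pow
    (fun i k => ∃ m : M, m ∈ ℳ (kg i * dg i + n) ∧ φ f ^ k • pg i = ψ m)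
    (fun i t t' htt' ⟨m, hm, hkm⟩ => by
      obtain ⟨r, rfl⟩ := Nat.exists_eq_add_of_le htt'
      refine ⟨f ^ r • m, h.fsmul_mem r hm, ?_⟩
      rw [h.map_pow_smul, ← hkm, ← mul_smul, ← pow_add, add_comm]) h1
  choose mg hmg hmgK using hK
  -- compatibility of the lifted family after multiplying by a power of `f`
  have h2 : ∀ c : ι × ι, ∃ t : ℕ, ∃ N : ℕ,
      (g c.1 * g c.2) ^ N • (g c.2 ^ kg c.2 • (f ^ t • mg c.1) - g c.1 ^ kg c.1 • (f ^ t • mg c.2))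
        = 0 := by
    rintro ⟨i, i'⟩
    obtain ⟨N, hN⟩ := hcompat i i'
    have h3 : ψ ((g i * g i') ^ N • (g i' ^ kg i' • mg i - g i ^ kg i • mg i')) = 0 := by
      rw [h.map_pow_smul, map_sub, h.map_pow_smul, h.map_pow_smul, ← hmgK i, ← hmgK i',
        smul_comm (φ (g i') ^ kg i') (φ f ^ K), smul_comm (φ (g i) ^ kg i) (φ f ^ K), ← smul_sub,
        smul_comm, map_mul]
      simp only at hN
      rw [hN, smul_zero]
    obtain ⟨t, ht⟩ := h.injP _ h3
    refine ⟨t, N, ?_⟩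
    simp only
    rw [smul_comm (g i' ^ kg i') (f ^ t), smul_comm (g i ^ kg i) (f ^ t), ← smul_sub, smul_comm]
    exact ht
  obtain ⟨T, hT⟩ := h.exists_common_pow (fun (c : ι × ι) t => ∃ N : ℕ,
      (g c.1 * g c.2) ^ N • (g c.2 ^ kg c.2 • (f ^ t • mg c.1) - g c.1 ^ kg c.1 • (f ^ t • mg c.2))
        = 0)
    (fun c t t' htt' ⟨N, hN⟩ => ⟨N, by
      obtain ⟨r, rfl⟩ := Nat.exists_eq_add_of_le htt'
      have e : ∀ x : M, f ^ (t + r) • x = f ^ r • (f ^ t • x) := fun x => by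
        rw [pow_add, mul_comm, mul_smul]
      rw [e, e, smul_comm (g c.2 ^ kg c.2) (f ^ r), smul_comm (g c.1 ^ kg c.1) (f ^ r),
        ← smul_sub, smul_comm, hN, smul_zero]⟩) h2
  obtain ⟨m, hm, hmE⟩ := hE kg (fun i => f ^ T • mg i) (fun i => h.fsmul_mem T (hmg i))
    (fun i i' => hT (i, i'))
  obtain ⟨p, hp, hpm⟩ := h.exists_div hm (T + K)
  refine ⟨p, hp, fun i => ?_⟩
  obtain ⟨j, hj⟩ := hmE i
  refine ⟨j, h.smul_eq_zero_of_unit (T + K) _ ?_⟩
  have h4 : ψ (g i ^ j • (g i ^ kg i • m - f ^ T • mg i)) = 0 := by rw [hj, map_zero]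
  rw [h.map_pow_smul, map_sub, h.map_pow_smul, h.map_pow_smul, ← hpm, ← hmgK i] at h4
  have e5 : φ f ^ T • φ f ^ K • pg i = φ f ^ (T + K) • pg i := by rw [pow_add, mul_smul]
  rw [e5] at h4
  simp only
  rw [smul_comm (φ f ^ (T + K)) (φ (g i) ^ j), smul_sub,
    smul_comm (φ f ^ (T + K)) (φ (g i) ^ kg i)]
  exact h4

/-- `EInj` on the localisation gives `EInj` up to a power of `f`. -/
theorem local_inj (g : ι → A) (n : ℕ) (hE : EInj 𝒩 (fun i => φ (g i)) n) :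
    ∀ m ∈ ℳ n, (∀ i, ∃ j : ℕ, g i ^ j • m = 0) → ∃ t : ℕ, f ^ t • m = 0 := by
  intro m hm hkill
  refine h.injP m (hE _ (h.map_mem' n m hm) (fun i => ?_))
  obtain ⟨j, hj⟩ := hkill i
  exact ⟨j, by simp only; rw [← h.map_pow_smul, hj, map_zero]⟩

/-- `ESurj` on the localisation gives `ESurj` up to a power of `f`. -/
theorem local_surj (g : ι → A) (dg : ι → ℕ) (n : ℕ)
    (hE : ESurj 𝒩 (fun i => φ (g i)) dg n)
    (kg : ι → ℕ) (mg : ι → M) (hmg : ∀ i, mg i ∈ ℳ (kg i * dg i + n))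
    (hcompat : ∀ i i', ∃ N : ℕ,
      (g i * g i') ^ N • (g i' ^ kg i' • mg i - g i ^ kg i • mg i') = 0) :
    ∃ t : ℕ, ∃ m ∈ ℳ n, ∀ i, ∃ j : ℕ, g i ^ j • (g i ^ kg i • m - f ^ t • mg i) = 0 := by
  obtain ⟨p, hp, hpE⟩ := hE kg (fun i => ψ (mg i)) (fun i => h.map_mem' _ _ (hmg i))
    (fun i i' => by
      obtain ⟨N, hN⟩ := hcompat i i'
      refine ⟨N, ?_⟩
      simp only
      rw [← map_mul, ← h.map_pow_smul, ← h.map_pow_smul, ← map_sub, ← h.map_pow_smul, hN,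
        map_zero])
  obtain ⟨k, m, hm, hkm⟩ := h.surjP_graded hp
  have h1 : ∀ i, ∃ t : ℕ, ∃ j : ℕ,
      g i ^ j • (g i ^ kg i • (f ^ t • m) - f ^ (t + k) • mg i) = 0 := by
    intro i
    obtain ⟨j, hj⟩ := hpE i
    have h2 : ψ (g i ^ j • (g i ^ kg i • m - f ^ k • mg i)) = 0 := by
      rw [h.map_pow_smul, map_sub, h.map_pow_smul, h.map_pow_smul, ← hkm,
        smul_comm (φ (g i) ^ kg i) (φ f ^ k), ← smul_sub, smul_comm]
      simp only at hj
      rw [hj, smul_zero]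
    obtain ⟨t, ht⟩ := h.injP _ h2
    refine ⟨t, j, ?_⟩
    rw [pow_add, mul_smul, smul_comm (g i ^ kg i) (f ^ t), ← smul_sub, smul_comm]
    exact ht
  obtain ⟨T, hT⟩ := h.exists_common_pow (fun i t => ∃ j : ℕ,
      g i ^ j • (g i ^ kg i • (f ^ t • m) - f ^ (t + k) • mg i) = 0)
    (fun i t t' htt' ⟨j, hj⟩ => ⟨j, by
      obtain ⟨r, rfl⟩ := Nat.exists_eq_add_of_le htt'
      have e : ∀ x : M, f ^ (t + r) • x = f ^ r • (f ^ t • x) := fun x => by
        rw [pow_add, mul_comm, mul_smul]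
      have e' : ∀ x : M, f ^ (t + r + k) • x = f ^ r • (f ^ (t + k) • x) := fun x => by
        rw [← mul_smul, ← pow_add]; congr 2; omega
      rw [e, e', smul_comm (g i ^ kg i) (f ^ r), ← smul_sub, smul_comm, hj, smul_zero]⟩) h1
  exact ⟨T + k, f ^ T • m, h.fsmul_mem T hm, hT⟩

/-- bijectivity of `α_n` passes to the localisation at a degree zero element. -/
theorem bijective_alpha (g : ι → A) (dg : ι → ℕ) (hdg : ∀ i, 0 < dg i ∧ g i ∈ 𝒜 (dg i))
    (hspan : (HomogeneousIdeal.irrelevant 𝒜).toIdeal ≤ Ideal.span (Set.range g)) (n : ℕ)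
    (hbij : Function.Bijective (GrMod.alpha 𝒜 ℳ n)) :
    Function.Bijective (GrMod.alpha ℬ 𝒩 n) := by
  have hdg' : ∀ i, 0 < dg i ∧ φ (g i) ∈ ℬ (dg i) := fun i =>
    ⟨(hdg i).1, h.map_mem _ _ (hdg i).2⟩
  have hspan' := h.span_le g hspan
  refine ⟨?_, ?_⟩
  · exact injective_of_einj ℬ 𝒩 (fun i => φ (g i)) dg hdg' n
      (h.einj g n (einj_of_injective 𝒜 ℳ g hspan n hbij.1))
  · exact surjective_of_esurj ℬ 𝒩 (fun i => φ (g i)) dg hdg' hspan' n
      (h.esurj g dg hdg n (esurj_of_surjective 𝒜 ℳ g dg hdg hspan n hbij.2))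

end LocData
end
end Groth.Agent.H59.SerreGammaLoc
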