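import Mathlib
import Groth.Prelude.Def_RelProj3
import Groth.Agent.H59.SerreGammaLoc
import Groth.Agent.H59.SerreGammaGlue
import Groth.Agent.H59.SerreGammaG2
import Groth.Agent.H41.RelTildeExists

/-!
# helper59: uniform eventual bijectivity of `α_n` over a Noetherian base
-/

set_option autoImplicit false
set_option linter.unusedSectionVars false
set_option linter.unusedVariables false
universe u

open CategoryTheory CategoryTheory.Limits AlgebraicGeometry Opposite TopologicalSpace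
open scoped HomogeneousIdeal

noncomputable section

namespace Groth.Agent.H59.SerreGammaSch

open Groth.Agent.H59.SerreGammaE Groth.Agent.H59.SerreGammaLoc Groth.Agent.H59.SerreGammaGlue

variable {Y : Scheme.{u}} (𝒮 : RelProj.QCGrAlg Y) (ℳ : RelProj.GrModule 𝒮)
  (hℳ : ((AMod.toOS 𝒮.toQCAlg).obj ℳ.mod).IsQuasicoherent)

include hℳ in
theorem locData (U : Y.Opens) (hU : IsAffineOpen U) (r : Γ(Y, U)) :
    LocData (𝒮.deg U hU) (ℳ.deg U hU) (𝒮.deg (Y.basicOpen r) (hU.basicOpen r))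
      (ℳ.deg (Y.basicOpen r) (hU.basicOpen r))
      (𝒮.res hU (hU.basicOpen r) (Y.basicOpen_le r)).toRingHom
      (ℳ.res hU (hU.basicOpen r) (Y.basicOpen_le r)).toAddMonoidHom
      ((𝒮.str.app (op U)).hom r) := by
  letI _inst := (𝒮.presheaf.map (homOfLE (Y.basicOpen_le r)).op).hom.toAlgebra
  have hloc : IsLocalization.Away ((𝒮.str.app (op U)).hom r)
      (𝒮.presheaf.obj (op (Y.basicOpen r))) := 𝒮.isQC U hU r
  refine
    { map_mem := fun d a ha => 𝒮.map_mem hU (hU.basicOpen r) (Y.basicOpen_le r) ha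
      map_mem' := fun d m hm => ℳ.map_mem hU (hU.basicOpen r) (Y.basicOpen_le r) hm
      map_smul := fun a m => (ℳ.res hU (hU.basicOpen r) (Y.basicOpen_le r)).map_smul' a m
      f_mem := 𝒮.str_mem U hU r
      unit := ?_
      surjB := ?_
      surjP := fun p => Groth.Agent.H41.RelTildeExists.hMs_of_qcoh 𝒮 ℳ hℳ U hU r p
      injP := fun m hm => Groth.Agent.H41.RelTildeExists.hMi_of_qcoh 𝒮 ℳ hℳ U hU r m hm }
  · exact IsLocalization.map_units (M := Submonoid.powers ((𝒮.str.app (op U)).hom r))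
      (𝒮.presheaf.obj (op (Y.basicOpen r))) ⟨(𝒮.str.app (op U)).hom r, 1, pow_one _⟩
  · intro b
    obtain ⟨⟨x, s, hs⟩, hxs⟩ := IsLocalization.surj (Submonoid.powers ((𝒮.str.app (op U)).hom r)) b
    obtain ⟨k, rfl⟩ := (Submonoid.mem_powers_iff _ _).mp hs
    refine ⟨k, x, ?_⟩
    rw [mul_comm, ← map_pow]
    exact hxs


/-- a finite indexed family of homogeneous generators of the irrelevant ideal. -/
theorem exists_gens_fin {A σ : Type u} [CommRing A] [SetLike σ A] [AddSubgroupClass σ A]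
    (𝒜 : ℕ → σ) [GradedRing 𝒜] [IsNoetherianRing A] :
    ∃ (k : ℕ) (g : Fin k → A) (dg : Fin k → ℕ), (∀ i, 0 < dg i ∧ g i ∈ 𝒜 (dg i)) ∧
      (HomogeneousIdeal.irrelevant 𝒜).toIdeal ≤ Ideal.span (Set.range g) := by
  classical
  obtain ⟨gs, dg, hdg, hspan⟩ := Groth.Agent.H59.SerreGammaG.exists_gens 𝒜
  refine ⟨gs.card, fun i => (gs.equivFin.symm i : A), fun i => dg (gs.equivFin.symm i : A),
    fun i => hdg _ (gs.equivFin.symm i).2, ?_⟩
  rw [hspan]
  refine Ideal.span_mono ?_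
  intro a ha
  exact ⟨gs.equivFin ⟨a, ha⟩, by simp⟩

/-- degree-zero partition of unity from a finite set of functions spanning the unit ideal. -/
theorem exists_partition {R A : Type u} [CommRing R] [CommRing A] (φ : R →+* A)
    (s : Finset R) (hs : Ideal.span (s : Set R) = ⊤) (T : ℕ) :
    ∃ c : Fin s.card → R, ∑ l, φ (c l) * φ (s.equivFin.symm l : R) ^ T = 1 := by
  classical
  have h1 := Ideal.span_pow_eq_top (s : Set R) hs T
  have h2 : (fun x : R => x ^ T) '' (s : Set R) =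
      Set.range (fun l : Fin s.card => (s.equivFin.symm l : R) ^ T) := by
    ext x
    constructor
    · rintro ⟨a, ha, rfl⟩
      exact ⟨s.equivFin ⟨a, ha⟩, by simp⟩
    · rintro ⟨l, rfl⟩
      exact ⟨_, (s.equivFin.symm l).2, rfl⟩
  rw [h2] at h1
  have h3 : (1 : R) ∈ Ideal.span (Set.range (fun l : Fin s.card => (s.equivFin.symm l : R) ^ T)) := by
    rw [h1]; exact Submodule.mem_top
  obtain ⟨c, hc⟩ := Ideal.mem_span_range_iff_exists_fun.mp h3
  refine ⟨c, ?_⟩
  have := congrArg φ hc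
  rw [map_sum, map_one] at this
  rw [← this]
  exact Finset.sum_congr rfl fun l _ => by rw [map_mul, map_pow]

theorem isNoetherianRing_sections [AlgebraicGeometry.IsNoetherian Y]
    (hft : ∀ (U : Y.Opens) (hU : IsAffineOpen U), (𝒮.str.app (op U)).hom.FiniteType)
    (U : Y.Opens) (hU : IsAffineOpen U) : IsNoetherianRing (𝒮.presheaf.obj (op U)) := by
  haveI : IsNoetherianRing Γ(Y, U) := IsLocallyNoetherian.component_noetherian ⟨U, hU⟩
  letI := (𝒮.str.app (op U)).hom.toAlgebra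
  haveI : Algebra.FiniteType Γ(Y, U) (𝒮.presheaf.obj (op U)) := hft U hU
  exact Algebra.FiniteType.isNoetherianRing Γ(Y, U) _

include hℳ in
/-- Step A: bijectivity passes to a basic open. -/
theorem bijective_basicOpen [AlgebraicGeometry.IsNoetherian Y]
    (hft : ∀ (U : Y.Opens) (hU : IsAffineOpen U), (𝒮.str.app (op U)).hom.FiniteType)
    (U : Y.Opens) (hU : IsAffineOpen U) (r : Γ(Y, U)) (n : ℕ)
    (hbij : Function.Bijective (GrMod.alpha (𝒮.deg U hU) (ℳ.deg U hU) n)) :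
    Function.Bijective (GrMod.alpha (𝒮.deg (Y.basicOpen r) (hU.basicOpen r))
      (ℳ.deg (Y.basicOpen r) (hU.basicOpen r)) n) := by
  haveI := isNoetherianRing_sections 𝒮 hft U hU
  obtain ⟨k, g, dg, hdg, hspan⟩ := exists_gens_fin (𝒮.deg U hU)
  exact (locData 𝒮 ℳ hℳ U hU r).bijective_alpha g dg hdg hspan n hbij

include hℳ in
/-- Step B: bijectivity glues along a finite cover by basic opens. -/
theorem bijective_of_cover [AlgebraicGeometry.IsNoetherian Y]
    (hft : ∀ (U : Y.Opens) (hU : IsAffineOpen U), (𝒮.str.app (op U)).hom.FiniteType)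
    (U : Y.Opens) (hU : IsAffineOpen U) (n : ℕ) (s : Finset Γ(Y, U))
    (hs : Ideal.span (s : Set Γ(Y, U)) = ⊤)
    (hbij : ∀ r ∈ s, Function.Bijective (GrMod.alpha (𝒮.deg (Y.basicOpen r) (hU.basicOpen r))
      (ℳ.deg (Y.basicOpen r) (hU.basicOpen r)) n)) :
    Function.Bijective (GrMod.alpha (𝒮.deg U hU) (ℳ.deg U hU) n) := by
  classical
  haveI := isNoetherianRing_sections 𝒮 hft U hU
  obtain ⟨k, g, dg, hdg, hspan⟩ := exists_gens_fin (𝒮.deg U hU)
  obtain ⟨f, hfdef⟩ : ∃ f : Fin s.card → 𝒮.presheaf.obj (op U),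
    f = fun l => (𝒮.str.app (op U)).hom (s.equivFin.symm l : Γ(Y, U)) := ⟨_, rfl⟩
  have hf : ∀ l, f l ∈ 𝒮.deg U hU 0 := fun l => by rw [hfdef]; exact 𝒮.str_mem U hU _
  have hpu : ∀ T : ℕ, ∃ c : Fin s.card → 𝒮.presheaf.obj (op U),
      (∀ l, c l ∈ 𝒮.deg U hU 0) ∧ ∑ l, c l * f l ^ T = 1 := by
    intro T
    obtain ⟨c, hc⟩ := exists_partition (𝒮.str.app (op U)).hom s hs T
    exact ⟨fun l => (𝒮.str.app (op U)).hom (c l), fun l => 𝒮.str_mem U hU _, by rw [hfdef]; exact hc⟩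
  -- the local data
  have hL : ∀ l : Fin s.card, LocData (𝒮.deg U hU) (ℳ.deg U hU)
      (𝒮.deg (Y.basicOpen (s.equivFin.symm l : Γ(Y, U))) (hU.basicOpen _))
      (ℳ.deg (Y.basicOpen (s.equivFin.symm l : Γ(Y, U))) (hU.basicOpen _))
      (𝒮.res hU (hU.basicOpen _) (Y.basicOpen_le _)).toRingHom
      (ℳ.res hU (hU.basicOpen _) (Y.basicOpen_le _)).toAddMonoidHom (f l) := fun l => by
    rw [hfdef]; exact locData 𝒮 ℳ hℳ U hU _
  have hdg' : ∀ (l : Fin s.card) (i : Fin k), 0 < dg i ∧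
      (𝒮.res hU (hU.basicOpen (s.equivFin.symm l : Γ(Y, U))) (Y.basicOpen_le _)).toRingHom (g i) ∈
        𝒮.deg (Y.basicOpen (s.equivFin.symm l : Γ(Y, U))) (hU.basicOpen _) (dg i) := fun l i =>
    ⟨(hdg i).1, (hL l).map_mem _ _ (hdg i).2⟩
  have hinjl : ∀ l, EInj (ℳ.deg (Y.basicOpen (s.equivFin.symm l : Γ(Y, U))) (hU.basicOpen _))
      (fun i => (𝒮.res hU (hU.basicOpen (s.equivFin.symm l : Γ(Y, U)))
        (Y.basicOpen_le _)).toRingHom (g i)) n := fun l =>
    einj_of_injective _ _ _ ((hL l).span_le g hspan) n (hbij _ (s.equivFin.symm l).2).1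
  have hsurjl : ∀ l, ESurj (ℳ.deg (Y.basicOpen (s.equivFin.symm l : Γ(Y, U))) (hU.basicOpen _))
      (fun i => (𝒮.res hU (hU.basicOpen (s.equivFin.symm l : Γ(Y, U)))
        (Y.basicOpen_le _)).toRingHom (g i)) dg n := fun l =>
    esurj_of_surjective _ _ _ dg (hdg' l) ((hL l).span_le g hspan) n
      (hbij _ (s.equivFin.symm l).2).2
  have hinj : EInj (ℳ.deg U hU) g n :=
    einj_of_local (𝒮.deg U hU) (ℳ.deg U hU) g n f hpu
      (fun l => (hL l).local_inj g n (hinjl l))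
  have hsurj : ESurj (ℳ.deg U hU) g dg n :=
    esurj_of_local (𝒮.deg U hU) (ℳ.deg U hU) g dg n f hf hpu hinj
      (fun l => (hL l).local_surj g dg n (hsurjl l))
  exact ⟨injective_of_einj _ _ g dg hdg n hinj, surjective_of_esurj _ _ g dg hdg hspan n hsurj⟩


theorem bijective_congr {W W' : Y.Opens} (e : W = W') (hW : IsAffineOpen W)
    (hW' : IsAffineOpen W') (n : ℕ)
    (h : Function.Bijective (GrMod.alpha (𝒮.deg W hW) (ℳ.deg W hW) n)) :
    Function.Bijective (GrMod.alpha (𝒮.deg W' hW') (ℳ.deg W' hW') n) := by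
  subst e
  exact h

include hℳ in
/-- uniform eventual bijectivity of `α_n` over a Noetherian base. -/
theorem main [AlgebraicGeometry.IsNoetherian Y]
    (hft : ∀ (U : Y.Opens) (hU : IsAffineOpen U), (𝒮.str.app (op U)).hom.FiniteType)
    (hTF : ℳ.IsTF) :
    ∃ N : ℕ, ∀ n : ℕ, N ≤ n → ∀ (U : Y.Opens) (hU : IsAffineOpen U),
      Function.Bijective (GrMod.alpha (𝒮.deg U hU) (ℳ.deg U hU) n) := by
  classical
  obtain ⟨k, hk⟩ := hTF
  have hN : ∀ (U : Y.Opens) (hU : IsAffineOpen U), ∃ N : ℕ, ∀ n, N ≤ n →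
      Function.Bijective (GrMod.alpha (𝒮.deg U hU) (ℳ.deg U hU) n) := by
    intro U hU
    haveI := isNoetherianRing_sections 𝒮 hft U hU
    exact Groth.Agent.H59.SerreGammaG.bijective_alpha (𝒮.deg U hU) (ℳ.deg U hU) ⟨k, hk U hU⟩
  have hcov : ∀ y : Y, ∃ U : Y.Opens, IsAffineOpen U ∧ y ∈ U := fun y => by
    obtain ⟨_, ⟨U, hU, rfl⟩, hyU, -⟩ := Y.isBasis_affineOpens.exists_subset_of_mem_open
      (Set.mem_univ y) isOpen_univ
    exact ⟨U, hU, hyU⟩
  choose V hV hyV using hcov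
  choose NV hNV using fun y => hN (V y) (hV y)
  obtain ⟨t, ht⟩ := isCompact_univ.elim_finite_subcover (fun y => (V y : Set Y))
    (fun y => (V y).isOpen) (fun y _ => Set.mem_iUnion.mpr ⟨y, hyV y⟩)
  refine ⟨t.sup NV, fun n hn U hU => ?_⟩
  obtain ⟨S, hSdef⟩ : ∃ S : Set Γ(Y, U), S = {r | Function.Bijective
    (GrMod.alpha (𝒮.deg (Y.basicOpen r) (hU.basicOpen r))
      (ℳ.deg (Y.basicOpen r) (hU.basicOpen r)) n)} := ⟨_, rfl⟩
  have hS : Ideal.span S = ⊤ := by
    rw [← hU.self_le_iSup_basicOpen_iff]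
    intro x hxU
    obtain ⟨y, hyt, hxy⟩ : ∃ y ∈ t, x ∈ V y := by
      have := ht (Set.mem_univ x)
      simpa using this
    obtain ⟨f, g, e, hxf⟩ := exists_basicOpen_le_affine_inter hU (hV y) x ⟨hxU, hxy⟩
    have hg := bijective_basicOpen 𝒮 ℳ hℳ hft (V y) (hV y) g n
      (hNV y n ((Finset.le_sup hyt).trans hn))
    have hfS : f ∈ S := by
      rw [hSdef]
      exact bijective_congr 𝒮 ℳ e.symm _ _ n hg
    exact Opens.mem_iSup.mpr ⟨⟨f, hfS⟩, hxf⟩
  obtain ⟨s, hsS, hs⟩ := (Ideal.span_eq_top_iff_finite S).mp hS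
  exact bijective_of_cover 𝒮 ℳ hℳ hft U hU n s hs (fun r hr => by
    have := hsS hr
    rw [hSdef] at this
    exact this)

end Groth.Agent.H59.SerreGammaSch
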