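import Mathlib

/-!
# helper59: affine charts of a morphism through an affine open of the target
-/

set_option autoImplicit false
universe u
open CategoryTheory CategoryTheory.Limits AlgebraicGeometry

namespace Groth.Agent.H59.SmoothChart

/-- If `j : Spec B ⟶ X'` is an open immersion and `j ≫ g` factors as `Spec B ⟶ Spec Γ(X,U) ⟶ X`
through `φ`, then on the affine open `range j`, the map `g.appLE` is `φ` up to an isomorphism. -/
theorem chart {X X' : Scheme.{u}} (g : X' ⟶ X) {U : X.Opens} (hU : IsAffineOpen U)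
    (B : CommRingCat.{u}) (φ : Γ(X, U) ⟶ B) (j : Spec B ⟶ X') [IsOpenImmersion j]
    (hj : j ≫ g = Spec.map φ ≫ hU.fromSpec) :
    ∃ (hle : j.opensRange ≤ g ⁻¹ᵁ U) (ψ : Γ(X', j.opensRange) ≅ B),
      g.appLE U j.opensRange hle ≫ ψ.hom = φ := by
  have hle : j.opensRange ≤ g ⁻¹ᵁ U := by
    rintro _ ⟨y, rfl⟩
    show g (j y) ∈ U
    have h1 : g (j y) = hU.fromSpec (Spec.map φ y) := by
      rw [← Scheme.Hom.comp_apply, hj, Scheme.Hom.comp_apply]
    rw [h1]
    have : hU.fromSpec (Spec.map φ y) ∈ Set.range hU.fromSpec := ⟨_, rfl⟩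
    rw [hU.range_fromSpec] at this
    exact this
  have hU' : IsAffineOpen j.opensRange := isAffineOpen_opensRange j
  have hr : Set.range j = Set.range hU'.fromSpec := by
    rw [hU'.range_fromSpec]; rfl
  let k : Spec B ≅ Spec Γ(X', j.opensRange) := IsOpenImmersion.isoOfRangeEq j hU'.fromSpec hr
  have hk : k.hom ≫ hU'.fromSpec = j := IsOpenImmersion.isoOfRangeEq_hom_fac _ _ hr
  let ψ : Γ(X', j.opensRange) ≅ B :=
    { hom := Spec.preimage k.hom
      inv := Spec.preimage k.inv
      hom_inv_id := Spec.map_injective (by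
        rw [Spec.map_comp, Spec.map_preimage, Spec.map_preimage, Spec.map_id, Iso.inv_hom_id])
      inv_hom_id := Spec.map_injective (by
        rw [Spec.map_comp, Spec.map_preimage, Spec.map_preimage, Spec.map_id, Iso.hom_inv_id]) }
  refine ⟨hle, ψ, Spec.map_injective ?_⟩
  rw [Spec.map_comp, ← cancel_mono hU.fromSpec, Category.assoc,
    IsAffineOpen.SpecMap_appLE_fromSpec g hU hU' hle]
  show Spec.map (Spec.preimage k.hom) ≫ _ = _
  rw [Spec.map_preimage, ← Category.assoc, hk, hj]

end Groth.Agent.H59.SmoothChart
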