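import Groth.Agent.H59.KRegMulti
import Groth.Agent.H59.KRegLCI
import Groth.Agent.H59.KRegPoly
import Groth.Agent.S9254
import Groth.Agent.H66.RelGCI5
import Groth.Agent.H56.LciComp

/-!
# Descent of LCI along syntomic covers of the source: the Koszul-regular piece

For `P = R[x₁..xₙ]`, an ideal `I` of `P`, a relative global complete intersection `S = P[y]/(F)`
over `P` and an `R`-LCI algebra `D ≅ S/IS`, the ideal `IS` of `S` is Koszul-regular.
-/

universe u
open CategoryTheory CochainComplex HomologicalComplex Limits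

namespace Groth.Agent.H59.SyntDesc

open Groth.Agent.H59.Kosz Groth.Agent.H66.RelGCI

/-- reduction of a relative global complete intersection modulo an ideal of the base -/
theorem isRelGCI_quot (R : Type u) [CommRing R] (n c : ℕ) (F : Fin c → MvPolynomial (Fin n) R)
    (I : Ideal R) (h : Synt.IsRelGCI R n c F) :
    Synt.IsRelGCI (R ⧸ I) n c (fun i => MvPolynomial.map (Ideal.Quotient.mk I) (F i)) := by
  intro pb hnt
  set p : Ideal R := pb.asIdeal.comap (Ideal.Quotient.mk I) with hp
  have hIp : I ≤ p := by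
    intro x hx
    show Ideal.Quotient.mk I x ∈ pb.asIdeal
    rw [Ideal.Quotient.eq_zero_iff_mem.mpr hx]
    exact zero_mem _
  have hmap : p.map (Ideal.Quotient.mk I) = pb.asIdeal :=
    Ideal.map_comap_of_surjective _ Ideal.Quotient.mk_surjective _
  haveI hpp : p.IsPrime := Ideal.comap_isPrime _ _
  have key : ∀ (q : Ideal (R ⧸ I)) [q.IsPrime], q = p.map (Ideal.Quotient.mk I) →
      Nontrivial (q.Fiber (Synt.RelGCIRing (R ⧸ I) n c
        (fun i => MvPolynomial.map (Ideal.Quotient.mk I) (F i)))) →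
      c ≤ n ∧ ringKrullDim (q.Fiber (Synt.RelGCIRing (R ⧸ I) n c
        (fun i => MvPolynomial.map (Ideal.Quotient.mk I) (F i)))) = ((n - c : ℕ) : WithBot ℕ∞) := by
    intro q hq hqe hnt'
    subst hqe
    obtain ⟨e⟩ := nonempty_fiber_equiv_quot R n c F I p hIp
    haveI : Nontrivial (p.Fiber (Synt.RelGCIRing R n c F)) := e.symm.toEquiv.nontrivial
    obtain ⟨h1, h2⟩ := h ⟨p, hpp⟩ inferInstance
    exact ⟨h1, (ringKrullDim_eq_of_ringEquiv e).trans h2⟩
  exact key pb.asIdeal hmap.symm hnt

/-- generic form of the piece: `P` any ring, with the Koszul-regularity of the kernel of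
`P[y] → S/IS` as a hypothesis -/
theorem piece_kreg_aux (P : Type u) [CommRing P] (I : Ideal P) (N c : ℕ)
    (F : Fin c → MvPolynomial (Fin N) P) (hrel : Synt.IsRelGCI P N c F)
    (hI' : LCI.IsKoszulRegularIdeal
      (I.map (algebraMap P (MvPolynomial (Fin N) P)) ⊔ Ideal.span (Set.range F))) :
    LCI.IsKoszulRegularIdeal (I.map (algebraMap P (Synt.RelGCIRing P N c F))) := by
  classical
  have hEset : {y | y ∈ List.ofFn F} = Set.range F := by
    ext y
    simp [List.mem_ofFn]
  have hπ : Function.Surjective (Ideal.Quotient.mk (Ideal.span (Set.range F))) :=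
    Ideal.Quotient.mk_surjective
  have hker : RingHom.ker (Ideal.Quotient.mk (Ideal.span (Set.range F))) =
      Ideal.span {y | y ∈ List.ofFn F} := by
    rw [hEset]; exact Ideal.mk_ker
  have hEreg : LCI.IsKoszulRegularSeq (MvPolynomial (Fin N) P) (List.ofFn F) :=
    Groth.Agent.S9254.aux _ N c F hrel
  have hπ₀ : Function.Surjective (MvPolynomial.map (σ := Fin N) (Ideal.Quotient.mk I)) :=
    MvPolynomial.map_surjective _ Ideal.Quotient.mk_surjective
  have hker₀ : RingHom.ker (MvPolynomial.map (σ := Fin N) (Ideal.Quotient.mk I)) =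
      I.map (algebraMap P (MvPolynomial (Fin N) P)) := by
    rw [MvPolynomial.ker_map, Ideal.mk_ker, MvPolynomial.algebraMap_eq]
  have hEb : LCI.IsKoszulRegularSeq (MvPolynomial (Fin N) (P ⧸ I))
      ((List.ofFn F).map (MvPolynomial.map (σ := Fin N) (Ideal.Quotient.mk I))) := by
    have : (List.ofFn F).map (MvPolynomial.map (σ := Fin N) (Ideal.Quotient.mk I)) =
        List.ofFn (fun i => MvPolynomial.map (Ideal.Quotient.mk I) (F i)) := by
      rw [List.map_ofFn]; rfl
    rw [this]
    exact Groth.Agent.S9254.aux _ N c _ (isRelGCI_quot _ N c F I hrel)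
  rw [← hEset] at hI'
  have key := kregIdeal_map_of_quot_list (I.map (algebraMap P (MvPolynomial (Fin N) P)))
    (List.ofFn F) hEreg hI' _ hπ₀ hker₀ hEb _ hπ hker
  rw [Ideal.map_map] at key
  exact key

open MvPolynomial in
/-- kernel of a presentation by iterated polynomial rings of an LCI algebra -/
theorem kreg_ker_of_isLCI_sum (R : Type u) [CommRing R] (n N : ℕ) (D' : Type u) [CommRing D']
    [Algebra R D'] (hD : LCI.IsLCI R D')
    (χ : MvPolynomial (Fin N) (MvPolynomial (Fin n) R) →ₐ[R] D') (hχ : Function.Surjective χ) :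
    LCI.IsKoszulRegularIdeal (RingHom.ker χ.toRingHom) := by
  let se := MvPolynomial.sumAlgEquiv R (Fin N) (Fin n)
  let ω := χ.comp se.toAlgHom
  have hω : Function.Surjective ω := hχ.comp se.surjective
  have eω : ω = aeval (fun i => ω (X i)) := aeval_unique ω
  have hKR : KR (A := R) (fun i => ω (X i)) :=
    KR_of_isLCI hD _ (by rw [← eω]; exact hω)
  unfold KR at hKR
  rw [← eω] at hKR
  have h3 : RingHom.ker χ.toRingHom =
      (RingHom.ker ω.toRingHom).comap ((se.symm.toRingEquiv :
        MvPolynomial (Fin N) (MvPolynomial (Fin n) R) ≃+* _) :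
        MvPolynomial (Fin N) (MvPolynomial (Fin n) R) →+* _) := by
    rw [RingHom.comap_ker]
    congr 1
    refine RingHom.ext (fun y => ?_)
    show χ y = χ (se (se.symm y))
    rw [AlgEquiv.apply_symm_apply]
  rw [h3]
  exact kregIdeal_comap_ringEquiv _ _ hKR

set_option maxHeartbeats 1600000 in
/-- **The Koszul-regular piece.** -/
theorem piece_kreg (R : Type u) [CommRing R] (n : ℕ) (I : Ideal (MvPolynomial (Fin n) R))
    (D : Type u) [CommRing D] [Algebra R D] [Algebra (MvPolynomial (Fin n) R) D]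
    [IsScalarTower R (MvPolynomial (Fin n) R) D] (hD : LCI.IsLCI R D) (N c : ℕ)
    (F : Fin c → MvPolynomial (Fin N) (MvPolynomial (Fin n) R))
    (hrel : Synt.IsRelGCI (MvPolynomial (Fin n) R) N c F)
    (e : D ≃ₐ[MvPolynomial (Fin n) R] (Synt.RelGCIRing (MvPolynomial (Fin n) R) N c F ⧸
      I.map (algebraMap (MvPolynomial (Fin n) R) (Synt.RelGCIRing (MvPolynomial (Fin n) R) N c F)))) :
    LCI.IsKoszulRegularIdeal
      (I.map (algebraMap (MvPolynomial (Fin n) R)
        (Synt.RelGCIRing (MvPolynomial (Fin n) R) N c F))) := by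
  classical
  apply piece_kreg_aux
  · exact hrel
  have hπ : Function.Surjective (Ideal.Quotient.mk (Ideal.span (Set.range F))) :=
    Ideal.Quotient.mk_surjective
  have hD'lci : LCI.IsLCI R (Synt.RelGCIRing (MvPolynomial (Fin n) R) N c F ⧸
      I.map (algebraMap (MvPolynomial (Fin n) R) (Synt.RelGCIRing (MvPolynomial (Fin n) R) N c F))) :=
    Groth.Agent.H56.LciComp.isLCI_of_algEquiv R D (Synt.RelGCIRing (MvPolynomial (Fin n) R) N c F ⧸
      I.map (algebraMap (MvPolynomial (Fin n) R) (Synt.RelGCIRing (MvPolynomial (Fin n) R) N c F)))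
      (e.restrictScalars R) hD
  let χ : MvPolynomial (Fin N) (MvPolynomial (Fin n) R) →ₐ[R]
      (Synt.RelGCIRing (MvPolynomial (Fin n) R) N c F ⧸
      I.map (algebraMap (MvPolynomial (Fin n) R) (Synt.RelGCIRing (MvPolynomial (Fin n) R) N c F))) :=
    (Ideal.Quotient.mkₐ R _).comp (Ideal.Quotient.mkₐ R _)
  have hχ : Function.Surjective χ :=
    (Ideal.Quotient.mkₐ_surjective R _).comp (Ideal.Quotient.mkₐ_surjective R _)
  have hkerχ : RingHom.ker χ.toRingHom =
      I.map (algebraMap (MvPolynomial (Fin n) R) (MvPolynomial (Fin N) (MvPolynomial (Fin n) R))) ⊔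
        Ideal.span (Set.range F) := by
    have h1 : χ.toRingHom = (Ideal.Quotient.mk (I.map (algebraMap (MvPolynomial (Fin n) R)
        (Synt.RelGCIRing (MvPolynomial (Fin n) R) N c F)))).comp
        (Ideal.Quotient.mk (Ideal.span (Set.range F))) := rfl
    rw [h1, ← RingHom.comap_ker, Ideal.mk_ker]
    have h2 : I.map (algebraMap (MvPolynomial (Fin n) R)
        (Synt.RelGCIRing (MvPolynomial (Fin n) R) N c F)) =
        (I.map (algebraMap (MvPolynomial (Fin n) R)
          (MvPolynomial (Fin N) (MvPolynomial (Fin n) R)))).map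
          (Ideal.Quotient.mk (Ideal.span (Set.range F))) := by
      rw [Ideal.map_map]; rfl
    rw [h2, Ideal.comap_map_of_surjective _ hπ, ← RingHom.ker_eq_comap_bot, Ideal.mk_ker]
  rw [← hkerχ]
  exact kreg_ker_of_isLCI_sum R n N _ hD'lci χ hχ

end Groth.Agent.H59.SyntDesc
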