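import Groth.Agent.H59.SyntDesc1
import Groth.Agent.H59.RegImmDesc
import Groth.Agent.H56.LciSrc
import Groth.Agent.H56.LciBasic
import Groth.Agent.S9150
import Groth.Agent.S0112
import Groth.Agent.Lead.SyntLocal

/-!
# LCI descends on the source along syntomic covers (ring level)
-/

universe u

namespace Groth.Agent.H59.SyntDesc

open Groth.Agent.H59.Kosz Groth.Agent.H66.RelGCI

/-- bundled flat algebras -/
structure Piece (P : Type u) [CommRing P] where
  Ring : Type u
  [cr : CommRing Ring]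
  [alg : Algebra P Ring]
  [flat : Module.Flat P Ring]

attribute [instance] Piece.cr Piece.alg Piece.flat

set_option maxHeartbeats 1600000 in
/-- the Koszul-regularity of `I` from a syntomic cover by lifted relative global complete
intersections -/
theorem kregIdeal_of_syntomic_cover (R : Type u) [CommRing R] (n : ℕ)
    (I : Ideal (MvPolynomial (Fin n) R)) (hIfg : I.FG) (B : Type u) [CommRing B] [Algebra R B]
    [Algebra (MvPolynomial (Fin n) R) B] [IsScalarTower R (MvPolynomial (Fin n) R) B]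
    (hLCI : LCI.IsLCI R B)
    (hsurj : ∀ 𝔭 : PrimeSpectrum (MvPolynomial (Fin n) R), I ≤ 𝔭.asIdeal →
      𝔭 ∈ Set.range (PrimeSpectrum.comap (algebraMap (MvPolynomial (Fin n) R) B)))
    (s : Finset B) (hs : Ideal.span (s : Set B) = ⊤)
    (h : ∀ g ∈ s, ∃ (N c : ℕ) (F : Fin c → MvPolynomial (Fin N) (MvPolynomial (Fin n) R)),
      Synt.IsRelGCI (MvPolynomial (Fin n) R) N c F ∧
        Nonempty (Localization.Away g ≃ₐ[MvPolynomial (Fin n) R]
          (Synt.RelGCIRing (MvPolynomial (Fin n) R) N c F ⧸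
            I.map (algebraMap (MvPolynomial (Fin n) R)
              (Synt.RelGCIRing (MvPolynomial (Fin n) R) N c F))))) :
    LCI.IsKoszulRegularIdeal I := by
  classical
  -- Part 1: covering `V(I)`
  let p1 : B → Piece (MvPolynomial (Fin n) R) → Prop := fun g 𝔔 =>
    LCI.IsKoszulRegularIdeal (I.map (algebraMap (MvPolynomial (Fin n) R) 𝔔.Ring)) ∧
      ∀ 𝔮 : PrimeSpectrum B, g ∉ 𝔮.asIdeal →
        PrimeSpectrum.comap (algebraMap (MvPolynomial (Fin n) R) B) 𝔮 ∈
          Set.range (PrimeSpectrum.comap (algebraMap (MvPolynomial (Fin n) R) 𝔔.Ring))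
  have H1 : ∀ g ∈ s, ∃ 𝔔 : Piece (MvPolynomial (Fin n) R), p1 g 𝔔 := by
    intro g hg
    obtain ⟨N, c, F, hrel, ⟨e⟩⟩ := h g hg
    haveI : Module.Flat (MvPolynomial (Fin n) R)
        (Synt.RelGCIRing (MvPolynomial (Fin n) R) N c F) := flat_of_isRelGCI _ N c F hrel
    refine ⟨⟨Synt.RelGCIRing (MvPolynomial (Fin n) R) N c F⟩, ?_, ?_⟩
    · have hLg : LCI.IsLCI R (Localization.Away g) :=
        Groth.Agent.H56.LciBasic.isLCI_localization R B (Localization.Away g) g hLCI
      exact piece_kreg R n I (Localization.Away g) hLg N c F hrel e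
    · intro 𝔮 hg𝔮
      have hmem : 𝔮 ∈ Set.range (PrimeSpectrum.comap (algebraMap B (Localization.Away g))) := by
        rw [PrimeSpectrum.localization_away_comap_range (Localization.Away g) g]
        exact hg𝔮
      obtain ⟨𝔮', h𝔮'⟩ := hmem
      let θ : Synt.RelGCIRing (MvPolynomial (Fin n) R) N c F →ₐ[MvPolynomial (Fin n) R]
          Localization.Away g := e.symm.toAlgHom.comp
            (Ideal.Quotient.mkₐ (MvPolynomial (Fin n) R) _)
      refine ⟨PrimeSpectrum.comap θ.toRingHom 𝔮', ?_⟩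
      apply PrimeSpectrum.ext
      ext p
      show θ (algebraMap (MvPolynomial (Fin n) R) _ p) ∈ 𝔮'.asIdeal ↔
        algebraMap (MvPolynomial (Fin n) R) B p ∈ 𝔮.asIdeal
      rw [θ.commutes, IsScalarTower.algebraMap_apply (MvPolynomial (Fin n) R) B
        (Localization.Away g), ← h𝔮']
      rfl
  obtain ⟨L₁, hL₁a, hL₁b⟩ := Groth.Agent.H56.LciSrc.exists_list_of_forall_mem s p1 H1
  -- Part 2: covering `D(I)`
  obtain ⟨Fg, hFg⟩ := hIfg
  let p2 : MvPolynomial (Fin n) R → Piece (MvPolynomial (Fin n) R) → Prop := fun G 𝔔 =>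
    LCI.IsKoszulRegularIdeal (I.map (algebraMap (MvPolynomial (Fin n) R) 𝔔.Ring)) ∧
      ∀ 𝔭 : PrimeSpectrum (MvPolynomial (Fin n) R), G ∉ 𝔭.asIdeal →
        𝔭 ∈ Set.range (PrimeSpectrum.comap (algebraMap (MvPolynomial (Fin n) R) 𝔔.Ring))
  have H2 : ∀ G ∈ Fg, ∃ 𝔔 : Piece (MvPolynomial (Fin n) R), p2 G 𝔔 := by
    intro G hG
    have hGI : G ∈ I := by rw [← hFg]; exact Ideal.subset_span hG
    haveI : Module.Flat (MvPolynomial (Fin n) R) (Localization.Away G) :=
      IsLocalization.flat _ (Submonoid.powers G)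
    refine ⟨⟨Localization.Away G⟩, ?_, ?_⟩
    · have h3 : I.map (algebraMap (MvPolynomial (Fin n) R) (Localization.Away G)) = ⊤ :=
        Ideal.eq_top_of_isUnit_mem _ (Ideal.mem_map_of_mem _ hGI)
          (IsLocalization.Away.algebraMap_isUnit G)
      show LCI.IsKoszulRegularIdeal
        (I.map (algebraMap (MvPolynomial (Fin n) R) (Localization.Away G)))
      rw [h3]
      exact Groth.Agent.H56.LciSrc.isKoszulRegularIdeal_top
    · intro 𝔭 h𝔭
      show 𝔭 ∈ Set.range (PrimeSpectrum.comap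
        (algebraMap (MvPolynomial (Fin n) R) (Localization.Away G)))
      rw [PrimeSpectrum.localization_away_comap_range (Localization.Away G) G]
      exact h𝔭
  obtain ⟨L₂, hL₂a, hL₂b⟩ := Groth.Agent.H56.LciSrc.exists_list_of_forall_mem Fg p2 H2
  -- the family
  have hgood : ∀ j : Fin (L₁ ++ L₂).length, LCI.IsKoszulRegularIdeal
      (I.map (algebraMap (MvPolynomial (Fin n) R) ((L₁ ++ L₂).get j).Ring)) := by
    intro j
    have hmem : (L₁ ++ L₂).get j ∈ L₁ ++ L₂ := List.get_mem _ j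
    rcases List.mem_append.1 hmem with h1 | h2
    · obtain ⟨g, -, hg1, -⟩ := hL₁a _ h1
      exact hg1
    · obtain ⟨G, -, hG1, -⟩ := hL₂a _ h2
      exact hG1
  have hsurj' : ∀ 𝔭 : PrimeSpectrum (MvPolynomial (Fin n) R), ∃ j : Fin (L₁ ++ L₂).length,
      𝔭 ∈ Set.range (PrimeSpectrum.comap
        (algebraMap (MvPolynomial (Fin n) R) ((L₁ ++ L₂).get j).Ring)) := by
    intro 𝔭
    suffices hs' : ∃ 𝔔 ∈ L₁ ++ L₂,
        𝔭 ∈ Set.range (PrimeSpectrum.comap (algebraMap (MvPolynomial (Fin n) R) 𝔔.Ring)) by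
      obtain ⟨𝔔, h𝔔, hr⟩ := hs'
      obtain ⟨j, rfl⟩ := List.mem_iff_get.1 h𝔔
      exact ⟨j, hr⟩
    by_cases h𝔭 : I ≤ 𝔭.asIdeal
    · obtain ⟨𝔮, rfl⟩ := hsurj 𝔭 h𝔭
      have hex : ∃ g ∈ s, g ∉ 𝔮.asIdeal := by
        by_contra hcon
        push Not at hcon
        have h4 : Ideal.span (s : Set B) ≤ 𝔮.asIdeal := Ideal.span_le.2 (fun g hg => hcon g hg)
        rw [hs] at h4
        exact 𝔮.isPrime.ne_top (top_le_iff.1 h4)
      obtain ⟨g, hgs, hg𝔮⟩ := hex
      obtain ⟨𝔔, h𝔔L, -, hr⟩ := hL₁b g hgs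
      exact ⟨𝔔, List.mem_append_left _ h𝔔L, hr 𝔮 hg𝔮⟩
    · obtain ⟨G, hGF, hG𝔭⟩ : ∃ G ∈ Fg, G ∉ 𝔭.asIdeal := by
        by_contra hcon
        push Not at hcon
        apply h𝔭
        rw [← hFg]
        exact Ideal.span_le.2 (fun G hG => hcon G hG)
      obtain ⟨𝔔, h𝔔L, -, hr⟩ := hL₂b G hGF
      exact ⟨𝔔, List.mem_append_right _ h𝔔L, hr 𝔭 hG𝔭⟩
  exact Groth.Agent.H59.RegImmDesc.kregIdeal_of_flat_family I (L₁ ++ L₂).length
    (fun j : Fin (L₁ ++ L₂).length => ((L₁ ++ L₂).get j).Ring) hsurj' hgood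

set_option maxHeartbeats 1600000 in
/-- **The LCI property descends on the source along syntomic maps surjective on spectra.** -/
theorem isLCI_of_comp_syntomic (R A B : Type u) [CommRing R] [CommRing A] [CommRing B]
    [Algebra R A] [Algebra A B] [Algebra R B] [IsScalarTower R A B]
    (hsyn : Synt.IsSyntomic A B)
    (hsurj : Function.Surjective (PrimeSpectrum.comap (algebraMap A B)))
    (h : LCI.IsLCI R B) : LCI.IsLCI R A := by
  classical
  have hB := h
  obtain ⟨hftB, nB, φB, hφB, hkB⟩ := h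
  haveI : Module.Flat A B := hsyn.1
  haveI : Algebra.FinitePresentation A B := hsyn.2.1
  haveI hfpB : Algebra.FinitePresentation R B :=
    Algebra.FinitePresentation.of_surjective hφB (fg_of_kregIdeal hkB)
  haveI : Module.FaithfullyFlat A B := Module.FaithfullyFlat.of_comap_surjective hsurj
  haveI hfpA : Algebra.FinitePresentation R A :=
    Groth.Agent.S0112.result (R := R) (A := A) (B := B)
  have hftA : Algebra.FiniteType R A := inferInstance
  obtain ⟨n, φ, hφ⟩ := Algebra.FiniteType.iff_quotient_mvPolynomial''.1 hftA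
  refine ⟨hftA, n, φ, hφ, ?_⟩
  letI algPA : Algebra (MvPolynomial (Fin n) R) A := φ.toRingHom.toAlgebra
  letI algPB : Algebra (MvPolynomial (Fin n) R) B :=
    ((algebraMap A B).comp φ.toRingHom).toAlgebra
  haveI : IsScalarTower (MvPolynomial (Fin n) R) A B :=
    IsScalarTower.of_algebraMap_eq (fun _ => rfl)
  haveI : IsScalarTower R (MvPolynomial (Fin n) R) B := IsScalarTower.of_algebraMap_eq (fun r => by
    show algebraMap R B r = algebraMap A B (φ (algebraMap R _ r))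
    rw [φ.commutes, ← IsScalarTower.algebraMap_apply])
  have hIfg : (RingHom.ker φ.toRingHom).FG :=
    Algebra.FinitePresentation.ker_fG_of_surjective φ hφ
  let e : (MvPolynomial (Fin n) R ⧸ RingHom.ker φ.toRingHom) ≃+* A :=
    RingHom.quotientKerEquivOfSurjective hφ
  letI algQB : Algebra (MvPolynomial (Fin n) R ⧸ RingHom.ker φ.toRingHom) B :=
    ((algebraMap A B).comp e.toRingHom).toAlgebra
  haveI : IsScalarTower (MvPolynomial (Fin n) R)
      (MvPolynomial (Fin n) R ⧸ RingHom.ker φ.toRingHom) B :=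
    IsScalarTower.of_algebraMap_eq (R := MvPolynomial (Fin n) R)
      (S := MvPolynomial (Fin n) R ⧸ RingHom.ker φ.toRingHom) (A := B) (fun x => rfl)
  have hsyn' : Synt.IsSyntomic (MvPolynomial (Fin n) R ⧸ RingHom.ker φ.toRingHom) B := by
    have hQ : Groth.Agent.Lead.SyntLocal.Q (algebraMap A B) :=
      Groth.Agent.Lead.SyntLocal.Q_algebraMap_iff.mpr hsyn
    exact Groth.Agent.Lead.SyntLocal.propertyIsLocal.respectsIso.2 (algebraMap A B) e hQ
  obtain ⟨s, hs, hsg⟩ := Groth.Agent.S9150.result (MvPolynomial (Fin n) R)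
    (RingHom.ker φ.toRingHom) B hsyn'
  refine kregIdeal_of_syntomic_cover R n (RingHom.ker φ.toRingHom) hIfg B hB ?_ s hs hsg
  intro 𝔭 h𝔭
  haveI h𝔭' : (𝔭.asIdeal.map φ.toRingHom).IsPrime :=
    Ideal.map_isPrime_of_surjective (f := φ.toRingHom) hφ h𝔭
  obtain ⟨𝔮, h𝔮⟩ := hsurj ⟨𝔭.asIdeal.map φ.toRingHom, h𝔭'⟩
  refine ⟨𝔮, ?_⟩
  apply PrimeSpectrum.ext
  have h1 : (𝔮.asIdeal.comap (algebraMap A B)) = 𝔭.asIdeal.map φ.toRingHom :=
    congrArg PrimeSpectrum.asIdeal h𝔮
  show (𝔮.asIdeal.comap (algebraMap A B)).comap φ.toRingHom = 𝔭.asIdeal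
  rw [h1, Ideal.comap_map_of_surjective φ.toRingHom hφ]
  exact sup_eq_left.2 (by rw [← RingHom.ker_eq_comap_bot]; exact h𝔭)

end Groth.Agent.H59.SyntDesc
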