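import Groth.Agent.H59.SyntDesc2
import Groth.Agent.H56.LciSch3
import Groth.Agent.S9758

/-!
# LCI morphisms: syntomic-local on the source (scheme level)
-/

universe u
open CategoryTheory AlgebraicGeometry

namespace Groth.Agent.H59.SyntDesc

open Groth.Agent.H56.LciMor Groth.Agent.H56.LciSch Groth.Agent.Lead.SyntLocal

theorem locallyOfFinitePresentation_of_isSyntomicMor {X S : Scheme.{u}} (g : X ⟶ S)
    (hg : Synt.IsSyntomicMor g) : LocallyOfFinitePresentation g := by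
  rw [HasRingHomProperty.iff_exists_appLE (P := @LocallyOfFinitePresentation)
    (RingHom.finitePresentation_stableUnderComposition.stableUnderCompositionWithLocalizationAway
      RingHom.finitePresentation_holdsForLocalizationAway).1]
  intro x
  obtain ⟨U, V, e, hx, hS⟩ := hg x
  refine ⟨V, U, hx, e, ?_⟩
  letI := (g.appLE V.1 U.1 e).hom.toAlgebra
  exact RingHom.finitePresentation_algebraMap.mpr hS.2.1

set_option maxHeartbeats 1600000 in
/-- **LCI descends on the source along surjective syntomic morphisms.** -/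
theorem isLCIMor_of_comp_syntomic {X' X Y : Scheme.{u}} (g : X' ⟶ X)
    (hg : Synt.IsSyntomicMor g) [Surjective g] (f : X ⟶ Y) (h : IsLCIMor (g ≫ f)) :
    IsLCIMor f := by
  haveI : Flat g := ((Groth.Agent.S9758.result g).mpr hg).1
  haveI : LocallyOfFinitePresentation g := locallyOfFinitePresentation_of_isSyntomicMor g hg
  intro U V hU hV hUV
  apply isLCI_of_affine_cover f hU hUV
  intro x hxU
  obtain ⟨x', rfl⟩ := g.surjective x
  obtain ⟨W, hW, hx'W, eW⟩ := TopologicalSpace.Opens.isBasis_iff_nbhd.mp X'.isBasis_affineOpens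
    (show x' ∈ g ⁻¹ᵁ U from hxU)
  let O : X.Opens := ⟨g '' (W : Set X'), g.isOpenMap _ W.2⟩
  obtain ⟨a, haO, hxa⟩ := hU.exists_basicOpen_le (V := O) ⟨g x', x', hx'W, rfl⟩ hxU
  have hD : IsAffineOpen (X.basicOpen a) := hU.basicOpen a
  have hDV : X.basicOpen a ≤ f ⁻¹ᵁ V := (X.basicOpen_le a).trans hUV
  refine ⟨X.basicOpen a, hD, hDV, hxa, ?_⟩
  have hW' : IsAffineOpen (X'.basicOpen (g.appLE U W eW a)) := hW.basicOpen _
  have hW'eq : X'.basicOpen (g.appLE U W eW a) = W ⊓ g ⁻¹ᵁ (X.basicOpen a) :=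
    Scheme.basicOpen_appLE g W U eW a
  have eW' : X'.basicOpen (g.appLE U W eW a) ≤ g ⁻¹ᵁ (X.basicOpen a) :=
    hW'eq.le.trans inf_le_right
  have eW'' : X'.basicOpen (g.appLE U W eW a) ≤ (g ≫ f) ⁻¹ᵁ V := by
    intro z hz
    exact hDV (eW' hz)
  letI algRA : Algebra Γ(Y, V) Γ(X, X.basicOpen a) := (f.appLE V (X.basicOpen a) hDV).hom.toAlgebra
  letI algAB : Algebra Γ(X, X.basicOpen a) Γ(X', X'.basicOpen (g.appLE U W eW a)) :=
    (g.appLE (X.basicOpen a) (X'.basicOpen (g.appLE U W eW a)) eW').hom.toAlgebra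
  letI algRB : Algebra Γ(Y, V) Γ(X', X'.basicOpen (g.appLE U W eW a)) :=
    ((g ≫ f).appLE V (X'.basicOpen (g.appLE U W eW a)) eW'').hom.toAlgebra
  haveI : IsScalarTower Γ(Y, V) Γ(X, X.basicOpen a)
      Γ(X', X'.basicOpen (g.appLE U W eW a)) :=
    IsScalarTower.of_algebraMap_eq' (by
      show ((g ≫ f).appLE V (X'.basicOpen (g.appLE U W eW a)) eW'').hom =
        (g.appLE (X.basicOpen a) (X'.basicOpen (g.appLE U W eW a)) eW').hom.comp
          (f.appLE V (X.basicOpen a) hDV).hom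
      rw [← CommRingCat.hom_comp, Scheme.Hom.appLE_comp_appLE])
  refine isLCI_of_comp_syntomic Γ(Y, V) Γ(X, X.basicOpen a)
    Γ(X', X'.basicOpen (g.appLE U W eW a)) ?_ ?_ ?_
  · exact (isSyntomicMor_iff_appLE g).mp hg ⟨_, hD⟩ ⟨_, hW'⟩ eW'
  · intro 𝔭
    have hy' : hD.fromSpec 𝔭 ∈ (X.basicOpen a : Set X) := by
      rw [← hD.range_fromSpec]
      exact Set.mem_range_self 𝔭
    obtain ⟨z, hzW, hz⟩ := haO hy'
    have hzW' : z ∈ (X'.basicOpen (g.appLE U W eW a) : Set X') := by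
      rw [hW'eq]
      refine ⟨hzW, ?_⟩
      show g z ∈ X.basicOpen a
      rw [hz]
      exact hy'
    rw [← hW'.range_fromSpec] at hzW'
    obtain ⟨𝔮, h𝔮⟩ := hzW'
    refine ⟨𝔮, ?_⟩
    apply hD.fromSpec.isOpenEmbedding.injective
    have key := IsAffineOpen.SpecMap_appLE_fromSpec g hD hW' eW'
    rw [← hz, ← h𝔮]
    exact congr($(key) 𝔮)
  · exact h _ V hW' hV eW''

end Groth.Agent.H59.SyntDesc
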